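import Cfsg.Agent.Lib.Perm.Asch.Forms.UPower

/-!
# The geometric classes of the orthogonal groups in odd dimension
-/

set_option autoImplicit false
set_option linter.all false

namespace CfsgLib.Perm.Asch

open scoped Classical Matrix
open Matrix Cfsg.Geo

/-- the index type of the natural module -/
abbrev OI (m : ℕ) : Type := Unit ⊕ (Fin m ⊕ Fin m)

variable {F : Type*} [Field F] {m : ℕ}

theorem card_OI : Fintype.card (OI m) = 2 * m + 1 := by simp; omega

/-- the Gram matrix of the standard form -/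
def oG (m : ℕ) (F : Type*) [Field F] : Matrix (OI m) (OI m) F :=
  gramMatrix (QuadraticMap.polar (Cfsg.quadFormOdd m F))

theorem oPolar_apply (u v : OI m → F) : QuadraticMap.polar (Cfsg.quadFormOdd m F) u v =
    2 * (u (Sum.inl ()) * v (Sum.inl ())) +
      ∑ i : Fin m, (u (Sum.inr (Sum.inl i)) * v (Sum.inr (Sum.inr i)) +
        u (Sum.inr (Sum.inr i)) * v (Sum.inr (Sum.inl i))) := by
  simp only [QuadraticMap.polar, Cfsg.quadFormOdd, Pi.add_apply, add_mul, mul_add, Finset.sum_add_distrib]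
  rw [show ∑ x, v (Sum.inr (Sum.inl x)) * u (Sum.inr (Sum.inr x)) =
    ∑ x, u (Sum.inr (Sum.inr x)) * v (Sum.inr (Sum.inl x)) from Finset.sum_congr rfl fun x _ => mul_comm _ _]
  ring

theorem oPolar_bilinear : IsBilinearForm (QuadraticMap.polar (Cfsg.quadFormOdd m F)) := by
  constructor <;> intros <;>
    simp only [oPolar_apply, Pi.add_apply, Pi.smul_apply, smul_eq_mul, add_mul, mul_add, Finset.sum_add_distrib,
      Finset.mul_sum, mul_assoc, mul_left_comm] <;>
    ring

theorem oPolar_eq : QuadraticMap.polar (Cfsg.quadFormOdd m F) = gform (RingHom.id F) (oG m F) := by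
  have hb := oPolar_bilinear (F := F) (m := m)
  obtain ⟨G, hG⟩ := exists_gform (RingHom.id F) _ hb.add_left hb.smul_left hb.add_right hb.smul_right
  rw [hG, oG, hG]
  congr 1
  exact Matrix.ext fun a b => (gform_single (RingHom.id F) G a b).symm

theorem oPolar_symm (u v : OI m → F) :
    gform (RingHom.id F) (oG m F) u v = gform (RingHom.id F) (oG m F) v u := by
  rw [← oPolar_eq]
  simp only [QuadraticMap.polar, add_comm u v]
  ring

theorem oG_symm : (oG m F)ᵀ = oG m F := Matrix.ext fun a b => by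
  simp only [Matrix.transpose_apply, oG, gramMatrix, QuadraticMap.polar, add_comm (Pi.single b 1 : OI m → F)]
  ring

theorem oPolar_self (v : OI m → F) :
    gform (RingHom.id F) (oG m F) v v = 2 * Cfsg.quadFormOdd m F v := by
  rw [← oPolar_eq, oPolar_apply]
  simp only [Cfsg.quadFormOdd, Finset.sum_add_distrib]
  rw [show ∑ x, v (Sum.inr (Sum.inr x)) * v (Sum.inr (Sum.inl x)) =
    ∑ x, v (Sum.inr (Sum.inl x)) * v (Sum.inr (Sum.inr x)) from Finset.sum_congr rfl fun x _ => mul_comm _ _]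
  ring

theorem two_ne_zero' [Fintype F] (hodd : Odd (Fintype.card F)) : (2 : F) ≠ 0 := two_ne_zero_of_odd hodd

theorem oG_det (h2 : (2 : F) ≠ 0) : (oG m F).det ≠ 0 := by
  intro h0
  obtain ⟨v, hv, hv0⟩ := Matrix.exists_mulVec_eq_zero_iff.2 h0
  have hz : ∀ u, QuadraticMap.polar (Cfsg.quadFormOdd m F) u v = 0 := fun u => by
    rw [oPolar_eq]
    simp [gform, hv0]
  refine hv (funext fun a => ?_)
  rcases a with a | i | i
  · have := hz (Pi.single (Sum.inl ()) 1)
    rw [oPolar_apply] at this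
    simp [Pi.single_apply, h2] at this
    exact this
  · have := hz (Pi.single (Sum.inr (Sum.inr i)) 1)
    rw [oPolar_apply] at this
    simpa [Pi.single_apply] using this
  · have := hz (Pi.single (Sum.inr (Sum.inl i)) 1)
    rw [oPolar_apply] at this
    simpa [Pi.single_apply] using this

theorem refl_oG (h2 : (2 : F) ≠ 0) : Refl (RingHom.id F) (oG m F) :=
  ⟨fun _ => rfl, oG_det h2, 1, by
    rw [oG_symm, one_smul]
    ext i j
    rfl⟩

theorem oIso_eq (h2 : (2 : F) ≠ 0) :
    Cfsg.isometryGroup F (Cfsg.quadFormOdd m F) = iso (RingHom.id F) (oG m F) := by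
  ext g
  rw [mem_iso_iff]
  constructor
  · intro hg u v
    rw [← oPolar_eq]
    simp only [QuadraticMap.polar, ← mulVec_add]
    have hQ : ∀ w, Cfsg.quadFormOdd m F ((g : Matrix (OI m) (OI m) F) *ᵥ w) = Cfsg.quadFormOdd m F w :=
      fun w => hg w w
    rw [hQ, hQ, hQ]
  · intro hg u v
    show Cfsg.quadFormOdd m F ((g : Matrix (OI m) (OI m) F) *ᵥ u) = Cfsg.quadFormOdd m F u
    have h := hg u u
    rw [oPolar_self, oPolar_self] at h
    exact mul_left_cancel₀ h2 h

variable [Fintype F]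

/-- the geometric classes -/
inductive OClass (m : ℕ) (F : Type*) [Field F] [Fintype F] (H : Subgroup (GL (OI m) F)) : Prop where
  | singular {W : Submodule F (OI m → F)} (h0 : W ≠ ⊥) (hs : IsTotallySingularQuad (Cfsg.quadFormOdd m F) W)
      (h : H ≤ subspaceStabilizer W) : OClass m F H
  | nondeg {W : Submodule F (OI m → F)} (h0 : W ≠ ⊥) (h1 : W ≠ ⊤)
      (hn : IsNondegenerateOn (QuadraticMap.polar (Cfsg.quadFormOdd m F)) W) (h : H ≤ subspaceStabilizer W) : OClass m F H
  | dec {t k : ℕ} {D : Fin t → Submodule F (OI m → F)} (hk : 1 < k)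
      (hD : IsOrthogonalMDecomposition (Cfsg.quadFormOdd m F) k D) (h : H ≤ decompositionStabilizer D) : OClass m F H
  | frame {t : ℕ} {D : Fin t → Submodule F (OI m → F)} (hp : (Fintype.card F).Prime)
      (hD : IsOrthogonalMDecomposition (Cfsg.quadFormOdd m F) 1 D) (h : H ≤ decompositionStabilizer D) : OClass m F H
  | field {r : ℕ} {K : Subalgebra F (Matrix (OI m) (OI m) F)} (hr : r.Prime) (hne : 2 * m + 1 ≠ r)
      (hK : IsFieldSubalgebra r K) (hs : IsSelfAdjointFor (QuadraticMap.polar (Cfsg.quadFormOdd m F)) K)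
      (h : H ≤ subalgebraNormalizer K) : OClass m F H
  | tensor {n₁ n₂ : ℕ} (e : OI m ≃ Fin n₁ × Fin n₂) (P : GL (OI m) F) {f₁ : (Fin n₁ → F) → (Fin n₁ → F) → F}
      {f₂ : (Fin n₂ → F) → (Fin n₂ → F) → F} (h3 : 3 ≤ n₁) (h12 : n₁ < n₂) (h₁ : IsSymmetricForm f₁)
      (h₂ : IsSymmetricForm f₂)
      (hs : IsTensorFormStructure id (QuadraticMap.polar (Cfsg.quadFormOdd m F)) f₁ f₂ e P)
      (h : H ≤ tensorProductSubgroup n₁ n₂ e P) : OClass m F H
  | sub {F₀ : Subfield F} {r : ℕ} {P : GL (OI m) F} (hr : r.Prime) (hc : Fintype.card F = Nat.card F₀ ^ r)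
      (hs : IsQuadFormRationalStructure (Cfsg.quadFormOdd m F) F₀ P) (h : H ≤ subfieldSubgroup F₀ P) : OClass m F H
  | power {k t : ℕ} (e : OI m ≃ (Fin t → Fin k)) (P : GL (OI m) F) {f₁ : (Fin k → F) → (Fin k → F) → F}
      (hk : 3 ≤ k) (ht : 2 ≤ t) (hex : ¬ (Fintype.card F = 3 ∧ k = 3)) (h₁ : IsSymmetricForm f₁)
      (hs : IsTensorPowerFormStructure id (QuadraticMap.polar (Cfsg.quadFormOdd m F)) f₁ e P)
      (h : H ≤ tensorWreathSubgroup k t e P) : OClass m F H

variable {H : Subgroup (GL (OI m) F)}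

theorem OClass.exists_member (hI : H ≤ Cfsg.isometryGroup F (Cfsg.quadFormOdd m F)) (h : OClass m F H) :
    ∃ M, InOrthogonalOddClass m F M ∧ H ≤ M := by
  cases h with
  | singular h0 hs h => exact ⟨_, Or.inl ⟨_, h0, hs, rfl⟩, le_inf h hI⟩
  | nondeg h0 h1 hn h => exact ⟨_, Or.inr (Or.inl ⟨_, h0, h1, hn, rfl⟩), le_inf h hI⟩
  | dec hk hD h => exact ⟨_, Or.inr (Or.inr (Or.inl ⟨_, _, _, hk, hD, rfl⟩)), le_inf h hI⟩
  | frame hp hD h => exact ⟨_, Or.inr (Or.inr (Or.inr (Or.inl ⟨_, _, hp, hD, rfl⟩))), le_inf h hI⟩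
  | field hr hne hK hs h =>
    exact ⟨_, Or.inr (Or.inr (Or.inr (Or.inr (Or.inl ⟨_, _, hr, hne, hK, hs, rfl⟩)))), le_inf h hI⟩
  | tensor e P h3 h12 h₁ h₂ hs h =>
    exact ⟨_, Or.inr (Or.inr (Or.inr (Or.inr (Or.inr (Or.inl ⟨_, _, e, P, _, _, h3, h12, h₁, h₂, hs, rfl⟩))))),
      le_inf h hI⟩
  | sub hr hc hs h =>
    exact ⟨_, Or.inr (Or.inr (Or.inr (Or.inr (Or.inr (Or.inr (Or.inl ⟨_, _, _, hr, hc, hs, rfl⟩)))))), le_inf h hI⟩
  | power e P hk ht hex h₁ hs h =>
    exact ⟨_, Or.inr (Or.inr (Or.inr (Or.inr (Or.inr (Or.inr (Or.inr ⟨_, _, e, P, _, hk, ht, hex, h₁, hs, rfl⟩)))))),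
      le_inf h hI⟩

/-! ### subfield groups and frames -/

/-- a rational Gram matrix gives a rational quadratic form -/
theorem quadRat_of_gram (h2 : (2 : F) ≠ 0) {F₁ : Subfield F} {B : GL (OI m) F} {c : F}
    {G₀ : Matrix (OI m) (OI m) F} (hG : (B : Matrix (OI m) (OI m) F)ᵀ * oG m F * (B : Matrix (OI m) (OI m) F) = c • G₀)
    (h0 : ∀ i j, G₀ i j ∈ F₁) (hd0 : G₀.det ≠ 0) (hc : c ≠ 0) :
    ∃ s : Fˣ, IsQuadFormRationalStructure (Cfsg.quadFormOdd m F) F₁ (B * sch (OI m) F s) := by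
  have htwo : (2 : F) ∈ F₁ := by
    rw [← one_add_one_eq_two]
    exact F₁.add_mem F₁.one_mem F₁.one_mem
  have hGd : (oG m F).det ∈ F₁ := det_mem_subfield fun a b => by
    show QuadraticMap.polar (Cfsg.quadFormOdd m F) (Pi.single a 1) (Pi.single b 1) ∈ F₁
    rw [oPolar_apply]
    have he : ∀ a b : OI m, (Pi.single a (1 : F) : OI m → F) b ∈ F₁ := fun a b => by
      rw [Pi.single_apply]
      split_ifs <;> [exact F₁.one_mem; exact F₁.zero_mem]
    exact F₁.add_mem (F₁.mul_mem htwo (F₁.mul_mem (he _ _) (he _ _)))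
      (sum_mem fun i _ => F₁.add_mem (F₁.mul_mem (he _ _) (he _ _)) (F₁.mul_mem (he _ _) (he _ _)))
  obtain ⟨s, hs0, hs⟩ := scale_of_det (m := m) card_OI hc
    ((Matrix.isUnit_iff_isUnit_det _).1 (Units.isUnit B)).ne_zero hG (det_mem_subfield h0) hd0 hGd
  refine ⟨Units.mk0 s hs0, fun u hu => ?_⟩
  set v := ((B * sch (OI m) F (Units.mk0 s hs0) : GL (OI m) F) : Matrix (OI m) (OI m) F) *ᵥ u
  have hv : v = s • ((B : Matrix (OI m) (OI m) F) *ᵥ u) := by
    simp only [v, Units.val_mul, sch_coe, mul_smul_comm, mul_one, Units.val_mk0, Matrix.smul_mulVec]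
  have h1 := rational_gform (σ := RingHom.id F) (G := oG m F) (B := (B : Matrix (OI m) (OI m) F)) (c := c)
    (G₀ := G₀) (ζ := s * s) (by rw [RingHom.coe_id, Matrix.map_id]; exact hG) h0 hs hu hu
  rw [show Cfsg.quadFormOdd m F v = gform (RingHom.id F) (oG m F) v v / 2 by
    rw [oPolar_self, mul_div_cancel_left₀ _ h2]]
  refine F₁.div_mem ?_ htwo
  rw [hv, gform_smul_left, gform_smul_right, RingHom.id_apply, ← mul_assoc]
  exact h1

theorem gform_sum_left' {ι : Type} {F α : Type*} [Fintype ι] [Field F] (σ : F →+* F) (G : Matrix ι ι F) (s : Finset α)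
    (f : α → ι → F) (v : ι → F) : gform σ G (∑ i ∈ s, f i) v = ∑ i ∈ s, gform σ G (f i) v :=
  map_sum (AddMonoidHom.mk' (fun x : ι → F => gform σ G x v) fun x y => gform_add_left σ G x y v) f s

/-- a group permuting an orthogonal basis of vectors of equal norm -/
theorem o_frame_dec (h2 : (2 : F) ≠ 0) (hI : H ≤ Cfsg.isometryGroup F (Cfsg.quadFormOdd m F)) {N : ℕ}
    (hN : N = 2 * m + 1) (hm : 0 < m) (w : Fin N → OI m → F) {d : F} (hd : d ≠ 0)
    (hw : ∀ i j, gform (RingHom.id F) (oG m F) (w i) (w j) = if i = j then d else 0)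
    (hperm : ∀ g ∈ H, ∀ i, ∃ j, ∃ s : F, (g : Matrix (OI m) (OI m) F) *ᵥ w i = s • w j) : ∃ D : Fin N → Submodule F (OI m → F),
      IsOrthogonalMDecomposition (Cfsg.quadFormOdd m F) 1 D ∧ H ≤ decompositionStabilizer D := by
  rw [oIso_eq h2] at hI
  have hli : LinearIndependent F w := Fintype.linearIndependent_iff.2 fun g hg l => by
    have h1 := congrArg (fun z => gform (RingHom.id F) (oG m F) z (w l)) hg
    simp only [gform_sum_left', gform_smul_left, hw, mul_ite, mul_zero, Finset.sum_ite_eq', Finset.mem_univ, if_true] at h1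
    rw [show gform (RingHom.id F) (oG m F) 0 (w l) = 0 by simp [gform]] at h1
    exact (mul_eq_zero.1 h1).resolve_right hd
  have hw0 : ∀ i, w i ≠ 0 := fun i => hli.ne_zero i
  have hinv : ∀ g ∈ H, ∀ i j, ∀ s : F, (g : Matrix (OI m) (OI m) F) *ᵥ w i = s • w j → s = 1 ∨ s = -1 := by
    intro g hg i j s hs
    have h1 := mem_iso_iff.1 (hI hg) (w i) (w i)
    rw [hs, gform_smul_left, gform_smul_right, hw, hw, if_pos rfl, if_pos rfl, RingHom.id_apply, ← mul_assoc] at h1
    exact mul_self_eq_one_iff.1 (mul_right_cancel₀ hd (h1.trans (one_mul d).symm))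
  have hcard : Fintype.card (OI m) = N := by rw [card_OI, hN]
  have hiso : ∀ i j, AreIsometricFor (Cfsg.quadFormOdd m F) (Submodule.span F {w i}) (Submodule.span F {w j}) := by
    intro i j
    refine ⟨(LinearEquiv.toSpanNonzeroSingleton F _ (w i) (hw0 i)).symm.trans
      (LinearEquiv.toSpanNonzeroSingleton F _ (w j) (hw0 j)), fun x => ?_⟩
    obtain ⟨a, rfl⟩ := (LinearEquiv.toSpanNonzeroSingleton F _ (w i) (hw0 i)).surjective x
    rw [LinearEquiv.trans_apply, LinearEquiv.symm_apply_apply]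
    show Cfsg.quadFormOdd m F (a • w j) = Cfsg.quadFormOdd m F (a • w i)
    refine mul_left_cancel₀ h2 ?_
    rw [← oPolar_self, ← oPolar_self, gform_smul_left, gform_smul_left, gform_smul_right, gform_smul_right, hw, hw,
      if_pos rfl, if_pos rfl]
  refine ⟨fun i => Submodule.span F {w i}, ⟨⟨⟨by omega, one_pos, fun i => finrank_span_singleton (hw0 i),
    hli.iSupIndep_span_singleton, ?_⟩, fun i u hu hu0 => ?_, fun i j hij u hu v hv => ?_⟩, hiso⟩, fun g hg => ?_⟩
  · rw [← Submodule.span_range_eq_iSup]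
    refine Submodule.eq_top_of_finrank_eq ?_
    rw [finrank_span_eq_card hli, Fintype.card_fin, Module.finrank_fintype_fun_eq_card, hcard]
  · obtain ⟨s, rfl⟩ := Submodule.mem_span_singleton.1 hu
    have hs : s ≠ 0 := fun h0 => hu0 (by rw [h0, zero_smul])
    refine ⟨⟨w i, Submodule.mem_span_singleton_self _, ?_⟩, w i, Submodule.mem_span_singleton_self _, ?_⟩
    · rw [oPolar_eq, gform_smul_right, hw, if_pos rfl]
      exact mul_ne_zero hs hd
    · rw [oPolar_eq, gform_smul_left, hw, if_pos rfl]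
      exact mul_ne_zero hs hd
  · obtain ⟨s, rfl⟩ := Submodule.mem_span_singleton.1 hu
    obtain ⟨r, rfl⟩ := Submodule.mem_span_singleton.1 hv
    rw [oPolar_eq, gform_smul_left, gform_smul_right, hw, if_neg hij]
    simp
  · choose τ s hτ using hperm g hg
    have hinj : Function.Injective τ := fun i j e => by
      by_contra hne
      have h1 := mem_iso_iff.1 (hI hg) (w i) (w j)
      rw [hτ, hτ, e, gform_smul_left, gform_smul_right, hw, hw, if_pos rfl, if_neg hne, RingHom.id_apply] at h1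
      rcases hinv g hg i _ _ (hτ i) with h | h <;> rcases hinv g hg j _ _ (hτ j) with h' | h' <;>
        simp [h, h', hd] at h1
    refine ⟨Equiv.ofBijective τ (Finite.injective_iff_bijective.1 hinj), fun i => ?_⟩
    rw [Submodule.map_span, Set.image_singleton, Matrix.toLin'_apply, hτ]
    refine Submodule.span_singleton_smul_eq (IsUnit.mk0 _ fun h0 => ?_) _
    rcases hinv g hg i _ _ (hτ i) with h | h <;> simp [h0] at h

/-- a group permuting an orthogonal basis of vectors of equal norm is in a class -/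
theorem o_of_frame (h2 : (2 : F) ≠ 0) (hI : H ≤ Cfsg.isometryGroup F (Cfsg.quadFormOdd m F)) {N : ℕ}
    (hN : N = 2 * m + 1) (hm : 0 < m) (w : Fin N → OI m → F) {d : F} (hd : d ≠ 0)
    (hw : ∀ i j, gform (RingHom.id F) (oG m F) (w i) (w j) = if i = j then d else 0)
    (hperm : ∀ g ∈ H, ∀ i, ∃ j, ∃ s : F, (g : Matrix (OI m) (OI m) F) *ᵥ w i = s • w j) : OClass m F H := by
  rw [oIso_eq h2] at hI
  have hli : LinearIndependent F w := Fintype.linearIndependent_iff.2 fun g hg l => by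
    have h1 := congrArg (fun z => gform (RingHom.id F) (oG m F) z (w l)) hg
    simp only [gform_sum_left', gform_smul_left, hw, mul_ite, mul_zero, Finset.sum_ite_eq', Finset.mem_univ, if_true] at h1
    rw [show gform (RingHom.id F) (oG m F) 0 (w l) = 0 by simp [gform]] at h1
    exact (mul_eq_zero.1 h1).resolve_right hd
  have hw0 : ∀ i, w i ≠ 0 := fun i => hli.ne_zero i
  have hinv : ∀ g ∈ H, ∀ i j, ∀ s : F, (g : Matrix (OI m) (OI m) F) *ᵥ w i = s • w j → s = 1 ∨ s = -1 := by
    intro g hg i j s hs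
    have h1 := mem_iso_iff.1 (hI hg) (w i) (w i)
    rw [hs, gform_smul_left, gform_smul_right, hw, hw, if_pos rfl, if_pos rfl, RingHom.id_apply, ← mul_assoc] at h1
    exact mul_self_eq_one_iff.1 (mul_right_cancel₀ hd (h1.trans (one_mul d).symm))
  have hcard : Fintype.card (OI m) = N := by rw [card_OI, hN]
  by_cases hp : (Fintype.card F).Prime
  · obtain ⟨D, hD, hle⟩ := o_frame_dec h2 (oIso_eq (F := F) (m := m) h2 ▸ hI) hN hm w hd hw hperm
    exact .frame hp hD hle
  · -- the prime field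
    obtain ⟨p, a, hp', hcp, hcard', ha⟩ := exists_char_card (F := F)
    haveI := hcp
    haveI : Fact p.Prime := ⟨hp'⟩
    have hne : (⊥ : Subfield F) ≠ ⊤ := by
      intro h
      refine hp ?_
      have h1 : Nat.card (⊥ : Subfield F) = Fintype.card F := by
        rw [h, Nat.card_congr Subfield.topEquiv.toEquiv, Nat.card_eq_fintype_card]
      rw [← h1]
      have hbot : Nat.card (⊥ : Subfield F) = p := Subfield.card_bot F p
      rw [hbot]
      exact hp'
    obtain ⟨F₁, r, -, hr, hc⟩ := exists_prime_index_subfield (⊥ : Subfield F) hne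
    obtain ⟨φ⟩ : Nonempty (OI m ≃ Fin N) := ⟨Fintype.equivFinOfCardEq hcard⟩
    set Bm : Matrix (OI m) (OI m) F := Matrix.of fun a b => w (φ b) a with hBm
    have hcol : ∀ b, Bm *ᵥ Pi.single b 1 = w (φ b) := fun b => by
      funext a
      simp [hBm, mulVec_single]
    have hgram : Bmᵀ * oG m F * Bm = d • (1 : Matrix (OI m) (OI m) F) := by
      ext a b
      have h1 := hw (φ a) (φ b)
      rw [← hcol, ← hcol, gform_mulVec, gform_single, RingHom.coe_id, Matrix.map_id] at h1
      rw [h1]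
      simp [Matrix.one_apply]
    have hdet : Bm.det ≠ 0 := fun h0 => by
      have := congrArg Matrix.det hgram
      rw [Matrix.det_mul, h0, mul_zero, Matrix.det_smul, Matrix.det_one, mul_one, eq_comm] at this
      exact pow_ne_zero _ hd this
    set B : GL (OI m) F := Matrix.GeneralLinearGroup.mkOfDetNeZero Bm hdet with hB
    obtain ⟨s, hs⟩ := quadRat_of_gram h2 (F₁ := F₁) (B := B) hgram (fun i j => by
      rw [Matrix.one_apply]; split_ifs <;> [exact F₁.one_mem; exact F₁.zero_mem]) (by simp) hd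
    refine .sub hr hc hs ?_
    rw [subfieldSubgroup_smul]
    intro g hg
    refine mem_subfieldSubgroup_of (s := 1) one_ne_zero fun a b => ?_
    rw [inv_one, one_mul]
    obtain ⟨j, t, ht⟩ := hperm g hg (φ b)
    have hcolg : cj B⁻¹ (g : Matrix (OI m) (OI m) F) *ᵥ Pi.single b 1 = t • Pi.single (φ.symm j) 1 := by
      rw [cj, inv_inv, mul_assoc, ← mulVec_mulVec, ← mulVec_mulVec]
      show _ *ᵥ ((g : Matrix (OI m) (OI m) F) *ᵥ (Bm *ᵥ Pi.single b 1)) = _
      rw [hcol, ht, mulVec_smul, show w j = (B : Matrix (OI m) (OI m) F) *ᵥ Pi.single (φ.symm j) 1 by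
        show _ = Bm *ᵥ _
        rw [hcol, Equiv.apply_symm_apply], mulVec_mulVec, gl_inv_mul, one_mulVec]
    have := congrFun hcolg a
    rw [mulVec_single_one] at this
    simp only [Matrix.col_apply, Pi.smul_apply, smul_eq_mul] at this
    rw [this, Pi.single_apply]
    split_ifs
    · rw [mul_one]
      rcases hinv g hg _ _ _ ht with h | h <;> rw [h]
      · exact F₁.one_mem
      · exact F₁.neg_mem F₁.one_mem
    · rw [mul_zero]; exact F₁.zero_mem

/-! ### reducible groups -/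

theorem o_irred (h2 : (2 : F) ≠ 0) (hI : H ≤ Cfsg.isometryGroup F (Cfsg.quadFormOdd m F)) (hH : ¬ OClass m F H) :
    Irred H := by
  rw [oIso_eq h2] at hI
  intro W hW
  by_contra hcon
  push Not at hcon
  obtain ⟨h0, h1⟩ := hcon
  have hinv : ∀ g ∈ H, ∀ w ∈ W, (g : Matrix (OI m) (OI m) F) *ᵥ w ∈ W :=
    fun g hg w hw => hW _ (mem_matrixSet hg) ⟨w, hw, rfl⟩
  have hp : ∀ g ∈ H, ∀ w ∈ perp (RingHom.id F) (oG m F) W,
      (g : Matrix (OI m) (OI m) F) *ᵥ w ∈ perp (RingHom.id F) (oG m F) W :=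
    fun g hg => perp_invariant (hI hg) (hinv g⁻¹ (H.inv_mem hg))
  by_cases hR : W ⊓ perp (RingHom.id F) (oG m F) W = ⊥
  swap
  · exact hH (.singular hR (fun u hu => (mul_eq_zero.1 (show (2 : F) * Cfsg.quadFormOdd m F u = 0 by
      rw [← oPolar_self]; exact hu.2 u hu.1)).resolve_left h2)
      (subspaceStabilizer_mem fun g hg w hw => ⟨hinv g hg w hw.1, hp g hg w hw.2⟩))
  · exact hH (.nondeg h0 h1 (by rw [oPolar_eq]; exact (refl_oG h2).nondegenerateOn hR) (subspaceStabilizer_mem hinv))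

end CfsgLib.Perm.Asch
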