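import Cfsg.Agent.Lib.Perm.Asch.Forms.O

/-!
# Congruence of symmetric matrices over a finite field of odd order
-/

set_option autoImplicit false
set_option linter.all false

namespace CfsgLib.Perm.Asch

open scoped Classical Matrix
open Matrix Cfsg.Geo

variable {F : Type*} [Field F] {κ : Type} [Fintype κ] [DecidableEq κ]

theorem exists_diag_congr (h2 : (2 : F) ≠ 0) {A : Matrix κ κ F} (hA : Aᵀ = A) :
    ∃ (P : Matrix κ κ F) (d : κ → F), P.det ≠ 0 ∧ Pᵀ * A * P = diagonal d := by
  haveI : Invertible (2 : F) := invertibleOfNonzero h2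
  let B : LinearMap.BilinForm F (κ → F) :=
    LinearMap.mk₂ F (gform (RingHom.id F) A) (gform_add_left _ A) (gform_smul_left _ A) (gform_add_right _ A)
      (fun c v x => gform_smul_right _ A c v x)
  obtain ⟨v, hv⟩ := LinearMap.BilinForm.exists_orthogonal_basis (B := B)
    ⟨fun x y => by show gform _ A x y = gform _ A y x; rw [gform_swap A x y, hA]⟩
  set w := v.reindex ((finCongr (Module.finrank_fintype_fun_eq_card F)).trans (Fintype.equivFin κ).symm) with hw
  have hwo : ∀ i j, i ≠ j → gform (RingHom.id F) A (w i) (w j) = 0 := fun i j hij => by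
    rw [hw, Module.Basis.reindex_apply, Module.Basis.reindex_apply]
    exact hv fun h => hij (Equiv.injective _ h)
  set P : Matrix κ κ F := Matrix.of fun a b => w b a
  refine ⟨P, fun i => gform (RingHom.id F) A (w i) (w i), ?_, ?_⟩
  · intro h0
    obtain ⟨c, hc, hc0⟩ := Matrix.exists_mulVec_eq_zero_iff.2 h0
    refine hc (funext fun i => Fintype.linearIndependent_iff.1 w.linearIndependent c ?_ i)
    rw [← hc0]
    funext a
    simp [P, Matrix.mulVec, dotProduct, mul_comm]
  · ext i j
    have h1 : (Pᵀ * A * P) i j = gform (RingHom.id F) A (w i) (w j) := by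
      simp [gform, P, Matrix.mul_apply, dotProduct, Matrix.mulVec, Finset.mul_sum, Finset.sum_mul, mul_assoc]
      exact Finset.sum_comm
    rw [h1]
    by_cases h : i = j
    · subst h; rw [diagonal_apply_eq]
    · rw [diagonal_apply_ne _ h, hwo i j h]

theorem exists_diag_step [Fintype F] (h2 : (2 : F) ≠ 0) {d : κ → F} (hd : ∀ i, d i ≠ 0) {i l : κ} (hil : i ≠ l) :
    ∃ P : Matrix κ κ F, P.det ≠ 0 ∧
      Pᵀ * diagonal d * P = diagonal (Function.update (Function.update d l (d i * d l)) i 1) := by
  open Polynomial in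
  obtain ⟨x, y, hxy⟩ : ∃ x y : F, d i * (x * x) + d l * (y * y) = 1 := by
    have hF : Fintype.card F % 2 = 1 :=
      FiniteField.odd_card_of_char_ne_two fun h => h2 (by
        have : ((2 : ℕ) : F) = 0 := by rw [← h]; exact ringChar.Nat.cast_ringChar
        exact_mod_cast this)
    have h1 : (Polynomial.C (d i) * Polynomial.X ^ 2).degree = 2 :=
      Polynomial.degree_C_mul_X_pow 2 (hd i)
    have h1' : (Polynomial.C (d l) * Polynomial.X ^ 2 - Polynomial.C (1 : F)).degree = 2 := by
      rw [Polynomial.degree_sub_C]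
      · exact Polynomial.degree_C_mul_X_pow 2 (hd l)
      · rw [Polynomial.degree_C_mul_X_pow 2 (hd l)]; norm_num
    obtain ⟨x, y, hxy⟩ := FiniteField.exists_root_sum_quadratic h1 h1' hF
    refine ⟨x, y, ?_⟩
    simp at hxy
    linear_combination hxy
  have hli : l ≠ i := hil.symm
  let P : Matrix κ κ F := Matrix.of fun a b =>
    if b = i then (if a = i then x else if a = l then y else 0)
    else if b = l then (if a = i then -(d l * y) else if a = l then d i * x else 0)
    else if a = b then 1 else 0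
  have key : Pᵀ * diagonal d * P = diagonal (Function.update (Function.update d l (d i * d l)) i 1) := by
    ext b c
    have hsum : (Pᵀ * diagonal d * P) b c = ∑ a, P a b * d a * P a c := by
      rw [Matrix.mul_apply]
      simp [Matrix.mul_diagonal]
    rw [hsum]
    by_cases hb : b = i ∨ b = l
    · by_cases hc : c = i ∨ c = l
      · rw [Finset.sum_eq_add i l hil (fun a _ ha => by
          rcases hb with rfl | rfl <;> simp [P, ha.1, ha.2, hli]) (by simp) (by simp)]
        rcases hb with hb | hb <;> rcases hc with hc | hc <;> rw [hb, hc]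
        · simp [P, hli]; linear_combination hxy
        · simp [P, hli, hil, diagonal_apply_ne]; ring
        · simp [P, hli, hil, diagonal_apply_ne]; ring
        · simp [P, hli, hil]; linear_combination (d i * d l) * hxy
      · push Not at hc
        rw [Finset.sum_eq_single c (fun a _ ha => by simp [P, hc.1, hc.2, ha]) (by simp)]
        have hbc : b ≠ c := fun h => by subst h; rcases hb with h | h <;> [exact hc.1 h; exact hc.2 h]
        rcases hb with rfl | rfl <;> simp [P, hc.1, hc.2, hbc, hli, diagonal_apply_ne]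
    · push Not at hb
      rw [Finset.sum_eq_single b (fun a _ ha => by simp [P, hb.1, hb.2, ha]) (by simp)]
      by_cases hbc : b = c
      · subst hbc; simp [P, hb.1, hb.2]
      · rw [diagonal_apply_ne _ hbc]
        by_cases hci : c = i
        · subst hci; simp [P, hb.1, hb.2]
        · by_cases hcl : c = l
          · subst hcl; simp [P, hb.1, hb.2, hli]
          · simp [P, hci, hcl, hbc]
  refine ⟨P, fun h0 => ?_, key⟩
  have h3 := congrArg Matrix.det key
  rw [Matrix.det_mul, h0, mul_zero, Matrix.det_diagonal, eq_comm, Finset.prod_eq_zero_iff] at h3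
  obtain ⟨a, -, ha⟩ := h3
  by_cases hai : a = i
  · subst hai; simp at ha
  · rw [Function.update_of_ne hai] at ha
    by_cases hal : a = l
    · subst hal
      rw [Function.update_self] at ha
      exact mul_ne_zero (hd i) (hd a) ha
    · rw [Function.update_of_ne hal] at ha
      exact hd a ha

theorem exists_diag_canonical [Fintype F] (h2 : (2 : F) ≠ 0) {l : κ} (s : Finset κ) (hs : l ∉ s) :
    ∀ {d : κ → F}, (∀ i, d i ≠ 0) → ∃ (P : Matrix κ κ F) (d' : κ → F), P.det ≠ 0 ∧ Pᵀ * diagonal d * P = diagonal d' ∧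
      (∀ i, d' i ≠ 0) ∧ ∀ i, i ≠ l → d' i = if i ∈ s then 1 else d i := by
  induction s using Finset.induction_on with
  | empty => intro d hd; exact ⟨1, d, by simp, by simp, hd, fun i _ => by simp⟩
  | insert a s ha ih =>
    intro d hd
    simp only [Finset.mem_insert, not_or] at hs
    obtain ⟨P, d', hP, hPd, hd', hd''⟩ := ih hs.2 hd
    obtain ⟨Q, hQ, hQd⟩ := exists_diag_step h2 hd' (i := a) (l := l) (Ne.symm hs.1)
    refine ⟨P * Q, Function.update (Function.update d' l (d' a * d' l)) a 1, by rw [Matrix.det_mul]; exact mul_ne_zero hP hQ, ?_, fun i => ?_, fun i hi => ?_⟩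
    · rw [← hQd, ← hPd, Matrix.transpose_mul]
      simp only [mul_assoc]
    · simp only [Function.update_apply]
      split_ifs <;> [exact one_ne_zero; exact mul_ne_zero (hd' a) (hd' l); exact hd' i]
    · by_cases hia : i = a
      · subst hia; simp
      · rw [Function.update_of_ne hia, Function.update_of_ne hi, hd'' i hi]
        simp [hia]

theorem exists_canonical [Fintype F] (h2 : (2 : F) ≠ 0) (l : κ) {A : Matrix κ κ F} (hA : Aᵀ = A) (hd : A.det ≠ 0) :
    ∃ (P : Matrix κ κ F) (a : F), P.det ≠ 0 ∧ a = P.det * P.det * A.det ∧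
      Pᵀ * A * P = diagonal (Function.update (1 : κ → F) l a) := by
  obtain ⟨P, d, hP, hPd⟩ := exists_diag_congr h2 hA
  have hd0 : ∀ i, d i ≠ 0 := fun i h0 => by
    have h1 := congrArg Matrix.det hPd
    rw [Matrix.det_mul, Matrix.det_mul, Matrix.det_transpose, Matrix.det_diagonal,
      Finset.prod_eq_zero (Finset.mem_univ i) h0] at h1
    exact mul_ne_zero (mul_ne_zero hP hd) hP h1
  obtain ⟨Q, d', hQ, hQd, -, hd'⟩ := exists_diag_canonical h2 (Finset.univ.erase l) (Finset.notMem_erase l _) hd0
  have heq : d' = Function.update (1 : κ → F) l (d' l) := funext fun i => by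
    by_cases hi : i = l
    · subst hi; simp
    · simp [hd' i hi, hi]
  have key : (P * Q)ᵀ * A * (P * Q) = diagonal (Function.update (1 : κ → F) l (d' l)) := by
    rw [← heq, ← hQd, ← hPd, Matrix.transpose_mul]
    simp only [mul_assoc]
  refine ⟨P * Q, d' l, by rw [Matrix.det_mul]; exact mul_ne_zero hP hQ, ?_, key⟩
  have h1 := congrArg Matrix.det key
  rw [Matrix.det_mul, Matrix.det_mul, Matrix.det_transpose, Matrix.det_diagonal,
    Finset.prod_update_of_mem (Finset.mem_univ l)] at h1
  simp at h1
  rw [Matrix.det_mul]; linear_combination -h1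

/-- symmetric matrices with the same discriminant are congruent -/
theorem exists_congr_symm [Fintype F] [Nonempty κ] (h2 : (2 : F) ≠ 0) {A B : Matrix κ κ F} (hA : Aᵀ = A)
    (hB : Bᵀ = B) (hdA : A.det ≠ 0) (hdB : B.det ≠ 0) (hsq : IsSquare (A.det * B.det)) :
    ∃ P : GL κ F, (P : Matrix κ κ F)ᵀ * A * (P : Matrix κ κ F) = B := by
  let l : κ := Classical.arbitrary κ
  obtain ⟨P, a, hP, ha, hPd⟩ := exists_canonical h2 l hA hdA
  obtain ⟨Q, b, hQ, hb, hQd⟩ := exists_canonical h2 l hB hdB
  obtain ⟨r, hr⟩ := hsq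
  have ha0 : a ≠ 0 := by rw [ha]; exact mul_ne_zero (mul_ne_zero hP hP) hdA
  set s := Q.det * r / (P.det * A.det) with hsdef
  set S : Matrix κ κ F := diagonal (Function.update (1 : κ → F) l s)
  have hs : s * s * a = b := by
    rw [hsdef, ha, hb]
    field_simp
    linear_combination -hr
  have hS : Sᵀ * diagonal (Function.update (1 : κ → F) l a) * S = diagonal (Function.update (1 : κ → F) l b) := by
    rw [show Sᵀ = S from diagonal_transpose _, diagonal_mul_diagonal, diagonal_mul_diagonal]
    congr 1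
    funext i
    by_cases hi : i = l
    · subst hi; simp; linear_combination hs
    · simp [hi]
  have hQi : Q * Q⁻¹ = 1 := Matrix.mul_nonsing_inv _ (Ne.isUnit hQ)
  have key : (P * S * Q⁻¹)ᵀ * A * (P * S * Q⁻¹) = B := by
    calc _ = Q⁻¹ᵀ * (Sᵀ * (Pᵀ * A * P) * S) * Q⁻¹ := by
          simp only [Matrix.transpose_mul, mul_assoc]
      _ = Q⁻¹ᵀ * (Qᵀ * B * Q) * Q⁻¹ := by rw [hPd, hS, ← hQd]
      _ = (Q * Q⁻¹)ᵀ * B * (Q * Q⁻¹) := by simp only [Matrix.transpose_mul, mul_assoc]
      _ = B := by rw [hQi]; simp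
  refine ⟨Matrix.GeneralLinearGroup.mkOfDetNeZero _ (fun h0 => hdB ?_), key⟩
  rw [← key, Matrix.det_mul, h0, mul_zero]

/-- in odd dimension a symmetric form is congruent to a multiple of the unit form -/
theorem exists_congr_scalar [Fintype F] [Nonempty κ] (h2 : (2 : F) ≠ 0) (hodd : Odd (Fintype.card κ))
    {A : Matrix κ κ F} (hA : Aᵀ = A) (hdA : A.det ≠ 0) :
    ∃ P : GL κ F, (P : Matrix κ κ F)ᵀ * A * (P : Matrix κ κ F) = A.det • (1 : Matrix κ κ F) := by
  refine exists_congr_symm h2 hA (by simp) hdA ?_ ?_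
  · simp [Matrix.det_smul, hdA]
  · obtain ⟨j, hj⟩ := hodd
    refine ⟨A.det ^ (j + 1), ?_⟩
    rw [Matrix.det_smul, Matrix.det_one, hj]
    ring

end CfsgLib.Perm.Asch
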