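import Cfsg.Agent.Lib.Perm.Asch.Small
import Cfsg.Agent.Lib.Descent.FixedField

/-!
# Reflexive forms: isometries, adjoints, orthogonal subspaces, descent
-/

set_option autoImplicit false
set_option linter.all false

namespace CfsgLib.Perm.Asch

open scoped Classical Matrix Kronecker
open Matrix Cfsg.Geo

variable {ι : Type} [Fintype ι] [DecidableEq ι] {F : Type*} [Field F]

/-- `G` is the Gram matrix of a non-degenerate reflexive `σ`-sesquilinear form -/
structure Refl (σ : F →+* F) (G : Matrix ι ι F) : Prop where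
  inv : ∀ x, σ (σ x) = x
  det : G.det ≠ 0
  refl : ∃ ε : F, Gᵀ.map σ = ε • G

/-- the isometries of the form with Gram matrix `G` -/
def iso (σ : F →+* F) (G : Matrix ι ι F) : Subgroup (GL ι F) where
  carrier := {g | (g : Matrix ι ι F)ᵀ * G * (g : Matrix ι ι F).map σ = G}
  mul_mem' {a b} ha hb := by
    show ((a * b : GL ι F) : Matrix ι ι F)ᵀ * G * ((a * b : GL ι F) : Matrix ι ι F).map σ = G
    rw [Units.val_mul, Matrix.transpose_mul, Matrix.map_mul]
    calc (b : Matrix ι ι F)ᵀ * (a : Matrix ι ι F)ᵀ * G * ((a : Matrix ι ι F).map σ * (b : Matrix ι ι F).map σ)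
        = (b : Matrix ι ι F)ᵀ * ((a : Matrix ι ι F)ᵀ * G * (a : Matrix ι ι F).map σ) * (b : Matrix ι ι F).map σ := by
          simp only [mul_assoc]
      _ = G := by rw [show _ = G from ha, show _ = G from hb]
  one_mem' := by simp
  inv_mem' {a} ha := by
    show ((a⁻¹ : GL ι F) : Matrix ι ι F)ᵀ * G * ((a⁻¹ : GL ι F) : Matrix ι ι F).map σ = G
    conv_lhs => rw [← show _ = G from ha]
    calc ((a⁻¹ : GL ι F) : Matrix ι ι F)ᵀ * ((a : Matrix ι ι F)ᵀ * G * (a : Matrix ι ι F).map σ) *
          ((a⁻¹ : GL ι F) : Matrix ι ι F).map σ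
        = (((a⁻¹ : GL ι F) : Matrix ι ι F)ᵀ * (a : Matrix ι ι F)ᵀ) * G *
          ((a : Matrix ι ι F).map σ * ((a⁻¹ : GL ι F) : Matrix ι ι F).map σ) := by simp only [mul_assoc]
      _ = G := by rw [← Matrix.transpose_mul, gl_mul_inv, ← Matrix.map_mul, gl_mul_inv]; simp

theorem mem_iso {σ : F →+* F} {G : Matrix ι ι F} {g : GL ι F} :
    g ∈ iso σ G ↔ (g : Matrix ι ι F)ᵀ * G * (g : Matrix ι ι F).map σ = G := Iff.rfl

theorem mem_iso_iff {σ : F →+* F} {G : Matrix ι ι F} {g : GL ι F} :
    g ∈ iso σ G ↔ ∀ u v, gform σ G ((g : Matrix ι ι F) *ᵥ u) ((g : Matrix ι ι F) *ᵥ v) = gform σ G u v := by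
  constructor
  · intro h u v; rw [gform_mulVec, mem_iso.1 h]
  · intro h
    exact gform_ext fun u v => by rw [← gform_mulVec, h u v]

theorem invForm_of_le {P : Subgroup (GL ι F)} {σ : F →+* F} {G : Matrix ι ι F} (h : P ≤ iso σ G) :
    InvForm P σ G := fun _ hp => h hp

/-- the adjoint of a matrix -/
noncomputable def adj (σ : F →+* F) (G a : Matrix ι ι F) : Matrix ι ι F := (G⁻¹ * aᵀ * G).map σ

namespace Refl

variable {σ : F →+* F} {G : Matrix ι ι F} (h : Refl σ G)
include h

theorem inv_mul : G⁻¹ * G = 1 := Matrix.nonsing_inv_mul _ (Ne.isUnit h.det)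

theorem mul_inv : G * G⁻¹ = 1 := Matrix.mul_nonsing_inv _ (Ne.isUnit h.det)

theorem ne_zero [Nonempty ι] : G ≠ 0 := fun e => h.det (by rw [e, Matrix.det_zero])

theorem map_map (X : Matrix ι ι F) : (X.map σ).map σ = X := by ext i j; simp [h.inv]

theorem map_smul' (c : F) (X : Matrix ι ι F) : (c • X).map σ = σ c • X.map σ := by ext i j; simp

theorem mul_map_adj (a : Matrix ι ι F) : G * (adj σ G a).map σ = aᵀ * G := by
  rw [adj, h.map_map, ← mul_assoc, ← mul_assoc, h.mul_inv, one_mul]

/-- the defining property of the adjoint -/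
theorem adj_spec (a : Matrix ι ι F) (u v : ι → F) :
    gform σ G (a *ᵥ u) v = gform σ G u (adj σ G a *ᵥ v) := by
  have h1 := gform_mulVec σ G a 1 u v
  have h2 := gform_mulVec σ G 1 (adj σ G a) u v
  simp only [one_mulVec, Matrix.transpose_one, one_mul, mul_one, Matrix.map_one σ σ.map_zero σ.map_one] at h1 h2
  rw [h1, h2, h.mul_map_adj]

theorem adj_eq {a b : Matrix ι ι F} (e : aᵀ * G = G * b.map σ) : adj σ G a = b := by
  rw [adj, mul_assoc, e, ← mul_assoc, h.inv_mul, one_mul, h.map_map]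

theorem adj_eq_of_forall {a b : Matrix ι ι F}
    (e : ∀ u v, gform σ G (a *ᵥ u) v = gform σ G u (b *ᵥ v)) : adj σ G a = b := by
  refine h.adj_eq (gform_ext (σ := σ) fun u v => ?_)
  have h1 := gform_mulVec σ G a 1 u v
  have h2 := gform_mulVec σ G 1 b u v
  simp only [one_mulVec, Matrix.transpose_one, one_mul, mul_one, Matrix.map_one σ σ.map_zero σ.map_one] at h1 h2
  rw [← h1, ← h2, e]

theorem adj_mul (a b : Matrix ι ι F) : adj σ G (a * b) = adj σ G b * adj σ G a := by
  refine h.adj_eq ?_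
  rw [Matrix.transpose_mul, Matrix.map_mul, ← mul_assoc G, h.mul_map_adj, mul_assoc, ← h.mul_map_adj, mul_assoc]

theorem adj_add (a b : Matrix ι ι F) : adj σ G (a + b) = adj σ G a + adj σ G b := by
  refine h.adj_eq ?_
  rw [Matrix.transpose_add, Matrix.map_add σ σ.map_add, mul_add, h.mul_map_adj, h.mul_map_adj, add_mul]

theorem adj_smul (c : F) (a : Matrix ι ι F) : adj σ G (c • a) = σ c • adj σ G a := by
  refine h.adj_eq ?_
  rw [Matrix.transpose_smul, h.map_smul', h.inv, smul_mul_assoc, mul_smul_comm, h.mul_map_adj]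

theorem adj_one : adj σ G 1 = 1 := h.adj_eq (by simp)

theorem adj_zero : adj σ G 0 = 0 := h.adj_eq (by simp)

theorem adj_sub (a b : Matrix ι ι F) : adj σ G (a - b) = adj σ G a - adj σ G b := by
  rw [eq_sub_iff_add_eq, ← h.adj_add, sub_add_cancel]

theorem adj_sum {α : Type*} (s : Finset α) (f : α → Matrix ι ι F) :
    adj σ G (∑ i ∈ s, f i) = ∑ i ∈ s, adj σ G (f i) :=
  map_sum (⟨⟨adj σ G, h.adj_zero⟩, h.adj_add⟩ : Matrix ι ι F →+ Matrix ι ι F) f s

theorem adj_pow (a : Matrix ι ι F) (k : ℕ) : adj σ G (a ^ k) = adj σ G a ^ k := by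
  induction k with
  | zero => simp [h.adj_one]
  | succ k ih => rw [pow_succ, h.adj_mul, ih, ← pow_succ']

theorem adj_adj (a : Matrix ι ι F) : adj σ G (adj σ G a) = a := by
  obtain ⟨ε, hε⟩ := h.refl
  refine h.adj_eq ?_
  cases isEmpty_or_nonempty ι
  · exact Matrix.ext fun i => isEmptyElim i
  have hε0 : ε ≠ 0 := by
    rintro rfl
    have := congrArg Matrix.det hε
    rw [← RingHom.mapMatrix_apply, ← RingHom.map_det, Matrix.det_transpose, zero_smul, Matrix.det_zero, map_eq_zero] at this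
    exact h.det this
  have e := congrArg (fun X : Matrix ι ι F => Xᵀ.map σ) (h.mul_map_adj a)
  simp only [Matrix.transpose_mul, Matrix.transpose_transpose, Matrix.map_mul, Matrix.transpose_map, h.map_map] at e
  rw [← Matrix.transpose_map, hε] at e
  simp only [mul_smul_comm, smul_mul_assoc] at e
  exact smul_right_injective _ hε0 (by simpa using e)

theorem adj_mem_iff {g : GL ι F} :
    g ∈ iso σ G ↔ adj σ G (g : Matrix ι ι F) = ((g⁻¹ : GL ι F) : Matrix ι ι F) := by
  constructor
  · intro hg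
    refine h.adj_eq ?_
    conv_rhs => rw [← mem_iso.1 hg, mul_assoc, mul_assoc, ← Matrix.map_mul, gl_mul_inv,
      Matrix.map_one σ σ.map_zero σ.map_one, mul_one]
  · intro e
    rw [mem_iso, ← h.mul_map_adj, e, mul_assoc, ← Matrix.map_mul, gl_inv_mul,
      Matrix.map_one σ σ.map_zero σ.map_one, mul_one]

theorem adj_cj {g : GL ι F} (hg : g ∈ iso σ G) (a : Matrix ι ι F) :
    adj σ G (cj g a) = cj g (adj σ G a) := by
  rw [cj, cj, h.adj_mul, h.adj_mul, h.adj_mem_iff.1 hg, h.adj_mem_iff.1 ((iso σ G).inv_mem hg), inv_inv, ← mul_assoc]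

theorem eq_zero_of_forall_left {v : ι → F} (hv : ∀ u, gform σ G u v = 0) [Finite F] : v = 0 := by
  cases nonempty_fintype F
  by_contra h0
  obtain ⟨⟨x, hx⟩, -⟩ := gform_nondegenerate (σ := σ) h.det v h0
  exact hx (hv x)

theorem swap_eq_zero {u v : ι → F} (e : gform σ G u v = 0) : gform σ G v u = 0 := by
  obtain ⟨ε, hε⟩ := h.refl
  have key : σ (gform σ G u v) = ε * gform σ G v u := by
    have : ε * gform σ G v u = gform σ (ε • G) v u := by
      simp [gform, Matrix.smul_mulVec, dotProduct_smul]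
    rw [this, ← hε]
    simp only [gform, dotProduct, Matrix.mulVec, Function.comp_apply, Finset.mul_sum, map_sum, map_mul,
      Matrix.map_apply, Matrix.transpose_apply, h.inv]
    rw [Finset.sum_comm]
    exact Finset.sum_congr rfl fun i _ => Finset.sum_congr rfl fun j _ => by ring
  rw [e, map_zero] at key
  rcases mul_eq_zero.1 key.symm with h0 | h0
  · subst h0
    rw [zero_smul] at hε
    cases isEmpty_or_nonempty ι
    · simp [gform]
    · refine absurd ?_ h.det
      have := congrArg Matrix.det hε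
      rw [← RingHom.mapMatrix_apply, ← RingHom.map_det, Matrix.det_transpose, Matrix.det_zero, map_eq_zero] at this
      exact this
  · exact h0

end Refl

/-- a set of matrices closed under adjoints -/
def AdjClosed (σ : F →+* F) (G : Matrix ι ι F) (S : Set (Matrix ι ι F)) : Prop := ∀ a ∈ S, adj σ G a ∈ S

theorem Refl.adjClosed_matrixSet {σ : F →+* F} {G : Matrix ι ι F} (h : Refl σ G) {N : Subgroup (GL ι F)}
    (hN : N ≤ iso σ G) : AdjClosed σ G (matrixSet N) := by
  rintro _ ⟨g, hg, rfl⟩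
  exact ⟨g⁻¹, N.inv_mem hg, (h.adj_mem_iff.1 (hN hg)).symm⟩

theorem Refl.adjClosed_centralizer {σ : F →+* F} {G : Matrix ι ι F} (h : Refl σ G) {S : Set (Matrix ι ι F)}
    (hS : AdjClosed σ G S) : AdjClosed σ G (Subalgebra.centralizer F S : Set (Matrix ι ι F)) := by
  intro a ha
  rw [SetLike.mem_coe, Subalgebra.mem_centralizer_iff] at ha ⊢
  intro s hs
  have := congrArg (adj σ G) (ha _ (hS s hs))
  rw [h.adj_mul, h.adj_mul, h.adj_adj] at this
  exact this.symm

theorem Refl.adjClosed_adjoin {σ : F →+* F} {G : Matrix ι ι F} (h : Refl σ G) {S : Set (Matrix ι ι F)}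
    (hS : ∀ a ∈ S, adj σ G a ∈ Algebra.adjoin F S) : AdjClosed σ G (Algebra.adjoin F S : Set (Matrix ι ι F)) := by
  intro a ha
  rw [SetLike.mem_coe] at ha ⊢
  induction ha using Algebra.adjoin_induction with
  | mem x hx => exact hS x hx
  | algebraMap c =>
    rw [Algebra.algebraMap_eq_smul_one, h.adj_smul, h.adj_one]
    exact sc_mem _ _
  | add x y _ _ hx hy => rw [h.adj_add]; exact Subalgebra.add_mem _ hx hy
  | mul x y _ _ hx hy => rw [h.adj_mul]; exact Subalgebra.mul_mem _ hy hx

/-! ### orthogonal subspaces -/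

/-- the orthogonal of a subspace -/
def perp (σ : F →+* F) (G : Matrix ι ι F) (W : Submodule F (ι → F)) : Submodule F (ι → F) where
  carrier := {v | ∀ w ∈ W, gform σ G v w = 0}
  add_mem' {a b} ha hb w hw := by rw [gform_add_left, ha w hw, hb w hw, add_zero]
  zero_mem' w _ := by simp [gform]
  smul_mem' c v hv w hw := by rw [gform_smul_left, hv w hw, mul_zero]

theorem perp_invariant {σ : F →+* F} {G : Matrix ι ι F} {g : GL ι F} (hg : g ∈ iso σ G)
    {W : Submodule F (ι → F)} (hW : ∀ w ∈ W, ((g⁻¹ : GL ι F) : Matrix ι ι F) *ᵥ w ∈ W) :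
    ∀ v ∈ perp σ G W, (g : Matrix ι ι F) *ᵥ v ∈ perp σ G W := by
  intro v hv w hw
  have := mem_iso_iff.1 hg v (((g⁻¹ : GL ι F) : Matrix ι ι F) *ᵥ w)
  rw [mulVec_mulVec, gl_mul_inv, one_mulVec] at this
  rw [this]
  exact hv _ (hW w hw)

theorem card_le_perp {σ : F →+* F} (G : Matrix ι ι F) (W : Submodule F (ι → F)) :
    Fintype.card ι ≤ Module.finrank F W + Module.finrank F (perp σ G W) := by
  let b := Module.finBasis F W
  let L : (ι → F) →ₗ[F] (Fin (Module.finrank F W) → F) :=
    { toFun := fun v j => gform σ G v (b j : ι → F)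
      map_add' := fun u v => funext fun j => gform_add_left σ G u v _
      map_smul' := fun c v => funext fun j => gform_smul_left σ G c v _ }
  have hker : LinearMap.ker L ≤ perp σ G W := by
    intro v hv w hw
    have : (w : ι → F) = ∑ j, b.repr ⟨w, hw⟩ j • (b j : ι → F) := by
      have := congrArg Subtype.val (b.sum_repr ⟨w, hw⟩)
      simp only [Submodule.coe_sum, Submodule.coe_smul] at this
      exact this.symm
    rw [this]
    let A : (ι → F) →+ F := AddMonoidHom.mk' (gform σ G v) (gform_add_right σ G v)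
    show A _ = 0
    rw [map_sum]
    refine Finset.sum_eq_zero fun j _ => ?_
    show gform σ G v (_ • _) = 0
    rw [gform_smul_right, show gform σ G v (b j : ι → F) = 0 from congrFun hv j, mul_zero]
  have h1 := L.finrank_range_add_finrank_ker
  have h2 := Submodule.finrank_le (LinearMap.range L)
  have h3 := Submodule.finrank_mono hker
  rw [Module.finrank_fin_fun] at h2
  rw [Module.finrank_fintype_fun_eq_card] at h1
  omega

theorem Refl.perp_finrank [Finite F] {σ : F →+* F} {G : Matrix ι ι F} (h : Refl σ G) (W : Submodule F (ι → F)) :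
    Module.finrank F W + Module.finrank F (perp σ G W) = Fintype.card ι := by
  refine le_antisymm ?_ (card_le_perp G W)
  cases nonempty_fintype F
  -- the rank of the map `v ↦ f(v, ·)` on `W` is the dimension of `W`
  let b := Module.finBasis F W
  let L : (ι → F) →ₗ[F] (Fin (Module.finrank F W) → F) :=
    { toFun := fun v j => gform σ G v (b j : ι → F)
      map_add' := fun u v => funext fun j => gform_add_left σ G u v _
      map_smul' := fun c v => funext fun j => gform_smul_left σ G c v _ }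
  have hker : perp σ G W ≤ LinearMap.ker L := fun v hv => funext fun j => hv _ (b j).2
  have hsurj : LinearMap.range L = ⊤ := by
    by_contra hne
    obtain ⟨φ, hφ0, hφ⟩ := Submodule.exists_le_ker_of_lt_top _ (lt_top_iff_ne_top.2 hne)
    set c : Fin (Module.finrank F W) → F := fun j => φ (Pi.single j 1) with hc
    set w : ι → F := ∑ j, σ (c j) • (b j : ι → F) with hw
    have hall : ∀ u, gform σ G u w = 0 := by
      intro u
      have h1 : φ (L u) = 0 := hφ ⟨u, rfl⟩
      rw [pi_eq_sum_univ' (L u), map_sum] at h1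
      rw [← h1, hw]
      let A : (ι → F) →+ F := AddMonoidHom.mk' (gform σ G u) (gform_add_right σ G u)
      show A _ = _
      rw [map_sum]
      refine Finset.sum_congr rfl fun j _ => ?_
      show gform σ G u (σ (c j) • (b j : ι → F)) = φ (L u j • Pi.single j 1)
      rw [gform_smul_right, h.inv, map_smul, smul_eq_mul, mul_comm]
      rfl
    have hw0 := h.eq_zero_of_forall_left hall
    have hcoef : ∑ j, σ (c j) • b j = 0 := Subtype.ext (by simpa [hw] using hw0)
    refine hφ0 (LinearMap.ext fun x => ?_)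
    rw [pi_eq_sum_univ' x, map_sum, LinearMap.zero_apply]
    refine Finset.sum_eq_zero fun j _ => ?_
    have hj := Fintype.linearIndependent_iff.1 b.linearIndependent (fun j => σ (c j)) hcoef j
    rw [map_eq_zero] at hj
    rw [map_smul, show φ (Pi.single j 1) = 0 from hj, smul_zero]
  have h1 := L.finrank_range_add_finrank_ker
  have h3 := Submodule.finrank_mono hker
  rw [hsurj, finrank_top, Module.finrank_fin_fun, Module.finrank_fintype_fun_eq_card] at h1
  omega

theorem Refl.nondegenerateOn {σ : F →+* F} {G : Matrix ι ι F} (h : Refl σ G) {W : Submodule F (ι → F)}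
    (hW : W ⊓ perp σ G W = ⊥) : IsNondegenerateOn (gform σ G) W := by
  intro w hw hw0
  obtain ⟨x, hx, hne⟩ : ∃ x ∈ W, gform σ G w x ≠ 0 := by
    by_contra hcon
    push Not at hcon
    exact hw0 ((Submodule.eq_bot_iff _).1 hW w ⟨hw, hcon⟩)
  exact ⟨⟨x, hx, fun e => hne (h.swap_eq_zero e)⟩, ⟨x, hx, hne⟩⟩

theorem Refl.perp_inf_perp [Finite F] {σ : F →+* F} {G : Matrix ι ι F} (h : Refl σ G) {W : Submodule F (ι → F)}
    (hW : W ⊓ perp σ G W = ⊥) : perp σ G W ⊓ perp σ G (perp σ G W) = ⊥ := by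
  have hsup : W ⊔ perp σ G W = ⊤ := by
    refine Submodule.eq_top_of_finrank_eq ?_
    have := Submodule.finrank_sup_add_finrank_inf_eq W (perp σ G W)
    rw [hW, finrank_bot] at this
    have := h.perp_finrank W
    rw [Module.finrank_fintype_fun_eq_card]
    omega
  rw [Submodule.eq_bot_iff]
  rintro v ⟨hv, hv'⟩
  refine h.eq_zero_of_forall_left fun u => ?_
  obtain ⟨a, ha, c, hc, rfl⟩ := Submodule.mem_sup.1 (hsup ▸ Submodule.mem_top : u ∈ W ⊔ perp σ G W)
  rw [gform_add_left, h.swap_eq_zero (hv a ha), h.swap_eq_zero (hv' c hc), add_zero]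

/-! ### Kronecker products -/

theorem kronecker_cancel {κ μ : Type} {A C : Matrix κ κ F} {B D : Matrix μ μ F} (h : A ⊗ₖ B = C ⊗ₖ D)
    (h0 : A ⊗ₖ B ≠ 0) : ∃ c : F, c ≠ 0 ∧ C = c • A ∧ D = c⁻¹ • B := by
  obtain ⟨⟨a, x⟩, ⟨b, y⟩, hne⟩ : ∃ r s, (A ⊗ₖ B) r s ≠ 0 := by
    by_contra hcon
    push Not at hcon
    exact h0 (by ext r s; exact hcon r s)
  rw [Matrix.kronecker_apply] at hne
  have e := fun i j k l => congrFun (congrFun h (i, k)) (j, l)
  simp only [Matrix.kronecker_apply] at e
  have hC : C a b ≠ 0 ∧ D x y ≠ 0 := mul_ne_zero_iff.1 (e a b x y ▸ hne)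
  obtain ⟨hA, hB⟩ := mul_ne_zero_iff.1 hne
  refine ⟨C a b / A a b, div_ne_zero hC.1 hA, ?_, ?_⟩
  · ext i j
    have := e i j x y
    rw [Matrix.smul_apply, smul_eq_mul]
    field_simp
    refine mul_right_cancel₀ hC.2 ?_
    linear_combination (-(A a b)) * this + (A i j) * e a b x y
  · ext k l
    have := e a b k l
    rw [Matrix.smul_apply, smul_eq_mul, inv_div, div_mul_eq_mul_div, eq_div_iff hC.1]
    linear_combination (-1 : F) * this

/-! ### descent -/

/-- An absolutely irreducible group conjugate to its Galois twist is realised over a proper subfield. -/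
theorem realisable_of_conj [Fintype F] [Nonempty ι] {P : Subgroup (GL ι F)} (hP : AbsIrr P) (σ : F ≃+* F)
    (hσ : σ ≠ RingEquiv.refl F) (S : GL ι F)
    (hS : ∀ p ∈ P, (S : Matrix ι ι F) * (p : Matrix ι ι F).map σ = (p : Matrix ι ι F) * (S : Matrix ι ι F)) :
    ∃ F₀ : Subfield F, F₀ ≠ ⊤ ∧ RealisableOver F₀ (matrixSet P) := by
  open CfsgLib.Descent in
  haveI : Finite (RingAut F) := Finite.of_injective (fun τ : RingAut F => (τ : F → F)) DFunLike.coe_injective
  let s : RingAut F := σ
  set r := orderOf s with hr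
  have hr0 : 0 < r := orderOf_pos s
  have hS' : ∀ p ∈ P, S * glMap s p = p * S := fun p hp => Units.ext (hS p hp)
  have hN : ∀ k, ∀ p ∈ P, p * nprod s S k = nprod s S k * glMap (s ^ k) p := by
    intro k
    induction k with
    | zero => intro p _; rw [nprod, pow_zero, glMap_one, mul_one, one_mul]
    | succ k ih =>
      intro p hp
      show p * (S * glMap s (nprod s S k)) = S * glMap s (nprod s S k) * glMap (s ^ (k + 1)) p
      rw [← mul_assoc, ← hS' p hp, mul_assoc, ← map_mul, ih p hp, map_mul, glMap_glMap, ← pow_succ', mul_assoc]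
  set N := nprod s S r with hNdef
  obtain ⟨c, hc⟩ := hP.scalar_of_commute (M := (N : Matrix ι ι F)) (fun p hp => by
    have := hN r p hp
    rw [hr, pow_orderOf_eq_one, glMap_one, ← hNdef] at this
    rw [← Units.val_mul, ← Units.val_mul, this])
  have hc0 : c ≠ 0 := fun h0 => N.ne_zero (by rw [hc, h0, zero_smul])
  -- `c` is fixed
  have hcfix : s c = c := by
    have e1 : nprod s S (r + 1) = S * glMap s N := rfl
    have e2 : nprod s S (r + 1) = N * S := by rw [nprod_succ', hr, pow_orderOf_eq_one, glMap_one]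
    have e := congrArg Units.val (e1.symm.trans e2)
    rw [Units.val_mul, Units.val_mul, glMap_val, hc, smul_mul_assoc, one_mul,
      show (c • (1 : Matrix ι ι F)).map s = s c • (1 : Matrix ι ι F) by
        ext i j; by_cases h : i = j <;> simp [h],
      mul_smul_comm, mul_one] at e
    by_contra hne
    apply S.ne_zero
    have : (s c - c) • (S : Matrix ι ι F) = 0 := by rw [sub_smul, e, sub_self]
    exact (smul_eq_zero.1 this).resolve_left (sub_ne_zero.2 hne)
  obtain ⟨a, ha0, ha⟩ := exists_norm_eq (σ := s) rfl hr0 (inv_ne_zero hc0) (by rw [map_inv₀, hcfix])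
  let S₁ : GL ι F := sch ι F (Units.mk0 a ha0) * S
  have hS₁ : ∀ p ∈ P, S₁ * glMap s p = p * S₁ := fun p hp => by
    rw [mul_assoc, hS' p hp, ← mul_assoc, sch_central, mul_assoc]
  have hprod : ∀ k, (nprod s S₁ k : Matrix ι ι F) =
      (∏ i ∈ Finset.range k, (s ^ i : RingAut F) a) • (nprod s S k : Matrix ι ι F) := by
    intro k
    induction k with
    | zero => simp [nprod]
    | succ k ih =>
      rw [nprod_succ', nprod_succ', Units.val_mul, Units.val_mul, ih, glMap_val, glMap_val, Units.val_mul, sch_coe,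
        smul_mul_assoc (r := ((Units.mk0 a ha0 : Fˣ) : F)), one_mul, Finset.prod_range_succ, smul_mul_assoc]
      simp only [Units.val_mk0]
      rw [show (a • (S : Matrix ι ι F)).map (s ^ k : RingAut F) =
          (s ^ k : RingAut F) a • (S : Matrix ι ι F).map (s ^ k : RingAut F) by ext i j; simp,
        mul_smul_comm, smul_smul]
  have hone : nprod s S₁ r = 1 := Units.ext (by
    rw [hprod, ha, ← hNdef, hc, smul_smul, inv_mul_cancel₀ hc0, one_smul, Units.val_one])
  obtain ⟨B, hB⟩ := exists_h90 rfl hr0 hone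
  refine ⟨fixedField s, fun htop => hσ (RingEquiv.ext fun x => ?_), B⁻¹, ?_⟩
  · exact mem_fixedField.1 (htop ▸ Subfield.mem_top x : x ∈ fixedField s)
  rintro _ ⟨p, hp, rfl⟩ i j
  rw [inv_inv]
  have e : glMap s (B⁻¹ * p * B) = B⁻¹ * p * B := by
    rw [map_mul, map_mul, map_inv]
    calc (glMap s B)⁻¹ * glMap s p * glMap s B
        = (glMap s B)⁻¹ * S₁⁻¹ * (S₁ * glMap s p) * glMap s B := by group
      _ = (S₁ * glMap s B)⁻¹ * p * (S₁ * glMap s B) := by rw [hS₁ p hp]; group
      _ = B⁻¹ * p * B := by rw [hB]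
  exact mem_fixedField.2 (congrArg (fun X : GL ι F => (X : Matrix ι ι F) i j) e)

end CfsgLib.Perm.Asch

namespace CfsgLib.Perm.Asch

open scoped Classical Matrix
open Matrix Cfsg.Geo

/-- an isometry group fixing another, differently twisted, form is conjugate to a Galois twist of itself -/
theorem realisable_of_twisted_form {ι : Type} [Fintype ι] [DecidableEq ι] [Nonempty ι] {F : Type*} [Field F] [Fintype F]
    {σ : F →+* F} {G : Matrix ι ι F} (h : Refl σ G) {P : Subgroup (GL ι F)} (hP : AbsIrr P) (hPI : P ≤ iso σ G)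
    {τ : F →+* F} {G' : Matrix ι ι F} (hG' : InvForm P τ G') (hd : G'.det ≠ 0) (ρ : F ≃+* F)
    (hρ : ∀ x, ρ x = σ (τ x)) (hne : ρ ≠ RingEquiv.refl F) :
    ∃ F₀ : Subfield F, F₀ ≠ ⊤ ∧ RealisableOver F₀ (matrixSet P) := by
  let S : GL ι F := Matrix.GeneralLinearGroup.mkOfDetNeZero ((G⁻¹ * G').map σ) (by
    rw [← RingHom.mapMatrix_apply, ← RingHom.map_det, ne_eq, map_eq_zero, Matrix.det_mul, Matrix.det_nonsing_inv,
      Ring.inverse_eq_inv']
    exact mul_ne_zero (inv_ne_zero h.det) hd)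
  refine realisable_of_conj hP ρ hne S fun p hp => ?_
  show (G⁻¹ * G').map σ * (p : Matrix ι ι F).map ρ = (p : Matrix ι ι F) * (G⁻¹ * G').map σ
  have e1 := mem_iso.1 (hPI hp)
  have e2 := hG' p hp
  have hpT : (p : Matrix ι ι F)ᵀ = G * ((p⁻¹ : GL ι F) : Matrix ι ι F).map σ * G⁻¹ := by
    calc (p : Matrix ι ι F)ᵀ = (p : Matrix ι ι F)ᵀ *
          (G * ((p : Matrix ι ι F).map σ * ((p⁻¹ : GL ι F) : Matrix ι ι F).map σ) * G⁻¹) := by
            rw [← Matrix.map_mul, gl_mul_inv, Matrix.map_one σ σ.map_zero σ.map_one, mul_one, h.mul_inv, mul_one]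
      _ = ((p : Matrix ι ι F)ᵀ * G * (p : Matrix ι ι F).map σ) * ((p⁻¹ : GL ι F) : Matrix ι ι F).map σ * G⁻¹ := by
            simp only [mul_assoc]
      _ = _ := by rw [e1]
  rw [hpT] at e2
  have e3 : G⁻¹ * G' * (p : Matrix ι ι F).map τ = (p : Matrix ι ι F).map σ * (G⁻¹ * G') := by
    calc G⁻¹ * G' * (p : Matrix ι ι F).map τ
        = (p : Matrix ι ι F).map σ * (G⁻¹ * G) * ((p⁻¹ : GL ι F) : Matrix ι ι F).map σ * G⁻¹ * G' *
            (p : Matrix ι ι F).map τ := by
          rw [h.inv_mul, mul_one, ← Matrix.map_mul, gl_mul_inv, Matrix.map_one σ σ.map_zero σ.map_one, one_mul]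
      _ = (p : Matrix ι ι F).map σ * (G⁻¹ * (G * ((p⁻¹ : GL ι F) : Matrix ι ι F).map σ * G⁻¹ * G' *
            (p : Matrix ι ι F).map τ)) := by simp only [mul_assoc]
      _ = _ := by rw [e2]
  have e4 := congrArg (fun X : Matrix ι ι F => X.map σ) e3
  simp only [Matrix.map_mul, h.map_map] at e4
  rw [show (p : Matrix ι ι F).map ρ = ((p : Matrix ι ι F).map τ).map σ by ext i j; simp [hρ], Matrix.map_mul]
  exact e4

end CfsgLib.Perm.Asch
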