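import Cfsg.Agent.Lib.Perm.Asch.Forms.Basic

/-!
# A normalised commutative algebra closed under adjoints
-/

set_option autoImplicit false
set_option linter.all false

namespace CfsgLib.Perm.Asch

open scoped Classical Matrix
open Matrix Cfsg.Geo

/-! ### automorphisms of finite fields -/

theorem exists_frob_pow {L : Type*} [Field L] [Finite L] (p : ℕ) [Fact p.Prime] [CharP L p] (φ : L →+* L) :
    ∃ i, ∀ x, φ x = x ^ (p ^ i) := by
  letI := ZMod.algebra L p
  let f : L →ₐ[ZMod p] L :=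
    { φ with commutes' := fun c => RingHom.congr_fun (RingHom.ext_zmod (φ.comp (algebraMap (ZMod p) L)) (algebraMap (ZMod p) L)) c }
  obtain ⟨n, hn⟩ := (FiniteField.bijective_frobeniusAlgHom_pow (ZMod p) L).2 f
  refine ⟨n, fun x => ?_⟩
  have := DFunLike.congr_fun hn x
  rw [AlgHom.coe_pow, FiniteField.coe_frobeniusAlgHom, pow_iterate, ZMod.card] at this
  exact this.symm

theorem frob_pow_eq_id_iff {L : Type*} [Field L] [Finite L] {p : ℕ} [Fact p.Prime] [CharP L p] {d : ℕ}
    (hd : Nat.card L = p ^ d) (i : ℕ) : (∀ x : L, x ^ (p ^ i) = x) ↔ d ∣ i := by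
  letI := ZMod.algebra L p
  have hfin : Module.finrank (ZMod p) L = d := by
    have := Module.natCard_eq_pow_finrank (K := ZMod p) (V := L)
    rw [hd, Nat.card_eq_fintype_card, ZMod.card] at this
    exact (Nat.pow_right_injective (Fact.out : p.Prime).two_le this).symm
  rw [← hfin, ← FiniteField.orderOf_frobeniusAlgHom, orderOf_dvd_iff_pow_eq_one, DFunLike.ext_iff]
  simp only [AlgHom.coe_pow, FiniteField.coe_frobeniusAlgHom, pow_iterate, ZMod.card, AlgHom.one_apply]

variable {ι : Type} [Fintype ι] [DecidableEq ι] {F : Type*} [Field F]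

theorem exists_char_card [Fintype F] : ∃ p a : ℕ, p.Prime ∧ CharP F p ∧ Fintype.card F = p ^ a ∧ 0 < a := by
  obtain ⟨p, hp⟩ := CharP.exists F
  obtain ⟨a, hpp, ha⟩ := FiniteField.card F p
  exact ⟨p, a, hpp, hp, ha, a.pos⟩

theorem pow_fix_iff_field [Fintype F] {p a : ℕ} [Fact p.Prime] [CharP F p] (hc : Fintype.card F = p ^ a) (i : ℕ) :
    (∀ c : F, c ^ (p ^ i) = c) ↔ a ∣ i :=
  frob_pow_eq_id_iff (by rw [Nat.card_eq_fintype_card, hc]) i

/-- ring endomorphisms of a field subalgebra are powers of Frobenius -/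
theorem fieldSubalgebra_frob [Fintype F] [Nonempty ι] {r : ℕ} {K : Subalgebra F (Matrix ι ι F)}
    (hK : IsFieldSubalgebra r K) {p a : ℕ} [Fact p.Prime] [CharP F p] (hc : Fintype.card F = p ^ a) :
    (∀ i, (∀ x ∈ K, x ^ (p ^ i) = x) ↔ a * r ∣ i) ∧
    ∀ φ : Matrix ι ι F → Matrix ι ι F, (∀ x ∈ K, φ x ∈ K) → φ 1 = 1 →
      (∀ x ∈ K, ∀ y ∈ K, φ (x + y) = φ x + φ y) → (∀ x ∈ K, ∀ y ∈ K, φ (x * y) = φ x * φ y) →
      ∃ i, ∀ x ∈ K, φ x = x ^ (p ^ i) := by
  letI : CommRing K := { (inferInstance : Ring K) with mul_comm := fun x y => Subtype.ext (hK.comm _ x.2 _ y.2) }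
  have hf : IsField K := ⟨⟨0, 1, fun h => zero_ne_one (congrArg Subtype.val h)⟩, mul_comm, fun {x} hx => by
    obtain ⟨y, hy, hxy⟩ := hK.inv _ x.2 (fun h => hx (Subtype.ext h))
    exact ⟨⟨y, hy⟩, Subtype.ext hxy⟩⟩
  letI : Field K := hf.toField
  haveI : CharP K p := charP_of_injective_algebraMap (algebraMap F K).injective p
  have hcard : Nat.card K = p ^ (a * r) := by
    rw [Module.natCard_eq_pow_finrank (K := F), Nat.card_eq_fintype_card, hc, hK.finrank_eq, pow_mul]
  constructor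
  · intro i
    rw [← frob_pow_eq_id_iff (L := K) hcard i]
    exact ⟨fun h x => Subtype.ext (by rw [SubmonoidClass.coe_pow]; exact h _ x.2),
      fun h x hx => by simpa using congrArg Subtype.val (h ⟨x, hx⟩)⟩
  · intro φ hmem h1 hadd hmul
    let ψ : K →+* K :=
      { toFun := fun x => ⟨φ x, hmem _ x.2⟩
        map_one' := Subtype.ext h1
        map_mul' := fun x y => Subtype.ext (hmul _ x.2 _ y.2)
        map_zero' := Subtype.ext (by
          have := hadd 0 K.zero_mem 0 K.zero_mem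
          rw [add_zero] at this
          exact left_eq_add.1 this)
        map_add' := fun x y => Subtype.ext (hadd _ x.2 _ y.2) }
    obtain ⟨i, hi⟩ := exists_frob_pow p ψ
    refine ⟨i, fun x hx => ?_⟩
    have := congrArg Subtype.val (hi ⟨x, hx⟩)
    rw [SubmonoidClass.coe_pow] at this
    exact this

theorem finrank_dvd_card [Fintype F] [Nonempty ι] {r : ℕ} {K : Subalgebra F (Matrix ι ι F)}
    (hK : IsFieldSubalgebra r K) : r ∣ Fintype.card ι := by
  letI : CommRing K := { (inferInstance : Ring K) with mul_comm := fun x y => Subtype.ext (hK.comm _ x.2 _ y.2) }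
  have hf : IsField K := ⟨⟨0, 1, fun h => zero_ne_one (congrArg Subtype.val h)⟩, mul_comm, fun {x} hx => by
    obtain ⟨y, hy, hxy⟩ := hK.inv _ x.2 (fun h => hx (Subtype.ext h))
    exact ⟨⟨y, hy⟩, Subtype.ext hxy⟩⟩
  letI : Field K := hf.toField
  have := finrank_dvd_of_field_action (F := F) (V := ι → F) ((Matrix.toLinAlgEquiv' : Matrix ι ι F ≃ₐ[F] _).toAlgHom.comp K.val)
  rwa [hK.finrank_eq, Module.finrank_fintype_fun_eq_card] at this

/-! ### decompositions from idempotents -/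

theorem map_range_of_cj {g : GL ι F} {e e' : Matrix ι ι F} (h : cj g e = e') :
    (LinearMap.range (Matrix.toLin' e)).map (Matrix.toLin' (g : Matrix ι ι F)) = LinearMap.range (Matrix.toLin' e') := by
  subst h
  rw [← LinearMap.range_comp, ← Matrix.toLin'_mul, cj, Matrix.toLin'_mul ((g : Matrix ι ι F) * e),
    LinearMap.range_comp_of_range_eq_top]
  rw [LinearMap.range_eq_top]
  exact fun v => ⟨(g : Matrix ι ι F) *ᵥ v, by simp [gl_inv_mul]⟩

theorem range_ne_bot {e : Matrix ι ι F} (he : e ≠ 0) : LinearMap.range (Matrix.toLin' e) ≠ ⊥ := fun h =>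
  he (Matrix.toLin'.injective (by rw [map_zero]; exact LinearMap.range_eq_bot.1 h))

theorem mem_range_idem {e : Matrix ι ι F} (he : e * e = e) {v : ι → F}
    (hv : v ∈ LinearMap.range (Matrix.toLin' e)) : e *ᵥ v = v := by
  obtain ⟨w, rfl⟩ := hv; simp [he]

theorem decomp_of_idem [Finite F] [Nonempty ι] {σ : F →+* F} {G : Matrix ι ι F} (h : Refl σ G)
    {H : Subgroup (GL ι F)} {S : Type} [Fintype S] (hS : 2 ≤ Fintype.card S) (e : S → Matrix ι ι F)
    (hne : ∀ i, e i ≠ 0) (hid : ∀ i, e i * e i = e i) (horth : ∀ i j, i ≠ j → e i * e j = 0)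
    (hsum : ∑ i, e i = 1) (hadj : ∀ i, adj σ G (e i) = e i) (hperm : ∀ g ∈ H, ∀ i, ∃ j, cj g (e i) = e j)
    (htrans : ∀ i j, ∃ g ∈ H, cj g (e i) = e j) :
    ∃ (t k : ℕ) (D : Fin t → Submodule F (ι → F)), IsNondegenerateMDecomposition (gform σ G) k D ∧
      H ≤ decompositionStabilizer D ∧ ∀ i j, ∃ g ∈ H, (D i).map (Matrix.toLin' (g : Matrix ι ι F)) = D j := by
  obtain ⟨φ⟩ : Nonempty (Fin (Fintype.card S) ≃ S) := ⟨(Fintype.equivFin S).symm⟩
  let D : Fin (Fintype.card S) → Submodule F (ι → F) := fun i => LinearMap.range (Matrix.toLin' (e (φ i)))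
  have hinj : Function.Injective e := fun i j hij => by
    by_contra hne'
    have := horth i j hne'
    rw [← hij, hid] at this
    exact hne i this
  let i0 : Fin (Fintype.card S) := ⟨0, by omega⟩
  have htr : ∀ i j, ∃ g ∈ H, (D i).map (Matrix.toLin' (g : Matrix ι ι F)) = D j := fun i j => by
    obtain ⟨g, hg, hgi⟩ := htrans (φ i) (φ j)
    exact ⟨g, hg, map_range_of_cj hgi⟩
  refine ⟨_, Module.finrank F (D i0), D, ⟨⟨hS, Submodule.one_le_finrank_iff.2 (range_ne_bot (hne _)), ?_, ?_, ?_⟩,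
    ?_, ?_⟩, ?_, htr⟩
  · intro i
    obtain ⟨g, -, hgi⟩ := htr i0 i
    rw [← hgi]
    exact LinearEquiv.finrank_map_eq (Matrix.GeneralLinearGroup.toLin g).toLinearEquiv (D i0)
  · rw [iSupIndep_def]
    intro i
    rw [disjoint_iff_inf_le]
    rintro v ⟨hv, hv'⟩
    have hle : (⨆ (j) (_ : j ≠ i), D j) ≤ LinearMap.ker (Matrix.toLin' (e (φ i))) := by
      refine iSup₂_le fun j hj w hw => ?_
      rw [LinearMap.mem_ker, Matrix.toLin'_apply, ← mem_range_idem (hid _) hw, mulVec_mulVec,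
        horth _ _ (fun e' => hj (φ.injective e').symm), zero_mulVec]
    have := hle hv'
    rw [LinearMap.mem_ker, Matrix.toLin'_apply, mem_range_idem (hid _) hv] at this
    simp [this]
  · rw [eq_top_iff]
    intro v _
    have : v = ∑ i, e (φ i) *ᵥ v := by
      rw [← Matrix.sum_mulVec, Equiv.sum_comp φ e, hsum, one_mulVec]
    rw [this]
    exact Submodule.sum_mem _ fun i _ => le_iSup D i ⟨v, rfl⟩
  · intro i
    refine h.nondegenerateOn ((Submodule.eq_bot_iff _).2 ?_)
    rintro w ⟨hw, hw'⟩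
    refine h.eq_zero_of_forall_left fun u => h.swap_eq_zero ?_
    rw [← mem_range_idem (hid _) hw, h.adj_spec, hadj]
    exact hw' _ ⟨u, rfl⟩
  · intro i j hij u hu v hv
    rw [← mem_range_idem (hid _) hu, h.adj_spec, hadj, ← mem_range_idem (hid _) hv, mulVec_mulVec,
      horth _ _ (fun e' => hij (φ.injective e'))]
    simp [gform]
  · intro g hg
    choose f hf using hperm g hg
    have hfi : Function.Injective f := fun i j hij => hinj (cj_injective g (by rw [hf, hf, hij]))
    let π := Equiv.ofBijective f ⟨hfi, Finite.surjective_of_injective hfi⟩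
    refine ⟨(φ.trans π).trans φ.symm, fun i => ?_⟩
    show _ = LinearMap.range (Matrix.toLin' (e (φ (φ.symm (f (φ i))))))
    rw [φ.apply_symm_apply]
    exact map_range_of_cj (hf _)

/-! ### the trichotomy -/

/-- the orthogonal decompositions and singular pairs coming from the idempotents of the algebra -/
theorem comm_forms_idem [Fintype F] [Nonempty ι] {σ : F →+* F} {G : Matrix ι ι F} (h : Refl σ G)
    {H : Subgroup (GL ι F)} (hI : H ≤ iso σ G)
    {Z : Subalgebra F (Matrix ι ι F)} (hc : ∀ x ∈ Z, ∀ y ∈ Z, x * y = y * x) (hn : Normalises H Z)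
    (hd : AdjClosed σ G (Z : Set (Matrix ι ι F))) {t m : ℕ} {e : Fin t → Matrix ι ι F}
    {D : Fin t → Submodule F (ι → F)} (hidem : ∀ i, e i ∈ Z ∧ e i * e i = e i)
    (horth : ∀ i j, i ≠ j → e i * e j = 0) (hsum : ∑ i, e i = 1)
    (hD : ∀ i, D i = LinearMap.range (Matrix.toLin' (e i))) (hdec : IsMDecomposition m D)
    (hle : H ≤ decompositionStabilizer D) (he0 : ∀ i, e i ≠ 0)
    (hatom : ∀ f ∈ Z, f * f = f → ∀ i, f * e i = 0 ∨ f * e i = e i)
    (htrans : ∀ i j, ∃ g ∈ H, cj g (e i) = e j) :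
    (∃ (t k : ℕ) (D : Fin t → Submodule F (ι → F)), IsNondegenerateMDecomposition (gform σ G) k D ∧
      H ≤ decompositionStabilizer D ∧ ∀ i j, ∃ g ∈ H, (D i).map (Matrix.toLin' (g : Matrix ι ι F)) = D j) ∨
    (∃ (k : ℕ) (D : Fin 2 → Submodule F (ι → F)) (e : Matrix ι ι F), IsMDecomposition k D ∧
      (∀ i, IsTotallySingularFor (gform σ G) (D i)) ∧ H ≤ decompositionStabilizer D ∧ e * e = e ∧
      adj σ G e = 1 - e ∧ ∀ g ∈ H, cj g e = e ∨ cj g e = 1 - e) := by
  have heinj : Function.Injective e := fun i j hij => by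
    by_contra hne'
    have := horth i j hne'
    rw [← hij, (hidem i).2] at this
    exact he0 i this
  -- idempotents of `Z` below the atoms
  have hmatch : ∀ a ∈ Z, a * a = a → a ≠ 0 → (∀ f ∈ Z, f * f = f → f * a = 0 ∨ f * a = a) → ∃ j, a = e j := by
    intro a ha haa ha0 hat
    obtain ⟨j, hj⟩ : ∃ j, a * e j ≠ 0 := by
      by_contra hcon
      push Not at hcon
      apply ha0
      rw [← mul_one a, ← hsum, Finset.mul_sum]
      exact Finset.sum_eq_zero fun j _ => hcon j
    refine ⟨j, ?_⟩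
    have h1 := (hatom a ha haa j).resolve_left hj
    rcases hat (e j) (hidem j).1 (hidem j).2 with h2 | h2
    · exact absurd (by rw [hc a ha _ (hidem j).1]; exact h2) hj
    · rw [← h1, hc a ha _ (hidem j).1, h2]
  have hπ : ∀ i, ∃ j, adj σ G (e i) = e j := fun i => by
    refine hmatch _ (hd _ (hidem i).1) (by rw [← h.adj_mul, (hidem i).2]) (fun h0 => he0 i ?_) fun f hf hff => ?_
    · rw [← h.adj_adj (e i), h0, h.adj_zero]
    · rcases hatom _ (hd f hf) (by rw [← h.adj_mul, hff]) i with h1 | h1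
      · left
        have := congrArg (adj σ G) h1
        rw [h.adj_mul, h.adj_adj, h.adj_zero] at this
        rw [hc f hf _ (hd _ (hidem i).1)]; exact this
      · right
        have := congrArg (adj σ G) h1
        rw [h.adj_mul, h.adj_adj] at this
        rw [hc f hf _ (hd _ (hidem i).1)]; exact this
  choose π hπ using hπ
  have hπ2 : ∀ i, π (π i) = i := fun i => heinj (by rw [← hπ, ← hπ, h.adj_adj])
  have hperm : ∀ g ∈ H, ∀ i, ∃ j, cj g (e i) = e j := fun g hg i => by
    refine hmatch _ (hn g hg _ (hidem i).1) (by rw [← cj_mul, (hidem i).2]) (fun h0 => he0 i ?_) fun f hf hff => ?_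
    · rw [← cj_inv_cj g (e i), h0]; simp [cj]
    · rcases hatom _ (hn _ (H.inv_mem hg) f hf) (by rw [← cj_mul, hff]) i with h1 | h1
      · left; rw [← cj_cj_inv g f, ← cj_mul, h1]; simp [cj]
      · right; rw [← cj_cj_inv g f, ← cj_mul, h1]
  have hcommπ : ∀ g ∈ H, ∀ i j, cj g (e i) = e j → cj g (e (π i)) = e (π j) := fun g hg i j hij => by
    rw [← hπ, ← hπ, ← h.adj_cj (hI hg), hij]
  have ht2 := hdec.two_le
  have htm : t ≠ 0 := by omega
  by_cases hfix : ∀ i, π i = i
  · exact Or.inl (decomp_of_idem h (by simpa using ht2) e he0 (fun i => (hidem i).2) horth hsum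
      (fun i => by rw [hπ, hfix]) hperm htrans)
  have hfree : ∀ i, π i ≠ i := by
    intro i hi
    refine hfix fun j => ?_
    obtain ⟨g, hg, hgij⟩ := htrans i j
    have := hcommπ g hg i j hgij
    rw [hi, hgij] at this
    exact (heinj this).symm
  by_cases ht : t = 2
  · subst ht
    refine Or.inr ⟨m, D, e 0, hdec, fun i u hu v hv => ?_, hle, (hidem 0).2, ?_, fun g hg => ?_⟩
    · rw [hD] at hu hv
      rw [← mem_range_idem (hidem i).2 hu, h.adj_spec, hπ, ← mem_range_idem (hidem i).2 hv, mulVec_mulVec,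
        horth _ _ (hfree i)]
      simp [gform]
    · rw [Fin.sum_univ_two] at hsum
      have h01 : π 0 = 1 := by
        have := hfree 0
        revert this
        generalize π 0 = z
        intro this; fin_cases z
        · exact absurd rfl this
        · rfl
      rw [hπ, h01, eq_sub_iff_add_eq, add_comm, hsum]
    · rw [Fin.sum_univ_two] at hsum
      obtain ⟨j, hj⟩ := hperm g hg 0
      rw [hj]
      fin_cases j
      · exact Or.inl rfl
      · right; simp only [Fin.mk_one, Fin.isValue]; rw [eq_sub_iff_add_eq, add_comm, hsum]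
  -- pairs
  let S := {i : Fin t // i < π i}
  let E : S → Matrix ι ι F := fun s => e s.1 + e (π s.1)
  have hS : ∀ i, ∃ s : S, s.1 = i ∨ π s.1 = i := fun i => by
    rcases lt_or_gt_of_ne (hfree i).symm with hlt | hlt
    · exact ⟨⟨i, hlt⟩, Or.inl rfl⟩
    · exact ⟨⟨π i, by rw [hπ2]; exact hlt⟩, Or.inr (hπ2 i)⟩
  have hsame : ∀ s s' : S, s.1 = π s'.1 → False := fun s s' heq => by
    have h1 := s.2
    rw [heq, hπ2] at h1
    exact lt_asymm h1 s'.2
  have hEi : ∀ (s : S) i, (s.1 = i ∨ π s.1 = i) → E s = e i + e (π i) := fun s i hsi => by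
    rcases hsi with h1 | h1
    · subst h1; rfl
    · subst h1; simp only [E, hπ2]; rw [add_comm]
  have hpermE : ∀ g ∈ H, ∀ (s s' : S), (∃ j, cj g (e s.1) = e j ∧ (s'.1 = j ∨ π s'.1 = j)) → cj g (E s) = E s' := by
    rintro g hg s s' ⟨j, hj, hs'⟩
    rw [hEi s' j hs']
    show cj g (e s.1 + e (π s.1)) = _
    rw [cj_add, hj, hcommπ g hg _ _ hj]
  refine Or.inl (decomp_of_idem h ?_ E ?_ ?_ ?_ ?_ ?_ ?_ ?_)
  · by_contra hlt
    haveI : Subsingleton S := Fintype.card_le_one_iff_subsingleton.1 (by omega)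
    obtain ⟨s, hs⟩ := hS ⟨0, by omega⟩
    have hsub : (Finset.univ : Finset (Fin t)) ⊆ {s.1, π s.1} := fun i _ => by
      obtain ⟨s', hs'⟩ := hS i
      rw [Subsingleton.elim s' s] at hs'
      rcases hs' with h1 | h1 <;> simp [← h1]
    have := (Finset.card_le_card hsub).trans Finset.card_le_two
    simp at this
    omega
  · intro s h0
    refine he0 s.1 ?_
    have := congrArg (e s.1 * ·) h0
    simpa [E, mul_add, (hidem s.1).2, horth _ _ (hfree s.1).symm] using this
  · intro s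
    simp only [E, mul_add, add_mul, (hidem s.1).2, (hidem (π s.1)).2, horth _ _ (hfree s.1).symm,
      horth _ _ (hfree s.1), add_zero, zero_add]
  · intro s s' hne'
    have h1 : s.1 ≠ s'.1 := fun e' => hne' (Subtype.ext e')
    have h4 : π s.1 ≠ π s'.1 := fun e' => h1 (by rw [← hπ2 s.1, e', hπ2])
    simp only [E, mul_add, add_mul, horth _ _ h1, horth _ _ h4, horth _ _ (fun e' => hsame s s' e'),
      horth _ _ (fun e' : π s.1 = s'.1 => hsame s' s e'.symm), add_zero]
  · rw [← hsum]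
    show ∑ s : S, (e s.1 + e (π s.1)) = ∑ i, e i
    rw [Finset.sum_add_distrib]
    rw [← Finset.sum_filter_add_sum_filter_not Finset.univ (fun i : Fin t => i < π i) e]
    congr 1
    · exact (Finset.sum_subtype (Finset.univ.filter fun i : Fin t => i < π i) (fun i => by simp) e).symm
    · rw [← Finset.sum_subtype (Finset.univ.filter fun i : Fin t => i < π i) (fun i => by simp) fun i => e (π i)]
      refine Finset.sum_nbij' π π ?_ ?_ (fun i _ => hπ2 i) (fun i _ => hπ2 i) (fun i _ => rfl)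
      · intro i hi
        simp only [Finset.mem_filter, Finset.mem_univ, true_and, Finset.coe_filter, Set.mem_setOf_eq, hπ2] at hi ⊢
        exact fun h' => lt_asymm hi h'
      · intro i hi
        simp only [Finset.mem_filter, Finset.mem_univ, true_and, Finset.coe_filter, Set.mem_setOf_eq, hπ2] at hi ⊢
        exact lt_of_le_of_ne (not_lt.1 hi) (hfree i)
  · intro s
    show adj σ G (e s.1 + e (π s.1)) = _
    rw [h.adj_add, hπ, hπ, hπ2, add_comm]
  · intro g hg s
    obtain ⟨j, hj⟩ := hperm g hg s.1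
    obtain ⟨s', hs'⟩ := hS j
    exact ⟨s', hpermE g hg s s' ⟨j, hj, hs'⟩⟩
  · intro s s'
    obtain ⟨g, hg, hgs⟩ := htrans s.1 s'.1
    exact ⟨g, hg, hpermE g hg s s' ⟨s'.1, hgs, Or.inl rfl⟩⟩

theorem comm_forms [Fintype F] [Nonempty ι] {σ : F →+* F} {G : Matrix ι ι F} (h : Refl σ G)
    {H : Subgroup (GL ι F)} (hI : H ≤ iso σ G) (hH : Irred H)
    {Z : Subalgebra F (Matrix ι ι F)} (hc : ∀ x ∈ Z, ∀ y ∈ Z, x * y = y * x) (hn : Normalises H Z)
    (hd : AdjClosed σ G (Z : Set (Matrix ι ι F))) (hne : ∃ z ∈ Z, ∀ c : F, z ≠ c • (1 : Matrix ι ι F)) :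
    (∃ (t k : ℕ) (D : Fin t → Submodule F (ι → F)), IsNondegenerateMDecomposition (gform σ G) k D ∧
      H ≤ decompositionStabilizer D ∧ ∀ i j, ∃ g ∈ H, (D i).map (Matrix.toLin' (g : Matrix ι ι F)) = D j) ∨
    (∃ (k : ℕ) (D : Fin 2 → Submodule F (ι → F)) (e : Matrix ι ι F), IsMDecomposition k D ∧
      (∀ i, IsTotallySingularFor (gform σ G) (D i)) ∧ H ≤ decompositionStabilizer D ∧ e * e = e ∧
      adj σ G e = 1 - e ∧ ∀ g ∈ H, cj g e = e ∨ cj g e = 1 - e) ∨
    (∃ (r : ℕ) (K : Subalgebra F (Matrix ι ι F)), r.Prime ∧ IsFieldSubalgebra r K ∧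
      AdjClosed σ G (K : Set (Matrix ι ι F)) ∧ H ≤ subalgebraNormalizer K ∧ Normalises H K) := by
  rcases comm_normalised hH hc hn hne with
    ⟨t, m, e, D, hidem, horth, hsum, hD, hdec, hle, he0, hatom, htrans⟩ | ⟨r, K, hr, hK, hKZ, hle, hmem, -⟩
  · rcases comm_forms_idem h hI hc hn hd hidem horth hsum hD hdec hle he0 hatom htrans with h1 | h1
    · exact Or.inl h1
    · exact Or.inr (Or.inl h1)
  · refine Or.inr (Or.inr ⟨r, K, hr, hK, fun x hx => ?_, hle, fun g hg x hx => ?_⟩)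
    · rw [SetLike.mem_coe, hmem] at hx ⊢
      exact ⟨hd x hx.1, by rw [← h.adj_pow, hx.2]⟩
    · exact (hle hg x).1 hx

end CfsgLib.Perm.Asch
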