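import Cfsg.Agent.Lib.Perm.Asch.Forms.SpPerfect
import Cfsg.Agent.Lib.Perm.Asch.Proper
import Cfsg.Agent.Lib.Sp.Basic

/-!
# No member of a geometric class contains the symplectic group
-/

set_option autoImplicit false
set_option linter.all false

namespace CfsgLib.Perm.Asch

open scoped Classical Matrix Kronecker
open Matrix Cfsg.Geo

section General
variable {ι : Type} [Fintype ι] [DecidableEq ι] {F : Type*} [Field F]

/-- `I` is transitive on non-zero vectors -/
def VecTrans (I : Subgroup (GL ι F)) : Prop :=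
  ∀ v w : ι → F, v ≠ 0 → w ≠ 0 → ∃ g ∈ I, (g : Matrix ι ι F) *ᵥ v = w

theorem VecTrans.not_le_subspace {I : Subgroup (GL ι F)} (hI : VecTrans I) {W : Submodule F (ι → F)}
    (h0 : W ≠ ⊥) (h1 : W ≠ ⊤) : ¬ I ≤ subspaceStabilizer W := by
  intro hle
  obtain ⟨v, hv, hv0⟩ := Submodule.exists_mem_ne_zero_of_ne_bot h0
  refine h1 (eq_top_iff.2 fun w _ => ?_)
  rcases eq_or_ne w 0 with rfl | hw
  · exact W.zero_mem
  obtain ⟨g, hg, rfl⟩ := hI v w hv0 hw
  exact (hle hg v).1 hv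

theorem VecTrans.not_le_decomposition {I : Subgroup (GL ι F)} (hI : VecTrans I) {t k : ℕ}
    {D : Fin t → Submodule F (ι → F)} (hD : IsMDecomposition k D) : ¬ I ≤ decompositionStabilizer D := by
  intro hle
  let i0 : Fin t := ⟨0, by have := hD.two_le; omega⟩
  let i1 : Fin t := ⟨1, by have := hD.two_le; omega⟩
  have h01 : i0 ≠ i1 := by simp [i0, i1]
  have hne : ∀ i, D i ≠ ⊥ := fun i h => by
    have := hD.finrank_eq i
    rw [h, finrank_bot] at this
    exact (hD.pos).ne this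
  obtain ⟨a, ha, ha0⟩ := Submodule.exists_mem_ne_zero_of_ne_bot (hne i0)
  obtain ⟨b, hb, hb0⟩ := Submodule.exists_mem_ne_zero_of_ne_bot (hne i1)
  have hall : ∀ x, ∃ i, x ∈ D i := fun x => by
    rcases eq_or_ne x 0 with rfl | hx
    · exact ⟨i0, (D i0).zero_mem⟩
    obtain ⟨g, hg, rfl⟩ := hI a x ha0 hx
    obtain ⟨σ, hσ⟩ := hle hg
    exact ⟨σ i0, (hσ i0).le ⟨a, ha, rfl⟩⟩
  obtain ⟨k', hk⟩ := hall (a + b)
  have hdis : ∀ i j, i ≠ j → ∀ x, x ∈ D i → x ∈ D j → x = 0 := fun i j hij x hi hj =>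
    (Submodule.mem_bot F).1 ((hD.indep.pairwiseDisjoint hij).le_bot ⟨hi, hj⟩)
  rcases eq_or_ne k' i0 with rfl | hk0
  · exact hb0 (hdis _ _ h01 b (by simpa using (D i0).sub_mem hk ha) hb)
  · have hsub : ∀ i x, x ∈ D i → ∀ j, j ≠ i → x ∈ ⨆ (l) (_ : l ≠ j), D l := fun i x hx j hj =>
      Submodule.mem_iSup_of_mem i (Submodule.mem_iSup_of_mem hj.symm hx)
    have hmem : a ∈ ⨆ (l) (_ : l ≠ i0), D l := by
      rw [show a = (a + b) - b by abel]
      exact Submodule.sub_mem _ (hsub k' _ hk i0 hk0.symm) (hsub i1 b hb i0 h01)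
    exact ha0 ((Submodule.mem_bot F).1 ((hD.indep i0).le_bot ⟨ha, hmem⟩))

/-- the vectors `P (x ⊗ y)` -/
def pt2 {n₁ n₂ : ℕ} (e : ι ≃ Fin n₁ × Fin n₂) (P : GL ι F) (x : Fin n₁ → F) (y : Fin n₂ → F) : ι → F :=
  (P : Matrix ι ι F) *ᵥ fun i => x (e i).1 * y (e i).2

theorem exists_pt2_move {n₁ n₂ : ℕ} {e : ι ≃ Fin n₁ × Fin n₂} {P g : GL ι F}
    (hg : g ∈ tensorProductSubgroup n₁ n₂ e P) (x : Fin n₁ → F) (y : Fin n₂ → F) :
    ∃ x' y', (g : Matrix ι ι F) *ᵥ pt2 e P x y = pt2 e P x' y' := by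
  obtain ⟨l, a, b, rfl, hl⟩ := tensorProduct_elem hg
  refine ⟨(a : Matrix (Fin n₁) (Fin n₁) F) *ᵥ x, (b : Matrix (Fin n₂) (Fin n₂) F) *ᵥ y, ?_⟩
  rw [pt2, pt2, Units.val_mul, Units.val_mul, mulVec_mulVec, mul_assoc, gl_inv_mul, mul_one, ← mulVec_mulVec]
  congr 1
  funext i
  show ∑ j, (l : Matrix _ _ F) (e i) (e j) * (x (e j).1 * y (e j).2) = _
  rw [e.sum_comp (fun q => (l : Matrix _ _ F) (e i) q * (x q.1 * y q.2)), Fintype.sum_prod_type]
  simp only [hl, Matrix.mulVec, dotProduct, Finset.sum_mul_sum]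
  exact Finset.sum_congr rfl fun _ _ => Finset.sum_congr rfl fun _ _ => by
    rw [Matrix.kronecker_apply]; ring

theorem VecTrans.not_le_tensor {I : Subgroup (GL ι F)} (hI : VecTrans I) {n₁ n₂ : ℕ} (h₁ : 2 ≤ n₁) (h₂ : 2 ≤ n₂)
    (e : ι ≃ Fin n₁ × Fin n₂) (P : GL ι F) : ¬ I ≤ tensorProductSubgroup n₁ n₂ e P := by
  intro hle
  let a0 : Fin n₁ := ⟨0, by omega⟩
  let a1 : Fin n₁ := ⟨1, by omega⟩
  let b0 : Fin n₂ := ⟨0, by omega⟩
  let b1 : Fin n₂ := ⟨1, by omega⟩
  let w : ι → F := fun i => if e i = (a0, b0) ∨ e i = (a1, b1) then 1 else 0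
  have hinj : ∀ u : ι → F, (P : Matrix ι ι F) *ᵥ u = 0 → u = 0 := fun u hu => by
    have := congrArg ((((P⁻¹ : GL ι F)) : Matrix ι ι F) *ᵥ ·) hu
    simpa only [mulVec_mulVec, gl_inv_mul, one_mulVec, mulVec_zero] using this
  have hne : pt2 e P (Pi.single a0 1) (Pi.single b0 1) ≠ 0 := fun h => by
    have h1 := congrFun (hinj _ h) (e.symm (a0, b0))
    simp at h1
  have hw : (P : Matrix ι ι F) *ᵥ w ≠ 0 := fun h => by
    have h1 := congrFun (hinj _ h) (e.symm (a0, b0))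
    simp [w] at h1
  obtain ⟨g, hg, hgv⟩ := hI _ _ hne hw
  obtain ⟨x, y, hxy⟩ := exists_pt2_move (hle hg) (Pi.single a0 1) (Pi.single b0 1)
  rw [hgv] at hxy
  have heq : w = fun i => x (e i).1 * y (e i).2 := by
    have := congrArg ((((P⁻¹ : GL ι F)) : Matrix ι ι F) *ᵥ ·) hxy
    simpa only [pt2, mulVec_mulVec, gl_inv_mul, one_mulVec] using this
  have h00 := congrFun heq (e.symm (a0, b0))
  have h11 := congrFun heq (e.symm (a1, b1))
  have h01 := congrFun heq (e.symm (a0, b1))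
  simp [w, a0, a1, b0, b1, Fin.ext_iff] at h00 h11 h01
  rcases h01 with h | h <;> simp [h] at h00 h11

/-- the product vectors -/
def pv {k t : ℕ} (x : Fin t → Fin k → F) : (Fin t → Fin k) → F := fun a => ∏ l, x l (a l)

theorem pure_mulVec_pv {k t : ℕ} (A : Fin t → Matrix (Fin k) (Fin k) F) (x : Fin t → Fin k → F) :
    pure A *ᵥ pv x = pv fun l => A l *ᵥ x l := by
  funext a
  simp only [Matrix.mulVec, dotProduct, pure_apply, pv, ← Finset.prod_mul_distrib]
  exact (Fintype.prod_sum (fun l b => A l (a l) b * x l b)).symm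

theorem permMat_mulVec_pv {k t : ℕ} (π : Equiv.Perm (Fin t)) (x : Fin t → Fin k → F) :
    (permMat π : Matrix (Fin t → Fin k) (Fin t → Fin k) F) *ᵥ pv x = pv fun l => x (π.symm l) := by
  funext a
  simp only [Matrix.mulVec, dotProduct, permMat, Matrix.of_apply, pv, ite_mul, one_mul, zero_mul,
    Finset.sum_ite_eq', Finset.mem_univ, if_true]
  rw [← Equiv.prod_comp π (fun l => x (π.symm l) (a l))]
  simp

theorem rx_mulVec {μ : Type} [Fintype μ] [DecidableEq μ] (e : ι ≃ μ) (X : Matrix μ μ F) (u : μ → F) :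
    rx e X *ᵥ (u ∘ e) = (X *ᵥ u) ∘ e := by
  funext i
  simp only [Matrix.mulVec, dotProduct, rx_apply, Function.comp_apply]
  exact e.sum_comp (fun j => X (e i) j * u j)

theorem VecTrans.not_le_wreath {I : Subgroup (GL ι F)} (hI : VecTrans I) {k t : ℕ} (hk : 2 ≤ k) (ht : 2 ≤ t)
    (e : ι ≃ (Fin t → Fin k)) (P : GL ι F) : ¬ I ≤ tensorWreathSubgroup k t e P := by
  intro hle
  let b0 : Fin k := ⟨0, by omega⟩
  let b1 : Fin k := ⟨1, by omega⟩
  let c0 : Fin t := ⟨0, by omega⟩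
  let c1 : Fin t := ⟨1, by omega⟩
  let w : (Fin t → Fin k) → F := fun a => if (∀ l, a l = b0) ∨ (∀ l, a l = b1) then 1 else 0
  have hinj : ∀ u : (Fin t → Fin k) → F, (P : Matrix ι ι F) *ᵥ (u ∘ e) = 0 → u = 0 := fun u hu => by
    have := congrArg ((((P⁻¹ : GL ι F)) : Matrix ι ι F) *ᵥ ·) hu
    simp only [mulVec_mulVec, gl_inv_mul, one_mulVec, mulVec_zero] at this
    funext a
    simpa using congrFun this (e.symm a)
  let x0 : Fin t → Fin k → F := fun _ => Pi.single b0 1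
  have hne : (P : Matrix ι ι F) *ᵥ (pv x0 ∘ e) ≠ 0 := fun h => by
    have h1 := congrFun (hinj _ h) fun _ => b0
    simp [pv, x0] at h1
  have hw : (P : Matrix ι ι F) *ᵥ (w ∘ e) ≠ 0 := fun h => by
    have h1 := congrFun (hinj _ h) fun _ => b0
    simp [w] at h1
  obtain ⟨g, hg, hgv⟩ := hI _ _ hne hw
  obtain ⟨y, hy, rfl⟩ := Subgroup.mem_map.1 (hle hg)
  obtain ⟨z, hz, rfl⟩ := Subgroup.mem_map.1 hy
  obtain ⟨gs, π, rfl⟩ := tensorWreathStandard_elem hz
  set x := fun l => (gs l : Matrix (Fin k) (Fin k) F) *ᵥ x0 (π.symm l)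
  have hgeq : ((pureGL gs * permGL π : GL (Fin t → Fin k) F) : Matrix (Fin t → Fin k) (Fin t → Fin k) F) *ᵥ pv x0 = pv x := by
    rw [Units.val_mul, pureGL_coe, permGL_coe, ← mulVec_mulVec, permMat_mulVec_pv, pure_mulVec_pv]
  have heq : w = pv x := by
    rw [← hgeq]
    have h1 := congrArg ((((P⁻¹ : GL ι F)) : Matrix ι ι F) *ᵥ ·) hgv
    change ((P⁻¹ : GL ι F) : Matrix ι ι F) *ᵥ
      (((P * glReindex e.symm (pureGL gs * permGL π) * P⁻¹ : GL ι F) : Matrix ι ι F) *ᵥ _) = _ at h1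
    simp only [Units.val_mul, mulVec_mulVec, ← mul_assoc, gl_inv_mul, one_mul, one_mulVec] at h1
    simp only [mul_assoc, gl_inv_mul, mul_one] at h1
    rw [show ((glReindex e.symm (pureGL gs * permGL π) : GL ι F) : Matrix ι ι F) =
      rx e ((pureGL gs * permGL π : GL (Fin t → Fin k) F) : Matrix (Fin t → Fin k) (Fin t → Fin k) F) from rfl,
      rx_mulVec] at h1
    funext a
    have := congrFun h1 (e.symm a)
    simpa using this.symm
  let mixed : Fin t → Fin k := Function.update (fun _ => b1) c0 b0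
  have hc : c1 ≠ c0 := by simp [c0, c1]
  have hb : b0 ≠ b1 := by simp [b0, b1]
  have hnot : ¬ ((∀ l, mixed l = b0) ∨ (∀ l, mixed l = b1)) := by
    rintro (h | h)
    · have := h c1
      simp [mixed, Function.update_of_ne hc] at this
      exact hb this.symm
    · have := h c0
      simp [mixed] at this
      exact hb this
  have hall0 := congrFun heq fun _ => b0
  have hall1 := congrFun heq fun _ => b1
  have hmix := congrFun heq mixed
  simp only [w, pv, hnot, if_false] at hmix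
  simp [w, pv] at hall0 hall1
  obtain ⟨l, -, hl⟩ := Finset.prod_eq_zero_iff.1 hmix.symm
  rcases eq_or_ne l c0 with rfl | hl0
  · rw [show mixed c0 = b0 from Function.update_self ..] at hl
    exact one_ne_zero (hall0.trans (Finset.prod_eq_zero (Finset.mem_univ c0) hl))
  · rw [show mixed l = b1 from Function.update_of_ne hl0 ..] at hl
    exact one_ne_zero (hall1.trans (Finset.prod_eq_zero (Finset.mem_univ l) hl))

/-- a subfield group does not contain all the transvections along a line -/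
theorem subfield_line [Fintype F] (hι : 3 ≤ Fintype.card ι) {F₀ : Subfield F} (hF₀ : F₀ ≠ ⊤) {P : GL ι F}
    {u φ : ι → F} (hu : u ≠ 0) (hφ : φ ≠ 0) (h : φ ⬝ᵥ u = 0)
    (hle : ∀ a : F, ∃ g ∈ subfieldSubgroup F₀ P, (g : Matrix ι ι F) = 1 + a • vecMulVec u φ) : False := by
  set u' := ((P⁻¹ : GL ι F) : Matrix ι ι F) *ᵥ u
  set φ' := φ ᵥ* (P : Matrix ι ι F)
  have hent : ∀ a : F, ∃ c : F, c ≠ 0 ∧ ∀ i j, c * ((if i = j then 1 else 0) + a * (u' i * φ' j)) ∈ F₀ := by
    intro a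
    obtain ⟨g, hg, hgeq⟩ := hle a
    obtain ⟨k, hk, rfl⟩ := Subgroup.mem_map.1 hg
    obtain ⟨x, hx, z, hz, rfl⟩ := Subgroup.mem_sup_of_normal_right.1 hk
    obtain ⟨M, rfl⟩ := hx
    obtain ⟨c, hc⟩ := mem_scalars.1 hz
    refine ⟨((c⁻¹ : Fˣ) : F), Units.ne_zero _, fun i j => ?_⟩
    set X := ((Matrix.GeneralLinearGroup.map (F₀.subtype : F₀ →+* F) M : GL ι F) : Matrix ι ι F)
    have hX : (c : F) • X = 1 + a • vecMulVec u' φ' := by
      have h1 := congrArg (fun Y => ((P⁻¹ : GL ι F) : Matrix ι ι F) * Y * (P : Matrix ι ι F)) hgeq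
      have h2 : ((P⁻¹ : GL ι F) : Matrix ι ι F) * ((P * (Matrix.GeneralLinearGroup.map (F₀.subtype : F₀ →+* F) M * z) * P⁻¹ : GL ι F) : Matrix ι ι F) * (P : Matrix ι ι F) = (c : F) • X := by
        rw [← Units.val_mul, ← Units.val_mul, show P⁻¹ * (P * (Matrix.GeneralLinearGroup.map (F₀.subtype : F₀ →+* F) M * z) * P⁻¹) * P =
          Matrix.GeneralLinearGroup.map (F₀.subtype : F₀ →+* F) M * z by group, Units.val_mul, hc, mul_smul_comm, mul_one]
      rw [← h2]
      refine h1.trans ?_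
      show _ * (1 + a • vecMulVec u φ) * _ = _
      rw [mul_add, add_mul, mul_one, gl_inv_mul, mul_smul_comm, smul_mul_assoc, mul_vecMulVec, vecMulVec_mul]
    have h3 := congrFun (congrFun hX i) j
    rw [Matrix.smul_apply, Matrix.add_apply, Matrix.smul_apply, vecMulVec_apply, Matrix.one_apply, smul_eq_mul,
      smul_eq_mul] at h3
    rw [← h3, ← mul_assoc, ← Units.val_mul, inv_mul_cancel, Units.val_one, one_mul]
    exact ((M : Matrix ι ι F₀) i j).2
  obtain ⟨x, hx⟩ : ∃ x, x ∉ F₀ := by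
    by_contra h'
    push Not at h'
    exact hF₀ (eq_top_iff.2 fun x _ => h' x)
  obtain ⟨i0, hi0⟩ : ∃ i, u' i ≠ 0 := by
    by_contra h'
    push Not at h'
    refine hu ?_
    have := congrArg ((P : Matrix ι ι F) *ᵥ ·) (funext h' : u' = 0)
    simpa only [u', mulVec_mulVec, gl_mul_inv, one_mulVec, mulVec_zero] using this
  obtain ⟨j0, hj0⟩ : ∃ j, φ' j ≠ 0 := by
    by_contra h'
    push Not at h'
    refine hφ ?_
    have := congrArg (· ᵥ* ((P⁻¹ : GL ι F) : Matrix ι ι F)) (funext h' : φ' = 0)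
    simpa only [φ', vecMul_vecMul, gl_mul_inv, vecMul_one, zero_vecMul] using this
  by_cases hd : ∃ i, u' i * φ' i = 0
  · obtain ⟨i, hi⟩ := hd
    have hc : ∀ a, ∀ p r, ((if p = r then (1 : F) else 0) + a * (u' p * φ' r)) ∈ F₀ := by
      intro a p r
      obtain ⟨c, hc0, hc⟩ := hent a
      have h1 : c ∈ F₀ := by
        have := hc i i
        rwa [hi, mul_zero, if_pos rfl, add_zero, mul_one] at this
      have := F₀.mul_mem (F₀.inv_mem h1) (hc p r)
      rwa [← mul_assoc, inv_mul_cancel₀ hc0, one_mul] at this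
    have hall : ∀ a, a * (u' i0 * φ' j0) ∈ F₀ := fun a => by
      have h1 := hc a i0 j0
      have h2 : (if i0 = j0 then (1 : F) else 0) ∈ F₀ := by split_ifs <;> [exact F₀.one_mem; exact F₀.zero_mem]
      simpa using F₀.sub_mem h1 h2
    refine hx ?_
    have := hall (x / (u' i0 * φ' j0))
    rwa [div_mul_cancel₀ x (mul_ne_zero hi0 hj0)] at this
  · push Not at hd
    haveI : Nontrivial ι := Fintype.one_lt_card_iff_nontrivial.1 (by omega)
    obtain ⟨j, hj⟩ := exists_ne i0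
    have hsu : u' i0 * φ' j ≠ 0 := mul_ne_zero (left_ne_zero_of_mul (hd i0)) (right_ne_zero_of_mul (hd j))
    set s := u' i0 * φ' j
    have hA : ∀ b : F, b ≠ 0 → (b + u' i0 * φ' i0) / s ∈ F₀ := by
      intro b hb
      obtain ⟨c, hc0, hc⟩ := hent b⁻¹
      have h1 := hc i0 i0
      have h2 := hc i0 j
      rw [if_pos rfl] at h1
      rw [if_neg hj.symm, zero_add] at h2
      have h3 := F₀.div_mem h1 h2
      rw [show (b + u' i0 * φ' i0) / s = c * (1 + b⁻¹ * (u' i0 * φ' i0)) / (c * (b⁻¹ * s)) by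
        field_simp]
      exact h3
    -- all differences of non-zero elements are multiples of `s` in `F₀`
    have hdiff : ∀ b b' : F, b ≠ 0 → b' ≠ 0 → (b - b') / s ∈ F₀ := fun b b' hb hb' => by
      have := F₀.sub_mem (hA b hb) (hA b' hb')
      rwa [← sub_div, add_sub_add_right_eq_sub] at this
    have hcardF : 2 < Fintype.card F := by
      by_contra hle
      have h2 : Fintype.card F = 2 := le_antisymm (not_lt.1 hle) Fintype.one_lt_card
      obtain ⟨y, hy⟩ : ∃ y : F, y ∉ F₀ := ⟨x, hx⟩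
      have hy0 : y ≠ 0 := fun h => hy (h ▸ F₀.zero_mem)
      have : y = 1 := by
        by_contra hy1
        have : ({0, 1, y} : Finset F).card ≤ 2 := h2 ▸ Finset.card_le_univ _
        rw [Finset.card_insert_of_notMem (by simp [hy0.symm]), Finset.card_pair (Ne.symm hy1)] at this
        omega
      exact hy (this ▸ F₀.one_mem)
    -- `(b - 1) / s` covers all non-zero `b`
    have hx0 : x ≠ 0 := fun h => hx (h ▸ F₀.zero_mem)
    obtain ⟨y, hy0, hy1⟩ : ∃ y : F, y ≠ 0 ∧ y ≠ 1 := by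
      by_contra h'
      push Not at h'
      have : (Finset.univ : Finset F) ⊆ {0, 1} := fun z _ => by
        rcases eq_or_ne z 0 with h | h
        · simp [h]
        · simp [h' z h]
      have := Finset.card_le_card this
      rw [Finset.card_univ, Finset.card_pair zero_ne_one] at this
      omega
    have hinv : ∀ z : F, (z ≠ 0) → (z - 1) / s ∈ F₀ := fun z hz => hdiff z 1 hz one_ne_zero
    by_cases hs : s ∈ F₀
    · refine hx ?_
      have h1 := F₀.add_mem (F₀.mul_mem (hinv x hx0) hs) F₀.one_mem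
      rwa [div_mul_cancel₀ _ hsu, sub_add_cancel] at h1
    · -- `F = {0} ∪ (1 + s F₀)` is too small
      have hcard : Fintype.card F ≤ Nat.card F₀ + 1 := by
        haveI : Fintype F₀ := Fintype.ofFinite _
        have hsub : (Finset.univ : Finset F).erase 0 ⊆
            (Finset.univ : Finset F₀).image (fun z : F₀ => (z : F) * s + 1) := by
          intro z hz
          refine Finset.mem_image.2 ⟨⟨(z - 1) / s, hinv z (Finset.ne_of_mem_erase hz)⟩, Finset.mem_univ _, ?_⟩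
          show (z - 1) / s * s + 1 = z
          rw [div_mul_cancel₀ _ hsu, sub_add_cancel]
        have := (Finset.card_le_card hsub).trans Finset.card_image_le
        rw [Finset.card_erase_of_mem (Finset.mem_univ _), Finset.card_univ, Finset.card_univ, ← Nat.card_eq_fintype_card (α := F₀)] at this
        omega
      have hsq : Nat.card F₀ * Nat.card F₀ ≤ Fintype.card F := by
        rw [← Nat.card_eq_fintype_card, ← Nat.card_prod]
        refine Nat.card_le_card_of_injective (fun z : F₀ × F₀ => (z.1 : F) + (z.2 : F) * s) ?_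
        rintro ⟨a, b⟩ ⟨a', b'⟩ he
        simp only at he
        have hb : b = b' := by
          by_contra hne
          refine hs ?_
          have h0 : ((b : F) - b') ≠ 0 := sub_ne_zero.2 (fun h => hne (Subtype.ext h))
          rw [show s = ((a' : F) - a) / ((b : F) - b') by field_simp; linear_combination he]
          exact F₀.div_mem (F₀.sub_mem a'.2 a.2) (F₀.sub_mem b.2 b'.2)
        subst hb
        exact Prod.ext (Subtype.ext (add_right_cancel he)) rfl
      have h2 : 2 ≤ Nat.card F₀ := Finite.one_lt_card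
      nlinarith

end General

variable {F : Type*} [Field F] [Fintype F] {m : ℕ}

/-- a symplectic transvection in `GL` -/
noncomputable def stv (v : Fin m ⊕ Fin m → F) (c : F) : GL (Fin m ⊕ Fin m) F where
  val := (CfsgLib.Sp.tv v c).1
  inv := (CfsgLib.Sp.tv v (-c)).1
  val_inv := by
    rw [← CfsgLib.Sp.sp_mul_val, CfsgLib.Sp.tv_mul, add_neg_cancel, CfsgLib.Sp.tv_zero]; rfl
  inv_val := by
    rw [← CfsgLib.Sp.sp_mul_val, CfsgLib.Sp.tv_mul, neg_add_cancel, CfsgLib.Sp.tv_zero]; rfl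

theorem stv_mulVec (v : Fin m ⊕ Fin m → F) (c : F) (x : Fin m ⊕ Fin m → F) :
    (stv v c : Matrix (Fin m ⊕ Fin m) (Fin m ⊕ Fin m) F) *ᵥ x = x + (c * Cfsg.sympForm m F x v) • v :=
  CfsgLib.Sp.tv_mulVec v c x

theorem stv_inv_mulVec (v : Fin m ⊕ Fin m → F) (c : F) (x : Fin m ⊕ Fin m → F) :
    (((stv v c)⁻¹ : GL (Fin m ⊕ Fin m) F) : Matrix (Fin m ⊕ Fin m) (Fin m ⊕ Fin m) F) *ᵥ x =
      x + (-c * Cfsg.sympForm m F x v) • v :=
  CfsgLib.Sp.tv_mulVec v (-c) x

theorem stv_mem (v : Fin m ⊕ Fin m → F) (c : F) : stv v c ∈ Cfsg.spGL m F := by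
  rw [spGL_eq, mem_iso_iff]
  exact CfsgLib.Sp.sf_sp (CfsgLib.Sp.tv v c)

theorem sp_vecTrans : VecTrans (Cfsg.spGL m F) := by
  intro v w hv hw
  obtain ⟨A, hA⟩ := CfsgLib.Sp.exists_move hv hw
  have h1 : ∀ B : Matrix.symplecticGroup (Fin m) F, B.1 * (B⁻¹).1 = 1 := fun B => by
    rw [← CfsgLib.Sp.sp_mul_val, mul_inv_cancel]; rfl
  refine ⟨⟨A.1, (A⁻¹).1, h1 A, by simpa using h1 A⁻¹⟩, ?_, hA⟩
  rw [spGL_eq, mem_iso_iff]
  exact CfsgLib.Sp.sf_sp A

theorem sp_not_le_field (hm : 2 ≤ m) {r : ℕ} (hr : r.Prime)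
    {K : Subalgebra F (Matrix (Fin m ⊕ Fin m) (Fin m ⊕ Fin m) F)} (hK : IsFieldSubalgebra r K) :
    ¬ Cfsg.spGL m F ≤ subalgebraNormalizer K := by
  intro hle
  have heig : ∀ k ∈ K, ∀ u, ∃ c : F, Matrix.toLin' k u = c • u := by
    intro k hk u
    rcases eq_or_ne u 0 with rfl | hu
    · exact ⟨0, by simp⟩
    obtain ⟨y, hy⟩ := CfsgLib.Sp.exists_sf_eq_one hu
    set g := stv u (1 : F)
    set D := cj g k - k with hD
    have hDK : D ∈ K := K.sub_mem ((hle (stv_mem u 1) k).1 hk) hk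
    have hDx : ∀ x, D *ᵥ x = (Cfsg.sympForm m F (k *ᵥ (x - Cfsg.sympForm m F x u • u)) u) • u -
        Cfsg.sympForm m F x u • (k *ᵥ u) := by
      intro x
      rw [hD, sub_mulVec, cj, ← mulVec_mulVec, ← mulVec_mulVec, stv_inv_mulVec, stv_mulVec]
      simp only [neg_one_mul, one_mul, neg_smul, ← sub_eq_add_neg, mulVec_sub, mulVec_smul]
      abel
    have hD0 : D = 0 := by
      by_contra hne
      obtain ⟨E, -, hE⟩ := hK.inv D hDK hne
      have htop : (⊤ : Submodule F (Fin m ⊕ Fin m → F)) ≤ Submodule.span F {u, k *ᵥ u} := fun x _ => by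
        have h1 : D *ᵥ (E *ᵥ x) ∈ Submodule.span F {u, k *ᵥ u} := by
          rw [hDx]
          exact Submodule.sub_mem _ (Submodule.smul_mem _ _ (Submodule.subset_span (by simp)))
            (Submodule.smul_mem _ _ (Submodule.subset_span (by simp)))
        rwa [mulVec_mulVec, hE, one_mulVec] at h1
      have h1 := Submodule.finrank_mono htop
      rw [finrank_top, Module.finrank_fintype_fun_eq_card, card_SI] at h1
      have h2 := finrank_span_finset_le_card (R := F) ({u, k *ᵥ u} : Finset (Fin m ⊕ Fin m → F))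
      rw [Finset.coe_pair] at h2
      have h3 : ({u, k *ᵥ u} : Finset (Fin m ⊕ Fin m → F)).card ≤ 2 := Finset.card_le_two
      unfold Set.finrank at h2
      omega
    have e := hDx y
    rw [hD0, zero_mulVec, show Cfsg.sympForm m F y u = 1 from hy, one_smul, one_smul, eq_comm, sub_eq_zero] at e
    exact ⟨_, by rw [Matrix.toLin'_apply]; exact e.symm⟩
  have hbot : K = ⊥ := eq_bot_iff.2 fun k hk => by
    obtain ⟨c, hc⟩ := CfsgLib.Sp.eq_smul_of_forall_eigen (f := Matrix.toLin' k) (by omega) (heig k hk)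
    exact mem_bot_iff.2 ⟨c, Matrix.ext_iff_mulVec.2 fun v => by
      rw [← Matrix.toLin'_apply, hc, Matrix.smul_mulVec, Matrix.one_mulVec]⟩
  haveI : Nonempty (Fin m ⊕ Fin m) := ⟨Sum.inl ⟨0, by omega⟩⟩
  have := hK.finrank_eq
  rw [hbot, Subalgebra.finrank_bot] at this
  exact hr.ne_one this.symm

theorem sp_not_le_subfield (hm : 2 ≤ m) {F₀ : Subfield F} (hF₀ : F₀ ≠ ⊤) (P : GL (Fin m ⊕ Fin m) F) :
    ¬ Cfsg.spGL m F ≤ subfieldSubgroup F₀ P := by
  intro hle
  let u : Fin m ⊕ Fin m → F := Pi.single (Sum.inl ⟨0, by omega⟩) 1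
  have hu : u ≠ 0 := fun h => one_ne_zero (Pi.single_eq_zero_iff.1 h)
  refine subfield_line (u := u) (φ := Matrix.J (Fin m) F *ᵥ u) (by rw [card_SI]; omega) hF₀ hu ?_ ?_
    (fun a => ⟨stv u a, hle (stv_mem u a), rfl⟩)
  · intro h
    obtain ⟨y, hy⟩ := CfsgLib.Sp.exists_sf_eq_one hu
    exact one_ne_zero (hy.symm.trans (show y ⬝ᵥ (Matrix.J (Fin m) F *ᵥ u) = 0 by rw [h, dotProduct_zero]))
  · rw [dotProduct_comm]
    exact CfsgLib.Sp.sf_self u

theorem sp_not_le_quad (hm : 2 ≤ m) {Q : (Fin m ⊕ Fin m → F) → F} (hQ : IsNondegenerateQuadraticForm Q)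
    (hp : ∀ u v, QuadraticMap.polar Q u v = Cfsg.sympForm m F u v) :
    ¬ Cfsg.spGL m F ≤ quadSimilarityGroup Q := by
  intro hle
  have hadd : ∀ u v, Q (u + v) = Q u + Q v + Cfsg.sympForm m F u v := fun u v => by
    rw [← hp, QuadraticMap.polar]; ring
  have key : ∀ v, v ≠ 0 → Q v = -1 := by
    intro v hv
    obtain ⟨y, hy⟩ := CfsgLib.Sp.exists_sf_eq_one hv
    obtain ⟨c, hc⟩ := hle (stv_mem v (1 : F))
    have hyv : Cfsg.sympForm m F y v = 1 := hy
    have hc1 : (c : F) = 1 := by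
      by_contra hne
      have hz : ∀ x, Cfsg.sympForm m F x v = 0 → Q x = 0 := fun x hx => by
        have h1 := hc x
        rw [stv_mulVec, hx, mul_zero, zero_smul, add_zero] at h1
        exact (mul_eq_zero.1 (show ((c : F) - 1) * Q x = 0 by linear_combination -h1)).resolve_left (sub_ne_zero.2 hne)
      obtain ⟨x, hx0, hxv, hxy⟩ := CfsgLib.Sp.exists_orth_two hm v y
      obtain ⟨z, hz1⟩ := CfsgLib.Sp.exists_sf_eq_one hx0
      -- adjust `z` to be orthogonal to `v`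
      have hxv' : Cfsg.sympForm m F x v = 0 := hxv
      have hyx : Cfsg.sympForm m F y x = 0 := by
        show CfsgLib.Sp.sf y x = 0
        rw [CfsgLib.Sp.sf_swap, hxy, neg_zero]
      set z' := z + (-Cfsg.sympForm m F z v) • y
      have hz'v : Cfsg.sympForm m F z' v = 0 := by
        show CfsgLib.Sp.sf z' v = 0
        simp only [z', CfsgLib.Sp.sf_add_left, CfsgLib.Sp.sf_smul_left]
        rw [show CfsgLib.Sp.sf y v = 1 from hy, mul_one]
        exact add_neg_cancel _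
      have hz'x : Cfsg.sympForm m F z' x = 1 := by
        show CfsgLib.Sp.sf z' x = 1
        simp only [z', CfsgLib.Sp.sf_add_left, CfsgLib.Sp.sf_smul_left]
        rw [show CfsgLib.Sp.sf y x = 0 from hyx, mul_zero, add_zero]
        exact hz1
      have h1 := hadd z' x
      rw [hz x hxv', hz z' hz'v, hz'x, hz (z' + x) (by
        show CfsgLib.Sp.sf _ _ = 0
        rw [CfsgLib.Sp.sf_add_left]; show Cfsg.sympForm m F z' v + Cfsg.sympForm m F x v = 0
        rw [hz'v, hxv', add_zero])] at h1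
      exact one_ne_zero (by linear_combination -h1)
    have h1 := hc y
    rw [stv_mulVec, hyv, mul_one, one_smul, hadd, hyv, hc1] at h1
    linear_combination h1
  let v : Fin m ⊕ Fin m → F := Pi.single (Sum.inl ⟨0, by omega⟩) 1
  let w : Fin m ⊕ Fin m → F := Pi.single (Sum.inl ⟨1, by omega⟩) 1
  have hv : v ≠ 0 := fun h => one_ne_zero (Pi.single_eq_zero_iff.1 h)
  have hw : w ≠ 0 := fun h => one_ne_zero (Pi.single_eq_zero_iff.1 h)
  have hvw : v + w ≠ 0 := fun h => by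
    have := congrFun h (Sum.inl ⟨0, by omega⟩)
    simp [v, w] at this
  have hf : Cfsg.sympForm m F v w = 0 := by
    show CfsgLib.Sp.sf v w = 0
    rw [CfsgLib.Sp.sf_single_inl]
    simp [v]
  have := hadd v w
  rw [key v hv, key w hw, key _ hvw, hf] at this
  exact one_ne_zero (by linear_combination this)

/-- `Sp` normalises no absolutely irreducible 2-group with centre of order two (odd characteristic) -/
theorem sp_not_le_normalizer (hm : 2 ≤ m) (hq : Odd (Fintype.card F)) {R : Subgroup (GL (Fin m ⊕ Fin m) F)}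
    (hS : R ≤ similarityGroup (Cfsg.sympForm m F)) (hR : IsPGroup 2 R) (hA : AbsIrr R) (hZ : Nat.card (Subgroup.center R) = 2) :
    ¬ Cfsg.spGL m F ≤ subgroupNormalizer R := by
  intro hle
  haveI : Nonempty (Fin m ⊕ Fin m) := ⟨Sum.inl ⟨0, by omega⟩⟩
  have htwo := two_ne_zero_of_odd hq
  set Z := scalars (Fin m ⊕ Fin m) F
  have hcenter : Subgroup.center R = Z.subgroupOf R := by
    ext x
    rw [Subgroup.mem_center_iff, Subgroup.mem_subgroupOf]
    exact ⟨fun h => hA.mem_scalars_of_commute fun y hy => congrArg Subtype.val (h ⟨y, hy⟩).symm,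
      fun h y => Subtype.ext (scalar_central h _).symm⟩
  have hpm : ∀ z ∈ R, z ∈ Z → (z : Matrix (Fin m ⊕ Fin m) (Fin m ⊕ Fin m) F) = 1 ∨
      (z : Matrix (Fin m ⊕ Fin m) (Fin m ⊕ Fin m) F) = -1 := by
    intro z hz hzZ
    have h2 : (⟨⟨z, hz⟩, hcenter ▸ hzZ⟩ : Subgroup.center R) ^ 2 = 1 := hZ ▸ pow_card_eq_one'
    obtain ⟨c, hc⟩ := mem_scalars.1 hzZ
    have h3 : (z : Matrix (Fin m ⊕ Fin m) (Fin m ⊕ Fin m) F) * z = 1 := by
      have := congrArg (fun y : Subgroup.center R => (((y : R) : GL (Fin m ⊕ Fin m) F) : Matrix (Fin m ⊕ Fin m) (Fin m ⊕ Fin m) F)) h2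
      simpa [pow_two] using this
    rw [hc, smul_mul_assoc, one_mul, smul_smul] at h3
    have h4 : (c : F) * c = 1 := by
      have := congrFun (congrFun h3 (Classical.arbitrary _)) (Classical.arbitrary _)
      simpa using this
    rcases mul_self_eq_one_iff.1 h4 with h | h <;> rw [hc, h] <;> simp
  -- a transvection moves every element by a map of rank at most two
  have hnotinv : ∀ (v : Fin m ⊕ Fin m → F) (x : Matrix (Fin m ⊕ Fin m) (Fin m ⊕ Fin m) F) (c : F), c ≠ 0 →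
      (cj (stv v 1) x - x) * (cj (stv v 1) x - x) ≠ c • (1 : Matrix (Fin m ⊕ Fin m) (Fin m ⊕ Fin m) F) := by
    intro v x c hc he
    set D := cj (stv v 1) x - x
    have hDrange : ∀ y, D *ᵥ y ∈ Submodule.span F {v, x *ᵥ v} := by
      intro y
      simp only [D]
      rw [sub_mulVec, cj, ← mulVec_mulVec, ← mulVec_mulVec, stv_inv_mulVec, stv_mulVec, mulVec_add, mulVec_smul]
      refine Submodule.mem_span_pair.2 ⟨1 * Cfsg.sympForm m F (x *ᵥ y + (-1 * Cfsg.sympForm m F y v) • x *ᵥ v) v,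
        -1 * Cfsg.sympForm m F y v, ?_⟩
      generalize 1 * Cfsg.sympForm m F (x *ᵥ y + (-1 * Cfsg.sympForm m F y v) • x *ᵥ v) v = a
      generalize -1 * Cfsg.sympForm m F y v = b
      abel
    have htop : (⊤ : Submodule F (Fin m ⊕ Fin m → F)) ≤ Submodule.span F {v, x *ᵥ v} := fun y _ => by
      have := hDrange (D *ᵥ (c⁻¹ • y))
      rwa [mulVec_mulVec, he, smul_mulVec, one_mulVec, smul_smul, mul_inv_cancel₀ hc, one_smul] at this
    have h1 := Submodule.finrank_mono htop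
    rw [finrank_top, Module.finrank_fintype_fun_eq_card, card_SI] at h1
    have h2 := finrank_span_finset_le_card (R := F) ({v, x *ᵥ v} : Finset (Fin m ⊕ Fin m → F))
    rw [Finset.coe_pair] at h2
    have h3 : ({v, x *ᵥ v} : Finset (Fin m ⊕ Fin m → F)).card ≤ 2 := Finset.card_le_two
    unfold Set.finrank at h2
    omega
  -- the elements commuting with all of `R` modulo scalars
  let T : Set (GL (Fin m ⊕ Fin m) F) := {x | x ∈ R ∧ ∀ y ∈ R, x * y * x⁻¹ * y⁻¹ ∈ Z}
  have hTn : ∀ g ∈ Cfsg.spGL m F, ∀ x ∈ T, g * x * g⁻¹ ∈ T := by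
    intro g hg x hx
    refine ⟨(hle hg x).1 hx.1, fun y hy => ?_⟩
    have hy' : g⁻¹ * y * g ∈ R := by simpa using (hle ((Cfsg.spGL m F).inv_mem hg) y).1 hy
    have := scalars_normal.conj_mem _ (hx.2 _ hy') g
    convert this using 1
    group
  have hTsq : ∀ x ∈ T, (x : Matrix (Fin m ⊕ Fin m) (Fin m ⊕ Fin m) F) * x = 1 ∨
      (x : Matrix (Fin m ⊕ Fin m) (Fin m ⊕ Fin m) F) * x = -1 := by
    intro x hx
    have h := hpm (x * x) (R.mul_mem hx.1 hx.1) (hA.mem_scalars_of_commute fun y hy => ?_)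
    · simpa only [Units.val_mul] using h
    set z := x * y * x⁻¹ * y⁻¹ with hz
    have hzR : z ∈ R := R.mul_mem (R.mul_mem (R.mul_mem hx.1 hy) (R.inv_mem hx.1)) (R.inv_mem hy)
    have hz2 : z * z = 1 := Units.ext (by
      rcases hpm z hzR (hx.2 y hy) with h | h <;> rw [Units.val_mul, h] <;> simp)
    have hc : ∀ w, z * w = w * z := fun w => scalar_central (hx.2 y hy) w
    have e : x * y = z * (y * x) := by rw [hz]; group
    calc x * x * y = x * (z * (y * x)) := by rw [mul_assoc, e]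
      _ = z * (x * y) * x := by rw [← mul_assoc, ← hc x]; group
      _ = z * z * (y * (x * x)) := by rw [e]; group
      _ = _ := by rw [hz2, one_mul]
  have hinvol : ∀ z ∈ T, z ∈ Cfsg.spGL m F → (z : Matrix (Fin m ⊕ Fin m) (Fin m ⊕ Fin m) F) * z = 1 → z ∈ Z := by
    intro z hz hzI hz2
    rw [spGL_eq] at hzI
    have hzinv : z⁻¹ = z := inv_eq_of_mul_eq_one_right (Units.ext (by rw [Units.val_mul, hz2, Units.val_one]))
    have hself : ∀ u w, Cfsg.sympForm m F ((z : Matrix (Fin m ⊕ Fin m) (Fin m ⊕ Fin m) F) *ᵥ u) w = Cfsg.sympForm m F u ((z : Matrix (Fin m ⊕ Fin m) (Fin m ⊕ Fin m) F) *ᵥ w) := by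
      intro u w
      rw [sympForm_eq, refl_J.adj_spec, refl_J.adj_mem_iff.1 hzI, hzinv]
    have hperp : ∀ u, Cfsg.sympForm m F u ((z : Matrix (Fin m ⊕ Fin m) (Fin m ⊕ Fin m) F) *ᵥ u) = 0 := by
      intro u
      have h1 := hself u u
      rw [sympForm_eq] at h1 ⊢
      rw [symp_skew ((z : Matrix (Fin m ⊕ Fin m) (Fin m ⊕ Fin m) F) *ᵥ u)] at h1
      exact (mul_eq_zero.1 (show (2 : F) * gform (RingHom.id F) (Matrix.J (Fin m) F) u ((z : Matrix (Fin m ⊕ Fin m) (Fin m ⊕ Fin m) F) *ᵥ u) = 0 by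
        linear_combination -h1)).resolve_left htwo
    refine hA.mem_scalars_of_commute fun y hy => ?_
    obtain ⟨c, hc⟩ := CfsgLib.Sp.eq_smul_of_forall_eigen (f := Matrix.toLin' (z : Matrix (Fin m ⊕ Fin m) (Fin m ⊕ Fin m) F))
      (by omega) (fun u => by
      rcases eq_or_ne u 0 with rfl | hu
      · exact ⟨0, by simp⟩
      set g := stv u (1 : F)
      set w := g * z * g⁻¹ with hw
      have hwT := hTn g (stv_mem u 1) z hz
      have hwmat : (w : Matrix (Fin m ⊕ Fin m) (Fin m ⊕ Fin m) F) = cj g (z : Matrix (Fin m ⊕ Fin m) (Fin m ⊕ Fin m) F) := (cj_coe _ _).symm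
      have hw2 : (w : Matrix (Fin m ⊕ Fin m) (Fin m ⊕ Fin m) F) * w = 1 := by
        rw [hwmat, ← cj_mul, hz2, cj_one]
      have hcomm : (w : Matrix (Fin m ⊕ Fin m) (Fin m ⊕ Fin m) F) * z = z * w := by
        obtain ⟨c, hc⟩ := mem_scalars.1 (hwT.2 z hz.1)
        have hzR : w * z * w⁻¹ * z⁻¹ ∈ R := R.mul_mem (R.mul_mem (R.mul_mem hwT.1 hz.1) (R.inv_mem hwT.1)) (R.inv_mem hz.1)
        have hwz : (w : Matrix (Fin m ⊕ Fin m) (Fin m ⊕ Fin m) F) * z =
            ((w * z * w⁻¹ * z⁻¹ : GL (Fin m ⊕ Fin m) F) : Matrix (Fin m ⊕ Fin m) (Fin m ⊕ Fin m) F) * ((z : Matrix (Fin m ⊕ Fin m) (Fin m ⊕ Fin m) F) * w) := by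
          rw [← Units.val_mul, ← Units.val_mul, ← Units.val_mul]; congr 1; group
        rcases hpm _ hzR (hwT.2 z hz.1) with h | h <;> rw [h] at hwz
        · rwa [one_mul] at hwz
        · exfalso
          refine hnotinv u (z : Matrix (Fin m ⊕ Fin m) (Fin m ⊕ Fin m) F) 2 htwo ?_
          rw [← hwmat, sub_mul, mul_sub, mul_sub, hw2, hz2, hwz, neg_one_mul]
          rw [show ((1 : Matrix (Fin m ⊕ Fin m) (Fin m ⊕ Fin m) F) - -((z : Matrix (Fin m ⊕ Fin m) (Fin m ⊕ Fin m) F) * w)) - ((z : Matrix (Fin m ⊕ Fin m) (Fin m ⊕ Fin m) F) * w - 1) = 1 + 1 by abel,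
            two_smul]
      -- `w z` is a unipotent involution
      set D := (w : Matrix (Fin m ⊕ Fin m) (Fin m ⊕ Fin m) F) * z - 1 with hD
      have hDx : ∀ y, D *ᵥ y = Cfsg.sympForm m F y u • u - Cfsg.sympForm m F ((z : Matrix (Fin m ⊕ Fin m) (Fin m ⊕ Fin m) F) *ᵥ y) u • ((z : Matrix (Fin m ⊕ Fin m) (Fin m ⊕ Fin m) F) *ᵥ u) := by
        intro y
        rw [hD, sub_mulVec, one_mulVec, hwmat, cj, ← mulVec_mulVec, ← mulVec_mulVec, ← mulVec_mulVec, stv_inv_mulVec,
          stv_mulVec, mulVec_add, mulVec_smul, mulVec_mulVec, hz2, one_mulVec]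
        rw [sympForm_eq, gform_add_left, gform_smul_left, ← sympForm_eq]
        have : Cfsg.sympForm m F ((z : Matrix (Fin m ⊕ Fin m) (Fin m ⊕ Fin m) F) *ᵥ u) u = 0 := by rw [hself, hperp]
        rw [this, mul_zero, add_zero, one_mul, neg_one_mul, neg_smul]
        abel
      have hD2 : D * D = 0 := by
        refine Matrix.ext_iff_mulVec.2 fun y => ?_
        rw [← mulVec_mulVec, zero_mulVec, hDx (D *ᵥ y), hDx y]
        have e1 : Cfsg.sympForm m F u u = 0 := CfsgLib.Sp.sf_self u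
        have e2 : Cfsg.sympForm m F ((z : Matrix (Fin m ⊕ Fin m) (Fin m ⊕ Fin m) F) *ᵥ u) u = 0 := by rw [hself, hperp]
        simp only [mulVec_sub, mulVec_smul, mulVec_mulVec, hz2, one_mulVec]
        simp only [sympForm_eq, sub_eq_add_neg, ← neg_smul, gform_add_left, gform_smul_left] at e1 e2 ⊢
        simp [e1, e2]
      have hD0 : D = 0 := by
        have h1 : (1 + D) * (1 + D) = 1 := by
          rw [hD, add_sub_cancel, mul_assoc, ← mul_assoc (z : Matrix (Fin m ⊕ Fin m) (Fin m ⊕ Fin m) F), ← hcomm, mul_assoc, hz2, mul_one, hw2]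
        rw [add_mul, one_mul, mul_add, mul_one, hD2, add_zero, add_assoc] at h1
        have h2 : (2 : F) • D = 0 := by rw [two_smul]; exact add_left_cancel (h1.trans (add_zero 1).symm)
        exact (smul_eq_zero.1 h2).resolve_left htwo
      obtain ⟨y, hy⟩ := CfsgLib.Sp.exists_sf_eq_one hu
      have hyu : Cfsg.sympForm m F y u = 1 := hy
      have e := hDx y
      rw [hD0, zero_mulVec, hyu, one_smul, eq_comm, sub_eq_zero] at e
      set s := Cfsg.sympForm m F ((z : Matrix (Fin m ⊕ Fin m) (Fin m ⊕ Fin m) F) *ᵥ y) u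
      have hs : s ≠ 0 := fun h => hu (by rw [e, h, zero_smul])
      exact ⟨s⁻¹, by rw [Matrix.toLin'_apply]; conv_rhs => rw [e, smul_smul, inv_mul_cancel₀ hs, one_smul]⟩)
    apply Units.ext
    rw [Units.val_mul, Units.val_mul]
    have hzc : (z : Matrix (Fin m ⊕ Fin m) (Fin m ⊕ Fin m) F) = c • 1 := Matrix.ext_iff_mulVec.2 fun v => by
      rw [← Matrix.toLin'_apply, hc, Matrix.smul_mulVec, Matrix.one_mulVec]
    rw [hzc, smul_mul_assoc, one_mul, mul_smul_comm, mul_one]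
  -- a non-scalar element of `T`
  obtain ⟨x, hxT, hxZ⟩ : ∃ x ∈ T, x ∉ Z := by
    haveI : Fact (Nat.Prime 2) := ⟨Nat.prime_two⟩
    haveI : Nontrivial (R ⧸ Subgroup.center R) := by
      by_contra hn
      rw [not_nontrivial_iff_subsingleton] at hn
      obtain ⟨i, j, hij⟩ : ∃ i j : Fin m ⊕ Fin m, i ≠ j := ⟨Sum.inl ⟨0, by omega⟩, Sum.inr ⟨0, by omega⟩, by simp⟩
      obtain ⟨c, hc⟩ := hA.scalar_of_commute (M := Matrix.single i j (1 : F)) (fun y hy => by
        obtain ⟨d, hd⟩ := mem_scalars.1 (Subgroup.mem_subgroupOf.1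
          (hcenter ▸ (QuotientGroup.eq_one_iff _).1 (Subsingleton.elim ((⟨y, hy⟩ : R) : R ⧸ Subgroup.center R) 1)))
        have hd' : (y : Matrix (Fin m ⊕ Fin m) (Fin m ⊕ Fin m) F) = (d : F) • 1 := hd
        rw [hd', mul_smul_comm, smul_mul_assoc, mul_one, one_mul])
      have := congrFun (congrFun hc i) j
      simp [hij] at this
    haveI : Nontrivial (Subgroup.center (R ⧸ Subgroup.center R)) := (hR.to_quotient _).center_nontrivial
    obtain ⟨⟨q, hq'⟩, hq1⟩ := exists_ne (1 : Subgroup.center (R ⧸ Subgroup.center R))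
    induction q using QuotientGroup.induction_on with
    | _ x =>
      refine ⟨x, ⟨x.2, fun y hy => ?_⟩, fun h => hq1 (Subtype.ext ?_)⟩
      · have h1 := Subgroup.mem_center_iff.1 hq' ((⟨y, hy⟩ : R) : R ⧸ Subgroup.center R)
        rw [← QuotientGroup.mk_mul, ← QuotientGroup.mk_mul, QuotientGroup.eq] at h1
        rw [hcenter, Subgroup.mem_subgroupOf] at h1
        have h2 := scalars_normal.conj_mem _ h1 (y * (x : GL (Fin m ⊕ Fin m) F))
        convert h2 using 1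
        simp only [Subgroup.coe_mul, InvMemClass.coe_inv]
        group
      · show ((x : R) : R ⧸ Subgroup.center R) = 1
        rw [QuotientGroup.eq_one_iff, hcenter, Subgroup.mem_subgroupOf]
        exact h
  refine hxZ ?_
  obtain ⟨c, hc0, hxx⟩ : ∃ c : F, c ≠ 0 ∧ (x : Matrix (Fin m ⊕ Fin m) (Fin m ⊕ Fin m) F) * x = c • 1 := by
    rcases hTsq x hxT with h | h
    · exact ⟨1, one_ne_zero, by rw [h, one_smul]⟩
    · exact ⟨-1, neg_ne_zero.2 one_ne_zero, by rw [h, neg_smul, one_smul]⟩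
  have hfix : ∀ u, cj (stv u (1 : F)) (x : Matrix (Fin m ⊕ Fin m) (Fin m ⊕ Fin m) F) = x := by
    intro u
    set g := stv u (1 : F)
    set y := g * x * g⁻¹ with hy
    have hyT := hTn g (stv_mem u 1) x hxT
    have hymat : (y : Matrix (Fin m ⊕ Fin m) (Fin m ⊕ Fin m) F) = cj g (x : Matrix (Fin m ⊕ Fin m) (Fin m ⊕ Fin m) F) := (cj_coe _ _).symm
    have hyy : (y : Matrix (Fin m ⊕ Fin m) (Fin m ⊕ Fin m) F) * y = c • 1 := by
      rw [hymat, ← cj_mul, hxx, cj_smul, cj_one]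
    have hcR : y * x * y⁻¹ * x⁻¹ ∈ R :=
      R.mul_mem (R.mul_mem (R.mul_mem hyT.1 hxT.1) (R.inv_mem hyT.1)) (R.inv_mem hxT.1)
    have hyx : (y : Matrix (Fin m ⊕ Fin m) (Fin m ⊕ Fin m) F) * x =
        ((y * x * y⁻¹ * x⁻¹ : GL (Fin m ⊕ Fin m) F) : Matrix (Fin m ⊕ Fin m) (Fin m ⊕ Fin m) F) * ((x : Matrix (Fin m ⊕ Fin m) (Fin m ⊕ Fin m) F) * y) := by
      rw [← Units.val_mul, ← Units.val_mul, ← Units.val_mul]; congr 1; group
    have hcomm : (y : Matrix (Fin m ⊕ Fin m) (Fin m ⊕ Fin m) F) * x = (x : Matrix (Fin m ⊕ Fin m) (Fin m ⊕ Fin m) F) * y := by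
      rcases hpm _ hcR (hyT.2 x hxT.1) with h | h <;> rw [h] at hyx
      · rwa [one_mul] at hyx
      · exfalso
        refine hnotinv u (x : Matrix (Fin m ⊕ Fin m) (Fin m ⊕ Fin m) F) (c + c) (by rw [← two_mul]; exact mul_ne_zero htwo hc0) ?_
        rw [← hymat, sub_mul, mul_sub, mul_sub, hyy, hxx, hyx, neg_one_mul, add_smul]
        abel
    set z := y * x⁻¹ with hz
    have hcomm' : y * x = x * y := Units.ext ((Units.val_mul y x).trans (hcomm.trans (Units.val_mul x y).symm))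
    have hzT : z ∈ T := by
      refine ⟨R.mul_mem hyT.1 (R.inv_mem hxT.1), fun r hr => ?_⟩
      have h1 : y * r * y⁻¹ * r⁻¹ ∈ Z := hyT.2 r hr
      have h2 : x⁻¹ * r * x * r⁻¹ ∈ Z := by
        have := scalars_normal.conj_mem _ (Z.inv_mem (hxT.2 r hr)) x⁻¹
        convert this using 1
        group
      have h3 := Z.mul_mem (scalars_normal.conj_mem _ h2 y) h1
      convert h3 using 1
      rw [hz]; group
    have hz2 : (z : Matrix (Fin m ⊕ Fin m) (Fin m ⊕ Fin m) F) * z = 1 := by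
      have hsq : y * y = x * x := Units.ext ((Units.val_mul y y).trans (hyy.trans (hxx.symm.trans (Units.val_mul x x).symm)))
      rw [← Units.val_mul, show z * z = 1 from ?_, Units.val_one]
      have hc' : x⁻¹ * y = y * x⁻¹ := by rw [inv_mul_eq_iff_eq_mul, ← mul_assoc, ← hcomm']; group
      calc z * z = y * (x⁻¹ * y) * x⁻¹ := by rw [hz]; group
        _ = (y * y) * (x * x)⁻¹ := by rw [hc']; group
        _ = 1 := by rw [hsq, mul_inv_cancel]
    have hzI : z ∈ Cfsg.spGL m F := by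
      obtain ⟨μ, hμ⟩ := hS hxT.1
      have hconj : x * g⁻¹ * x⁻¹ ∈ Cfsg.spGL m F := by
        rw [spGL_eq, mem_iso_iff]
        intro v w
        have hg := mem_iso_iff.1 ((spGL_eq (F := F) (m := m) ▸ (Cfsg.spGL m F).inv_mem (stv_mem u 1)) : g⁻¹ ∈ iso (RingHom.id F) (Matrix.J (Fin m) F))
        have h1 := hμ (((g⁻¹ : GL (Fin m ⊕ Fin m) F) : Matrix (Fin m ⊕ Fin m) (Fin m ⊕ Fin m) F) *ᵥ (((x⁻¹ : GL (Fin m ⊕ Fin m) F) : Matrix (Fin m ⊕ Fin m) (Fin m ⊕ Fin m) F) *ᵥ v))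
          (((g⁻¹ : GL (Fin m ⊕ Fin m) F) : Matrix (Fin m ⊕ Fin m) (Fin m ⊕ Fin m) F) *ᵥ (((x⁻¹ : GL (Fin m ⊕ Fin m) F) : Matrix (Fin m ⊕ Fin m) (Fin m ⊕ Fin m) F) *ᵥ w))
        rw [sympForm_eq] at h1
        rw [hg] at h1
        have h2 := hμ (((x⁻¹ : GL (Fin m ⊕ Fin m) F) : Matrix (Fin m ⊕ Fin m) (Fin m ⊕ Fin m) F) *ᵥ v) (((x⁻¹ : GL (Fin m ⊕ Fin m) F) : Matrix (Fin m ⊕ Fin m) (Fin m ⊕ Fin m) F) *ᵥ w)
        rw [mulVec_mulVec, mulVec_mulVec, gl_mul_inv, one_mulVec, one_mulVec, sympForm_eq] at h2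
        simp only [Units.val_mul, ← mulVec_mulVec]
        rw [h1, ← h2]
      rw [hz, hy, show g * x * g⁻¹ * x⁻¹ = g * (x * g⁻¹ * x⁻¹) by group]
      exact (Cfsg.spGL m F).mul_mem (stv_mem u 1) hconj
    have hzc := hinvol z hzT hzI hz2
    have hzmat : (y : Matrix (Fin m ⊕ Fin m) (Fin m ⊕ Fin m) F) = (z : Matrix (Fin m ⊕ Fin m) (Fin m ⊕ Fin m) F) * x := by
      rw [← Units.val_mul, hz, inv_mul_cancel_right]
    rw [← hymat]
    rcases hpm z hzT.1 hzc with h | h <;> rw [h] at hzmat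
    · rwa [one_mul] at hzmat
    · exfalso
      rw [neg_one_mul] at hzmat
      refine hnotinv u (x : Matrix (Fin m ⊕ Fin m) (Fin m ⊕ Fin m) F) (c + c + c + c) ?_ ?_
      · rw [show c + c + c + c = (2 * 2) * c by ring]; exact mul_ne_zero (mul_ne_zero htwo htwo) hc0
      · rw [← hymat, hzmat, sub_mul, mul_sub, mul_sub, neg_mul_neg, neg_mul, mul_neg, hxx, add_smul, add_smul, add_smul]
        abel
  obtain ⟨d, hd⟩ := CfsgLib.Sp.eq_smul_of_forall_eigen (f := Matrix.toLin' (x : Matrix (Fin m ⊕ Fin m) (Fin m ⊕ Fin m) F))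
    (by omega) (fun u => by
      rcases eq_or_ne u 0 with rfl | hu
      · exact ⟨0, by simp⟩
      obtain ⟨w, hw⟩ := CfsgLib.Sp.exists_sf_eq_one hu
      have hwu : Cfsg.sympForm m F w u = 1 := hw
      have h1 : (stv u (1 : F) : Matrix (Fin m ⊕ Fin m) (Fin m ⊕ Fin m) F) * (x : Matrix (Fin m ⊕ Fin m) (Fin m ⊕ Fin m) F) = (x : Matrix (Fin m ⊕ Fin m) (Fin m ⊕ Fin m) F) * (stv u (1 : F) : Matrix (Fin m ⊕ Fin m) (Fin m ⊕ Fin m) F) := by
        conv_rhs => rw [← hfix u, cj, mul_assoc, gl_inv_mul, mul_one]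
      have h2 := congrArg (· *ᵥ w) h1
      simp only [← mulVec_mulVec, stv_mulVec, hwu, mul_one, one_mul, one_smul, mulVec_add, add_right_inj] at h2
      exact ⟨_, by rw [Matrix.toLin'_apply]; exact h2.symm⟩)
  exact mem_scalars_of_eq (c := d) (Matrix.ext_iff_mulVec.2 fun v => by
    rw [← Matrix.toLin'_apply, hd, Matrix.smul_mulVec, Matrix.one_mulVec])

end CfsgLib.Perm.Asch
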