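import Cfsg.Agent.Lib.Perm.Asch.Forms.O
import Cfsg.Agent.Lib.Perm.Asch.Forms.SpProper

/-!
# No member of a geometric class contains `Ω` in odd dimension
-/

set_option autoImplicit false
set_option linter.all false

namespace CfsgLib.Perm.Asch

open scoped Classical Matrix commutatorElement
open Matrix Cfsg.Geo

variable {F : Type*} [Field F] {m : ℕ}

/-- the standard bilinear form -/
def oB (m : ℕ) (F : Type*) [Field F] (x y : OI m → F) : F := gform (RingHom.id F) (oG m F) x y

theorem oB_comm (x y : OI m → F) : oB m F x y = oB m F y x := oPolar_symm x y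

theorem oB_add_left (x y z : OI m → F) : oB m F (x + y) z = oB m F x z + oB m F y z := gform_add_left _ _ _ _ _

theorem oB_add_right (x y z : OI m → F) : oB m F z (x + y) = oB m F z x + oB m F z y := gform_add_right _ _ _ _ _

theorem oB_smul_left (c : F) (x z : OI m → F) : oB m F (c • x) z = c * oB m F x z := gform_smul_left _ _ _ _ _

theorem oB_smul_right (c : F) (x z : OI m → F) : oB m F z (c • x) = c * oB m F z x := gform_smul_right _ _ _ _ _

theorem oB_sub_left (x y z : OI m → F) : oB m F (x - y) z = oB m F x z - oB m F y z := by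
  rw [sub_eq_add_neg, ← neg_one_smul F y, oB_add_left, oB_smul_left]; ring

theorem oB_sub_right (x y z : OI m → F) : oB m F z (x - y) = oB m F z x - oB m F z y := by
  rw [sub_eq_add_neg, ← neg_one_smul F y, oB_add_right, oB_smul_right]; ring

theorem oB_self (x : OI m → F) : oB m F x x = 2 * Cfsg.quadFormOdd m F x := oPolar_self x

theorem oB_dot (x u : OI m → F) : (oG m F *ᵥ u) ⬝ᵥ x = oB m F x u := by
  rw [oB, gform, dotProduct_comm]; rfl

/-- the matrix of an Eichler transformation -/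
def eichMat (u a : OI m → F) : Matrix (OI m) (OI m) F :=
  1 + vecMulVec a (oG m F *ᵥ u) - vecMulVec u (oG m F *ᵥ a) -
    Cfsg.quadFormOdd m F a • vecMulVec u (oG m F *ᵥ u)

theorem eichMat_mulVec (u a x : OI m → F) : eichMat u a *ᵥ x =
    x + oB m F x u • a - oB m F x a • u - (Cfsg.quadFormOdd m F a * oB m F x u) • u := by
  simp only [eichMat, sub_mulVec, add_mulVec, one_mulVec, smul_mulVec, vecMulVec_mulVec, op_smul_eq_smul, oB_dot,
    smul_smul]

theorem quad_neg (a : OI m → F) : Cfsg.quadFormOdd m F (-a) = Cfsg.quadFormOdd m F a := by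
  simp [Cfsg.quadFormOdd]

theorem eichMat_mul_neg (h2 : (2 : F) ≠ 0) {u a : OI m → F} (hu : oB m F u u = 0) (ha : oB m F u a = 0) :
    eichMat u a * eichMat u (-a) = 1 := by
  refine Matrix.toLin'.injective (LinearMap.ext fun x => ?_)
  have hau : oB m F a u = 0 := by rw [oB_comm, ha]
  have hneg : oB m F x (-a) = - oB m F x a := by rw [← neg_one_smul F a, oB_smul_right, neg_one_mul]
  rw [Matrix.toLin'_apply, Matrix.toLin'_one, LinearMap.id_apply, ← mulVec_mulVec, eichMat_mulVec,
    eichMat_mulVec]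
  rw [hneg, quad_neg]
  simp only [oB_add_left, oB_sub_left, oB_smul_left, ← neg_one_smul F a, hu, ha, hau, oB_self a, mul_zero, add_zero,
    sub_zero, smul_smul]
  module

/-- the Eichler transformation -/
def eich (h2 : (2 : F) ≠ 0) {u a : OI m → F} (hu : oB m F u u = 0) (ha : oB m F u a = 0) : GL (OI m) F where
  val := eichMat u a
  inv := eichMat u (-a)
  val_inv := eichMat_mul_neg h2 hu ha
  inv_val := by
    have := eichMat_mul_neg h2 (a := -a) hu (by rw [← neg_one_smul F a, oB_smul_right, ha, mul_zero])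
    rwa [neg_neg] at this

theorem eich_mem (h2 : (2 : F) ≠ 0) {u a : OI m → F} (hu : oB m F u u = 0) (ha : oB m F u a = 0) :
    eich h2 hu ha ∈ Cfsg.isometryGroup F (Cfsg.quadFormOdd m F) := by
  rw [oIso_eq h2, mem_iso_iff]
  intro x y
  show oB m F (eichMat u a *ᵥ x) (eichMat u a *ᵥ y) = oB m F x y
  have hau : oB m F a u = 0 := by rw [oB_comm, ha]
  simp only [eichMat_mulVec, oB_add_left, oB_sub_left, oB_smul_left, oB_add_right, oB_sub_right, oB_smul_right, hu, ha,
    hau, oB_self a, oB_comm u y, oB_comm a y]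
  ring

theorem exists_partner (h2 : (2 : F) ≠ 0) {u : OI m → F} (hu0 : u ≠ 0) (hu : oB m F u u = 0) [Fintype F] :
    ∃ u', oB m F u u' = 1 ∧ oB m F u' u' = 0 := by
  obtain ⟨w, hw⟩ : ∃ w, oB m F u w ≠ 0 := by
    by_contra hcon
    push Not at hcon
    exact hu0 ((refl_oG h2).eq_zero_of_forall_left fun x => by
      show oB m F x u = 0
      rw [oB_comm]; exact hcon x)
  obtain ⟨w', h1⟩ : ∃ w', oB m F u w' = 1 :=
    ⟨(oB m F u w)⁻¹ • w, by rw [oB_smul_right, inv_mul_cancel₀ hw]⟩
  refine ⟨w' - Cfsg.quadFormOdd m F w' • u, ?_, ?_⟩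
  · rw [oB_sub_right, oB_smul_right, hu, h1, mul_zero, sub_zero]
  · simp only [oB_sub_left, oB_sub_right, oB_smul_left, oB_smul_right, hu, oB_comm w' u, h1, oB_self w']
    ring

theorem eich_mem_omega [Fintype F] (h2 : (2 : F) ≠ 0) {u a : OI m → F} (hu : oB m F u u = 0) (ha : oB m F u a = 0) :
    ∃ g ∈ omegaGL (Cfsg.quadFormOdd m F), (g : Matrix (OI m) (OI m) F) = eichMat u a := by
  rcases eq_or_ne u 0 with rfl | hu0
  · refine ⟨1, one_mem _, ?_⟩
    simp [eichMat, Matrix.mulVec_zero, show ∀ v : OI m → F, vecMulVec v (0 : OI m → F) = 0 from fun v => by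
      ext i j; simp [vecMulVec_apply], show ∀ v : OI m → F, vecMulVec (0 : OI m → F) v = 0 from fun v => by
      ext i j; simp [vecMulVec_apply]]
  obtain ⟨u', h1, h1'⟩ := exists_partner h2 hu0 hu
  -- the sign change on the hyperbolic pair
  set dM : Matrix (OI m) (OI m) F :=
    1 - (2 : F) • vecMulVec u (oG m F *ᵥ u') - (2 : F) • vecMulVec u' (oG m F *ᵥ u) with hdM
  have hd : ∀ x, dM *ᵥ x = x - (2 * oB m F x u') • u - (2 * oB m F x u) • u' := fun x => by
    simp only [hdM, sub_mulVec, one_mulVec, smul_mulVec, vecMulVec_mulVec, op_smul_eq_smul, oB_dot, smul_smul]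
  have h1c : oB m F u' u = 1 := by rw [oB_comm, h1]
  have hdd : dM * dM = 1 := Matrix.toLin'.injective (LinearMap.ext fun x => by
    rw [Matrix.toLin'_apply, Matrix.toLin'_one, LinearMap.id_apply, ← mulVec_mulVec, hd, hd]
    simp only [oB_sub_left, oB_smul_left, hu, h1, h1', h1c]
    module)
  let d : GL (OI m) F := ⟨dM, dM, hdd, hdd⟩
  have hdI : d ∈ Cfsg.isometryGroup F (Cfsg.quadFormOdd m F) := by
    rw [oIso_eq h2, mem_iso_iff]
    intro x y
    show oB m F (dM *ᵥ x) (dM *ᵥ y) = oB m F x y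
    simp only [hd, oB_sub_left, oB_smul_left, oB_sub_right, oB_smul_right, hu, h1, h1', h1c, oB_comm u y,
      oB_comm u' y]
    ring
  -- move `a` into the orthogonal complement of the pair
  set a' := a - oB m F a u' • u
  set b := (-(2 : F)⁻¹) • a'
  have hb : oB m F u b = 0 := by simp only [b, a', oB_smul_right, oB_sub_right, hu, ha]; ring
  have hbu' : oB m F b u' = 0 := by simp only [b, a', oB_smul_left, oB_sub_left, h1]; ring
  let E : GL (OI m) F := eich h2 hu hb
  have hmem : ∀ g ∈ Cfsg.isometryGroup F (Cfsg.quadFormOdd m F), ∀ h ∈ Cfsg.isometryGroup F (Cfsg.quadFormOdd m F),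
      g * h * g⁻¹ * h⁻¹ ∈ omegaGL (Cfsg.quadFormOdd m F) := fun g hg h hh =>
    Subgroup.mem_map.2 ⟨⁅(⟨g, hg⟩ : Cfsg.isometryGroup F (Cfsg.quadFormOdd m F)), ⟨h, hh⟩⁆,
      Subgroup.commutator_mem_commutator (Subgroup.mem_top _) (Subgroup.mem_top _), rfl⟩
  refine ⟨d * E * d⁻¹ * E⁻¹, hmem d hdI E (eich_mem h2 hu hb), ?_⟩
  refine Matrix.toLin'.injective (LinearMap.ext fun x => ?_)
  rw [Matrix.toLin'_apply, Matrix.toLin'_apply]
  show (dM * eichMat u b * dM * eichMat u (-b)) *ᵥ x = eichMat u a *ᵥ x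
  have hbu : oB m F b u = 0 := by rw [oB_comm, hb]
  have hnegb : oB m F x (-b) = - oB m F x b := by rw [← neg_one_smul F b, oB_smul_right, neg_one_mul]
  have hu'b : oB m F u' b = 0 := by rw [oB_comm, hbu']
  rw [← mulVec_mulVec, ← mulVec_mulVec, ← mulVec_mulVec, eichMat_mulVec u (-b), hd, eichMat_mulVec, hd]
  rw [hnegb, quad_neg]
  simp only [oB_add_left, oB_sub_left, oB_smul_left, ← neg_one_smul F b, hu, hb, hbu, h1, h1', h1c, hbu', hu'b,
    oB_self b, mul_zero, add_zero, sub_zero, smul_smul]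
  have hQ : 4 * Cfsg.quadFormOdd m F b = Cfsg.quadFormOdd m F a := by
    refine mul_left_cancel₀ h2 ?_
    rw [← oB_self a, show 2 * (4 * Cfsg.quadFormOdd m F b) = 4 * oB m F b b by rw [oB_self]; ring]
    simp only [b, a', oB_smul_left, oB_smul_right, oB_sub_left, oB_sub_right, hu, ha,
      show oB m F a u = 0 by rw [oB_comm, ha]]
    field_simp
    ring
  have hxb : 2 * oB m F x b = - oB m F x a + oB m F a u' * oB m F x u := by
    simp only [b, a', oB_smul_right, oB_sub_right]
    field_simp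
    ring
  rw [eichMat_mulVec, ← hQ, show oB m F x a = oB m F a u' * oB m F x u - 2 * oB m F x b by rw [hxb]; ring]
  simp only [b, a', smul_sub, smul_smul]
  match_scalars <;> field_simp <;> ring

/-- invariance under all Eichler transformations -/
def EichInv (S : Set (OI m → F)) : Prop :=
  ∀ u a : OI m → F, oB m F u u = 0 → oB m F u a = 0 → ∀ x ∈ S, eichMat u a *ᵥ x ∈ S

theorem eichInv_of_le [Fintype F] (h2 : (2 : F) ≠ 0) {X : Subgroup (GL (OI m) F)}
    (hle : omegaGL (Cfsg.quadFormOdd m F) ≤ X) {S : Set (OI m → F)}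
    (hS : ∀ g ∈ X, ∀ x ∈ S, (g : Matrix (OI m) (OI m) F) *ᵥ x ∈ S) : EichInv S := fun u a hu ha x hx => by
  obtain ⟨g, hg, hge⟩ := eich_mem_omega h2 hu ha
  rw [← hge]
  exact hS g (hle hg) x hx

theorem exists_singular_pairing (hm : 0 < m) (h2 : (2 : F) ≠ 0) {v : OI m → F} (hv : v ≠ 0) :
    ∃ u, oB m F u u = 0 ∧ oB m F v u ≠ 0 := by
  by_contra hcon
  push Not at hcon
  have hQ : ∀ u : OI m → F, Cfsg.quadFormOdd m F u = 0 → oB m F v u = 0 := fun u hu =>
    hcon u (by rw [oB_self, hu, mul_zero])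
  have hBe : ∀ u : OI m → F, oB m F v u = 2 * (v (Sum.inl ()) * u (Sum.inl ())) +
      ∑ i : Fin m, (v (Sum.inr (Sum.inl i)) * u (Sum.inr (Sum.inr i)) +
        v (Sum.inr (Sum.inr i)) * u (Sum.inr (Sum.inl i))) := fun u => by
    rw [oB, ← oPolar_eq, oPolar_apply]
  have hf : ∀ i, v (Sum.inr (Sum.inl i)) = 0 := fun i => by
    have := hQ (Pi.single (Sum.inr (Sum.inr i)) 1) (by simp [Cfsg.quadFormOdd, Pi.single_apply])
    rw [hBe] at this
    simpa [Pi.single_apply] using this
  have he : ∀ i, v (Sum.inr (Sum.inr i)) = 0 := fun i => by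
    have := hQ (Pi.single (Sum.inr (Sum.inl i)) 1) (by simp [Cfsg.quadFormOdd, Pi.single_apply])
    rw [hBe] at this
    simpa [Pi.single_apply] using this
  have h0 : v (Sum.inl ()) = 0 := by
    let i : Fin m := ⟨0, hm⟩
    have := hQ (Pi.single (Sum.inl ()) 1 + Pi.single (Sum.inr (Sum.inl i)) 1 - Pi.single (Sum.inr (Sum.inr i)) 1) (by
      simp [Cfsg.quadFormOdd, Pi.single_apply])
    rw [hBe] at this
    simp [hf, he] at this
    exact this.resolve_left h2
  exact hv (funext fun x => by rcases x with ⟨⟩ | i | i <;> simp [h0, hf, he])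

theorem perp_line_finrank [Fintype F] (h2 : (2 : F) ≠ 0) {u : OI m → F} (hu : u ≠ 0) :
    Module.finrank F (perp (RingHom.id F) (oG m F) (Submodule.span F {u})) = 2 * m := by
  have := (refl_oG h2).perp_finrank (Submodule.span F {u})
  rw [finrank_span_singleton hu, card_OI] at this
  omega

theorem mem_perp_line {u x : OI m → F} :
    x ∈ perp (RingHom.id F) (oG m F) (Submodule.span F {u}) ↔ oB m F u x = 0 := by
  constructor
  · intro h; rw [oB_comm]; exact h u (Submodule.mem_span_singleton_self u)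
  · intro h w hw
    obtain ⟨c, rfl⟩ := Submodule.mem_span_singleton.1 hw
    show oB m F x (c • u) = 0
    rw [oB_smul_right, oB_comm, h, mul_zero]

theorem exists_nonsingular_perp [Fintype F] (hm : 2 ≤ m) (h2 : (2 : F) ≠ 0) {u : OI m → F} (hu : u ≠ 0) :
    ∃ a, oB m F u a = 0 ∧ Cfsg.quadFormOdd m F a ≠ 0 := by
  by_contra hcon
  push Not at hcon
  set W := perp (RingHom.id F) (oG m F) (Submodule.span F {u}) with hW
  have hle : W ≤ perp (RingHom.id F) (oG m F) W := by
    intro x hx y hy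
    show oB m F x y = 0
    rw [mem_perp_line] at hx hy
    have h1 := hcon (y + x) (by rw [oB_add_right, hx, hy, add_zero])
    have h3 : oB m F (y + x) (y + x) = 0 := by rw [oB_self, h1, mul_zero]
    rw [oB_add_left, oB_add_right, oB_add_right, oB_self y, oB_self x, hcon y hy, hcon x hx, oB_comm x y] at h3
    refine mul_left_cancel₀ h2 ?_
    rw [oB_comm x y]
    linear_combination h3
  have h1 := Submodule.finrank_mono hle
  have h3 := (refl_oG h2).perp_finrank W
  rw [card_OI, perp_line_finrank h2 hu] at h3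
  rw [perp_line_finrank h2 hu] at h1
  omega

/-- `Ω` is irreducible -/
theorem eich_irred [Fintype F] (hm : 2 ≤ m) (h2 : (2 : F) ≠ 0) {W : Submodule F (OI m → F)} (h0 : W ≠ ⊥)
    (hinv : EichInv (W : Set (OI m → F))) : W = ⊤ := by
  obtain ⟨w, hw, hw0⟩ := Submodule.exists_mem_ne_zero_of_ne_bot h0
  obtain ⟨u, hu, hwu⟩ := exists_singular_pairing (by omega) h2 hw0
  have hu0 : u ≠ 0 := fun h => hwu (by rw [h, oB, gform]; simp)
  have hmove : ∀ a, oB m F u a = 0 →
      oB m F w u • a - oB m F w a • u - (Cfsg.quadFormOdd m F a * oB m F w u) • u ∈ W := by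
    intro a ha
    have := W.sub_mem (hinv u a hu ha w hw) hw
    rw [eichMat_mulVec] at this
    convert this using 1
    abel
  obtain ⟨a₀, ha₀, hQa⟩ := exists_nonsingular_perp hm h2 hu0
  have huW : u ∈ W := by
    have := W.add_mem (hmove a₀ ha₀) (hmove (-a₀) (by rw [← neg_one_smul F a₀, oB_smul_right, ha₀, mul_zero]))
    rw [quad_neg, show oB m F w (-a₀) = - oB m F w a₀ by rw [← neg_one_smul F a₀, oB_smul_right, neg_one_mul],
      show oB m F w u • a₀ - oB m F w a₀ • u - (Cfsg.quadFormOdd m F a₀ * oB m F w u) • u +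
        (oB m F w u • -a₀ - (-oB m F w a₀) • u - (Cfsg.quadFormOdd m F a₀ * oB m F w u) • u) =
        (-(2 * (Cfsg.quadFormOdd m F a₀ * oB m F w u))) • u by module] at this
    refine (W.smul_mem_iff ?_).1 this
    simp [h2, hQa, hwu]
  have hperp : ∀ a, oB m F u a = 0 → a ∈ W := fun a ha => by
    refine (W.smul_mem_iff hwu).1 ?_
    have := W.add_mem (hmove a ha)
      (W.smul_mem (oB m F w a + Cfsg.quadFormOdd m F a * oB m F w u) huW)
    convert this using 1
    module
  refine eq_top_iff.2 fun x _ => ?_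
  set s := oB m F u x / oB m F w u
  have hx : x - s • w ∈ W := hperp _ (by
    rw [oB_sub_right, oB_smul_right, oB_comm u w, div_mul_cancel₀ _ hwu, sub_self])
  simpa using W.add_mem hx (W.smul_mem s hw)

theorem o_not_le_subspace [Fintype F] (hm : 2 ≤ m) (h2 : (2 : F) ≠ 0) {W : Submodule F (OI m → F)} (h0 : W ≠ ⊥)
    (h1 : W ≠ ⊤) : ¬ omegaGL (Cfsg.quadFormOdd m F) ≤ subspaceStabilizer W := fun hle =>
  h1 (eich_irred hm h2 h0 (eichInv_of_le h2 hle fun g hg x hx => (hg x).1 hx))

/-- invariant sets are large -/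
theorem eichInv_card [Fintype F] (hm : 0 < m) (h2 : (2 : F) ≠ 0) {S : Set (OI m → F)} (hS : EichInv S)
    {v : OI m → F} (hv : v ∈ S) (hv0 : v ≠ 0) : Fintype.card F ^ (2 * m - 1) ≤ Nat.card S := by
  obtain ⟨u, hu, hvu⟩ := exists_singular_pairing hm h2 hv0
  have hu0 : u ≠ 0 := fun h => hvu (by rw [h, oB, gform]; simp)
  obtain ⟨u', h1, h1'⟩ := exists_partner h2 hu0 hu
  let φ : (OI m → F) →ₗ[F] F × F :=
    { toFun := fun x => (oB m F u x, oB m F u' x)
      map_add' := fun x y => by simp [oB_add_right]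
      map_smul' := fun c x => by simp [oB_smul_right] }
  set W := LinearMap.ker φ
  have hWd : 2 * m - 1 ≤ Module.finrank F W := by
    have h3 := φ.finrank_range_add_finrank_ker
    rw [Module.finrank_fintype_fun_eq_card, card_OI] at h3
    change _ + Module.finrank F W = _ at h3
    have h4 : Module.finrank F (LinearMap.range φ) ≤ 2 := le_trans (Submodule.finrank_le _) (by simp)
    omega
  have hker : ∀ a : W, oB m F u a = 0 ∧ oB m F u' a = 0 := fun a => Prod.ext_iff.1 (LinearMap.mem_ker.1 a.2)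
  have hinj : Function.Injective fun a : W => (⟨eichMat u a *ᵥ v, hS u a hu (hker a).1 v hv⟩ : S) := by
    intro a b hab
    have h3 := congrArg Subtype.val hab
    simp only [eichMat_mulVec] at h3
    set s := oB m F v (a : OI m → F) + Cfsg.quadFormOdd m F a * oB m F v u
    set t := oB m F v (b : OI m → F) + Cfsg.quadFormOdd m F b * oB m F v u
    have h4 : oB m F v u • ((a : OI m → F) - b) = (s - t) • u := by
      rw [← sub_eq_zero] at h3 ⊢
      rw [← h3]
      module
    have h5 := congrArg (oB m F u') h4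
    rw [oB_smul_right, oB_smul_right, oB_sub_right, (hker a).2, (hker b).2, oB_comm u' u, h1, sub_zero, mul_zero,
      mul_one] at h5
    rw [← h5, zero_smul] at h4
    exact Subtype.ext (sub_eq_zero.1 ((smul_eq_zero.1 h4).resolve_left hvu))
  have h6 := Nat.card_le_card_of_injective _ hinj
  rw [Module.natCard_eq_pow_finrank (K := F) (V := W), Nat.card_eq_fintype_card] at h6
  exact le_trans (Nat.pow_le_pow_right Fintype.card_pos hWd) h6

theorem o_not_le_decomposition [Fintype F] (hm : 0 < m) (h2 : (2 : F) ≠ 0) {t k : ℕ}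
    {D : Fin t → Submodule F (OI m → F)} (hD : IsMDecomposition k D)
    (hlt : t * Fintype.card F ^ k < Fintype.card F ^ (2 * m - 1)) :
    ¬ omegaGL (Cfsg.quadFormOdd m F) ≤ decompositionStabilizer D := by
  intro hle
  set S : Set (OI m → F) := {x | ∃ i, x ∈ D i}
  have hS : EichInv S := eichInv_of_le h2 hle fun g hg x ⟨i, hx⟩ => by
    obtain ⟨σ, hσ⟩ := hg
    exact ⟨σ i, (hσ i).le ⟨x, hx, rfl⟩⟩
  let i0 : Fin t := ⟨0, by have := hD.two_le; omega⟩
  obtain ⟨v, hv, hv0⟩ := Submodule.exists_mem_ne_zero_of_ne_bot (show D i0 ≠ ⊥ from fun h => by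
    have := hD.finrank_eq i0
    rw [h, finrank_bot] at this
    exact hD.pos.ne this)
  have h1 := eichInv_card hm h2 hS ⟨i0, hv⟩ hv0
  have h3 : Nat.card S ≤ t * Fintype.card F ^ k := by
    refine le_trans (Nat.card_le_card_of_surjective (fun p : (i : Fin t) × D i => (⟨p.2.1, p.1, p.2.2⟩ : S)) ?_) ?_
    · rintro ⟨x, i, hx⟩; exact ⟨⟨i, x, hx⟩, rfl⟩
    · rw [Nat.card_sigma]
      rw [Finset.sum_congr rfl fun i _ => (Module.natCard_eq_pow_finrank (K := F) (V := D i))]
      simp [hD.finrank_eq, Nat.card_eq_fintype_card]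
  omega

theorem o_not_le_wreath [Fintype F] (hm : 0 < m) (h2 : (2 : F) ≠ 0) {k t : ℕ} (hk : 0 < k) (hlt : t * k < 2 * m - 1)
    (e : OI m ≃ (Fin t → Fin k)) (P : GL (OI m) F) :
    ¬ omegaGL (Cfsg.quadFormOdd m F) ≤ tensorWreathSubgroup k t e P := by
  intro hle
  let f : (Fin t → Fin k → F) → OI m → F := fun x => (P : Matrix (OI m) (OI m) F) *ᵥ (pv x ∘ e)
  have hS : EichInv (Set.range f) := eichInv_of_le h2 hle fun g hg => by
    rintro _ ⟨x, rfl⟩
    obtain ⟨y, hy, rfl⟩ := Subgroup.mem_map.1 hg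
    obtain ⟨z, hz, rfl⟩ := Subgroup.mem_map.1 hy
    obtain ⟨gs, π, rfl⟩ := tensorWreathStandard_elem hz
    refine ⟨fun l => (gs l : Matrix (Fin k) (Fin k) F) *ᵥ x (π.symm l), ?_⟩
    show _ = ((P * glReindex e.symm (pureGL gs * permGL π) * P⁻¹ : GL (OI m) F) : Matrix (OI m) (OI m) F) *ᵥ f x
    rw [Units.val_mul, Units.val_mul, mulVec_mulVec, mul_assoc, gl_inv_mul, mul_one, ← mulVec_mulVec]
    simp only [f]
    congr 1
    show _ = rx e ((pureGL gs * permGL π : GL (Fin t → Fin k) F) : Matrix (Fin t → Fin k) (Fin t → Fin k) F) *ᵥ _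
    rw [rx_mulVec, Units.val_mul, pureGL_coe, permGL_coe, ← mulVec_mulVec, permMat_mulVec_pv, pure_mulVec_pv]
  have hne : f (fun _ => fun _ => 1) ≠ 0 := by
    intro h
    have := congrArg (((P⁻¹ : GL (OI m) F) : Matrix (OI m) (OI m) F) *ᵥ ·) h
    simp only [f, mulVec_mulVec, gl_inv_mul, one_mulVec, mulVec_zero] at this
    have h1 := congrFun this (Sum.inl ())
    simp [pv] at h1
  have h1 := eichInv_card hm h2 hS ⟨_, rfl⟩ hne
  have h3 : Nat.card (Set.range f) ≤ Fintype.card F ^ (t * k) := by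
    refine le_trans (Finite.card_range_le f) ?_
    simp [Nat.card_eq_fintype_card, ← pow_mul, mul_comm k t]
  have h4 := Nat.pow_lt_pow_right (a := Fintype.card F) Fintype.one_lt_card hlt
  omega

theorem o_not_le_subfield [Fintype F] (hm : 3 ≤ m) (h2 : (2 : F) ≠ 0) {F₀ : Subfield F} {r : ℕ} (hr : r.Prime)
    (hc : Fintype.card F = Nat.card F₀ ^ r) (P : GL (OI m) F) :
    ¬ omegaGL (Cfsg.quadFormOdd m F) ≤ subfieldSubgroup F₀ P := by
  intro hle
  let f : F × (OI m → F₀) → OI m → F := fun p => p.1 • ((P : Matrix (OI m) (OI m) F) *ᵥ fun i => ((p.2 i : F₀) : F))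
  have hS : EichInv (Set.range f) := eichInv_of_le h2 hle fun g hg => by
    rintro _ ⟨⟨c, u⟩, rfl⟩
    obtain ⟨k, hk, rfl⟩ := Subgroup.mem_map.1 hg
    obtain ⟨x, hx, z, hz, rfl⟩ := Subgroup.mem_sup_of_normal_right.1 hk
    obtain ⟨M, rfl⟩ := hx
    obtain ⟨s, hs⟩ := mem_scalars.1 hz
    refine ⟨(c * (s : F), (M : Matrix (OI m) (OI m) F₀) *ᵥ u), ?_⟩
    show _ = ((P * (Matrix.GeneralLinearGroup.map (F₀.subtype : F₀ →+* F) M * z) * P⁻¹ : GL (OI m) F) :
      Matrix (OI m) (OI m) F) *ᵥ f (c, u)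
    simp only [f, mulVec_smul]
    rw [Units.val_mul, Units.val_mul, mulVec_mulVec, mul_assoc, gl_inv_mul, mul_one, ← mulVec_mulVec, Units.val_mul, hs,
      mul_smul_comm, mul_one, smul_mulVec, mulVec_smul, smul_smul]
    congr 2
    funext i
    exact RingHom.map_mulVec F₀.subtype (M : Matrix (OI m) (OI m) F₀) u i
  have hne : f (1, fun _ => 1) ≠ 0 := by
    intro h
    have := congrArg (((P⁻¹ : GL (OI m) F) : Matrix (OI m) (OI m) F) *ᵥ ·) h
    simp only [f, one_smul, mulVec_mulVec, gl_inv_mul, one_mulVec, mulVec_zero] at this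
    have h1 := congrFun this (Sum.inl ())
    simp at h1
  have h1 := eichInv_card (by omega) h2 hS ⟨_, rfl⟩ hne
  have h3 : Nat.card (Set.range f) ≤ Fintype.card F * Nat.card F₀ ^ (2 * m + 1) := by
    refine le_trans (Finite.card_range_le f) ?_
    rw [Nat.card_prod, Nat.card_fun, Nat.card_eq_fintype_card (α := F), Nat.card_eq_fintype_card (α := OI m), card_OI]
  set q := Fintype.card F
  set q0 := Nat.card F₀
  have hq0 : 2 ≤ q0 := Finite.one_lt_card
  have h4 : q0 ^ (2 * m + 1) < q ^ (m + 1) := by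
    calc q0 ^ (2 * m + 1) < q0 ^ (2 * (m + 1)) := Nat.pow_lt_pow_right hq0 (by omega)
      _ ≤ q0 ^ (r * (m + 1)) := Nat.pow_le_pow_right (by omega) (Nat.mul_le_mul_right _ hr.two_le)
      _ = _ := by rw [pow_mul, ← hc]
  have hq : 0 < q := Fintype.card_pos
  have h5 : q * q0 ^ (2 * m + 1) < q ^ (m + 2) := by
    rw [pow_succ' q (m + 1)]
    exact (Nat.mul_lt_mul_left hq).2 h4
  have h6 := Nat.pow_le_pow_right hq (show m + 2 ≤ 2 * m - 1 by omega)
  omega

/-- elements commuting with the Eichler transformations are scalars -/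
theorem scalar_of_eich_commute [Fintype F] (hm : 2 ≤ m) (h2 : (2 : F) ≠ 0) {k : Matrix (OI m) (OI m) F}
    (hk : ∀ u a : OI m → F, oB m F u u = 0 → oB m F u a = 0 → k * eichMat u a = eichMat u a * k) :
    ∃ c : F, k = c • 1 := by
  obtain ⟨v, hv⟩ : ∃ v : OI m → F, v ≠ 0 := ⟨Pi.single (Sum.inl ()) 1, by simp⟩
  obtain ⟨u, hu, hvu⟩ := exists_singular_pairing (by omega) h2 hv
  have hu0 : u ≠ 0 := fun h => hvu (by rw [h, oB, gform]; simp)
  obtain ⟨u', h1, h1'⟩ := exists_partner h2 hu0 hu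
  obtain ⟨a₀, ha₀, hQa⟩ := exists_nonsingular_perp hm h2 hu0
  have hfix : ∀ a, oB m F u a = 0 →
      oB m F (k *ᵥ u) u • a = (oB m F (k *ᵥ u) a + Cfsg.quadFormOdd m F a * oB m F (k *ᵥ u) u) • u := by
    intro a ha
    have hE : eichMat u a *ᵥ u = u := by rw [eichMat_mulVec, hu, ha]; simp
    have h3 : eichMat u a *ᵥ (k *ᵥ u) = k *ᵥ u := by rw [mulVec_mulVec, ← hk u a hu ha, ← mulVec_mulVec, hE]
    rw [eichMat_mulVec, ← sub_eq_zero] at h3
    rw [← sub_eq_zero, ← h3]
    module
  have hB0 : oB m F (k *ᵥ u) u = 0 := by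
    have h3 := congrArg (fun y => oB m F y a₀) (hfix a₀ ha₀)
    rw [oB_smul_left, oB_smul_left, ha₀, mul_zero, oB_self, ← mul_assoc] at h3
    rcases mul_eq_zero.1 h3 with h | h
    · exact (mul_eq_zero.1 h).resolve_right h2
    · exact absurd h hQa
  have hBa : ∀ a, oB m F u a = 0 → oB m F (k *ᵥ u) a = 0 := fun a ha => by
    have h3 := hfix a ha
    rw [hB0, zero_smul, mul_zero, add_zero] at h3
    exact (smul_eq_zero.1 h3.symm).resolve_right hu0
  set c := oB m F (k *ᵥ u) u'
  have heig : k *ᵥ u = c • u := by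
    rw [← sub_eq_zero]
    refine (refl_oG h2).eq_zero_of_forall_left fun x => ?_
    show oB m F x _ = 0
    have hx : x = (x - oB m F u x • u') + oB m F u x • u' := by abel
    have h3 : oB m F u (x - oB m F u x • u') = 0 := by rw [oB_sub_right, oB_smul_right, h1, mul_one, sub_self]
    rw [oB_comm, hx, oB_add_right, oB_sub_left, oB_sub_left, oB_smul_left, oB_smul_left, hBa _ h3, h3,
      oB_smul_right, oB_smul_right, h1]
    ring
  refine ⟨c, Matrix.toLin'.injective (LinearMap.ext fun x => ?_)⟩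
  let W : Submodule F (OI m → F) := LinearMap.ker (Matrix.toLin' k - c • LinearMap.id)
  have hW : ∀ y, y ∈ W ↔ k *ᵥ y = c • y := fun y => by
    simp [W, LinearMap.mem_ker, sub_eq_zero]
  have htop : W = ⊤ := eich_irred hm h2 (fun h => hu0 ((Submodule.eq_bot_iff _).1 h u ((hW u).2 heig))) (by
    intro u a hu ha y hy
    rw [SetLike.mem_coe, hW] at hy ⊢
    rw [mulVec_mulVec, hk u a hu ha, ← mulVec_mulVec, hy, mulVec_smul])
  rw [Matrix.toLin'_apply, map_smul, Matrix.toLin'_one, LinearMap.smul_apply, LinearMap.id_apply]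
  exact (hW x).1 (htop ▸ Submodule.mem_top)

theorem o_not_le_field [Fintype F] (hm : 2 ≤ m) (h2 : (2 : F) ≠ 0) {r : ℕ} (hr : r.Prime)
    {K : Subalgebra F (Matrix (OI m) (OI m) F)} (hK : IsFieldSubalgebra r K) :
    ¬ omegaGL (Cfsg.quadFormOdd m F) ≤ subalgebraNormalizer K := by
  intro hle
  have hall : ∀ k ∈ K, ∃ c : F, k = c • (1 : Matrix (OI m) (OI m) F) := by
    intro k hk
    refine scalar_of_eich_commute hm h2 fun u a hu ha => ?_
    obtain ⟨g, hg, hge⟩ := eich_mem_omega h2 hu ha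
    set D := cj g k - k with hD
    have hDK : D ∈ K := K.sub_mem ((hle hg k).1 hk) hk
    have hD0 : D = 0 := by
      by_contra hne
      obtain ⟨L, -, hL⟩ := hK.inv D hDK hne
      let s : Finset (OI m → F) := {u, a, k *ᵥ u, k *ᵥ a}
      have hrange : ∀ x, D *ᵥ x ∈ Submodule.span F (s : Set (OI m → F)) := by
        intro x
        have hu' : u ∈ Submodule.span F (s : Set (OI m → F)) := Submodule.subset_span (by simp [s])
        have ha' : a ∈ Submodule.span F (s : Set (OI m → F)) := Submodule.subset_span (by simp [s])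
        have hku : k *ᵥ u ∈ Submodule.span F (s : Set (OI m → F)) := Submodule.subset_span (by simp [s])
        have hka : k *ᵥ a ∈ Submodule.span F (s : Set (OI m → F)) := Submodule.subset_span (by simp [s])
        set y := ((g⁻¹ : GL (OI m) F) : Matrix (OI m) (OI m) F) *ᵥ x with hy
        have hxy : x = eichMat u a *ᵥ y := by rw [hy, mulVec_mulVec, ← hge, gl_mul_inv, one_mulVec]
        rw [hD, sub_mulVec, cj, hge, ← mulVec_mulVec, ← mulVec_mulVec, ← hy]
        rw [hxy]
        rw [eichMat_mulVec u a (k *ᵥ y), eichMat_mulVec u a y]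
        simp only [mulVec_add, mulVec_sub, mulVec_smul]
        rw [show k *ᵥ y + oB m F (k *ᵥ y) u • a - oB m F (k *ᵥ y) a • u -
            (Cfsg.quadFormOdd m F a * oB m F (k *ᵥ y) u) • u -
            (k *ᵥ y + oB m F y u • (k *ᵥ a) - oB m F y a • (k *ᵥ u) -
              (Cfsg.quadFormOdd m F a * oB m F y u) • (k *ᵥ u)) =
            oB m F (k *ᵥ y) u • a + (-(oB m F (k *ᵥ y) a + Cfsg.quadFormOdd m F a * oB m F (k *ᵥ y) u)) • u +
            (-oB m F y u) • (k *ᵥ a) + (oB m F y a + Cfsg.quadFormOdd m F a * oB m F y u) • (k *ᵥ u) by module]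
        exact Submodule.add_mem _ (Submodule.add_mem _ (Submodule.add_mem _ (Submodule.smul_mem _ _ ha')
          (Submodule.smul_mem _ _ hu')) (Submodule.smul_mem _ _ hka)) (Submodule.smul_mem _ _ hku)
      have htop : (⊤ : Submodule F (OI m → F)) ≤ Submodule.span F (s : Set (OI m → F)) := fun x _ => by
        have := hrange (L *ᵥ x)
        rwa [mulVec_mulVec, hL, one_mulVec] at this
      have h3 := Submodule.finrank_mono htop
      rw [finrank_top, Module.finrank_fintype_fun_eq_card, card_OI] at h3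
      have h4 : Module.finrank F (Submodule.span F (s : Set (OI m → F))) ≤ 4 :=
        le_trans (finrank_span_finset_le_card s) (Finset.card_le_four)
      omega
    rw [hD, sub_eq_zero] at hD0
    conv_lhs => rw [← hD0, cj, ← hge, mul_assoc, gl_inv_mul, mul_one]
    rw [hge]
  have hbot : K = ⊥ := eq_bot_iff.2 fun k hk => mem_bot_iff.2 (hall k hk)
  have := hK.finrank_eq
  rw [hbot, Subalgebra.finrank_bot] at this
  exact hr.ne_one this.symm

end CfsgLib.Perm.Asch
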