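import Cfsg.Agent.Lib.Perm.Asch.Forms.OPower
import Cfsg.Agent.Lib.Perm.Asch.Forms.OProper

/-!
# The candidates for maximal subgroups of `Ω_7(q)`, `Ω_9(q)`, `Ω_11(q)`
-/

set_option autoImplicit false
set_option linter.all false

namespace CfsgLib.Perm.Asch

open scoped Classical Matrix
open Matrix Cfsg.Geo

variable {F : Type*} [Field F] [Fintype F] {m : ℕ}

local notation "Ω" => omegaGL (Cfsg.quadFormOdd m F)

/-- the possible maximal subgroups -/
inductive OMax (m : ℕ) (F : Type*) [Field F] [Fintype F] (H : Subgroup (GL (OI m) F)) : Prop where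
  | singular {W : Submodule F (OI m → F)} (h0 : W ≠ ⊥) (hs : IsTotallySingularQuad (Cfsg.quadFormOdd m F) W)
      (h : H = subspaceStabilizer W ⊓ omegaGL (Cfsg.quadFormOdd m F)) : OMax m F H
  | nondeg {W : Submodule F (OI m → F)} (h0 : W ≠ ⊥) (he : Even (Module.finrank F W))
      (hn : IsNondegenerateOn (QuadraticMap.polar (Cfsg.quadFormOdd m F)) W)
      (hex : ¬ (Fintype.card F = 3 ∧ Module.finrank F W = 2 ∧ IsPlusTypeOn (Cfsg.quadFormOdd m F) W))
      (h : H = subspaceStabilizer W ⊓ omegaGL (Cfsg.quadFormOdd m F)) : OMax m F H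
  | frame (hp : (Fintype.card F).Prime) {D : Fin (2 * m + 1) → Submodule F (OI m → F)}
      (hD : IsOrthogonalMDecomposition (Cfsg.quadFormOdd m F) 1 D)
      (h : H = decompositionStabilizer D ⊓ omegaGL (Cfsg.quadFormOdd m F)) : OMax m F H
  | dec (hm : m = 4) (h5 : 5 ≤ Fintype.card F) {D : Fin 3 → Submodule F (OI m → F)}
      (hD : IsOrthogonalMDecomposition (Cfsg.quadFormOdd m F) 3 D)
      (h : H = decompositionStabilizer D ⊓ omegaGL (Cfsg.quadFormOdd m F)) : OMax m F H
  | field (hm : m = 4) {K : Subalgebra F (Matrix (OI m) (OI m) F)} (hK : IsFieldSubalgebra 3 K)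
      (hs : IsSelfAdjointFor (QuadraticMap.polar (Cfsg.quadFormOdd m F)) K)
      (h : H = subalgebraNormalizer K ⊓ omegaGL (Cfsg.quadFormOdd m F)) : OMax m F H
  | sub {F₀ : Subfield F} {r : ℕ} {P : GL (OI m) F} (hr : r.Prime) (hc : Fintype.card F = Nat.card F₀ ^ r)
      (hs : IsQuadFormRationalStructure (Cfsg.quadFormOdd m F) F₀ P)
      (h : H = subfieldSubgroup F₀ P ⊓ omegaGL (Cfsg.quadFormOdd m F)) : OMax m F H
  | power (hm : m = 4) (h5 : 5 ≤ Fintype.card F) (e : OI m ≃ (Fin 2 → Fin 3)) (P : GL (OI m) F)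
      {f₁ : (Fin 3 → F) → (Fin 3 → F) → F} (h₁ : IsSymmetricForm f₁)
      (hs : IsTensorPowerFormStructure id (QuadraticMap.polar (Cfsg.quadFormOdd m F)) f₁ e P)
      (h : H = tensorWreathSubgroup 3 2 e P ⊓ omegaGL (Cfsg.quadFormOdd m F)) : OMax m F H
  | residual (h : InOrthogonalResidualClass H) : OMax m F H

theorem omega_le_iso : Ω ≤ Cfsg.isometryGroup F (Cfsg.quadFormOdd m F) := Subgroup.map_subtype_le _

theorem o_eq_inf {H X : Subgroup (GL (OI m) F)} (hH : IsMaximalIn Ω H) (hle : H ≤ X) (hne : ¬ Ω ≤ X) :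
    H = X ⊓ Ω := by
  rcases hH.2 (X ⊓ Ω) (le_inf hle hH.1.le) inf_le_right with h | h
  · exact h.symm
  · exact absurd (inf_eq_right.1 h) hne

theorem three_space_frame (h2 : (2 : F) ≠ 0) (hm : 0 < m) (hq : Fintype.card F = 3) {H : Subgroup (GL (OI m) F)}
    (hI : H ≤ Cfsg.isometryGroup F (Cfsg.quadFormOdd m F)) {t : ℕ} {D : Fin t → Submodule F (OI m → F)}
    (hD : IsOrthogonalMDecomposition (Cfsg.quadFormOdd m F) 3 D) (hle : H ≤ decompositionStabilizer D) :
    ∃ D' : Fin (t * 3) → Submodule F (OI m → F),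
      IsOrthogonalMDecomposition (Cfsg.quadFormOdd m F) 1 D' ∧ H ≤ decompositionStabilizer D' := by
  have hdec := hD.decomp
  rw [oPolar_eq] at hdec
  let i0 : Fin t := ⟨0, by have := hdec.decomp.two_le; omega⟩
  let bs := Module.finBasisOfFinrankEq F (D i0) (hdec.decomp.finrank_eq i0)
  let G0 : Matrix (Fin 3) (Fin 3) F := Matrix.of fun a b => oB m F (bs a : OI m → F) (bs b : OI m → F)
  have hG0s : G0ᵀ = G0 := Matrix.ext fun a b => oB_comm _ _
  have hG0d : G0.det ≠ 0 := by
    intro h0
    obtain ⟨c, hc, hc0⟩ := Matrix.exists_mulVec_eq_zero_iff.2 h0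
    set y : D i0 := bs.equivFun.symm c with hy
    have hy0 : y ≠ 0 := fun h => hc (bs.equivFun.symm.injective (h.trans (map_zero _).symm))
    obtain ⟨⟨x, hx, hxy⟩, -⟩ := hdec.nondegenerate i0 (y : OI m → F) y.2 (fun h => hy0 (Subtype.ext h))
    refine hxy ?_
    obtain ⟨d, hd⟩ := bs.equivFun.symm.surjective ⟨x, hx⟩
    have hxe : x = ∑ a, d a • (bs a : OI m → F) := by
      have := congrArg Subtype.val hd
      simp [Module.Basis.equivFun_symm_apply] at this
      exact this.symm
    have hye : (y : OI m → F) = ∑ a, c a • (bs a : OI m → F) := by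
      simp [hy, Module.Basis.equivFun_symm_apply]
    show oB m F x (y : OI m → F) = 0
    rw [hxe, hye, oB, gform_sum_left']
    refine Finset.sum_eq_zero fun a _ => ?_
    rw [gform_smul_left, show gform (RingHom.id F) (oG m F) (bs a : OI m → F) (∑ b, c b • (bs b : OI m → F)) =
      (G0 *ᵥ c) a from ?_, hc0]
    · simp
    · rw [oPolar_symm, gform_sum_left']
      show _ = ∑ b, G0 a b * c b
      refine Finset.sum_congr rfl fun b _ => ?_
      rw [gform_smul_left, oPolar_symm]
      show c b * _ = G0 a b * c b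
      rw [mul_comm]; rfl
  obtain ⟨A, hA⟩ := exists_congr_scalar h2 (by decide) hG0s hG0d
  set dd := G0.det with hdd
  -- the equal norm basis of the first member
  let w0 : Fin 3 → D i0 := fun a => ∑ b, (A : Matrix (Fin 3) (Fin 3) F) b a • bs b
  have hw0 : ∀ a a', oB m F (w0 a : OI m → F) (w0 a' : OI m → F) = if a = a' then dd else 0 := by
    intro a a'
    have h1 := congrFun (congrFun hA a) a'
    rw [Matrix.smul_apply, Matrix.one_apply, smul_eq_mul, mul_ite, mul_one, mul_zero] at h1
    rw [← h1]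
    simp only [w0, Submodule.coe_sum, Submodule.coe_smul, oB, gform_sum_left', gform_smul_left]
    simp only [Matrix.mul_apply, Matrix.transpose_apply, Finset.sum_mul]
    rw [Finset.sum_comm]
    refine Finset.sum_congr rfl fun b _ => ?_
    rw [oPolar_symm, gform_sum_left', Finset.mul_sum]
    refine Finset.sum_congr rfl fun b' _ => ?_
    rw [gform_smul_left, oPolar_symm]
    show _ * (_ * G0 b b') = _
    ring
  choose ψ hψ using fun i => hD.isometric i0 i
  have hψB : ∀ i (x y : D i0), oB m F (ψ i x : OI m → F) (ψ i y : OI m → F) = oB m F (x : OI m → F) (y : OI m → F) := by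
    intro i x y
    simp only [oB, ← oPolar_eq, QuadraticMap.polar]
    have hsum := hψ i (x + y)
    rw [map_add, Submodule.coe_add, Submodule.coe_add] at hsum
    rw [hsum, hψ i x, hψ i y]
  let v : Fin t → Fin 3 → OI m → F := fun i a => (ψ i (w0 a) : OI m → F)
  have hv : ∀ i a j b, oB m F (v i a) (v j b) = if i = j ∧ a = b then dd else 0 := by
    intro i a j b
    by_cases hij : i = j
    · subst hij
      simp only [true_and]
      show oB m F (ψ i (w0 a) : OI m → F) (ψ i (w0 b) : OI m → F) = _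
      rw [hψB, hw0]
    · rw [if_neg fun h => hij h.1]
      exact hdec.orthogonal i j hij _ (ψ i (w0 a)).2 _ (ψ j (w0 b)).2
  have hdd0 : dd ≠ 0 := hG0d
  -- each member is spanned by its frame
  have hspan : ∀ i, ∀ y ∈ D i, ∃ c : Fin 3 → F, y = ∑ a, c a • v i a := by
    intro i y hy
    have hmem : ∀ a, v i a ∈ D i := fun a => (ψ i (w0 a)).2
    let f : Fin 3 → D i := fun a => ⟨v i a, hmem a⟩
    have hli : LinearIndependent F f := Fintype.linearIndependent_iff.2 fun g hg l => by
      have h1 := congrArg (fun z : D i => oB m F (z : OI m → F) (v i l)) hg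
      simp only [f, Submodule.coe_sum, Submodule.coe_smul, Submodule.coe_zero, oB, gform_sum_left', gform_smul_left] at h1
      simp only [← oB.eq_def, hv, true_and, mul_ite, mul_zero, Finset.sum_ite_eq', Finset.mem_univ, if_true] at h1
      rw [show oB m F 0 (v i l) = 0 by simp [oB, gform]] at h1
      exact (mul_eq_zero.1 h1).resolve_right hdd0
    obtain ⟨c, hc⟩ := Submodule.mem_span_range_iff_exists_fun F |>.1
      ((hli.span_eq_top_of_card_eq_finrank (by simp [hdec.decomp.finrank_eq i])) ▸ Submodule.mem_top (x := (⟨y, hy⟩ : D i)))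
    refine ⟨c, ?_⟩
    have := congrArg Subtype.val hc
    simp [f] at this
    exact this.symm
  let φ : Fin (t * 3) ≃ Fin t × Fin 3 := finProdFinEquiv.symm
  have hcard : t * 3 = 2 * m + 1 := by
    have := mdec_card hdec.decomp
    rwa [card_OI] at this
  refine o_frame_dec h2 hI hcard hm (fun n => v (φ n).1 (φ n).2) hdd0 (fun n n' => ?_) fun g hg n => ?_
  · show oB m F _ _ = _
    rw [hv]
    by_cases h : n = n'
    · subst h; simp
    · rw [if_neg h, if_neg fun hh => h (φ.injective (Prod.ext hh.1 hh.2))]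
  · obtain ⟨π, hπ⟩ := hle hg
    set i := (φ n).1
    set a := (φ n).2
    have hmem : (g : Matrix (OI m) (OI m) F) *ᵥ v i a ∈ D (π i) := by
      rw [← hπ i]; exact ⟨v i a, (ψ i (w0 a)).2, rfl⟩
    obtain ⟨c, hc⟩ := hspan _ _ hmem
    have hgI : g ∈ iso (RingHom.id F) (oG m F) := oIso_eq (F := F) (m := m) h2 ▸ hI hg
    have h1 : oB m F (v i a) (v i a) = dd * ∑ b, c b * c b := by
      rw [show oB m F (v i a) (v i a) = oB m F ((g : Matrix (OI m) (OI m) F) *ᵥ v i a) ((g : Matrix (OI m) (OI m) F) *ᵥ v i a)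
        from (mem_iso_iff.1 hgI _ _).symm, hc]
      simp only [oB, gform_sum_left', gform_smul_left]
      rw [Finset.mul_sum]
      refine Finset.sum_congr rfl fun b _ => ?_
      rw [oPolar_symm, gform_sum_left']
      simp only [gform_smul_left, ← oB.eq_def, hv, true_and, mul_ite, mul_zero, Finset.sum_ite_eq', Finset.mem_univ,
        if_true]
      ring
    rw [hv, if_pos ⟨rfl, rfl⟩] at h1
    have hsum : ∑ b, c b * c b = 1 := mul_left_cancel₀ hdd0 (by rw [mul_one]; exact h1.symm)
    obtain ⟨b, s, hcb⟩ := three_monomial hq hsum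
    refine ⟨φ.symm (π i, b), s, ?_⟩
    show _ = s • v _ _
    rw [Equiv.apply_symm_apply, hc, hcb]
    simp [Pi.single_apply]

theorem o_max (h2 : (2 : F) ≠ 0) (hm3 : 3 ≤ m) (hm5 : m ≤ 5) {H : Subgroup (GL (OI m) F)} (hH : IsMaximalIn Ω H) :
    OMax m F H := by
  have hI : H ≤ Cfsg.isometryGroup F (Cfsg.quadFormOdd m F) := hH.1.le.trans omega_le_iso
  have hI' : H ≤ iso (RingHom.id F) (oG m F) := oIso_eq (F := F) (m := m) h2 ▸ hI
  have hq3 : 3 ≤ Fintype.card F := by
    by_contra hlt
    have h2' : Fintype.card F = 2 := by have := Fintype.one_lt_card (α := F); omega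
    exact h2 (by exact_mod_cast (h2' ▸ FiniteField.cast_card_eq_zero F : ((2 : ℕ) : F) = 0))
  have five : Fintype.card F ≠ 3 → 5 ≤ Fintype.card F := fun h3 => by
    by_contra hlt
    have h4 : Fintype.card F = 4 := by omega
    have := FiniteField.cast_card_eq_zero F
    rw [h4] at this
    exact mul_ne_zero h2 h2 (by push_cast at this; linear_combination this)
  have hr := refl_oG (F := F) (m := m) h2
  have sing : ∀ {W : Submodule F (OI m → F)}, W ≠ ⊥ → IsTotallySingularQuad (Cfsg.quadFormOdd m F) W →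
      H ≤ subspaceStabilizer W → OMax m F H := fun {W} h0 hs h => by
    refine .singular h0 hs (o_eq_inf hH h (o_not_le_subspace (by omega) h2 h0 fun htop => ?_))
    have := hs (Pi.single (Sum.inl ()) 1) (htop ▸ Submodule.mem_top)
    simp [Cfsg.quadFormOdd] at this
  have frame : ∀ {t : ℕ} {D : Fin t → Submodule F (OI m → F)}, (Fintype.card F).Prime →
      IsOrthogonalMDecomposition (Cfsg.quadFormOdd m F) 1 D → H ≤ decompositionStabilizer D → OMax m F H := by
    intro t D hp hD h
    obtain rfl : t = 2 * m + 1 := by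
      have := mdec_card hD.decomp.decomp
      rwa [mul_one, card_OI] at this
    refine .frame hp hD (o_eq_inf hH h (o_not_le_decomposition (by omega) h2 hD.decomp.decomp ?_))
    calc (2 * m + 1) * Fintype.card F ^ 1 ≤ 11 * Fintype.card F := by rw [pow_one]; exact Nat.mul_le_mul_right _ (by omega)
      _ < Fintype.card F ^ 4 * Fintype.card F :=
          (Nat.mul_lt_mul_right (by omega)).2 (lt_of_lt_of_le (by norm_num) (Nat.pow_le_pow_left hq3 4))
      _ = Fintype.card F ^ 5 := (pow_succ _ 4).symm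
      _ ≤ _ := Nat.pow_le_pow_right (by omega) (by omega)
  -- subspaces of even dimension
  have even : ∀ {W : Submodule F (OI m → F)}, W ≠ ⊥ → Even (Module.finrank F W) →
      W ⊓ perp (RingHom.id F) (oG m F) W = ⊥ →
      (∀ g ∈ H, ∀ w ∈ W, (g : Matrix (OI m) (OI m) F) *ᵥ w ∈ W) →
      ¬ (Fintype.card F = 3 ∧ Module.finrank F W = 2 ∧ IsPlusTypeOn (Cfsg.quadFormOdd m F) W) → OMax m F H := by
    intro W h0 he hR hinv hex
    refine .nondeg h0 he (by rw [oPolar_eq]; exact hr.nondegenerateOn hR) hex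
      (o_eq_inf hH (subspaceStabilizer_mem hinv) (o_not_le_subspace (by omega) h2 h0 fun htop => ?_))
    rw [htop, finrank_top, Module.finrank_fintype_fun_eq_card, card_OI] at he
    obtain ⟨j, hj⟩ := he
    omega
  have perpCase : ∀ {W : Submodule F (OI m → F)}, W ≠ ⊤ → Odd (Module.finrank F W) →
      W ⊓ perp (RingHom.id F) (oG m F) W = ⊥ →
      (∀ g ∈ H, ∀ w ∈ W, (g : Matrix (OI m) (OI m) F) *ᵥ w ∈ W) →
      ¬ (Fintype.card F = 3 ∧ Module.finrank F (perp (RingHom.id F) (oG m F) W) = 2 ∧
        IsPlusTypeOn (Cfsg.quadFormOdd m F) (perp (RingHom.id F) (oG m F) W)) → OMax m F H := by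
    intro W h1 ho hR hinv hex
    have hfin := hr.perp_finrank W
    rw [card_OI] at hfin
    refine even ?_ ?_ (hr.perp_inf_perp hR)
      (fun g hg => perp_invariant (hI' hg) (hinv g⁻¹ (H.inv_mem hg))) hex
    · intro hb
      rw [hb, finrank_bot, add_zero] at hfin
      exact h1 (Submodule.eq_top_of_finrank_eq (by rw [Module.finrank_fintype_fun_eq_card, card_OI, hfin]))
    · obtain ⟨j, hj⟩ := ho
      exact ⟨m - j, by omega⟩
  -- plus type planes over three elements
  have plane : ∀ {W : Submodule F (OI m → F)}, Fintype.card F = 3 → Module.finrank F W = 2 →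
      IsPlusTypeOn (Cfsg.quadFormOdd m F) W → W ⊓ perp (RingHom.id F) (oG m F) W = ⊥ →
      (∀ g ∈ H, ∀ w ∈ W, (g : Matrix (OI m) (OI m) F) *ᵥ w ∈ W) → OMax m F H := by
    intro W hq hW ⟨U, hUW, hUs, hUd⟩ hR hinv
    rw [hW] at hUd
    obtain ⟨u, hu, hu0⟩ := Submodule.exists_mem_ne_zero_of_ne_bot (show U ≠ ⊥ from fun h => by
      rw [h, finrank_bot] at hUd; omega)
    have huu : oB m F u u = 0 := by rw [oB_self, hUs u hu, mul_zero]
    obtain ⟨x, hx, hxu⟩ : ∃ x ∈ W, oB m F x u ≠ 0 := by
      by_contra hcon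
      push Not at hcon
      refine hu0 ((Submodule.eq_bot_iff _).1 hR u ⟨hUW hu, fun y hy => ?_⟩)
      show oB m F _ _ = 0
      first | exact hcon y hy | (rw [oB_comm]; exact hcon y hy)
    obtain ⟨x', hx', hux⟩ : ∃ x' ∈ W, oB m F u x' = 1 :=
      ⟨(oB m F x u)⁻¹ • x, W.smul_mem _ hx, by rw [oB_smul_right, oB_comm u x, inv_mul_cancel₀ hxu]⟩
    set v := x' - Cfsg.quadFormOdd m F x' • u with hvdef
    have hv : v ∈ W := W.sub_mem hx' (W.smul_mem _ (hUW hu))
    have huv : oB m F u v = 1 := by rw [hvdef, oB_sub_right, oB_smul_right, huu, hux, mul_zero, sub_zero]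
    have hvv : oB m F v v = 0 := by
      simp only [hvdef, oB_sub_left, oB_sub_right, oB_smul_left, oB_smul_right, huu, oB_comm x' u, hux, oB_self x']
      ring
    have hli : LinearIndependent F ![u, v] := by
      rw [LinearIndependent.pair_iff]
      intro s t hst
      have e1 := congrArg (oB m F u) hst
      have e2 := congrArg (oB m F v) hst
      rw [oB_add_right, oB_smul_right, oB_smul_right, huu, huv, show oB m F u 0 = 0 by simp [oB, gform]] at e1
      rw [oB_add_right, oB_smul_right, oB_smul_right, hvv, oB_comm v u, huv, show oB m F v 0 = 0 by simp [oB, gform]] at e2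
      exact ⟨by linear_combination e2, by linear_combination e1⟩
    have hWspan : Submodule.span F (Set.range ![u, v]) = W := by
      refine Submodule.eq_of_le_of_finrank_eq ?_ ?_
      · rw [Submodule.span_le]; rintro _ ⟨i, rfl⟩; fin_cases i <;> [exact hUW hu; exact hv]
      · rw [finrank_span_eq_card hli, hW, Fintype.card_fin]
    set w := u + v
    have hw : oB m F w w = 2 := by
      simp only [w, oB_add_left, oB_add_right, huu, hvv, huv, oB_comm v u]; norm_num
    have hw0 : w ≠ 0 := fun h => h2 (by rw [← hw, h]; simp [oB, gform])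
    have hline : ∀ g ∈ H, ∀ y ∈ Submodule.span F {w}, (g : Matrix (OI m) (OI m) F) *ᵥ y ∈ Submodule.span F {w} := by
      intro g hg y hy
      obtain ⟨s, rfl⟩ := Submodule.mem_span_singleton.1 hy
      rw [mulVec_smul]
      refine Submodule.smul_mem _ _ ?_
      have hgw : (g : Matrix (OI m) (OI m) F) *ᵥ w ∈ W := hinv g hg w (W.add_mem (hUW hu) hv)
      rw [← hWspan, Submodule.mem_span_range_iff_exists_fun] at hgw
      obtain ⟨c, hc⟩ := hgw
      rw [Fin.sum_univ_two] at hc
      simp only [Matrix.cons_val_zero, Matrix.cons_val_one] at hc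
      have h1 : oB m F ((g : Matrix (OI m) (OI m) F) *ᵥ w) ((g : Matrix (OI m) (OI m) F) *ᵥ w) = 2 :=
        (mem_iso_iff.1 (hI' hg) w w).trans hw
      simp only [← hc, oB_add_left, oB_add_right, oB_smul_left, oB_smul_right, huu, hvv, huv, oB_comm v u] at h1
      have h3 : c 0 * c 1 = 1 := mul_left_cancel₀ h2 (by linear_combination h1)
      have hc0 : c 0 ≠ 0 := fun h => by rw [h, zero_mul] at h3; exact zero_ne_one h3
      have h4 : c 1 = c 0 := by
        linear_combination c 0 * h3 - c 1 * sq_three hq hc0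
      rw [← hc, h4, ← smul_add]
      exact Submodule.smul_mem _ _ (Submodule.mem_span_singleton_self _)
    have hwR : Submodule.span F {w} ⊓ perp (RingHom.id F) (oG m F) (Submodule.span F {w}) = ⊥ := by
      rw [Submodule.eq_bot_iff]
      rintro y ⟨hy, hy'⟩
      obtain ⟨s, rfl⟩ := Submodule.mem_span_singleton.1 hy
      rw [SetLike.mem_coe, mem_perp_line, oB_smul_right, hw] at hy'
      rw [(mul_eq_zero.1 hy').resolve_right h2, zero_smul]
    refine perpCase ?_ (by rw [finrank_span_singleton hw0]; exact odd_one) hwR hline ?_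
    · intro htop
      have := finrank_span_singleton (K := F) hw0
      rw [htop, finrank_top, Module.finrank_fintype_fun_eq_card, card_OI] at this
      omega
    · rintro ⟨-, h, -⟩
      rw [perp_line_finrank h2 hw0] at h
      omega
  rcases orthOdd_structure h2 (by omega) hI with hc | hres
  swap
  · exact .residual hres
  cases hc with
  | singular h0 hs h => exact sing h0 hs h
  | @nondeg W h0 h1 hn h =>
    have hR : W ⊓ perp (RingHom.id F) (oG m F) W = ⊥ := by
      rw [Submodule.eq_bot_iff]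
      rintro y ⟨hy, hy'⟩
      by_contra hy0
      obtain ⟨⟨x, hx, hxy⟩, x', hx', hxy'⟩ := hn y hy hy0
      rw [oPolar_eq] at hxy hxy'
      first | exact hxy (hy' x hx) | exact hxy' (hy' x' hx')
    have hinv : ∀ g ∈ H, ∀ w ∈ W, (g : Matrix (OI m) (OI m) F) *ᵥ w ∈ W := fun g hg w hw => (h hg w).1 hw
    rcases Nat.even_or_odd (Module.finrank F W) with he | ho
    · by_cases hex : Fintype.card F = 3 ∧ Module.finrank F W = 2 ∧ IsPlusTypeOn (Cfsg.quadFormOdd m F) W
      · exact plane hex.1 hex.2.1 hex.2.2 hR hinv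
      · exact even h0 he hR hinv hex
    · by_cases hex : Fintype.card F = 3 ∧ Module.finrank F (perp (RingHom.id F) (oG m F) W) = 2 ∧
          IsPlusTypeOn (Cfsg.quadFormOdd m F) (perp (RingHom.id F) (oG m F) W)
      · exact plane hex.1 hex.2.1 hex.2.2 (hr.perp_inf_perp hR)
          (fun g hg => perp_invariant (hI' hg) (hinv g⁻¹ (H.inv_mem hg)))
      · exact perpCase h1 ho hR hinv hex
  | @dec t k D hk hD h =>
    have hn := mdec_card hD.decomp.decomp
    rw [card_OI] at hn
    have ht := hD.decomp.decomp.two_le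
    have htk : t = 3 ∧ k = 3 ∧ m = 4 := by
      have hk11 : k ≤ 11 := by nlinarith
      have ht11 : t ≤ 11 := by nlinarith
      interval_cases k <;> interval_cases t <;> omega
    obtain ⟨rfl, rfl, hm4⟩ := htk
    by_cases hq : Fintype.card F = 3
    · obtain ⟨D', hD', hle⟩ := three_space_frame h2 (by omega) hq hI hD h
      exact frame (by rw [hq]; norm_num) hD' hle
    · refine .dec hm4 (five hq) hD (o_eq_inf hH h (o_not_le_decomposition (by omega) h2 hD.decomp.decomp ?_))
      calc 3 * Fintype.card F ^ 3 < Fintype.card F ^ 4 * Fintype.card F ^ 3 :=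
            (Nat.mul_lt_mul_right (pow_pos (by omega) 3)).2 (lt_of_lt_of_le (by norm_num) (Nat.pow_le_pow_left hq3 4))
        _ = Fintype.card F ^ 7 := (pow_add _ 4 3).symm
        _ = _ := by rw [hm4]
  | frame hp hD h => exact frame hp hD h
  | @field r K hr' hne hK hs h =>
    have hdvd := card_OI (m := m) ▸ finrank_dvd_card hK
    have hle : r ≤ 2 * m + 1 := Nat.le_of_dvd (by omega) hdvd
    have hr3 : r = 3 ∧ m = 4 := by
      interval_cases m <;> interval_cases r <;> first | omega | (norm_num at hr'; done) | (norm_num at hdvd; done)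
    obtain ⟨rfl, hm4⟩ := hr3
    exact .field hm4 hK hs (o_eq_inf hH h (o_not_le_field (by omega) h2 hr' hK))
  | @tensor n₁ n₂ e P f₁ f₂ h3 h12 h₁ h₂ hs h =>
    exfalso
    have hn : n₁ * n₂ = 2 * m + 1 := by
      have := Fintype.card_congr e
      rw [card_OI] at this
      simpa using this.symm
    nlinarith
  | sub hr' hc hs h => exact .sub hr' hc hs (o_eq_inf hH h (o_not_le_subfield hm3 h2 hr' hc _))
  | @power k t e P f₁ hk ht hex h₁ hs h =>
    have hn : k ^ t = 2 * m + 1 := by
      have := Fintype.card_congr e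
      rw [card_OI] at this
      simpa using this.symm
    have ht3 : t < 3 := by
      by_contra hlt
      have h27 : 27 ≤ k ^ t := le_trans (Nat.pow_le_pow_left hk 3) (Nat.pow_le_pow_right (by omega) (by omega))
      omega
    obtain rfl : t = 2 := by omega
    have hk4 : k < 4 := by
      by_contra hlt
      have h16 : 4 ^ 2 ≤ k ^ 2 := Nat.pow_le_pow_left (by omega) 2
      omega
    obtain rfl : k = 3 := by omega
    have hm4 : m = 4 := by omega
    exact .power hm4 (five fun hq => hex ⟨hq, rfl⟩) e P h₁ hs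
      (o_eq_inf hH h (o_not_le_wreath (by omega) h2 (by norm_num) (by omega) e P))

end CfsgLib.Perm.Asch
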