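import Cfsg.Agent.Lib.Perm.Asch.Forms.O

/-!
# Commutative algebras normalised by subgroups of odd orthogonal groups
-/

set_option autoImplicit false
set_option linter.all false

namespace CfsgLib.Perm.Asch

open scoped Classical Matrix
open Matrix Cfsg.Geo

variable {F : Type*} [Field F]

theorem mdec_card {ι : Type} [Fintype ι] [DecidableEq ι] {t k : ℕ} {D : Fin t → Submodule F (ι → F)}
    (hD : IsMDecomposition k D) : t * k = Fintype.card ι := by
  have hint : DirectSum.IsInternal D :=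
    DirectSum.isInternal_submodule_of_iSupIndep_of_iSup_eq_top hD.indep hD.iSup_eq_top
  let bs : (i : Fin t) → Module.Basis (Fin k) F (D i) := fun i => Module.finBasisOfFinrankEq F (D i) (hD.finrank_eq i)
  have h := Module.finrank_eq_card_basis (hint.collectedBasis bs)
  rw [Module.finrank_fintype_fun_eq_card] at h
  simpa using h.symm

/-- the normaliser of a field of degree equal to the dimension fixes a subspace -/
theorem not_irred_of_full_field [Fintype F] {ι : Type} [Fintype ι] [DecidableEq ι] [Nonempty ι] {G : Matrix ι ι F}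
    (hG : Refl (RingHom.id F) G) {H : Subgroup (GL ι F)} (hI : H ≤ iso (RingHom.id F) G) {r : ℕ} (hr : r.Prime)
    (hodd : Odd r) (hι : Fintype.card ι = r) {K : Subalgebra F (Matrix ι ι F)} (hK : IsFieldSubalgebra r K)
    (hn : Normalises H K) (hsa : ∀ x ∈ K, adj (RingHom.id F) G x = x) : ¬ Irred H := by
  intro hirr
  obtain ⟨p, a, hp, hcp, hcard, ha⟩ := exists_char_card (F := F)
  haveI := hcp
  haveI : Fact p.Prime := ⟨hp⟩
  haveI : Fact r.Prime := ⟨hr⟩
  obtain ⟨hfix, hfrob⟩ := fieldSubalgebra_frob hK hcard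
  set σ := RingHom.id F
  -- a vector and the evaluation map
  let v : ι → F := Pi.single (Classical.arbitrary ι) 1
  have hv : v ≠ 0 := fun h => one_ne_zero (Pi.single_eq_zero_iff.1 h)
  have hsurj : ∀ w : ι → F, ∃ k ∈ K, k *ᵥ v = w := by
    let L : K →ₗ[F] (ι → F) :=
      { toFun := fun k => (k : Matrix ι ι F) *ᵥ v
        map_add' := fun x y => Matrix.add_mulVec _ _ _
        map_smul' := fun c x => Matrix.smul_mulVec _ _ _ }
    have hinj : Function.Injective L := by
      rw [← LinearMap.ker_eq_bot, LinearMap.ker_eq_bot']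
      intro k hk
      by_contra hk0
      obtain ⟨l, hl, hkl⟩ := hK.inv _ k.2 (fun h => hk0 (Subtype.ext h))
      have h1 : (k : Matrix ι ι F) *ᵥ v = 0 := hk
      refine hv ?_
      rw [← one_mulVec v, ← hkl, hK.comm _ k.2 _ hl, ← mulVec_mulVec, h1, mulVec_zero]
    have hs := (LinearMap.injective_iff_surjective_of_finrank_eq_finrank (f := L)
      (by rw [Module.finrank_fintype_fun_eq_card, hι]; exact hK.finrank_eq)).1 hinj
    intro w
    obtain ⟨k, hk⟩ := hs w
    exact ⟨k, k.2, hk⟩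
  -- the elements centralising the field are signs
  have hker : ∀ g ∈ H, (∀ k ∈ K, cj g k = k) → ∃ s : F, (g : Matrix ι ι F) = s • 1 := by
    intro g hg hgK
    have hcomm : ∀ k ∈ K, (g : Matrix ι ι F) * k = k * (g : Matrix ι ι F) := fun k hk => by
      conv_rhs => rw [← hgK k hk]
      rw [cj, mul_assoc ((g : Matrix ι ι F) * k), gl_inv_mul, mul_one]
    obtain ⟨k, hk, hkv⟩ := hsurj ((g : Matrix ι ι F) *ᵥ v)
    have hgk : (g : Matrix ι ι F) = k := by
      refine Matrix.toLin'.injective (LinearMap.ext fun w => ?_)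
      obtain ⟨l, hl, rfl⟩ := hsurj w
      rw [Matrix.toLin'_apply, Matrix.toLin'_apply, mulVec_mulVec, hcomm l hl, ← mulVec_mulVec, ← hkv, mulVec_mulVec,
        mulVec_mulVec, hK.comm _ hl _ hk]
    have e : k * k = 1 := by
      have h1 := mem_iso.1 (hI hg)
      simp only [σ, RingHom.coe_id, Matrix.map_id, hgk] at h1
      have h2 := hG.mul_map_adj k
      rw [hsa k hk] at h2
      simp only [σ, RingHom.coe_id, Matrix.map_id] at h2
      rw [← h2, mul_assoc] at h1
      have h3 := congrArg (G⁻¹ * ·) h1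
      simpa only [← mul_assoc, hG.inv_mul, one_mul] using h3
    by_cases h1 : k - 1 = 0
    · exact ⟨1, by rw [one_smul, hgk]; exact sub_eq_zero.1 h1⟩
    · obtain ⟨l, hl, hkl⟩ := hK.inv _ (K.sub_mem hk K.one_mem) h1
      refine ⟨-1, ?_⟩
      rw [hgk, neg_smul, one_smul, eq_neg_iff_add_eq_zero]
      calc k + 1 = (l * (k - 1)) * (k + 1) := by rw [hK.comm _ hl _ (K.sub_mem hk K.one_mem), hkl, one_mul]
        _ = l * ((k - 1) * (k + 1)) := mul_assoc _ _ _
        _ = 0 := by rw [show (k - 1) * (k + 1) = k * k - 1 by noncomm_ring, e, sub_self, mul_zero]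
  -- the Frobenius exponent
  have hexp : ∀ g ∈ H, ∃ j : ℕ, ∀ k ∈ K, cj g k = k ^ (p ^ (a * j)) := by
    intro g hg
    obtain ⟨i, hi⟩ := hfrob (cj g) (fun x hx => hn g hg x hx) (cj_one g) (fun x _ y _ => cj_add g x y)
      (fun x _ y _ => cj_mul g x y)
    have hai : a ∣ i := (pow_fix_iff_field hcard i).1 fun c => by
      have h1 := hi _ (sc_mem K c)
      rw [cj_smul, cj_one, smul_pow, one_pow] at h1
      have := congrFun (congrFun h1 (Classical.arbitrary ι)) (Classical.arbitrary ι)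
      simpa using this.symm
    obtain ⟨j, rfl⟩ := hai
    exact ⟨j, hi⟩
  have hline : ∀ u : ι → F, u ≠ 0 → (∀ g ∈ H, (g : Matrix ι ι F) *ᵥ u ∈ Submodule.span F {u}) → False := by
    intro u hu hgu
    rcases hirr.eq_bot_or_top (Submodule.span F {u}) (fun g hg w hw => by
      obtain ⟨c, rfl⟩ := Submodule.mem_span_singleton.1 hw
      rw [mulVec_smul]
      exact Submodule.smul_mem _ _ (hgu g hg)) with h | h
    · exact hu (Submodule.span_singleton_eq_bot.1 h)
    · have h1 := finrank_span_singleton (K := F) hu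
      rw [h, finrank_top, Module.finrank_fintype_fun_eq_card, hι] at h1
      exact hr.ne_one h1
  by_cases hall : ∀ g ∈ H, ∀ k ∈ K, cj g k = k
  · refine hline v hv fun g hg => ?_
    obtain ⟨s, hs⟩ := hker g hg (hall g hg)
    rw [hs, smul_mulVec, one_mulVec]
    exact Submodule.smul_mem _ _ (Submodule.mem_span_singleton_self v)
  push Not at hall
  obtain ⟨x, hx, k₀, hk₀, hxk⟩ := hall
  obtain ⟨jx, hjx⟩ := hexp x hx
  have hmod : ∀ j l : ℕ, (j : ZMod r) = l → ∀ k ∈ K, k ^ (p ^ (a * j)) = k ^ (p ^ (a * l)) := by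
    intro j l hjl k hk
    wlog hle : l ≤ j generalizing j l
    · exact (this l j hjl.symm (by omega)).symm
    obtain ⟨d, rfl⟩ := Nat.exists_eq_add_of_le hle
    have hd : r ∣ d := by
      rw [← CharP.cast_eq_zero_iff (ZMod r) r]
      simpa using hjl
    rw [mul_add, pow_add, mul_comm, pow_mul, (hfix _).2 (Nat.mul_dvd_mul_left a hd) k hk]
  have hj0 : (jx : ZMod r) ≠ 0 := by
    intro h0
    apply hxk
    rw [hjx k₀ hk₀, hmod jx 0 (by simpa using h0) k₀ hk₀, mul_zero, pow_zero, pow_one]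
  have hxpow : ∀ l, ∀ k ∈ K, cj (x ^ l) k = k ^ (p ^ (a * (jx * l))) := by
    intro l
    induction l with
    | zero => intro k _; simp [cj]
    | succ l ih =>
      intro k hk
      rw [pow_succ, ← cj_cj, hjx k hk, cj_pow, ih k hk, ← pow_mul, ← pow_add, ← mul_add, Nat.mul_succ]
  have hgen : ∀ g ∈ H, ∃ (l : ℕ) (s : F), (g : Matrix ι ι F) = s • ((x : Matrix ι ι F) ^ l) := by
    intro g hg
    obtain ⟨jg, hjg⟩ := hexp g hg
    set l := ((jg : ZMod r) / (jx : ZMod r)).val
    obtain ⟨s, hs⟩ := hker (g * (x ^ l)⁻¹) (H.mul_mem hg (H.inv_mem (H.pow_mem hx l))) fun k hk => by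
      obtain ⟨k', hk', hkk'⟩ : ∃ k' ∈ K, cj (x ^ l) k' = k :=
        ⟨cj (x ^ l)⁻¹ k, hn _ (H.inv_mem (H.pow_mem hx l)) k hk, cj_cj_inv _ _⟩
      conv_lhs => rw [← hkk']
      rw [cj_cj, inv_mul_cancel_right, ← hkk', hjg k' hk', hxpow l k' hk']
      refine hmod _ _ ?_ k' hk'
      push_cast
      rw [ZMod.natCast_zmod_val, mul_div_cancel₀ _ hj0]
    refine ⟨l, s, ?_⟩
    have h1 : g = (g * (x ^ l)⁻¹) * x ^ l := by rw [inv_mul_cancel_right]
    rw [h1, Units.val_mul, hs, Units.val_pow_eq_pow_val, smul_mul_assoc, one_mul]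
  obtain ⟨ε, hε⟩ := hker (x ^ r) (H.pow_mem hx r) fun k hk => by
    rw [hxpow r k hk, (hfix _).2 (Nat.mul_dvd_mul_left a (dvd_mul_left r jx)) k hk]
  rw [Units.val_pow_eq_pow_val] at hε
  set X := (x : Matrix ι ι F) with hX
  have hε0 : ε ≠ 0 := fun h0 => by
    have : ((x ^ r : GL ι F) : Matrix ι ι F) = 0 := by rw [Units.val_pow_eq_pow_val, ← hX, hε, h0, zero_smul]
    exact (x ^ r).ne_zero this
  have hpowinv : ∀ (W : Submodule F (ι → F)), (∀ w ∈ W, X *ᵥ w ∈ W) → ∀ l, ∀ w ∈ W, (X ^ l) *ᵥ w ∈ W := by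
    intro W hW l
    induction l with
    | zero => intro w hw; rwa [pow_zero, one_mulVec]
    | succ l ih => intro w hw; rw [pow_succ, ← mulVec_mulVec]; exact ih _ (hW _ hw)
  have hinv : ∀ (W : Submodule F (ι → F)), (∀ w ∈ W, X *ᵥ w ∈ W) → ∀ g ∈ H, ∀ w ∈ W, (g : Matrix ι ι F) *ᵥ w ∈ W := by
    intro W hW g hg w hw
    obtain ⟨l, s, hs⟩ := hgen g hg
    rw [hs, smul_mulVec]
    exact W.smul_mem _ (hpowinv W hW l w hw)
  -- the eigenvalue of `x`
  have he2 : ε * ε = 1 := by
    have h1 := mem_iso.1 (hI (H.pow_mem hx r))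
    simp only [σ, RingHom.coe_id, Matrix.map_id, Units.val_pow_eq_pow_val, ← hX, hε, Matrix.transpose_smul,
      Matrix.transpose_one, smul_mul_assoc, one_mul, mul_smul_comm, mul_one, smul_smul] at h1
    exact smul_left_injective F hG.ne_zero (show (ε * ε) • G = (1 : F) • G by rw [one_smul]; exact h1)
  set Y := ε • X with hY
  have hYr : Y ^ r = 1 := by
    rw [hY, smul_pow, hε, smul_smul]
    obtain ⟨j, hj⟩ := hodd
    rw [hj, pow_succ, pow_mul, pow_two, he2, one_pow, one_mul, he2, one_smul]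
  set S := ∑ i ∈ Finset.range r, Y ^ i with hS
  by_cases hS0 : ∀ u, S *ᵥ u = 0
  · let W : Submodule F (ι → F) := Submodule.span F (Set.range fun i : Fin (r - 1) => (Y ^ (i : ℕ)) *ᵥ v)
    have hW : ∀ w ∈ W, X *ᵥ w ∈ W := by
      intro w hw
      have hYw : Y *ᵥ w ∈ W := by
        induction hw using Submodule.span_induction with
        | mem y hy =>
          obtain ⟨i, rfl⟩ := hy
          rw [mulVec_mulVec, ← pow_succ']
          by_cases hi : (i : ℕ) + 1 < r - 1
          · exact Submodule.subset_span ⟨⟨_, hi⟩, rfl⟩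
          · have h1 := hS0 v
            rw [hS, show r = (r - 1) + 1 by have := hr.two_le; omega, Finset.sum_range_succ, add_mulVec,
              Matrix.sum_mulVec, ← eq_neg_iff_add_eq_zero] at h1
            have h2 : (Y ^ (r - 1)) *ᵥ v ∈ W := by
              rw [← neg_neg ((Y ^ (r - 1)) *ᵥ v), ← h1]
              exact W.neg_mem (sum_mem fun j hj => Submodule.subset_span ⟨⟨j, Finset.mem_range.1 hj⟩, rfl⟩)
            rwa [show (i : ℕ) + 1 = r - 1 by have := i.2; omega]
        | zero => rw [mulVec_zero]; exact W.zero_mem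
        | add y z _ _ hy hz => rw [mulVec_add]; exact W.add_mem hy hz
        | smul c y _ hy => rw [mulVec_smul]; exact W.smul_mem c hy
      have : X *ᵥ w = ε • (Y *ᵥ w) := by rw [hY, smul_mulVec, smul_smul, he2, one_smul]
      rw [this]
      exact W.smul_mem _ hYw
    rcases hirr.eq_bot_or_top W (hinv W hW) with h | h
    · have : v ∈ W := Submodule.subset_span ⟨⟨0, by have := hr.two_le; omega⟩, by simp⟩
      rw [h, Submodule.mem_bot] at this
      exact hv this
    · have h1 : Module.finrank F W ≤ r - 1 := (finrank_range_le_card _).trans (by simp)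
      rw [h, finrank_top, Module.finrank_fintype_fun_eq_card, hι] at h1
      have := hr.two_le
      omega
  · push Not at hS0
    obtain ⟨u, hu⟩ := hS0
    have hfixu : Y *ᵥ (S *ᵥ u) = S *ᵥ u := by
      rw [mulVec_mulVec]
      congr 1
      have h1 : ∑ i ∈ Finset.range r, Y ^ (i + 1) + Y ^ 0 = S + Y ^ r := by
        rw [hS, ← Finset.sum_range_succ', ← Finset.sum_range_succ]
      rw [hYr, pow_zero] at h1
      rw [hS, Finset.mul_sum, show (∑ i ∈ Finset.range r, Y * Y ^ i) = ∑ i ∈ Finset.range r, Y ^ (i + 1) from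
        Finset.sum_congr rfl fun i _ => (pow_succ' Y i).symm, add_right_cancel h1, hS]
    refine hline _ hu fun g hg => hinv _ (fun w hw => ?_) g hg _ (Submodule.mem_span_singleton_self _)
    obtain ⟨c, rfl⟩ := Submodule.mem_span_singleton.1 hw
    rw [mulVec_smul]
    refine Submodule.smul_mem _ _ (Submodule.mem_span_singleton.2 ⟨ε, ?_⟩)
    conv_lhs => rw [← hfixu, hY, smul_mulVec, smul_smul, he2, one_smul]

variable [Fintype F] {m : ℕ} {H : Subgroup (GL (OI m) F)}

theorem areIsometric_of_map (h2 : (2 : F) ≠ 0) {g : GL (OI m) F} (hg : g ∈ iso (RingHom.id F) (oG m F))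
    {W W' : Submodule F (OI m → F)} (h : W.map (Matrix.toLin' (g : Matrix (OI m) (OI m) F)) = W') :
    AreIsometricFor (Cfsg.quadFormOdd m F) W W' := by
  refine ⟨(LinearEquiv.submoduleMap (Matrix.GeneralLinearGroup.toLin g).toLinearEquiv W).trans
    (LinearEquiv.ofEq _ _ h), fun w => ?_⟩
  refine mul_left_cancel₀ h2 ?_
  rw [← oPolar_self, ← oPolar_self]
  exact mem_iso_iff.1 hg w w

theorem o_scalar_of_comm (h2 : (2 : F) ≠ 0) (hm : 0 < m) (hI : H ≤ Cfsg.isometryGroup F (Cfsg.quadFormOdd m F))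
    (hH : ¬ OClass m F H) {Z : Subalgebra F (Matrix (OI m) (OI m) F)} (hc : ∀ x ∈ Z, ∀ y ∈ Z, x * y = y * x)
    (hn : Normalises H Z) (hd : AdjClosed (RingHom.id F) (oG m F) (Z : Set (Matrix (OI m) (OI m) F))) :
    ∀ z ∈ Z, ∃ c : F, z = c • (1 : Matrix (OI m) (OI m) F) := by
  by_contra hcon
  push Not at hcon
  have hirr := o_irred h2 hI hH
  have hI' := oIso_eq (F := F) (m := m) h2 ▸ hI
  set G := oG m F with hGdef
  set σ := RingHom.id F with hσ
  rcases comm_forms (refl_oG h2) hI' hirr hc hn hd hcon with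
    ⟨t, k, D, hD, hle, htr⟩ | ⟨k, D, e, hD, hs, hle, he, hea, heH⟩ | ⟨r, K, hr, hK, hKd, hle, hKn⟩
  · have hk := hD.decomp.pos
    rcases Nat.lt_or_ge 1 k with hk1 | hk1
    · refine hH (.dec hk1 ⟨?_, fun i j => ?_⟩ hle)
      · rw [oPolar_eq]; exact hD
      · obtain ⟨g, hg, hgij⟩ := htr i j
        exact areIsometric_of_map h2 (hI' hg) hgij
    obtain rfl : k = 1 := by omega
    have htn : t = 2 * m + 1 := by
      have := mdec_card hD.decomp
      rw [mul_one, card_OI] at this
      exact this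
    let i0 : Fin t := ⟨0, by omega⟩
    obtain ⟨w0, hw0, hspan⟩ := finrank_eq_one_iff'.1 (hD.decomp.finrank_eq i0)
    set u0 : OI m → F := (w0 : OI m → F) with hu0
    have hD0 : ∀ y ∈ D i0, ∃ c : F, c • u0 = y := fun y hy => by
      obtain ⟨c, hc⟩ := hspan ⟨y, hy⟩
      exact ⟨c, congrArg Subtype.val hc⟩
    have hu00 : u0 ≠ 0 := fun h => hw0 (Subtype.ext h)
    choose g hg hgD using fun j => htr i0 j
    set w : Fin t → OI m → F := fun j => (g j : Matrix (OI m) (OI m) F) *ᵥ u0 with hw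
    have hwmem : ∀ j, w j ∈ D j := fun j => by
      rw [← hgD j]
      exact ⟨u0, w0.2, rfl⟩
    have hdd : gform σ G u0 u0 ≠ 0 := by
      intro h0
      obtain ⟨⟨x, hx, hxne⟩, -⟩ := hD.nondegenerate i0 u0 w0.2 hu00
      obtain ⟨c, rfl⟩ := hD0 x hx
      rw [gform_smul_left, h0, mul_zero] at hxne
      exact hxne rfl
    refine hH (o_of_frame h2 hI (N := t) htn hm w hdd (fun i j => ?_) fun h hh i => ?_)
    · split_ifs with hij
      · subst hij; exact mem_iso_iff.1 (hI' (hg i)) u0 u0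
      · exact hD.orthogonal i j hij _ (hwmem i) _ (hwmem j)
    · obtain ⟨π, hπ⟩ := hle hh
      have h1 : (h : Matrix (OI m) (OI m) F) *ᵥ w i ∈ D (π i) := by
        rw [← hπ i]; exact ⟨w i, hwmem i, rfl⟩
      rw [← hgD (π i)] at h1
      obtain ⟨y, hy, hy'⟩ := h1
      obtain ⟨c, rfl⟩ := hD0 y hy
      refine ⟨π i, c, ?_⟩
      rw [← hy', Matrix.toLin'_apply, mulVec_smul]
  · have := mdec_card hD
    rw [card_OI] at this
    omega
  · have hrn : r ∣ 2 * m + 1 := card_OI (m := m) ▸ finrank_dvd_card hK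
    have hr2 : r ≠ 2 := fun h => by subst h; omega
    obtain ⟨p, a, hp, hcp, hcard, ha⟩ := exists_char_card (F := F)
    haveI := hcp
    haveI : Fact p.Prime := ⟨hp⟩
    obtain ⟨hfix, hfrob⟩ := fieldSubalgebra_frob hK hcard
    obtain ⟨i, hi⟩ := hfrob (adj σ G) (fun x hx => hKd x hx) (refl_oG h2).adj_one
      (fun x _ y _ => (refl_oG h2).adj_add x y) (fun x hx y hy => by
        rw [(refl_oG h2).adj_mul]; exact hK.comm _ (hKd y hy) _ (hKd x hx))
    have hai : a ∣ i := (pow_fix_iff_field hcard i).1 fun c => by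
      have h1 := hi _ (sc_mem K c)
      rw [(refl_oG h2).adj_smul, (refl_oG h2).adj_one, smul_pow, one_pow] at h1
      have := congrFun (congrFun h1 (Sum.inl ())) (Sum.inl ())
      simpa [σ] using this.symm
    have h2i : a * r ∣ i + i := (hfix _).1 fun x hx => by
      rw [pow_add, pow_mul, ← hi x hx, ← hi _ (hKd x hx), (refl_oG h2).adj_adj]
    obtain ⟨j, rfl⟩ := hai
    have hrj : r ∣ j := by
      rw [← mul_add] at h2i
      have h3 := Nat.dvd_of_mul_dvd_mul_left ha h2i
      rw [← two_mul] at h3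
      exact (hr.dvd_mul.1 h3).resolve_left fun h => hr2 ((Nat.prime_dvd_prime_iff_eq hr Nat.prime_two).1 h)
    have hsa : ∀ x ∈ K, adj σ G x = x := fun x hx => by
      rw [hi x hx]; exact (hfix _).2 (Nat.mul_dvd_mul_left a hrj) x hx
    by_cases hrn' : 2 * m + 1 = r
    · exact not_irred_of_full_field (refl_oG h2) hI' hr (hr.odd_of_ne_two hr2) (card_OI.trans hrn') hK hKn hsa hirr
    · refine hH (.field hr hrn' hK (fun x hx u v => ?_) hle)
      rw [oPolar_eq, (refl_oG h2).adj_spec, hsa x hx]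

end CfsgLib.Perm.Asch
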