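import Cfsg.Agent.Lib.Perm.Asch.Forms.Tensor
import Cfsg.Agent.Lib.Perm.Asch.Perfect

/-!
# Tensor powers carrying a form
-/

set_option autoImplicit false
set_option linter.all false

namespace CfsgLib.Perm.Asch

open scoped Classical Matrix
open Matrix Cfsg.Geo

variable {ι : Type} [Fintype ι] [DecidableEq ι] {F : Type*} [Field F]

theorem sum_single_smul {κ : Type} [Fintype κ] [DecidableEq κ] {t : ℕ} (e : ι ≃ (Fin t → κ)) (P : GL ι F) (i : Fin t)
    (A : Matrix κ κ F) :
    cj P (rx e (slot i A)) = ∑ a, ∑ b, A a b • cj P (rx e (slot i (Matrix.single a b 1))) := by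
  conv_lhs => rw [Matrix.matrix_eq_sum_single A]
  simp only [← slotHom_apply, ← cjAlg_apply, map_sum]
  refine Finset.sum_congr rfl fun a _ => Finset.sum_congr rfl fun b _ => ?_
  rw [show Matrix.single a b (A a b) = A a b • Matrix.single a b (1 : F) by simp, map_smul, map_smul, map_smul]

/-- a minimal normal subgroup that is not simple modulo scalars gives a tensor power of a form -/
theorem exists_power_form [Nonempty ι] [Fintype F] {σ : F →+* F} {G : Matrix ι ι F} (h : Refl σ G)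
    {H M : Subgroup (GL ι F)} (hI : H ≤ iso σ G)
    (hMH : M ≤ H) (hM : NormG H M) (hMA : AbsIrr M) (hperf : ⁅M, M⁆ = M)
    (hmin : ∀ N ≤ M, NormG H N → ¬ N ≤ scalars ι F → N = M)
    (hns : ∃ U ≤ M, NormG M U ∧ ¬ U ≤ scalars ι F ∧ U ≠ M) :
    ∃ (d t : ℕ) (e : ι ≃ (Fin t → Fin d)) (P : GL ι F) (c : F) (G₁ : Matrix (Fin d) (Fin d) F),
      2 ≤ d ∧ 2 ≤ t ∧ H ≤ tensorWreathSubgroup d t e P ∧ c ≠ 0 ∧ G₁.det ≠ 0 ∧
      gramAt σ G e P = c • pure (fun _ => G₁) := by
  obtain ⟨d, t, e, P, hd, ht, hle, U, u, hUM, huA, hspan, hg⟩ :=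
    exists_power_of_not_simple hMH hM hMA hperf hmin hns
  haveI : Nonempty (Fin d) := ⟨⟨0, by omega⟩⟩
  set A := Algebra.adjoin F (matrixSet U)
  have hAd : AdjClosed σ G (A : Set (Matrix ι ι F)) := h.adjClosed_adjoin fun a ha =>
    Algebra.subset_adjoin (h.adjClosed_matrixSet (hUM.trans (hMH.trans hI)) a ha)
  have hdet := gramAt_det_ne_zero (σ := σ) h.det e P
  obtain ⟨c, G₁, hG⟩ := power_of_intertwine (G' := gramAt σ G e P) (by omega) hdet (fun X => by
    obtain ⟨Y, hY⟩ := hspan _ (hAd (∑ a, ∑ b, X a b • u a b)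
      (A.sum_mem fun a _ => A.sum_mem fun b _ => A.smul_mem (huA a b) _))
    refine ⟨Y, fun i => gramAt_adj h e P ?_⟩
    obtain ⟨g, hgH, hg'⟩ := hg i
    have hz : ∀ Z : Matrix (Fin d) (Fin d) F, cj P (rx e (slot i Z)) = cj g (∑ a, ∑ b, Z a b • u a b) := by
      intro Z
      rw [sum_single_smul, ← cjAlg_apply g]
      simp only [map_sum, map_smul, cjAlg_apply, hg']
    rw [hz, h.adj_cj (hI hgH), hY, hz])
  haveI : Nonempty (Fin t → Fin d) := ⟨fun _ => ⟨0, by omega⟩⟩
  have hc : c ≠ 0 := by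
    rintro rfl
    rw [zero_smul] at hG
    exact hdet (by rw [hG, Matrix.det_zero])
  refine ⟨d, t, e, P, c, G₁, hd, ht, hle, hc, fun h0 => ?_, hG⟩
  obtain ⟨v, hv, hv0⟩ := Matrix.exists_mulVec_eq_zero_iff.2 h0
  have h1 : G₁ * Matrix.vecMulVec v v = 0 := by rw [Matrix.mul_vecMulVec, hv0]; ext a b; simp [vecMulVec_apply]
  have h2 : pure (fun _ : Fin t => Matrix.vecMulVec v v) = 0 := by
    have h3 : gramAt σ G e P * pure (fun _ : Fin t => Matrix.vecMulVec v v) = 0 := by
      rw [hG, smul_mul_assoc, pure_mul]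
      ext x y
      simp only [Matrix.smul_apply, pure_apply, Pi.mul_apply, h1, Matrix.zero_apply, smul_eq_mul]
      rw [Finset.prod_eq_zero (Finset.mem_univ ⟨0, by omega⟩) rfl, mul_zero]
    have := congrArg ((gramAt σ G e P)⁻¹ * ·) h3
    simpa [← mul_assoc, Matrix.nonsing_inv_mul _ (Ne.isUnit hdet)] using this
  obtain ⟨a, ha⟩ := Function.ne_iff.1 hv
  have h4 := congrFun (congrFun h2 fun _ => a) fun _ => a
  simp [vecMulVec_apply] at h4
  exact ha h4.1

/-- the factor of a tensor power of a reflexive form is reflexive -/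
theorem power_refl [Nonempty ι] {σ : F →+* F} {G : Matrix ι ι F} (h : Refl σ G) {d t : ℕ} (ht : 0 < t)
    {e : ι ≃ (Fin t → Fin d)} {P : GL ι F} {c : F} (hc : c ≠ 0) {G₁ : Matrix (Fin d) (Fin d) F} (hd1 : G₁.det ≠ 0)
    (hG : gramAt σ G e P = c • pure fun _ => G₁) :
    ∃ ε δ : F, Gᵀ.map σ = ε • G ∧ σ c * δ ^ t = ε * c ∧ G₁ᵀ.map σ = δ • G₁ := by
  obtain ⟨ε, hε⟩ := h.refl
  have key : (gramAt σ G e P)ᵀ.map σ = ε • gramAt σ G e P := by
    apply (rx e).injective
    rw [rx_map, rx_transpose, map_smul, rx_gramAt, Matrix.transpose_mul, Matrix.transpose_mul,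
      Matrix.transpose_transpose, Matrix.map_mul, Matrix.map_mul, Matrix.transpose_map, h.map_map, hε]
    simp only [mul_smul_comm, smul_mul_assoc, mul_assoc]
  have hm : (c • pure (fun _ : Fin t => G₁))ᵀ.map σ = σ c • pure fun _ : Fin t => G₁ᵀ.map σ := by
    ext x y; simp [map_prod]
  rw [hG, hm, smul_smul] at key
  have hne : pure (fun _ : Fin t => G₁ᵀ.map σ) ≠ 0 := by
    intro h0
    have h1 : pure (fun _ : Fin t => G₁) = 0 := by
      have := congrArg (fun X => Xᵀ.map σ) h0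
      ext x y
      have h2 := congrFun (congrFun this x) y
      simp [h.inv, map_prod] at h2
      simpa using h2
    rw [h1, smul_zero] at hG
    haveI : Nonempty (Fin t → Fin d) := ⟨e (Classical.arbitrary ι)⟩
    exact gramAt_det_ne_zero (σ := σ) h.det e P (by rw [hG, Matrix.det_zero])
  have hsc : σ c ≠ 0 := by rwa [ne_eq, map_eq_zero]
  have key' : pure (fun _ : Fin t => G₁ᵀ.map σ) = ((σ c)⁻¹ * (ε * c)) • pure fun _ : Fin t => G₁ := by
    rw [← smul_smul, ← key, smul_smul, inv_mul_cancel₀ hsc, one_smul]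
  obtain ⟨δ, hδ0, hδ⟩ := pure_cancel key' hne ⟨0, ht⟩
  refine ⟨ε, δ, hε, ?_, hδ⟩
  rw [show (fun _ : Fin t => G₁ᵀ.map σ) = fun _ => δ • G₁ from funext fun _ => hδ, pure_smul, smul_smul] at key
  rw [Finset.prod_const, Finset.card_univ, Fintype.card_fin] at key
  obtain ⟨x, y, hxy⟩ : ∃ x y, pure (fun _ : Fin t => G₁) x y ≠ 0 := by
    by_contra hcon
    push Not at hcon
    rw [Matrix.ext (N := 0) hcon, smul_zero] at hG
    haveI : Nonempty (Fin t → Fin d) := ⟨e (Classical.arbitrary ι)⟩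
    exact gramAt_det_ne_zero (σ := σ) h.det e P (by rw [hG, Matrix.det_zero])
  have := congrFun (congrFun key x) y
  rw [Matrix.smul_apply, Matrix.smul_apply, smul_eq_mul, smul_eq_mul] at this
  exact mul_right_cancel₀ hxy this

theorem pure_update_add {κ : Type} [Fintype κ] [DecidableEq κ] {t : ℕ} (A : Fin t → Matrix κ κ F) (i : Fin t)
    (X Y : Matrix κ κ F) :
    pure (Function.update A i X) + pure (Function.update A i Y) = pure (Function.update A i (X + Y)) := by
  ext x y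
  simp only [Matrix.add_apply, pure_apply]
  rw [← Finset.mul_prod_erase _ _ (Finset.mem_univ i), ← Finset.mul_prod_erase _ _ (Finset.mem_univ i),
    ← Finset.mul_prod_erase _ _ (Finset.mem_univ i), Function.update_self, Function.update_self, Function.update_self,
    Matrix.add_apply, add_mul]
  congr 1 <;> congr 1 <;>
  · refine Finset.prod_congr rfl fun j hj => ?_
    rw [Function.update_of_ne (Finset.ne_of_mem_erase hj), Function.update_of_ne (Finset.ne_of_mem_erase hj)]

theorem permMat_congr_diag {κ : Type} [Fintype κ] [DecidableEq κ] {t : ℕ} (π : Equiv.Perm (Fin t))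
    (A : Matrix (Fin t → κ) (Fin t → κ) F) (x : Fin t → κ) :
    ((permMat π : Matrix (Fin t → κ) (Fin t → κ) F)ᵀ * A * (permMat π : Matrix (Fin t → κ) (Fin t → κ) F)) x x =
      A (x ∘ π.symm) (x ∘ π.symm) := by
  rw [permMat_transpose, mul_assoc, permMat_mul, mul_permMat]
  rfl

end CfsgLib.Perm.Asch
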