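import Cfsg.Agent.Lib.Perm.Asch.Forms.SpTensor

/-!
# Clifford's theorem for the symplectic groups
-/

set_option autoImplicit false
set_option linter.all false

namespace CfsgLib.Perm.Asch

open scoped Classical Matrix Kronecker
open Matrix Cfsg.Geo

variable {F : Type*} [Field F]

/-- isometries stabilising a tensor decomposition of the form are built from similitudes of the factors -/
theorem tensor_similitude {ι : Type} [Fintype ι] [DecidableEq ι] [Nonempty ι] {σ : F →+* F} {G : Matrix ι ι F}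
    (hdet : G.det ≠ 0) {d k : ℕ} {e : ι ≃ Fin d × Fin k} {P : GL ι F} {G₁ : Matrix (Fin d) (Fin d) F}
    {G₂ : Matrix (Fin k) (Fin k) F} (hG : gramAt σ G e P = G₁ ⊗ₖ G₂) {g : GL ι F} (hgI : g ∈ iso σ G)
    (hg : g ∈ tensorProductSubgroup d k e P) :
    ∃ (kk : GL (Fin d × Fin k) F) (a : GL (Fin d) F) (b : GL (Fin k) F) (c : F),
      g = P * glReindex e.symm kk * P⁻¹ ∧ c ≠ 0 ∧
      (kk : Matrix (Fin d × Fin k) (Fin d × Fin k) F) = (a : Matrix (Fin d) (Fin d) F) ⊗ₖ (b : Matrix (Fin k) (Fin k) F) ∧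
      (a : Matrix (Fin d) (Fin d) F)ᵀ * G₁ * (a : Matrix (Fin d) (Fin d) F).map σ = c • G₁ ∧
      (b : Matrix (Fin k) (Fin k) F)ᵀ * G₂ * (b : Matrix (Fin k) (Fin k) F).map σ = c⁻¹ • G₂ := by
  obtain ⟨kk, a, b, rfl, hkk⟩ := tensorProduct_elem hg
  haveI : Nonempty (Fin d × Fin k) := ⟨e (Classical.arbitrary ι)⟩
  have hiso := gramAt_isometry (σ := σ) (G := G) e P (k := kk) hgI
  have hne := gramAt_det_ne_zero (σ := σ) hdet e P
  rw [hG] at hiso hne
  have hkm : ((a : Matrix (Fin d) (Fin d) F) ⊗ₖ (b : Matrix (Fin k) (Fin k) F)).map σ =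
      (a : Matrix (Fin d) (Fin d) F).map σ ⊗ₖ (b : Matrix (Fin k) (Fin k) F).map σ := by
    ext ⟨i, p⟩ ⟨j, r⟩; simp [Matrix.kronecker_apply]
  rw [hkk, hkm, ← Matrix.kroneckerMap_transpose, ← Matrix.mul_kronecker_mul, ← Matrix.mul_kronecker_mul] at hiso
  obtain ⟨c, hc0, e1, e2⟩ := kronecker_cancel hiso.symm (fun h0 => hne (by rw [h0, Matrix.det_zero]))
  exact ⟨kk, a, b, c, rfl, hc0, hkk, e1, e2⟩

variable [Fintype F] {m : ℕ} {H : Subgroup (GL (Fin m ⊕ Fin m) F)}

/-- in characteristic two a factor that is not alternating gives an invariant subspace -/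
theorem sp_tensor_alternating (hI : H ≤ Cfsg.spGL m F) (hirr : Irred H) (hm : 0 < m) [CharP F 2] {d k : ℕ}
    (hd : 2 ≤ d) {e : (Fin m ⊕ Fin m) ≃ Fin d × Fin k} {P : GL (Fin m ⊕ Fin m) F}
    {G₁ : Matrix (Fin d) (Fin d) F} {G₂ : Matrix (Fin k) (Fin k) F}
    (hle : H ≤ tensorProductSubgroup d k e P)
    (hG : gramAt (RingHom.id F) (Matrix.J (Fin m) F) e P = G₁ ⊗ₖ G₂) (h1 : G₁ᵀ = G₁) : ∀ i, G₁ i i = 0 := by
  intro i
  by_contra hi
  haveI : Nonempty (Fin m ⊕ Fin m) := ⟨Sum.inl ⟨0, hm⟩⟩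
  haveI : Nonempty (Fin k) := ⟨(e (Classical.arbitrary _)).2⟩
  obtain ⟨E, hE0, hEd, hEs⟩ := exists_row h1 hi
  rw [spGL_eq] at hI
  set X := cj P (rx e (E ⊗ₖ (1 : Matrix (Fin k) (Fin k) F)))
  refine not_irred_of_killed (S := {X}) ⟨X, rfl, fun h0 => hE0 ?_⟩ ?_ ?_ hirr
  · have h' : E ⊗ₖ (1 : Matrix (Fin k) (Fin k) F) = 0 := by
      apply (rx e).injective
      apply cj_injective P
      show X = _
      rw [h0, map_zero]
      simp [cj]
    ext a b
    have := congrFun (congrFun h' (a, Classical.arbitrary _)) (b, Classical.arbitrary _)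
    simpa [Matrix.kronecker_apply] using this
  · have hX : X.det = 0 := by
      have h1' : (E ⊗ₖ (1 : Matrix (Fin k) (Fin k) F)).det = 0 := by
        rw [Matrix.det_kronecker, hEd hd, zero_pow (Fintype.card_pos (α := Fin k)).ne', zero_mul]
      show (cj P (Matrix.reindexAlgEquiv F F e.symm _)).det = 0
      rw [cj, Matrix.det_mul, Matrix.det_mul, Matrix.det_reindexAlgEquiv, h1', mul_zero, zero_mul]
    obtain ⟨v, hv0, hv⟩ := Matrix.exists_mulVec_eq_zero_iff.2 hX
    intro hb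
    have : v ∈ killed ({X} : Set (Matrix (Fin m ⊕ Fin m) (Fin m ⊕ Fin m) F)) := fun s hs => by
      rw [Set.mem_singleton_iff.1 hs]; exact hv
    rw [hb] at this
    exact hv0 this
  · rintro g hg s rfl
    obtain ⟨kk, a, b, c, rfl, hc0, hkk, ha, -⟩ := tensor_similitude refl_J.det hG (hI hg) (hle hg)
    simp only [RingHom.coe_id, Matrix.map_id] at ha
    obtain ⟨t, ht⟩ := hEs _ c ha
    refine ⟨cj P (rx e (t • ((1 : Matrix (Fin d) (Fin d) F) ⊗ₖ (b : Matrix (Fin k) (Fin k) F)))), X, rfl, ?_⟩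
    have hgc : ((P * glReindex e.symm kk * P⁻¹ : GL (Fin m ⊕ Fin m) F) : Matrix (Fin m ⊕ Fin m) (Fin m ⊕ Fin m) F) =
        cj P (rx e (kk : Matrix (Fin d × Fin k) (Fin d × Fin k) F)) := (cj_coe _ _).symm.trans rfl
    rw [hgc, ← cj_mul, ← cj_mul, ← map_mul, ← map_mul, hkk, ← Matrix.mul_kronecker_mul, one_mul, ht, smul_mul_assoc,
      ← Matrix.mul_kronecker_mul, one_mul, mul_one, Matrix.smul_kronecker]

theorem sp_absIrr_of_normal (hm : 0 < m) (hI : H ≤ Cfsg.spGL m F) (hH : ¬ SpClass m F H)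
    {N : Subgroup (GL (Fin m ⊕ Fin m) F)} (hN : NormG H N) (hNI : N ≤ Cfsg.spGL m F)
    (hNs : ¬ N ≤ scalars (Fin m ⊕ Fin m) F) : AbsIrr N := by
  haveI : Nonempty (Fin m ⊕ Fin m) := ⟨Sum.inl ⟨0, hm⟩⟩
  have hirr := sp_irred hI hH
  refine (absIrr_or_tensor refl_J hirr (fun Z hc hn hd => sp_scalar_of_comm hm hI hH hc hn hd) hN
    (spGL_eq (F := F) (m := m) ▸ hNI) hNs).resolve_right ?_
  rintro ⟨d, k, e, P, G₁, G₂, hd, hk, hle, hG⟩
  obtain ⟨hd1, hd2, ε, c₁, c₂, hε, hc, e1, e2⟩ := factor_refl refl_J hG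
  simp only [RingHom.coe_id, Matrix.map_id] at hε e1 e2
  haveI : Nonempty (Fin d) := ⟨⟨0, by omega⟩⟩
  have hε' : ε = -1 := by
    rw [Matrix.J_transpose] at hε
    obtain ⟨i, j, hij⟩ : ∃ i j, Matrix.J (Fin m) F i j ≠ 0 := by
      by_contra hcon
      push Not at hcon
      exact (refl_J (F := F) (m := m)).ne_zero (Matrix.ext hcon)
    have := congrFun (congrFun hε i) j
    rw [Matrix.neg_apply, Matrix.smul_apply, smul_eq_mul] at this
    exact mul_right_cancel₀ hij (by linear_combination -this)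
  have hc1 : c₁ * c₁ = 1 := by
    obtain ⟨i, j, hij⟩ : ∃ i j, G₁ i j ≠ 0 := by
      by_contra hcon
      push Not at hcon
      exact hd1 (by rw [show G₁ = 0 from Matrix.ext hcon, Matrix.det_zero])
    have h1 := congrFun (congrFun e1 i) j
    have h2 := congrFun (congrFun e1 j) i
    rw [Matrix.transpose_apply, Matrix.smul_apply, smul_eq_mul] at h1 h2
    rw [h1] at h2
    exact mul_right_cancel₀ hij (by linear_combination -h2)
  rw [hε'] at hc
  rcases mul_self_eq_one_iff.1 hc1 with h | h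
  · -- symmetric first factor
    rw [h, one_smul] at e1
    rw [h, one_mul] at hc
    rw [hc, neg_smul, one_smul] at e2
    by_cases hq : Odd (Fintype.card F)
    · exact sp_tensor_ordered hI hH hq hk hd (le_trans hle (tensorProduct_swap e P)) (gramAt_swap _ e P hG) e2 e1
    · haveI := charTwo_of_even hq
      have e2' : G₂ᵀ = G₂ := by rw [e2]; ext a b; simp [CharTwo.neg_eq]
      have hz1 := sp_tensor_alternating hI hirr hm hd hle hG e1
      have hz2 := sp_tensor_alternating hI hirr hm hk (le_trans hle (tensorProduct_swap e P)) (gramAt_swap _ e P hG) e2'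
      refine hH (sp_quad_of_matrix hq hI e P (T := upper G₁ ⊗ₖ G₂) ?_ fun g hg => ?_)
      · rw [← Matrix.kroneckerMap_transpose, e2', ← Matrix.add_kronecker, upper_add e1 hz1, hG]
      · obtain ⟨kk, a, b, c, rfl, hc0, hkk, -, hb⟩ :=
          tensor_similitude refl_J.det hG ((spGL_eq (F := F) (m := m) ▸ hI) hg) (hle hg)
        simp only [RingHom.coe_id, Matrix.map_id] at hb
        refine ⟨kk, rfl, fun x => ?_⟩
        rw [hkk, ← Matrix.kroneckerMap_transpose, ← Matrix.mul_kronecker_mul, ← Matrix.mul_kronecker_mul, hb]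
        show _ * ((c⁻¹ • G₂) x.2 x.2) = _ * G₂ x.2 x.2
        rw [Matrix.smul_apply, hz2, smul_zero, mul_zero, mul_zero]
  · -- alternating first factor
    by_cases hq : Odd (Fintype.card F)
    · rw [h, neg_smul, one_smul] at e1
      rw [h] at hc
      have hc2 : c₂ = 1 := by linear_combination -hc
      rw [hc2, one_smul] at e2
      exact sp_tensor_ordered hI hH hq hd hk hle hG e1 e2
    · haveI := charTwo_of_even hq
      rw [h, neg_smul, one_smul] at e1
      have e1' : G₁ᵀ = G₁ := by rw [e1]; ext a b; simp [CharTwo.neg_eq]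
      rw [h, CharTwo.neg_eq, one_mul] at hc
      have e2' : G₂ᵀ = G₂ := by rw [e2, hc]; ext a b; simp [CharTwo.neg_eq]
      have hz1 := sp_tensor_alternating hI hirr hm hd hle hG e1'
      have hz2 := sp_tensor_alternating hI hirr hm hk (le_trans hle (tensorProduct_swap e P)) (gramAt_swap _ e P hG) e2'
      refine hH (sp_quad_of_matrix hq hI e P (T := upper G₁ ⊗ₖ G₂) ?_ fun g hg => ?_)
      · rw [← Matrix.kroneckerMap_transpose, e2', ← Matrix.add_kronecker, upper_add e1' hz1, hG]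
      · obtain ⟨kk, a, b, c, rfl, hc0, hkk, -, hb⟩ :=
          tensor_similitude refl_J.det hG ((spGL_eq (F := F) (m := m) ▸ hI) hg) (hle hg)
        simp only [RingHom.coe_id, Matrix.map_id] at hb
        refine ⟨kk, rfl, fun x => ?_⟩
        rw [hkk, ← Matrix.kroneckerMap_transpose, ← Matrix.mul_kronecker_mul, ← Matrix.mul_kronecker_mul, hb]
        show _ * ((c⁻¹ • G₂) x.2 x.2) = _ * G₂ x.2 x.2
        rw [Matrix.smul_apply, hz2, smul_zero, mul_zero, mul_zero]

end CfsgLib.Perm.Asch
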