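import Cfsg.Agent.Lib.Perm.Asch.Forms.SpProper

/-!
# Numerical conditions on the classes of the symplectic groups
-/

set_option autoImplicit false
set_option linter.all false

namespace CfsgLib.Perm.Asch

open scoped Classical Matrix Kronecker
open Matrix Cfsg.Geo

section Generic
variable {ι : Type} [Fintype ι] [DecidableEq ι] {F : Type*} [Field F]

theorem bilin_sum_right {f : (ι → F) → (ι → F) → F} (hb : IsBilinearForm f) {α : Type*} (s : Finset α)
    (u : ι → F) (x : α → ι → F) : f u (∑ i ∈ s, x i) = ∑ i ∈ s, f u (x i) :=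
  map_sum (AddMonoidHom.mk' (f u) (hb.add_right u)) x s

theorem bilin_sum_left {f : (ι → F) → (ι → F) → F} (hb : IsBilinearForm f) {α : Type*} (s : Finset α)
    (u : ι → F) (x : α → ι → F) : f (∑ i ∈ s, x i) u = ∑ i ∈ s, f (x i) u :=
  map_sum (AddMonoidHom.mk' (fun v => f v u) (fun a b => hb.add_left a b u)) x s

theorem bilin_skew {f : (ι → F) → (ι → F) → F} (hb : IsBilinearForm f) (ha : ∀ v, f v v = 0) (u v : ι → F) :
    f u v = - f v u := by
  have h := ha (u + v)
  rw [hb.add_left, hb.add_right, hb.add_right, ha, ha] at h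
  linear_combination h

/-- over a self-adjoint field of degree `d` a non-degenerate alternating space has dimension divisible by `2 d` -/
theorem two_mul_dvd_finrank {f : (ι → F) → (ι → F) → F} (hb : IsBilinearForm f)
    (K : Subalgebra F (Matrix ι ι F)) (hcomm : ∀ x ∈ K, ∀ y ∈ K, x * y = y * x)
    (hinv : ∀ x ∈ K, x ≠ 0 → ∃ y ∈ K, x * y = 1) (hsa : ∀ k ∈ K, ∀ u v, f (k *ᵥ u) v = f u (k *ᵥ v))
    (halt : ∀ k ∈ K, ∀ v, f (k *ᵥ v) v = 0) (W : Submodule F (ι → F))
    (hWK : ∀ k ∈ K, ∀ w ∈ W, k *ᵥ w ∈ W) (hW : ∀ w ∈ W, (∀ u ∈ W, f u w = 0) → w = 0) :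
    2 * Module.finrank F K ∣ Module.finrank F W := by
  have ha : ∀ v, f v v = 0 := fun v => by simpa using halt 1 K.one_mem v
  induction hn : Module.finrank F W using Nat.strong_induction_on generalizing W with
  | _ n ih =>
  subst hn
  by_cases hbot : W = ⊥
  · rw [hbot, finrank_bot]; exact dvd_zero _
  obtain ⟨v, hv, hv0⟩ := Submodule.exists_mem_ne_zero_of_ne_bot hbot
  obtain ⟨w, hw, hwv⟩ : ∃ w ∈ W, f v w ≠ 0 := by
    by_contra hcon
    push Not at hcon
    exact hv0 (hW v hv fun u hu => by rw [bilin_skew hb ha, hcon u hu, neg_zero])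
  let ψ : (K × K) →ₗ[F] (ι → F) :=
    { toFun := fun p => (p.1 : Matrix ι ι F) *ᵥ v + (p.2 : Matrix ι ι F) *ᵥ w
      map_add' := fun p q => by
        simp only [Prod.fst_add, Prod.snd_add, Subalgebra.coe_add, Matrix.add_mulVec]; abel
      map_smul' := fun c p => by
        simp only [Prod.smul_fst, Prod.smul_snd, Subalgebra.coe_smul, Matrix.smul_mulVec, smul_add, RingHom.id_apply] }
  have hzero : ∀ a ∈ K, ∀ b ∈ K, f (a *ᵥ v) (b *ᵥ v) = 0 := fun a ha' b hb' => by
    rw [← hsa b hb', Matrix.mulVec_mulVec]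
    exact halt _ (K.mul_mem hb' ha') v
  have hzero' : ∀ a ∈ K, ∀ b ∈ K, f (a *ᵥ w) (b *ᵥ w) = 0 := fun a ha' b hb' => by
    rw [← hsa b hb', Matrix.mulVec_mulVec]
    exact halt _ (K.mul_mem hb' ha') w
  have hpair : ∀ b ∈ K, (∀ k ∈ K, f (k *ᵥ v) (b *ᵥ w) = 0) → b = 0 := fun b hbK h => by
    by_contra hne
    obtain ⟨y, hy, hby⟩ := hinv b hbK hne
    have h1 := h y hy
    rw [← hsa b hbK, Matrix.mulVec_mulVec, hby, Matrix.one_mulVec] at h1
    exact hwv h1
  have hψ : Function.Injective ψ := by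
    rw [injective_iff_map_eq_zero]
    rintro ⟨⟨a, haK⟩, ⟨b, hbK⟩⟩ h
    change a *ᵥ v + b *ᵥ w = 0 at h
    have hz0 : ∀ u, f u (0 : ι → F) = 0 := fun u => by simpa using hb.smul_right 0 u 0
    have hb0 : b = 0 := hpair b hbK fun k hk => by
      have h1 := congrArg (f (k *ᵥ v)) h
      rwa [hb.add_right, hzero k hk a haK, zero_add, hz0] at h1
    subst hb0
    rw [Matrix.zero_mulVec, add_zero] at h
    have ha0 : a = 0 := by
      by_contra hne
      obtain ⟨y, hy, hay⟩ := hinv a haK hne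
      rw [hcomm a haK y hy] at hay
      have h1 := congrArg (y *ᵥ ·) h
      simp only [Matrix.mulVec_mulVec, hay, Matrix.one_mulVec, Matrix.mulVec_zero] at h1
      exact hv0 h1
    subst ha0
    rfl
  have hUW : LinearMap.range ψ ≤ W := by
    rintro _ ⟨p, rfl⟩
    exact W.add_mem (hWK _ p.1.2 v hv) (hWK _ p.2.2 w hw)
  have hUd : Module.finrank F (LinearMap.range ψ) = Module.finrank F K + Module.finrank F K := by
    rw [LinearMap.finrank_range_of_inj hψ, Module.finrank_prod]
  let L : W →ₗ[F] (K →ₗ[F] F) × (K →ₗ[F] F) :=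
    { toFun := fun x =>
        ({ toFun := fun k => f ((k : Matrix ι ι F) *ᵥ v) x
           map_add' := fun k k' => by simp only [Subalgebra.coe_add, Matrix.add_mulVec, hb.add_left]
           map_smul' := fun c k => by simp only [Subalgebra.coe_smul, Matrix.smul_mulVec, hb.smul_left, RingHom.id_apply, smul_eq_mul] },
         { toFun := fun k => f ((k : Matrix ι ι F) *ᵥ w) x
           map_add' := fun k k' => by simp only [Subalgebra.coe_add, Matrix.add_mulVec, hb.add_left]
           map_smul' := fun c k => by simp only [Subalgebra.coe_smul, Matrix.smul_mulVec, hb.smul_left, RingHom.id_apply, smul_eq_mul] })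
      map_add' := fun x y => by
        refine Prod.ext (LinearMap.ext fun k => ?_) (LinearMap.ext fun k => ?_) <;> exact hb.add_right _ _ _
      map_smul' := fun c x => by
        refine Prod.ext (LinearMap.ext fun k => ?_) (LinearMap.ext fun k => ?_) <;> exact hb.smul_right _ _ _ }
  set W' := (LinearMap.ker L).map W.subtype with hW'
  have hmem : ∀ x, x ∈ W' ↔ x ∈ W ∧ ∀ k ∈ K, f (k *ᵥ v) x = 0 ∧ f (k *ᵥ w) x = 0 := by
    intro x
    constructor
    · rintro ⟨⟨y, hy⟩, hyL, rfl⟩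
      exact ⟨hy, fun k hk => ⟨LinearMap.congr_fun (congrArg Prod.fst hyL) ⟨k, hk⟩,
        LinearMap.congr_fun (congrArg Prod.snd hyL) ⟨k, hk⟩⟩⟩
    · rintro ⟨hx, h⟩
      exact ⟨⟨x, hx⟩, Prod.ext (LinearMap.ext fun k => (h k k.2).1) (LinearMap.ext fun k => (h k k.2).2), rfl⟩
  have hdis : W' ⊓ LinearMap.range ψ = ⊥ := by
    rw [Submodule.eq_bot_iff]
    rintro x ⟨hx, ⟨⟨a, haK⟩, ⟨b, hbK⟩⟩, rfl⟩
    obtain ⟨-, h⟩ := (hmem _).1 hx
    have hb0 : b = 0 := hpair b hbK fun k hk => by
      have h1 := (h k hk).1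
      change f (k *ᵥ v) (a *ᵥ v + b *ᵥ w) = 0 at h1
      rwa [hb.add_right, hzero k hk a haK, zero_add] at h1
    have ha0 : a = 0 := hpair a haK fun k hk => by
      have h1 := (h a haK).2
      change f (a *ᵥ w) (a *ᵥ v + b *ᵥ w) = 0 at h1
      have h2 := (h k hk).2
      change f (k *ᵥ w) (a *ᵥ v + b *ᵥ w) = 0 at h2
      rw [hb.add_right, hzero' k hk b hbK, add_zero, bilin_skew hb ha, neg_eq_zero, hsa a haK,
        Matrix.mulVec_mulVec, hcomm a haK k hk, ← Matrix.mulVec_mulVec, ← hsa k hk] at h2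
      exact h2
    subst ha0; subst hb0
    simp [ψ]
  have hdim : Module.finrank F W = Module.finrank F W' + (Module.finrank F K + Module.finrank F K) := by
    refine le_antisymm ?_ ?_
    · have h1 := LinearMap.finrank_range_add_finrank_ker L
      have h2 : Module.finrank F (LinearMap.range L) ≤ Module.finrank F K + Module.finrank F K := by
        refine (Submodule.finrank_le _).trans (le_of_eq ?_)
        rw [Module.finrank_prod, Module.finrank_linearMap, Module.finrank_self, mul_one]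
      rw [← Submodule.finrank_map_subtype_eq W (LinearMap.ker L), ← hW'] at h1
      omega
    · have h1 := Submodule.finrank_sup_add_finrank_inf_eq W' (LinearMap.range ψ)
      rw [hdis, finrank_bot, hUd, add_zero] at h1
      rw [← h1]
      exact Submodule.finrank_mono (sup_le (fun x hx => ((hmem x).1 hx).1) hUW)
  have hsup : W' ⊔ LinearMap.range ψ = W := by
    refine Submodule.eq_of_le_of_finrank_eq (sup_le (fun x hx => ((hmem x).1 hx).1) hUW) ?_
    have h1 := Submodule.finrank_sup_add_finrank_inf_eq W' (LinearMap.range ψ)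
    rw [hdis, finrank_bot, hUd, add_zero] at h1
    omega
  rcases Nat.eq_zero_or_pos (Module.finrank F K) with hK0 | hKpos
  · haveI : Nontrivial K := ⟨⟨0, 1, fun h => hv0 (by
      have := congrArg (fun k : K => (k : Matrix ι ι F) *ᵥ v) h
      simpa using this.symm)⟩⟩
    exact absurd hK0 (Module.finrank_pos).ne'
  have hlt : Module.finrank F W' < Module.finrank F W := by omega
  have hdvd := ih _ hlt W' (fun k hk x hx => ?_) (fun x hx h => ?_) rfl
  · rw [hdim]
    exact Nat.dvd_add hdvd (by rw [two_mul])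
  · obtain ⟨hxW, h⟩ := (hmem x).1 hx
    refine (hmem _).2 ⟨hWK k hk x hxW, fun k' hk' => ⟨?_, ?_⟩⟩ <;>
      rw [← hsa k hk, Matrix.mulVec_mulVec]
    · exact (h _ (K.mul_mem hk hk')).1
    · exact (h _ (K.mul_mem hk hk')).2
  · obtain ⟨hxW, hx'⟩ := (hmem x).1 hx
    refine hW x hxW fun u hu => ?_
    rw [← hsup] at hu
    obtain ⟨y, hy, _, ⟨⟨a, b⟩, rfl⟩, rfl⟩ := Submodule.mem_sup.1 hu
    rw [hb.add_left, h y hy, zero_add]
    show f ((a : Matrix ι ι F) *ᵥ v + (b : Matrix ι ι F) *ᵥ w) x = 0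
    rw [hb.add_left, (hx' _ a.2).1, (hx' _ b.2).2, add_zero]

theorem finrank_scalars_sub [Nonempty ι] : Module.finrank F (⊥ : Subalgebra F (Matrix ι ι F)) = 1 :=
  Subalgebra.finrank_bot

/-- a non-degenerate alternating subspace has even dimension -/
theorem even_finrank_of_alternating {f : (ι → F) → (ι → F) → F} (hb : IsBilinearForm f) (ha : ∀ v, f v v = 0)
    {W : Submodule F (ι → F)} (hW : IsNondegenerateOn f W) : Even (Module.finrank F W) := by
  rcases isEmpty_or_nonempty ι with hι | hι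
  · rw [Submodule.eq_bot_of_subsingleton (p := W), finrank_bot]
    exact ⟨0, rfl⟩
  have hsc : ∀ k ∈ (⊥ : Subalgebra F (Matrix ι ι F)), ∃ c : F, k = c • (1 : Matrix ι ι F) := fun k hk => by
    obtain ⟨c, rfl⟩ := Algebra.mem_bot.1 hk
    exact ⟨c, Algebra.algebraMap_eq_smul_one c⟩
  have h := two_mul_dvd_finrank hb ⊥ ?_ ?_ ?_ ?_ W ?_ fun w hw h => ?_
  · rw [finrank_scalars_sub, mul_one] at h
    exact even_iff_two_dvd.2 h
  · intro x hx y hy
    obtain ⟨c, rfl⟩ := hsc x hx
    simp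
  · intro x hx hx0
    obtain ⟨c, rfl⟩ := hsc x hx
    have hc : c ≠ 0 := fun h => hx0 (by rw [h, zero_smul])
    exact ⟨c⁻¹ • 1, Subalgebra.smul_mem _ (one_mem _) _, by simp [smul_smul, hc]⟩
  · intro k hk u v
    obtain ⟨c, rfl⟩ := hsc k hk
    simp only [Matrix.smul_mulVec, Matrix.one_mulVec, hb.smul_left, hb.smul_right]
  · intro k hk v
    obtain ⟨c, rfl⟩ := hsc k hk
    simp only [Matrix.smul_mulVec, Matrix.one_mulVec, hb.smul_left, ha, mul_zero]
  · intro k hk w hw
    obtain ⟨c, rfl⟩ := hsc k hk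
    simp only [Matrix.smul_mulVec, Matrix.one_mulVec]
    exact W.smul_mem c hw
  · by_contra h0
    obtain ⟨⟨x, hx, hne⟩, -⟩ := hW w hw h0
    exact hne (h x hx)

theorem isSymplecticForm_even {n : ℕ} {f : (Fin n → F) → (Fin n → F) → F} (hf : IsSymplecticForm f) : Even n := by
  have h := even_finrank_of_alternating hf.bilinear hf.alternating (W := ⊤) fun w _ hw => by
    obtain ⟨⟨x, hx⟩, ⟨y, hy⟩⟩ := hf.nondegenerate w hw
    exact ⟨⟨x, trivial, hx⟩, ⟨y, trivial, hy⟩⟩
  rwa [finrank_top, Module.finrank_fin_fun] at h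

/-- components along an orthogonal decomposition -/
theorem exists_components {f : (ι → F) → (ι → F) → F} (hb : IsBilinearForm f) {t k : ℕ}
    {D : Fin t → Submodule F (ι → F)} (hD : IsNondegenerateMDecomposition f k D) :
    ∃ p : Fin t → (ι → F) → (ι → F), (∀ i v, p i v ∈ D i) ∧ (∀ v, ∑ i, p i v = v) ∧
      ∀ v (x : Fin t → ι → F), (∀ i, x i ∈ D i) → ∑ i, x i = v → ∀ i, p i v = x i := by
  have hex : ∀ v, ∃ x : Fin t → ι → F, (∀ i, x i ∈ D i) ∧ ∑ i, x i = v := by
    intro v
    have hv : v ∈ ⨆ i, D i := by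
      rw [show (⨆ i, D i) = ⊤ from hD.decomp.iSup_eq_top]; trivial
    induction hv using Submodule.iSup_induction' with
    | mem i y hy =>
      refine ⟨Pi.single i y, fun j => ?_, by simp [Finset.sum_pi_single']⟩
      rcases eq_or_ne j i with rfl | hj
      · simpa using hy
      · simp [Pi.single_eq_of_ne hj]
    | zero => exact ⟨0, fun i => (D i).zero_mem, by simp⟩
    | add a b _ _ ha hb' =>
      obtain ⟨x, hx, rfl⟩ := ha
      obtain ⟨y, hy, rfl⟩ := hb'
      exact ⟨x + y, fun i => (D i).add_mem (hx i) (hy i), by simp [Finset.sum_add_distrib]⟩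
  choose p hp hps using hex
  refine ⟨fun i v => p v i, fun i v => hp v i, hps, fun v x hx hxs i => ?_⟩
  refine sub_eq_zero.1 ?_
  by_contra h0
  have hmem := (D i).sub_mem (hp v i) (hx i)
  obtain ⟨⟨u, hu, hne⟩, -⟩ := hD.nondegenerate i _ hmem h0
  refine hne ?_
  have hsum : ∑ j, (p v j - x j) = 0 := by rw [Finset.sum_sub_distrib, hps, hxs, sub_self]
  have h1 := congrArg (f u) hsum
  rw [bilin_sum_right hb, Finset.sum_eq_single i (fun j _ hj =>
    hD.orthogonal i j hj.symm u hu _ ((D j).sub_mem (hp v j) (hx j))) (by simp)] at h1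
  rw [h1]
  simpa using hb.smul_right 0 u 0

/-- over two elements the stabiliser of an orthogonal decomposition into planes fixes a quadratic form -/
theorem quad_of_planes [Fintype F] (hq : Fintype.card F = 2) {f : (ι → F) → (ι → F) → F} (hb : IsBilinearForm f)
    (ha : ∀ v, f v v = 0) (hn : IsNondegenerateForm f) {t : ℕ} {D : Fin t → Submodule F (ι → F)}
    (hD : IsNondegenerateMDecomposition f 2 D) :
    ∃ Q : (ι → F) → F, IsNondegenerateQuadraticForm Q ∧ (∀ u v, QuadraticMap.polar Q u v = f u v) ∧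
      decompositionStabilizer D ≤ quadSimilarityGroup Q := by
  have hF : ∀ c : F, c = 0 ∨ c = 1 := by
    intro c
    by_contra hc
    push Not at hc
    have h3 : ({0, 1, c} : Finset F).card = 3 := Finset.card_eq_three.2 ⟨0, 1, c, zero_ne_one, hc.1.symm, hc.2.symm, rfl⟩
    have := Finset.card_le_univ ({0, 1, c} : Finset F)
    omega
  have h2 : (1 : F) + 1 = 0 := (hF (1 + 1)).resolve_right fun h => one_ne_zero (add_eq_left.1 h)
  obtain ⟨p, hp, hps, hpu⟩ := exists_components hb hD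
  let q : (ι → F) → F := fun x => if x = 0 then 0 else 1
  let Q : (ι → F) → F := fun v => ∑ i, q (p i v)
  have hz : ∀ u, f u (0 : ι → F) = 0 := fun u => by simpa using hb.smul_right 0 u 0
  have hz' : ∀ u, f (0 : ι → F) u = 0 := fun u => by simpa using hb.smul_left 0 0 u
  have hplane : ∀ i, ∀ u ∈ D i, ∀ w ∈ D i, q (u + w) - q u - q w = f u w := by
    intro i u hu w hw
    simp only [q]
    by_cases hu0 : u = 0
    · subst hu0; simp [hz']
    by_cases hw0 : w = 0
    · subst hw0; simp [hz, hu0]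
    by_cases huw : u + w = 0
    · have hwu : w = -u := eq_neg_of_add_eq_zero_right huw
      rw [hwu, ← neg_one_smul F u, hb.smul_right, ha, mul_zero, neg_one_smul, if_pos (add_neg_cancel u), if_neg hu0,
        if_neg (neg_ne_zero.2 hu0)]
      linear_combination -h2
    rw [if_neg huw, if_neg hu0, if_neg hw0]
    rcases hF (f u w) with h | h
    swap
    · rw [h]; linear_combination -h2
    exfalso
    have hind : LinearIndependent F ![u, w] := by
      rw [LinearIndependent.pair_iff]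
      intro a b hab
      rcases hF a with rfl | rfl <;> rcases hF b with rfl | rfl
      · exact ⟨rfl, rfl⟩
      · simp at hab; exact absurd hab hw0
      · simp at hab; exact absurd hab hu0
      · simp at hab; exact absurd hab huw
    have hspan : Submodule.span F (Set.range ![u, w]) = D i := by
      refine Submodule.eq_of_le_of_finrank_eq (Submodule.span_le.2 ?_) ?_
      · rintro _ ⟨j, rfl⟩; fin_cases j <;> assumption
      · rw [finrank_span_eq_card hind, hD.decomp.finrank_eq]; rfl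
    obtain ⟨-, x, hx, hne⟩ := hD.nondegenerate i u hu hu0
    rw [← hspan] at hx
    refine hne ?_
    clear hne
    induction hx using Submodule.span_induction with
    | mem y hy => obtain ⟨j, rfl⟩ := hy; fin_cases j <;> [exact ha u; exact h]
    | zero => exact hz u
    | add a b _ _ ha' hb' => rw [hb.add_right, ha', hb', add_zero]
    | smul c a _ ha' => rw [hb.smul_right, ha', mul_zero]
  have hadd : ∀ u v i, p i (u + v) = p i u + p i v := fun u v =>
    hpu (u + v) _ (fun i => (D i).add_mem (hp i u) (hp i v)) (by rw [Finset.sum_add_distrib, hps, hps])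
  have hpol : ∀ u v, QuadraticMap.polar Q u v = f u v := by
    intro u v
    have hdiag : f u v = ∑ i, f (p i u) (p i v) := by
      conv_lhs => rw [← hps u, ← hps v]
      rw [bilin_sum_left hb]
      refine Finset.sum_congr rfl fun i _ => ?_
      rw [bilin_sum_right hb, Finset.sum_eq_single i (fun j _ hj => hD.orthogonal i j hj.symm _ (hp i u) _ (hp j v))
        (by simp)]
    rw [hdiag, QuadraticMap.polar, ← Finset.sum_sub_distrib, ← Finset.sum_sub_distrib]
    refine Finset.sum_congr rfl fun i _ => ?_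
    rw [hadd]
    exact hplane i _ (hp i u) _ (hp i v)
  have hQ0 : Q 0 = 0 := by
    have : ∀ i, p i (0 : ι → F) = 0 := hpu 0 0 (fun i => (D i).zero_mem) (by simp)
    simp [Q, q, this]
  refine ⟨Q, ⟨fun c v => ?_, ?_, ?_⟩, hpol, fun g hg => ⟨1, fun v => ?_⟩⟩
  · rcases hF c with rfl | rfl
    · simp [hQ0]
    · simp
  · rw [show QuadraticMap.polar Q = f from funext fun u => funext (hpol u)]; exact hb
  · rw [show QuadraticMap.polar Q = f from funext fun u => funext (hpol u)]; exact hn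
  obtain ⟨π, hπ⟩ := hg
  rw [Units.val_one, one_mul]
  have hcomp := hpu ((g : Matrix ι ι F) *ᵥ v) (fun j => (g : Matrix ι ι F) *ᵥ p (π.symm j) v)
    (fun j => by
      have := hπ (π.symm j)
      rw [Equiv.apply_symm_apply] at this
      exact this.le ⟨_, hp _ v, rfl⟩)
    (by rw [← Matrix.mulVec_sum, Equiv.sum_comp π.symm (fun i => p i v), hps])
  show ∑ i, q (p i ((g : Matrix ι ι F) *ᵥ v)) = ∑ i, q (p i v)
  rw [← Equiv.sum_comp π.symm (fun i => q (p i v))]
  refine Finset.sum_congr rfl fun j _ => ?_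
  rw [hcomp j]
  simp only [q]
  have hinj : (g : Matrix ι ι F) *ᵥ p (π.symm j) v = 0 ↔ p (π.symm j) v = 0 := by
    refine ⟨fun h => ?_, fun h => by rw [h, Matrix.mulVec_zero]⟩
    have := congrArg (((g⁻¹ : GL ι F) : Matrix ι ι F) *ᵥ ·) h
    simpa [Matrix.mulVec_mulVec, gl_inv_mul] using this
  simp only [hinj]

/-! ### three dimensional symmetric factors over three elements -/

theorem z3_weight : ∀ a b c : ZMod 3, a * a + b * b + c * c = 1 →
    (a ≠ 0 ∧ b = 0 ∧ c = 0) ∨ (a = 0 ∧ b ≠ 0 ∧ c = 0) ∨ (a = 0 ∧ b = 0 ∧ c ≠ 0) := by decide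

variable [Fintype F]

theorem sq_three (hq : Fintype.card F = 3) {x : F} (hx : x ≠ 0) : x * x = 1 := by
  have h := FiniteField.pow_card_sub_one_eq_one x hx
  rwa [hq, pow_two] at h

theorem exists_equal_frame (hq : Fintype.card F = 3) {f₂ : (Fin 3 → F) → (Fin 3 → F) → F} (h₂ : IsSymmetricForm f₂) :
    ∃ (b : Fin 3 → Fin 3 → F) (c : F), c ≠ 0 ∧ LinearIndependent F b ∧ ∀ i j, f₂ (b i) (b j) = if i = j then c else 0 := by
  have htwo : (2 : F) ≠ 0 := two_ne_zero_of_odd (by rw [hq]; decide)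
  haveI : Invertible (2 : F) := invertibleOfNonzero htwo
  let B : LinearMap.BilinForm F (Fin 3 → F) :=
    LinearMap.mk₂ F f₂ h₂.bilinear.add_left h₂.bilinear.smul_left h₂.bilinear.add_right h₂.bilinear.smul_right
  obtain ⟨v, hv⟩ := LinearMap.BilinForm.exists_orthogonal_basis (B := B) ⟨fun x y => h₂.symm x y⟩
  set w := v.reindex (finCongr (Module.finrank_fin_fun F)) with hw
  have hwo : ∀ i j, i ≠ j → f₂ (w i) (w j) = 0 := fun i j hij => by
    rw [hw, Module.Basis.reindex_apply, Module.Basis.reindex_apply]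
    exact hv fun h => hij ((finCongr (Module.finrank_fin_fun F)).symm.injective h)
  have hd0 : ∀ i, f₂ (w i) (w i) ≠ 0 := fun i h => by
    obtain ⟨-, x, hx⟩ := h₂.nondegenerate (w i) (w.ne_zero i)
    refine hx ?_
    rw [← w.sum_repr x, bilin_sum_right h₂.bilinear]
    refine Finset.sum_eq_zero fun j _ => ?_
    rw [h₂.bilinear.smul_right]
    rcases eq_or_ne i j with rfl | hij
    · rw [h, mul_zero]
    · rw [hwo i j hij, mul_zero]
  have hpm : ∀ i j, f₂ (w i) (w i) = f₂ (w j) (w j) ∨ f₂ (w i) (w i) = -f₂ (w j) (w j) := fun i j =>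
    mul_self_eq_mul_self_iff.1 ((sq_three hq (hd0 i)).trans (sq_three hq (hd0 j)).symm)
  obtain ⟨i, j, k, hij, hik, hjk, heq⟩ : ∃ i j k : Fin 3, i ≠ j ∧ i ≠ k ∧ j ≠ k ∧ f₂ (w i) (w i) = f₂ (w j) (w j) := by
    rcases hpm 0 1 with h | h
    · exact ⟨0, 1, 2, by decide, by decide, by decide, h⟩
    rcases hpm 0 2 with h' | h'
    · exact ⟨0, 2, 1, by decide, by decide, by decide, h'⟩
    exact ⟨1, 2, 0, by decide, by decide, by decide, neg_injective (h.symm.trans h')⟩
  have hchar : (3 : F) = 0 := by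
    have := FiniteField.cast_card_eq_zero F
    rw [hq] at this
    exact_mod_cast this
  set d := f₂ (w k) (w k) with hd
  have hmk : ∀ b : Fin 3 → Fin 3 → F, f₂ (b 0) (b 0) = d → f₂ (b 1) (b 1) = d → f₂ (b 2) (b 2) = d →
      f₂ (b 0) (b 1) = 0 → f₂ (b 0) (b 2) = 0 → f₂ (b 1) (b 2) = 0 →
      ∃ (b : Fin 3 → Fin 3 → F) (c : F), c ≠ 0 ∧ LinearIndependent F b ∧
        ∀ i j, f₂ (b i) (b j) = if i = j then c else 0 := by
    intro b e0 e1 e2 e01 e02 e12
    have hb : ∀ i j, f₂ (b i) (b j) = if i = j then d else 0 := by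
      intro i j
      fin_cases i <;> fin_cases j <;>
        simp [e0, e1, e2, e01, e02, e12, h₂.symm (b 1) (b 0), h₂.symm (b 2) (b 0), h₂.symm (b 2) (b 1)]
    refine ⟨b, d, hd0 k, ?_, hb⟩
    rw [Fintype.linearIndependent_iff]
    intro g hg l
    have h1 := congrArg (f₂ (b l)) hg
    rw [bilin_sum_right h₂.bilinear] at h1
    simp only [h₂.bilinear.smul_right, hb, mul_ite, mul_zero, Finset.sum_ite_eq, Finset.mem_univ, if_true] at h1
    rw [show f₂ (b l) 0 = 0 by simpa using h₂.bilinear.smul_right 0 (b l) 0] at h1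
    exact (mul_eq_zero.1 h1).resolve_right (hd0 k)
  rcases hpm i k with h | h
  · exact hmk ![w i, w j, w k] h (heq ▸ h) rfl (hwo i j hij) (hwo i k hik) (hwo j k hjk)
  · refine hmk ![w i + w j, w i - w j, w k] ?_ ?_ rfl ?_ ?_ ?_ <;>
      simp only [Matrix.cons_val_zero, Matrix.cons_val_one, Matrix.head_cons, Matrix.cons_val_two, Matrix.tail_cons,
        sub_eq_add_neg, ← neg_one_smul F (w j), h₂.bilinear.add_left, h₂.bilinear.add_right, h₂.bilinear.smul_left,
        h₂.bilinear.smul_right, hwo i j hij, h₂.symm (w j) (w i), hwo i k hik, hwo j k hjk, ← heq, h] <;>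
      first | ring1 | linear_combination (-d) * hchar | linear_combination (-(f₂ (w k) (w k))) * hchar - hd

theorem pt2_add_left {n₁ n₂ : ℕ} (e : ι ≃ Fin n₁ × Fin n₂) (P : GL ι F) (x x' : Fin n₁ → F) (y : Fin n₂ → F) :
    pt2 e P (x + x') y = pt2 e P x y + pt2 e P x' y := by
  rw [pt2, pt2, pt2, ← Matrix.mulVec_add]
  congr 1
  funext i
  simp [add_mul]

theorem pt2_smul_left {n₁ n₂ : ℕ} (e : ι ≃ Fin n₁ × Fin n₂) (P : GL ι F) (c : F) (x : Fin n₁ → F) (y : Fin n₂ → F) :
    pt2 e P (c • x) y = c • pt2 e P x y := by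
  rw [pt2, pt2, ← Matrix.mulVec_smul]
  congr 1
  funext i
  simp [mul_assoc]

theorem pt2_smul_right {n₁ n₂ : ℕ} (e : ι ≃ Fin n₁ × Fin n₂) (P : GL ι F) (c : F) (x : Fin n₁ → F) (y : Fin n₂ → F) :
    pt2 e P x (c • y) = c • pt2 e P x y := by
  rw [pt2, pt2, ← Matrix.mulVec_smul]
  congr 1
  funext i
  simp [mul_left_comm]

/-- the form on product vectors -/
theorem form_pt2 {n₁ n₂ : ℕ} {e : ι ≃ Fin n₁ × Fin n₂} {P : GL ι F} {f : (ι → F) → (ι → F) → F}
    {f₁ : (Fin n₁ → F) → (Fin n₁ → F) → F} {f₂ : (Fin n₂ → F) → (Fin n₂ → F) → F}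
    (h₁ : IsBilinearForm f₁) (h₂ : IsBilinearForm f₂) (hs : IsTensorFormStructure id f f₁ f₂ e P) :
    ∃ c : F, c ≠ 0 ∧ ∀ x x' y y', f (pt2 e P x y) (pt2 e P x' y') = c * (f₁ x x' * f₂ y y') := by
  obtain ⟨c, hc, hf⟩ := hs
  have hgram : ∀ {n : ℕ} {g : (Fin n → F) → (Fin n → F) → F}, IsBilinearForm g → ∀ x x',
      g x x' = ∑ a, ∑ b, x a * gramMatrix g a b * x' b := by
    intro n g hg x x'
    conv_lhs => rw [pi_eq_sum_univ' x, pi_eq_sum_univ' x']
    rw [bilin_sum_left hg]
    refine Finset.sum_congr rfl fun a _ => ?_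
    rw [bilin_sum_right hg]
    refine Finset.sum_congr rfl fun b _ => ?_
    rw [hg.smul_left, hg.smul_right]
    simp [gramMatrix]
    ring
  refine ⟨c, hc, fun x x' y y' => ?_⟩
  have h := hf (fun p => x p.1 * y p.2) (fun p => x' p.1 * y' p.2)
  refine Eq.trans h (congrArg (c * ·) ?_)
  rw [hgram h₁ x x', hgram h₂ y y', Finset.sum_mul_sum]
  simp only [formOfGram, Fintype.sum_prod_type, Matrix.kronecker_apply, id_eq]
  refine Finset.sum_congr rfl fun a _ => Finset.sum_congr rfl fun b _ => ?_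
  rw [Finset.sum_mul_sum]
  exact Finset.sum_congr rfl fun _ _ => Finset.sum_congr rfl fun _ _ => by ring

theorem tensor_three {f : (ι → F) → (ι → F) → F} (hb : IsBilinearForm f) (hn : IsNondegenerateForm f)
    (hq : Fintype.card F = 3) {n₁ : ℕ} (hn₁ : 0 < n₁) {e : ι ≃ Fin n₁ × Fin 3}
    {P : GL ι F} {f₁ : (Fin n₁ → F) → (Fin n₁ → F) → F} {f₂ : (Fin 3 → F) → (Fin 3 → F) → F}
    (h₁ : IsBilinearForm f₁) (h₁n : IsNondegenerateForm f₁) (h₂ : IsSymmetricForm f₂)
    (hs : IsTensorFormStructure id f f₁ f₂ e P) :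
    ∃ D : Fin 3 → Submodule F (ι → F), IsNondegenerateMDecomposition f n₁ D ∧
      ∀ g ∈ tensorProductSubgroup n₁ 3 e P,
        (∀ u v, f ((g : Matrix ι ι F) *ᵥ u) ((g : Matrix ι ι F) *ᵥ v) = f u v) → g ∈ decompositionStabilizer D := by
  obtain ⟨b, d, hd, hbi, hbb⟩ := exists_equal_frame hq h₂
  obtain ⟨c, hc, hf⟩ := form_pt2 h₁ h₂.bilinear hs
  let φ : Fin 3 → (Fin n₁ → F) →ₗ[F] (ι → F) := fun i =>
    { toFun := fun x => pt2 e P x (b i)
      map_add' := fun x y => pt2_add_left e P x y (b i)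
      map_smul' := fun a x => pt2_smul_left e P a x (b i) }
  have hfφ : ∀ i j x y, f (φ i x) (φ j y) = if i = j then c * (f₁ x y * d) else 0 := by
    intro i j x y
    show f (pt2 e P x (b i)) (pt2 e P y (b j)) = _
    rw [hf, hbb]
    split_ifs <;> simp
  have hzero : ∀ x : Fin n₁ → F, (∀ y, f₁ y x = 0) → x = 0 := fun x h => by
    by_contra h0
    obtain ⟨⟨y, hy⟩, -⟩ := h₁n x h0
    exact hy (h y)
  have hinj : ∀ i, Function.Injective (φ i) := fun i => by
    rw [injective_iff_map_eq_zero]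
    intro x hx
    refine hzero x fun y => ?_
    have h1 := hfφ i i y x
    rw [hx, if_pos rfl, show f (φ i y) 0 = 0 by simpa using hb.smul_right 0 (φ i y) 0] at h1
    simpa [hc, hd] using h1.symm
  let D : Fin 3 → Submodule F (ι → F) := fun i => LinearMap.range (φ i)
  have horth : ∀ i j, i ≠ j → AreOrthogonalFor f (D i) (D j) := by
    rintro i j hij _ ⟨x, rfl⟩ _ ⟨y, rfl⟩
    rw [hfφ, if_neg hij]
  have hnd : ∀ i, IsNondegenerateOn f (D i) := by
    rintro i _ ⟨x, rfl⟩ hx
    have hx0 : x ≠ 0 := fun h => hx (by rw [h, map_zero])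
    obtain ⟨⟨y, hy⟩, ⟨z, hz⟩⟩ := h₁n x hx0
    exact ⟨⟨φ i y, ⟨y, rfl⟩, by rw [hfφ, if_pos rfl]; simp [hc, hd, hy]⟩,
      ⟨φ i z, ⟨z, rfl⟩, by rw [hfφ, if_pos rfl]; simp [hc, hd, hz]⟩⟩
  have hind : iSupIndep D := by
    intro i
    rw [disjoint_iff, Submodule.eq_bot_iff]
    rintro w ⟨hw, hw'⟩
    by_contra h0
    obtain ⟨⟨u, hu, hne⟩, -⟩ := hnd i w hw h0
    refine hne ?_
    clear hne hw h0
    induction hw' using Submodule.iSup_induction' with
    | mem j y hy =>
      by_cases hji : j = i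
      · simp [hji] at hy
        rw [hy]; simpa using hb.smul_right 0 u 0
      · simp [hji] at hy
        exact horth i j (Ne.symm hji) u hu y hy
    | zero => simpa using hb.smul_right 0 u 0
    | add a a' _ _ ha ha' => rw [hb.add_right, ha, ha', add_zero]
  have hfin : ∀ i, Module.finrank F (D i) = n₁ := fun i => by
    rw [LinearMap.finrank_range_of_inj (hinj i), Module.finrank_fin_fun]
  have htop : iSup D = ⊤ := by
    have hint : ∀ i, ∀ x : Fin n₁ → F, pt2 e P x (b i) ∈ iSup D := fun i x => Submodule.mem_iSup_of_mem i ⟨x, rfl⟩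
    have hbspan : Submodule.span F (Set.range b) = ⊤ := hbi.span_eq_top_of_card_eq_finrank (by simp)
    have hall : ∀ x y, pt2 e P x y ∈ iSup D := by
      intro x y
      obtain ⟨g, rfl⟩ := Submodule.mem_span_range_iff_exists_fun F |>.1 (hbspan ▸ Submodule.mem_top (x := y))
      have : pt2 e P x (∑ i, g i • b i) = ∑ i, g i • pt2 e P x (b i) := by
        simp only [pt2, ← Matrix.mulVec_smul, ← Matrix.mulVec_sum]
        congr 1
        funext l
        simp [Finset.mul_sum, mul_left_comm]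
      rw [this]
      exact Submodule.sum_mem _ fun i _ => Submodule.smul_mem _ _ (hint i x)
    rw [eq_top_iff]
    intro u _
    set u' := ((P⁻¹ : GL ι F) : Matrix ι ι F) *ᵥ u with hu'
    have : u = ∑ i, u' i • pt2 e P (Pi.single (e i).1 1) (Pi.single (e i).2 1) := by
      simp only [pt2, ← Matrix.mulVec_smul, ← Matrix.mulVec_sum]
      rw [← (show (P : Matrix ι ι F) *ᵥ u' = u by rw [hu', Matrix.mulVec_mulVec, gl_mul_inv, Matrix.one_mulVec])]
      congr 1
      funext l
      rw [Finset.sum_apply, Finset.sum_eq_single l (fun i _ hi => ?_) (by simp)]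
      · simp
      · have : e l ≠ e i := fun h => hi (e.injective h).symm
        by_cases h1 : (e l).1 = (e i).1
        · have h2 : (e l).2 ≠ (e i).2 := fun h => this (Prod.ext h1 h)
          simp [Pi.single_eq_of_ne h2]
        · simp [Pi.single_eq_of_ne h1]
    rw [this]
    exact Submodule.sum_mem _ fun i _ => Submodule.smul_mem _ _ (hall _ _)
  refine ⟨D, ⟨⟨by norm_num, hn₁, hfin, hind, htop⟩, hnd, horth⟩, fun g hg hgf => ?_⟩
  obtain ⟨l, a, bm, rfl, hl⟩ := tensorProduct_elem hg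
  have hact : ∀ x y, ((P * glReindex e.symm l * P⁻¹ : GL ι F) : Matrix ι ι F) *ᵥ pt2 e P x y =
      pt2 e P ((a : Matrix (Fin n₁) (Fin n₁) F) *ᵥ x) ((bm : Matrix (Fin 3) (Fin 3) F) *ᵥ y) := by
    intro x y
    rw [pt2, pt2, Units.val_mul, Units.val_mul, mulVec_mulVec, mul_assoc, gl_inv_mul, mul_one, ← mulVec_mulVec]
    congr 1
    funext i
    show ∑ j, (l : Matrix _ _ F) (e i) (e j) * (x (e j).1 * y (e j).2) = _
    rw [e.sum_comp (fun q => (l : Matrix _ _ F) (e i) q * (x q.1 * y q.2)), Fintype.sum_prod_type]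
    simp only [hl, Matrix.mulVec, dotProduct, Finset.sum_mul_sum]
    exact Finset.sum_congr rfl fun _ _ => Finset.sum_congr rfl fun _ _ => by
      rw [Matrix.kronecker_apply]; ring
  set A := (a : Matrix (Fin n₁) (Fin n₁) F)
  set B := (bm : Matrix (Fin 3) (Fin 3) F) with hB
  obtain ⟨x, hx0⟩ : ∃ x : Fin n₁ → F, x ≠ 0 := ⟨Pi.single ⟨0, hn₁⟩ 1, by simp⟩
  obtain ⟨-, x', hx'⟩ := h₁n x hx0
  have key : ∀ y y', f₁ (A *ᵥ x) (A *ᵥ x') * f₂ (B *ᵥ y) (B *ᵥ y') = f₁ x x' * f₂ y y' := fun y y' => by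
    have h1 := hgf (pt2 e P x y) (pt2 e P x' y')
    rw [hact, hact, hf, hf] at h1
    exact mul_left_cancel₀ hc h1
  set μ := f₁ (A *ᵥ x) (A *ᵥ x')
  have hμ : μ ≠ 0 := fun h => by
    have h1 := key (b 0) (b 0)
    rw [h, zero_mul, hbb, if_pos rfl] at h1
    exact mul_ne_zero hx' hd h1.symm
  set ν := f₁ x x' / μ
  have hν : ν ≠ 0 := div_ne_zero hx' hμ
  have hBb : ∀ i j, f₂ (B *ᵥ b i) (B *ᵥ b j) = if i = j then ν * d else 0 := fun i j => by
    have h1 := key (b i) (b j)
    rw [hbb] at h1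
    split_ifs with h
    · rw [if_pos h] at h1
      simp only [ν]; field_simp
      linear_combination h1
    · rw [if_neg h, mul_zero] at h1
      exact (mul_eq_zero.1 h1).resolve_left hμ
  let bb : Module.Basis (Fin 3) F (Fin 3 → F) := basisOfLinearIndependentOfCardEqFinrank hbi (by simp)
  let M : Matrix (Fin 3) (Fin 3) F := Matrix.of fun i j => bb.repr (B *ᵥ b j) i
  have hM : ∀ j, B *ᵥ b j = ∑ i, M i j • b i := fun j => by
    conv_lhs => rw [← bb.sum_repr (B *ᵥ b j)]
    simp [M, bb]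
  have hMM : Mᵀ * M = ν • 1 := by
    ext i j
    have h1 := hBb i j
    rw [hM i, hM j, bilin_sum_left h₂.bilinear] at h1
    simp only [bilin_sum_right h₂.bilinear, h₂.bilinear.smul_left, h₂.bilinear.smul_right, hbb, mul_ite, mul_zero,
      Finset.sum_ite_eq, Finset.mem_univ, if_true] at h1
    rw [Matrix.mul_apply, Matrix.smul_apply, Matrix.one_apply, smul_eq_mul]
    refine mul_right_cancel₀ hd ?_
    rw [Finset.sum_mul]
    refine Eq.trans (Finset.sum_congr rfl fun l _ => ?_) (h1.trans ?_)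
    · rw [Matrix.transpose_apply, mul_assoc]
    · split_ifs <;> simp
  have hν1 : ν = 1 := by
    have h1 := congrArg Matrix.det hMM
    rw [Matrix.det_mul, Matrix.det_transpose, Matrix.det_smul, Matrix.det_one, mul_one, Fintype.card_fin] at h1
    have hMd : M.det ≠ 0 := fun h => by rw [h, mul_zero] at h1; exact pow_ne_zero 3 hν h1.symm
    rw [sq_three hq hMd, pow_succ, pow_two, sq_three hq hν, one_mul] at h1
    exact h1.symm
  let φ3 : ZMod 3 ≃+* F := ZMod.ringEquivOfPrime F Nat.prime_three hq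
  have hcol : ∀ j, ∃ (i : Fin 3) (s : F), s ≠ 0 ∧ B *ᵥ b j = s • b i := fun j => by
    obtain ⟨u, hu⟩ := φ3.surjective (M 0 j)
    obtain ⟨v, hv⟩ := φ3.surjective (M 1 j)
    obtain ⟨w, hw⟩ := φ3.surjective (M 2 j)
    have h1 := congrFun (congrFun hMM j) j
    rw [Matrix.mul_apply, Fin.sum_univ_three, Matrix.smul_apply, Matrix.one_apply_eq, hν1, smul_eq_mul, mul_one] at h1
    simp only [Matrix.transpose_apply] at h1
    have hne : ∀ {z : ZMod 3}, z ≠ 0 → φ3 z ≠ 0 := fun h h' => h (φ3.injective (by rw [h', map_zero]))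
    rcases z3_weight u v w (φ3.injective (by simp only [map_add, map_mul, map_one, hu, hv, hw]; exact h1)) with
      ⟨h, rfl, rfl⟩ | ⟨rfl, h, rfl⟩ | ⟨rfl, rfl, h⟩
    · exact ⟨0, M 0 j, hu ▸ hne h, by rw [hM, Fin.sum_univ_three, ← hv, ← hw, map_zero, zero_smul, zero_smul, add_zero, add_zero]⟩
    · exact ⟨1, M 1 j, hv ▸ hne h, by rw [hM, Fin.sum_univ_three, ← hu, ← hw, map_zero, zero_smul, zero_smul, add_zero, zero_add]⟩
    · exact ⟨2, M 2 j, hw ▸ hne h, by rw [hM, Fin.sum_univ_three, ← hu, ← hv, map_zero, zero_smul, zero_smul, zero_add, zero_add]⟩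
  choose π s hs0 hπ using hcol
  have hπinj : Function.Injective π := by
    intro i j hij
    by_contra hne
    have h1 := hBb i j
    rw [hπ i, hπ j, h₂.bilinear.smul_left, h₂.bilinear.smul_right, hbb, hij, if_pos rfl, if_neg hne] at h1
    exact mul_ne_zero (hs0 i) (mul_ne_zero (hs0 j) hd) h1
  refine ⟨Equiv.ofBijective π (Finite.injective_iff_bijective.1 hπinj), fun i => ?_⟩
  refine Submodule.eq_of_le_of_finrank_eq ?_ ?_
  · rintro _ ⟨_, ⟨y, rfl⟩, rfl⟩
    refine ⟨s i • (A *ᵥ y), ?_⟩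
    show pt2 e P _ (b (π i)) = _ *ᵥ pt2 e P y (b i)
    rw [hact, hπ, pt2_smul_right, pt2_smul_left]
  · rw [LinearEquiv.finrank_map_eq (Matrix.GeneralLinearGroup.toLin (P * glReindex e.symm l * P⁻¹)).toLinearEquiv (D i) |>
      (fun h => (h : Module.finrank F ((D i).map (Matrix.toLin' ((P * glReindex e.symm l * P⁻¹ : GL ι F) : Matrix ι ι F))) = _)),
      hfin, hfin]

end Generic

end CfsgLib.Perm.Asch
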