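import Cfsg.Agent.Lib.Perm.Asch.Forms.Commutative

/-!
# Subfield structures carrying a form
-/

set_option autoImplicit false
set_option linter.all false

namespace CfsgLib.Perm.Asch

open scoped Classical Matrix
open Matrix Cfsg.Geo

variable {ι : Type} [Fintype ι] [DecidableEq ι] {F : Type*} [Field F] [Fintype F]

theorem mem_subfield_iff (F₁ : Subfield F) (x : F) : x ∈ F₁ ↔ x ^ Nat.card F₁ = x := by
  haveI : Fintype F₁ := Fintype.ofFinite _
  rw [Nat.card_eq_fintype_card]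
  have hfix : ∀ y ∈ F₁, y ^ Fintype.card F₁ = y := fun y hy => by
    have := congrArg Subtype.val (FiniteField.pow_card (⟨y, hy⟩ : F₁))
    simpa using this
  refine ⟨hfix x, fun hx => ?_⟩
  by_contra hx'
  set q := Fintype.card F₁
  have hq : 1 < q := Fintype.one_lt_card
  set p : Polynomial F := Polynomial.X ^ q - Polynomial.X
  have hp0 : p ≠ 0 := FiniteField.X_pow_card_sub_X_ne_zero F hq
  have hsub : insert x (Finset.univ.image fun y : F₁ => (y : F)) ⊆ p.roots.toFinset := by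
    intro y hy
    rw [Multiset.mem_toFinset, Polynomial.mem_roots hp0, Polynomial.IsRoot]
    rcases Finset.mem_insert.1 hy with rfl | hy
    · simp [p, hx]
    · obtain ⟨z, -, rfl⟩ := Finset.mem_image.1 hy
      simp [p, hfix _ z.2]
  have h1 := (Finset.card_le_card hsub).trans ((Multiset.toFinset_card_le _).trans (Polynomial.card_roots' p))
  rw [FiniteField.X_pow_card_sub_X_natDegree_eq F hq,
    Finset.card_insert_of_notMem (by simp only [Finset.mem_image, not_exists]; exact fun y h => hx' (h.2 ▸ y.2)),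
    Finset.card_image_of_injective _ Subtype.val_injective, Finset.card_univ] at h1
  omega

theorem subfield_stable (σ : F →+* F) (F₁ : Subfield F) : ∀ x ∈ F₁, σ x ∈ F₁ := fun x hx => by
  rw [mem_subfield_iff] at hx ⊢
  rw [← map_pow, hx]

theorem subfieldSubgroup_smul (F₁ : Subfield F) (B : GL ι F) (s : Fˣ) :
    subfieldSubgroup F₁ (B * sch ι F s) = subfieldSubgroup F₁ B := by
  ext x
  simp only [subfieldSubgroup, Subgroup.mem_map]
  refine exists_congr fun y => and_congr_right fun _ => ?_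
  simp only [MulEquiv.toMonoidHom_eq_coe, MonoidHom.coe_coe, MulAut.conj_apply, _root_.mul_inv_rev]
  rw [show B * sch ι F s * y * ((sch ι F s)⁻¹ * B⁻¹) = B * (sch ι F s * y * (sch ι F s)⁻¹) * B⁻¹ by group,
    sch_central, mul_inv_cancel_right]

theorem cj_inv_sch (B : GL ι F) (s : Fˣ) (X : Matrix ι ι F) : cj (B * sch ι F s)⁻¹ X = cj B⁻¹ X := by
  rw [_root_.mul_inv_rev, ← cj_cj, ← map_inv, cj, sch_coe, ← map_inv, inv_inv, sch_coe, smul_mul_assoc, one_mul,
    mul_smul_comm, mul_one, smul_smul, ← Units.val_mul, mul_inv_cancel, Units.val_one, one_smul]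

/-- the rational structure of an absolutely irreducible group of isometries -/
theorem exists_rational_structure [Nonempty ι] {σ : F →+* F} {G : Matrix ι ι F} (h : Refl σ G)
    {H P : Subgroup (GL ι F)} (hn : NormG H P) (hP : AbsIrr P) (hPI : P ≤ iso σ G) {F₀ : Subfield F}
    (hne : F₀ ≠ ⊤) (hreal : RealisableOver F₀ (matrixSet P)) :
    ∃ (F₁ : Subfield F) (r : ℕ) (B : GL ι F) (c : F) (G₀ : Matrix ι ι F), r.Prime ∧
      Fintype.card F = Nat.card F₁ ^ r ∧ H ≤ subfieldSubgroup F₁ B ∧ c ≠ 0 ∧ (∀ i j, G₀ i j ∈ F₁) ∧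
      (B : Matrix ι ι F)ᵀ * G * (B : Matrix ι ι F).map σ = c • G₀ ∧ G₀.det ≠ 0 ∧
      (∀ p ∈ P, ∀ i j, cj B⁻¹ (p : Matrix ι ι F) i j ∈ F₁) := by
  obtain ⟨F₁, r, hle, hr, hcard⟩ := exists_prime_index_subfield F₀ hne
  obtain ⟨B, hB⟩ := hreal
  have hB1 : ∀ s ∈ matrixSet P, ∀ i j, ((B : Matrix ι ι F) * s * ((B⁻¹ : GL ι F) : Matrix ι ι F)) i j ∈ F₁ :=
    fun s hs i j => hle (hB s hs i j)
  set Bi : Matrix ι ι F := ((B⁻¹ : GL ι F) : Matrix ι ι F) with hBi
  set G' := Biᵀ * G * Bi.map σ with hG'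
  have hdetB : Bi.det ≠ 0 := ((Matrix.isUnit_iff_isUnit_det _).1 (Units.isUnit _)).ne_zero
  have hdet : G'.det ≠ 0 := by
    rw [hG', Matrix.det_mul, Matrix.det_mul, Matrix.det_transpose, ← RingHom.mapMatrix_apply, ← RingHom.map_det]
    exact mul_ne_zero (mul_ne_zero hdetB h.det) (by rwa [ne_eq, map_eq_zero])
  let P' : Subgroup (GL ι F) := P.map (MulAut.conj B).toMonoidHom
  have hP'c : ∀ p ∈ P, ((B * p * B⁻¹ : GL ι F) : Matrix ι ι F) = cj B (p : Matrix ι ι F) := fun p _ => (cj_coe B p).symm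
  have hG'inv : InvForm P' σ G' := by
    rintro _ ⟨p, hp, rfl⟩
    show ((B * p * B⁻¹ : GL ι F) : Matrix ι ι F)ᵀ * G' * ((B * p * B⁻¹ : GL ι F) : Matrix ι ι F).map σ = G'
    rw [hG', Units.val_mul, Units.val_mul, ← hBi, Matrix.transpose_mul, Matrix.transpose_mul, Matrix.map_mul,
      Matrix.map_mul]
    have e1 : (B : Matrix ι ι F)ᵀ * Biᵀ = 1 := by rw [← Matrix.transpose_mul, hBi, gl_inv_mul, Matrix.transpose_one]
    have e2 : Bi.map σ * (B : Matrix ι ι F).map σ = 1 := by rw [← Matrix.map_mul, hBi, gl_inv_mul]; simp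
    calc _ = Biᵀ * ((p : Matrix ι ι F)ᵀ * ((B : Matrix ι ι F)ᵀ * Biᵀ) * G * (Bi.map σ * (B : Matrix ι ι F).map σ) *
          (p : Matrix ι ι F).map σ) * Bi.map σ := by simp only [mul_assoc]
      _ = _ := by rw [e1, e2, mul_one, mul_one, mem_iso.1 (hPI hp)]
  have hP'abs : AbsIrr P' := by
    refine ⟨fun W hW => ?_, fun M hM => ?_⟩
    · let W' := W.map (Matrix.toLin' Bi)
      rcases hP.irred.eq_bot_or_top W' (by
        rintro p hp _ ⟨w, hw, rfl⟩
        have hw' := hW _ ⟨_, ⟨p, hp, rfl⟩, rfl⟩ ⟨w, hw, rfl⟩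
        refine ⟨_, hw', ?_⟩
        show Bi *ᵥ (((B * p * B⁻¹ : GL ι F) : Matrix ι ι F) *ᵥ w) = (p : Matrix ι ι F) *ᵥ (Bi *ᵥ w)
        rw [hBi, mulVec_mulVec, mulVec_mulVec, ← Units.val_mul, ← Units.val_mul]
        congr 2; group) with e | e
      · left
        rw [Submodule.eq_bot_iff]
        intro w hw
        have hmem : Bi *ᵥ w ∈ W' := ⟨w, hw, rfl⟩
        rw [e, Submodule.mem_bot] at hmem
        have := congrArg ((B : Matrix ι ι F) *ᵥ ·) hmem
        simpa [mulVec_mulVec, hBi, gl_mul_inv] using this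
      · right
        refine top_le_iff.1 fun v _ => ?_
        obtain ⟨w, hw, hwv⟩ : Bi *ᵥ v ∈ W' := e ▸ Submodule.mem_top
        have := congrArg ((B : Matrix ι ι F) *ᵥ ·) hwv
        simp only [Matrix.toLin'_apply, mulVec_mulVec, hBi, gl_mul_inv, one_mulVec] at this
        exact this ▸ hw
    · obtain ⟨c, hc⟩ := hP.scalar_of_commute (M := cj B⁻¹ M) (fun p hp => by
        apply cj_injective B
        rw [cj_mul, cj_mul, cj_cj_inv, cj_coe]
        exact hM _ ⟨_, ⟨p, hp, rfl⟩, rfl⟩)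
      exact ⟨c, by rw [← cj_cj_inv B M, hc, cj_smul, cj_one]⟩
  obtain ⟨i0, j0, hij⟩ : ∃ i j, G' i j ≠ 0 := by
    by_contra hcon
    push Not at hcon
    exact hdet (by rw [show G' = 0 by ext i j; exact hcon i j, Matrix.det_zero])
  obtain ⟨π, hπ⟩ : ∃ π : F →ₗ[F₁] F₁, π 1 = 1 := by
    obtain ⟨g, hg⟩ := LinearMap.exists_leftInverse_of_injective (Algebra.linearMap F₁ F)
      (LinearMap.ker_eq_bot.2 (algebraMap F₁ F).injective)
    exact ⟨g, by simpa using LinearMap.congr_fun hg 1⟩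
  set c := G' i0 j0
  let G₀ : Matrix ι ι F := Matrix.of fun i j => ((π (c⁻¹ * G' i j) : F₁) : F)
  have hG₀1 : G₀ i0 j0 = 1 := by simp [G₀, c, inv_mul_cancel₀ hij, hπ]
  have hG₀inv : InvForm P' σ G₀ := by
    rintro _ ⟨p, hp, rfl⟩
    show ((B * p * B⁻¹ : GL ι F) : Matrix ι ι F)ᵀ * G₀ * ((B * p * B⁻¹ : GL ι F) : Matrix ι ι F).map σ = G₀
    set x := ((B * p * B⁻¹ : GL ι F) : Matrix ι ι F) with hx
    have hxF : ∀ i j, x i j ∈ F₁ := fun i j => by
      rw [hx, hP'c p hp]; exact hB1 _ (mem_matrixSet hp) i j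
    have hinv := hG'inv _ ⟨p, hp, rfl⟩
    change xᵀ * G' * x.map σ = G' at hinv
    ext i j
    have hterm : ∀ k l, x k i * G₀ k l * σ (x l j) = ((π (x k i * (c⁻¹ * G' k l) * σ (x l j)) : F₁) : F) := by
      intro k l
      have e : x k i * (c⁻¹ * G' k l) * σ (x l j) =
          (⟨x k i * σ (x l j), F₁.mul_mem (hxF k i) (subfield_stable σ F₁ _ (hxF l j))⟩ : F₁) • (c⁻¹ * G' k l) := by
        rw [Subfield.smul_def]; show _ = x k i * σ (x l j) * _; ring
      rw [e, map_smul]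
      show _ = x k i * σ (x l j) * _
      simp only [G₀, Matrix.of_apply]; ring
    simp only [Matrix.mul_apply, Matrix.transpose_apply, Matrix.map_apply, Finset.sum_mul, hterm,
      ← AddSubmonoidClass.coe_finset_sum, ← map_sum]
    show _ = ((π (c⁻¹ * G' i j) : F₁) : F)
    congr 2
    conv_rhs => rw [← hinv]
    simp only [Matrix.mul_apply, Matrix.transpose_apply, Matrix.map_apply, Finset.sum_mul, Finset.mul_sum]
    exact Finset.sum_congr rfl fun l _ => Finset.sum_congr rfl fun k _ => by ring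
  obtain ⟨a, ha⟩ := hG'inv.unique hP'abs (fun e => hdet (by rw [e, Matrix.det_zero])) hG₀inv
  have ha' : a * c = 1 := by
    rw [← hG₀1, ha, Matrix.smul_apply, smul_eq_mul]
  have hGG : G' = c • G₀ := by rw [ha, smul_smul, mul_comm, ha', one_smul]
  refine ⟨F₁, r, B⁻¹, c, G₀, hr, hcard, le_subfield_of_realised hn hP hB1, hij, fun i j => SetLike.coe_mem _,
    hGG, fun e => hdet ?_, fun p hp i j => by rw [inv_inv]; exact hB1 _ (mem_matrixSet hp) i j⟩
  rw [hGG, Matrix.det_smul, e, mul_zero]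

/-- `ζ f(Bu, Bv) ∈ F₁` for rational vectors -/
theorem rational_gform {σ : F →+* F} {G G₀ B : Matrix ι ι F} {F₁ : Subfield F} {c ζ : F}
    (hG : Bᵀ * G * B.map σ = c • G₀) (h0 : ∀ i j, G₀ i j ∈ F₁) (hζ : ζ * c ∈ F₁) {u v : ι → F}
    (hu : ∀ i, u i ∈ F₁) (hv : ∀ i, v i ∈ F₁) : ζ * gform σ G (B *ᵥ u) (B *ᵥ v) ∈ F₁ := by
  rw [gform_mulVec, hG]
  have : ζ * gform σ (c • G₀) u v = (ζ * c) * gform σ G₀ u v := by
    simp [gform, Matrix.smul_mulVec, dotProduct_smul, mul_assoc]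
  rw [this]
  refine F₁.mul_mem hζ ?_
  simp only [gform, dotProduct, Matrix.mulVec, Function.comp_apply]
  exact sum_mem fun i _ => F₁.mul_mem (hu i) (sum_mem fun j _ => F₁.mul_mem (h0 i j) (subfield_stable σ F₁ _ (hv j)))

theorem det_mem_subfield {F₁ : Subfield F} {A : Matrix ι ι F} (h : ∀ i j, A i j ∈ F₁) : A.det ∈ F₁ := by
  let A₁ : Matrix ι ι F₁ := Matrix.of fun i j => ⟨A i j, h i j⟩
  have : A = F₁.subtype.mapMatrix A₁ := rfl
  rw [this, ← RingHom.map_det]
  exact SetLike.coe_mem _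

/-- in odd dimension the multiplier of a rational symmetric structure is rational up to squares -/
theorem scale_of_det {F₁ : Subfield F} {m : ℕ} (hι : Fintype.card ι = 2 * m + 1) {G G₀ B : Matrix ι ι F} {c : F}
    (hc : c ≠ 0) (hB : B.det ≠ 0) (hG : Bᵀ * G * B = c • G₀) (h0 : G₀.det ∈ F₁) (h0' : G₀.det ≠ 0)
    (hGd : G.det ∈ F₁) : ∃ s : F, s ≠ 0 ∧ s * s * c ∈ F₁ := by
  have e := congrArg Matrix.det hG
  rw [Matrix.det_mul, Matrix.det_mul, Matrix.det_transpose, Matrix.det_smul, hι] at e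
  refine ⟨c ^ m / B.det, div_ne_zero (pow_ne_zero _ hc) hB, ?_⟩
  have : c ^ m / B.det * (c ^ m / B.det) * c = G.det / G₀.det := by
    rw [div_mul_div_comm, div_mul_eq_mul_div, div_eq_div_iff (mul_ne_zero hB hB) h0']
    linear_combination (-1 : F) * e
  rw [this]
  exact F₁.div_mem hGd h0

end CfsgLib.Perm.Asch
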