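import Cfsg.Agent.Lib.Perm.Asch.Forms.Subfield

/-!
# Symplectic type groups of isometries
-/

set_option autoImplicit false
set_option linter.all false

namespace CfsgLib.Perm.Asch

open scoped Classical Matrix
open Matrix Cfsg.Geo

variable {ι : Type} [Fintype ι] [DecidableEq ι] {F : Type*} [Field F] [Fintype F]

/-- the scalars `c` with `c · σ c = 1` -/
def unitCircle (σ : F →+* F) : Subgroup Fˣ where
  carrier := {c | (c : F) * σ c = 1}
  mul_mem' {a b} ha hb := by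
    show ((a * b : Fˣ) : F) * σ ((a * b : Fˣ) : F) = 1
    rw [Units.val_mul, map_mul, mul_mul_mul_comm, show _ = (1 : F) from ha, show _ = (1 : F) from hb, one_mul]
  one_mem' := by simp
  inv_mem' {a} ha := by
    show ((a⁻¹ : Fˣ) : F) * σ ((a⁻¹ : Fˣ) : F) = 1
    rw [Units.val_inv_eq_inv_val, map_inv₀, ← _root_.mul_inv_rev, mul_comm, show _ = (1 : F) from ha, inv_one]

theorem sch_mem_iso [Nonempty ι] {σ : F →+* F} {G : Matrix ι ι F} (h : Refl σ G) (c : Fˣ) :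
    sch ι F c ∈ iso σ G ↔ c ∈ unitCircle σ := by
  have e : ((sch ι F c : GL ι F) : Matrix ι ι F)ᵀ * G * ((sch ι F c : GL ι F) : Matrix ι ι F).map σ =
      ((c : F) * σ c) • G := by
    rw [sch_coe, Matrix.transpose_smul, Matrix.transpose_one, h.map_smul', Matrix.map_one σ σ.map_zero σ.map_one,
      smul_mul_assoc, one_mul, mul_smul_comm, mul_one, smul_smul, mul_comm]
  rw [mem_iso, e]
  refine ⟨fun h1 => ?_, fun h1 => by rw [show _ = (1 : F) from h1, one_smul]⟩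
  show (c : F) * σ c = 1
  obtain ⟨i, j, hij⟩ : ∃ i j, G i j ≠ 0 := by
    by_contra hcon
    push Not at hcon
    exact h.ne_zero (Matrix.ext hcon)
  have := congrFun (congrFun h1 i) j
  rw [Matrix.smul_apply, smul_eq_mul] at this
  exact mul_right_cancel₀ hij (this.trans (one_mul _).symm)

/-- the scalars of a symplectic type group of exponent dividing `E` -/
def scalarPart (σ : F →+* F) (E : ℕ) : Subgroup Fˣ := unitCircle σ ⊓ (powMonoidHom E : Fˣ →* Fˣ).ker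

theorem mem_scalarPart {σ : F →+* F} {E : ℕ} {c : Fˣ} :
    c ∈ scalarPart σ E ↔ (c : F) * σ c = 1 ∧ c ^ E = 1 := Iff.rfl

theorem comm_pow_eq_one {r : ℕ} {a b : GL ι F} (hz : a * b * a⁻¹ * b⁻¹ ∈ scalars ι F) (ha : a ^ r ∈ scalars ι F) :
    (a * b * a⁻¹ * b⁻¹) ^ r = 1 := by
  set z := a * b * a⁻¹ * b⁻¹ with hzdef
  have hc : ∀ y, z * y = y * z := scalar_central hz
  have h1 := pow_mul_swap hc (show a * b = z * (b * a) by rw [hzdef]; group) r
  rw [scalar_central ha] at h1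
  have : z ^ r * (b * a ^ r) = 1 * (b * a ^ r) := by rw [one_mul, ← h1]
  exact mul_right_cancel this

theorem rE_cases {r : ℕ} (hr : r.Prime) :
    ((Odd r ∧ r * Nat.gcd 2 r = r) ∨ (r = 2 ∧ r * Nat.gcd 2 r = 4)) ∧ r ∣ (r * Nat.gcd 2 r).choose 2 := by
  rcases hr.eq_two_or_odd' with rfl | hodd
  · exact ⟨Or.inr ⟨rfl, rfl⟩, by decide⟩
  · have h : r * Nat.gcd 2 r = r := by rw [(Nat.coprime_two_left.2 hodd).gcd_eq_one, mul_one]
    refine ⟨Or.inl ⟨hodd, h⟩, ?_⟩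
    rw [h]
    refine hr.dvd_choose_self two_ne_zero ?_
    have := hr.two_le
    rcases hodd with ⟨k, rfl⟩
    omega

/-- what we know about the symplectic type group found in `H` -/
structure SympData (σ : F →+* F) (G : Matrix ι ι F) (H : Subgroup (GL ι F)) (r : ℕ) (R : Subgroup (GL ι F)) : Prop where
  le_iso : R ≤ iso σ G
  norm : NormG H R
  absIrr : AbsIrr R
  symp : IsSymplecticTypeGroup r R
  comm : ∀ a ∈ R, ∀ b ∈ R, a * b * a⁻¹ * b⁻¹ ∈ scalars ι F
  pow_eq : ∀ a ∈ R, a ^ (r * Nat.gcd 2 r) = 1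
  scalar_iff : ∀ c : Fˣ, sch ι F c ∈ R ↔ c ∈ scalarPart σ (r * Nat.gcd 2 r)
  card_center : Nat.card (Subgroup.center R) = Nat.card (scalarPart σ (r * Nat.gcd 2 r))
  r_ne : ¬ CharP F r
  r_dvd : r ∣ Nat.card (unitCircle σ)
  indep : LinearIndependent F (fun j : R ⧸ (scalars ι F).subgroupOf R => (((j.out : R) : GL ι F) : Matrix ι ι F))
  card : ∃ k : ℕ, Fintype.card ι = r ^ k ∧ Nat.card R = r ^ (2 * k) * Nat.card (scalarPart σ (r * Nat.gcd 2 r))

/-- a characteristic subgroup is invariant under every element normalising the group -/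
theorem characteristic_conj_mem {G : Type*} [Group G] [Finite G] {R : Subgroup G} (A : Subgroup R) (hA : A.Characteristic)
    {g : G} (h : ∀ x ∈ R, g * x * g⁻¹ ∈ R) : ∀ x ∈ A.map R.subtype, g * x * g⁻¹ ∈ A.map R.subtype := by
  intro x hx
  obtain ⟨y, hy, rfl⟩ := Subgroup.mem_map.1 hx
  let f : R →* R :=
    { toFun := fun x => ⟨g * x * g⁻¹, h x x.2⟩
      map_one' := Subtype.ext (by simp)
      map_mul' := fun x z => Subtype.ext (by simp [mul_assoc]) }
  have hinj : Function.Injective f := fun x z e => by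
    have := congrArg Subtype.val e
    simpa [f] using this
  let φ : R ≃* R := MulEquiv.ofBijective f (Finite.injective_iff_bijective.1 hinj)
  exact ⟨φ y, (Subgroup.characteristic_iff_map_eq.1 hA φ) ▸ Subgroup.mem_map_of_mem φ.toMonoidHom hy, rfl⟩

/-- abelian normalised subgroups being scalar makes the characteristic abelian subgroups scalar -/
theorem charScalar_of_abelian [Nonempty ι] {σ : F →+* F} {G : Matrix ι ι F} {H : Subgroup (GL ι F)}
    (hab : ∀ A ≤ iso σ G, NormG H A → (∀ a ∈ A, ∀ b ∈ A, a * b = b * a) → A ≤ scalars ι F)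
    {R : Subgroup (GL ι F)} (hRI : R ≤ iso σ G) (hRn : NormG H R) (A : Subgroup R) (hA : A.Characteristic)
    (hAc : IsMulCommutative A) : A.map R.subtype ≤ scalars ι F := by
  refine hab _ ((Subgroup.map_subtype_le A).trans hRI) (fun g hg => characteristic_conj_mem A hA (hRn g hg)) ?_
  rintro x hx y hy
  obtain ⟨a', ha', rfl⟩ := Subgroup.mem_map.1 hx
  obtain ⟨b', hb', rfl⟩ := Subgroup.mem_map.1 hy
  exact congrArg (fun x : A => ((x : R) : GL ι F)) (mul_comm' (⟨a', ha'⟩ : A) ⟨b', hb'⟩)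

theorem sympData_of_exponent [Nonempty ι] {σ : F →+* F} {G : Matrix ι ι F} (h : Refl σ G)
    {H M : Subgroup (GL ι F)} (hMI : M ≤ iso σ G) (hMn : NormG H M) (hMA : AbsIrr M)
    (hMs : ¬ M ≤ scalars ι F)
    (hcom : ∀ a ∈ M, ∀ b ∈ M, a * b * a⁻¹ * b⁻¹ ∈ scalars ι F) {r : ℕ} (hr : r.Prime)
    (hMr : ∀ x ∈ M, x ^ r ∈ scalars ι F) (hME : ∀ x ∈ M, x ^ (r * Nat.gcd 2 r) = 1)
    (hchar : ∀ R ≤ iso σ G, M ≤ R → R ≤ M ⊔ scalars ι F → NormG H R →
      ∀ A : Subgroup R, A.Characteristic → IsMulCommutative A → A.map R.subtype ≤ scalars ι F) :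
    ∃ R, SympData σ G H r R := by
  set E := r * Nat.gcd 2 r with hE
  obtain ⟨hEcases, hrch⟩ := rE_cases hr
  rw [← hE] at hEcases hrch
  set Z := scalars ι F
  set S := (scalarPart σ E).map (sch ι F) with hS
  have hSZ : S ≤ Z := by rintro _ ⟨c, -, rfl⟩; exact sch_mem c
  have hSI : S ≤ iso σ G := by rintro _ ⟨c, hc, rfl⟩; exact (sch_mem_iso h c).2 hc.1
  have hZc : ∀ z ∈ Z, ∀ y, z * y = y * z := fun z hz y => scalar_central hz y
  have hnormal : ∀ s ∈ S, ∀ g : GL ι F, g * s * g⁻¹ = s := fun s hs g => by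
    rw [← hZc s (hSZ hs) g, mul_inv_cancel_right]
  set R := M ⊔ S with hR
  haveI : S.Normal := ⟨fun s hs g => by rw [hnormal s hs g]; exact hs⟩
  have hRmem : ∀ g ∈ R, ∃ m ∈ M, ∃ s ∈ S, m * s = g := fun g hg => Subgroup.mem_sup_of_normal_right.1 hg
  have hRE : ∀ g ∈ R, g ^ E = 1 := by
    intro g hg
    obtain ⟨m, hm, s, hs, rfl⟩ := hRmem g hg
    obtain ⟨c, hc, rfl⟩ := hs
    rw [(show Commute m (sch ι F c) from (sch_central c m).symm).mul_pow, hME m hm, one_mul, ← map_pow,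
      (mem_scalarPart.1 hc).2, map_one]
  have hRI : R ≤ iso σ G := sup_le hMI hSI
  have hRn : NormG H R := by
    intro g hg x hx
    obtain ⟨m, hm, s, hs, rfl⟩ := hRmem x hx
    rw [show g * (m * s) * g⁻¹ = (g * m * g⁻¹) * (g * s * g⁻¹) by group, hnormal s hs]
    exact mul_mem (Subgroup.mem_sup_left (hMn g hg m hm)) (Subgroup.mem_sup_right hs)
  have hRA : AbsIrr R := hMA.mono le_sup_left
  have hRcom : ∀ a ∈ R, ∀ b ∈ R, a * b * a⁻¹ * b⁻¹ ∈ Z := by
    intro a ha b hb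
    obtain ⟨m, hm, s, hs, rfl⟩ := hRmem a ha
    obtain ⟨m', hm', s', hs', rfl⟩ := hRmem b hb
    have : m * s * (m' * s') * (m * s)⁻¹ * (m' * s')⁻¹ = m * m' * m⁻¹ * m'⁻¹ := by
      have hc1 := hZc s (hSZ hs)
      have hc2 := hZc s' (hSZ hs')
      calc m * s * (m' * s') * (m * s)⁻¹ * (m' * s')⁻¹
          = m * (s * m') * (s' * s⁻¹) * m⁻¹ * s'⁻¹ * m'⁻¹ := by group
        _ = m * (m' * s) * (s⁻¹ * s') * m⁻¹ * s'⁻¹ * m'⁻¹ := by rw [hc1 m', hc2 s⁻¹]
        _ = m * m' * (s' * m⁻¹) * s'⁻¹ * m'⁻¹ := by group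
        _ = m * m' * (m⁻¹ * s') * s'⁻¹ * m'⁻¹ := by rw [hc2 m⁻¹]
        _ = _ := by group
    rw [this]
    exact hcom m hm m' hm'
  have hRZ : ¬ R ≤ Z := fun h' => hMs (le_sup_left.trans h')
  obtain ⟨a₀, ha₀, b₀, hb₀, hne₀⟩ : ∃ a ∈ M, ∃ b ∈ M, a * b ≠ b * a := by
    by_contra hcon
    push Not at hcon
    exact hMs fun a ha => hMA.mem_scalars_of_commute fun x hx => hcon a ha x hx
  obtain ⟨ζ₀, hζ₀⟩ := mem_scalars_sch.1 (hcom a₀ ha₀ b₀ hb₀)
  have hζ₀r : ζ₀ ^ r = 1 :=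
    sch_injective (ι := ι) (by rw [map_pow, hζ₀, comm_pow_eq_one (hcom a₀ ha₀ b₀ hb₀) (hMr a₀ ha₀), map_one])
  have hζ₀1 : ζ₀ ≠ 1 := fun h1 => hne₀ (by
    rw [h1, map_one] at hζ₀
    calc a₀ * b₀ = (a₀ * b₀ * a₀⁻¹ * b₀⁻¹) * (b₀ * a₀) := by group
      _ = b₀ * a₀ := by rw [← hζ₀, one_mul])
  have hrp : ¬ CharP F r := by
    intro hcp
    haveI : Fact r.Prime := ⟨hr⟩
    refine hζ₀1 (Units.ext ?_)
    have h1 : (ζ₀ : F) ^ r = 1 := by rw [← Units.val_pow_eq_pow_val, hζ₀r, Units.val_one]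
    have h2 : ((ζ₀ : F) - 1) ^ r = 0 := by rw [sub_pow_char, h1, one_pow, sub_self]
    rw [Units.val_one]
    exact sub_eq_zero.1 (eq_zero_of_pow_eq_zero h2)
  have hζU : ζ₀ ∈ unitCircle σ := (sch_mem_iso (ι := ι) h ζ₀).1 (by
    rw [hζ₀]
    exact mul_mem (mul_mem (mul_mem (hMI ha₀) (hMI hb₀)) (inv_mem (hMI ha₀))) (inv_mem (hMI hb₀)))
  have hru : r ∣ Nat.card (unitCircle σ) := by
    have ho := orderOf_eq_prime (hp := ⟨hr⟩) (show (⟨ζ₀, hζU⟩ : unitCircle σ) ^ r = 1 from Subtype.ext hζ₀r)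
      (fun h1 => hζ₀1 (congrArg Subtype.val h1))
    exact ho ▸ orderOf_dvd_natCard _
  set ZR := Z.subgroupOf R with hZR
  have hcenter : Subgroup.center R = ZR := by
    ext x
    rw [Subgroup.mem_center_iff, hZR, Subgroup.mem_subgroupOf]
    exact ⟨fun h' => hRA.mem_scalars_of_commute fun y hy => congrArg Subtype.val (h' ⟨y, hy⟩).symm,
      fun h' y => Subtype.ext (hZc _ h' _).symm⟩
  haveI : ZR.Normal := scalars_normal.comap R.subtype
  have hzR : ∀ c : Fˣ, sch ι F c ∈ R ↔ c ∈ scalarPart σ E := fun c =>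
    ⟨fun hc => mem_scalarPart.2 ⟨(sch_mem_iso h c).1 (hRI hc), sch_injective (ι := ι) (by rw [map_pow, hRE _ hc, map_one])⟩,
      fun hc => Subgroup.mem_sup_right ⟨c, hc, rfl⟩⟩
  have hz : Nat.card ZR = Nat.card (scalarPart σ E) := by
    refine (Nat.card_congr (Equiv.ofBijective (fun c : scalarPart σ E =>
      (⟨⟨sch ι F c, (hzR c).2 c.2⟩, by rw [hZR, Subgroup.mem_subgroupOf]; exact sch_mem _⟩ : ZR)) ⟨?_, ?_⟩)).symm
    · intro a b hab'
      exact Subtype.ext (sch_injective (congrArg (fun x : ZR => ((x : R) : GL ι F)) hab'))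
    · rintro ⟨⟨x, hx⟩, hxZ⟩
      rw [hZR, Subgroup.mem_subgroupOf] at hxZ
      obtain ⟨c, rfl⟩ := mem_scalars_sch.1 hxZ
      exact ⟨⟨c, (hzR c).1 hx⟩, rfl⟩
  -- independence and span
  let m : R ⧸ ZR → Matrix ι ι F := fun j => (((j.out : R) : GL ι F) : Matrix ι ι F)
  choose ζ hζ using fun (x : R) (j : R ⧸ ZR) => mem_scalars.1 (hRcom x.1 x.2 j.out.1 j.out.2)
  have hindep : LinearIndependent F m :=
    indep_of_eigen m (fun j => Units.ne_zero _) (fun x : R => (cjAlg (x : GL ι F)).toLinearMap)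
      (fun x j => (ζ x j : F))
      (fun x j => by
        show cj (x : GL ι F) (m j) = _
        rw [← one_mul (m j), ← smul_mul_assoc, ← hζ, one_mul, cj_coe, ← Units.val_mul]
        congr 1
        group)
      (fun j k hjk => by
        by_contra hcon
        push Not at hcon
        refine hjk ?_
        rw [← QuotientGroup.out_eq' j, ← QuotientGroup.out_eq' k, QuotientGroup.eq]
        apply Subgroup.mem_subgroupOf.2
        refine hRA.mem_scalars_of_commute fun x hx => ?_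
        have e1 : ∀ i : R ⧸ ZR, x * (i.out : GL ι F) = sch ι F (ζ ⟨x, hx⟩ i) * ((i.out : GL ι F) * x) := by
          intro i
          have h1 : x * (i.out : GL ι F) * x⁻¹ * (i.out : GL ι F)⁻¹ = sch ι F (ζ ⟨x, hx⟩ i) :=
            Units.ext (by rw [sch_coe, ← hζ ⟨x, hx⟩ i])
          rw [← h1]; group
        set c := sch ι F (ζ ⟨x, hx⟩ k) with hc
        have ej : x * (j.out : GL ι F) = c * ((j.out : GL ι F) * x) := by
          rw [e1 j, show ζ ⟨x, hx⟩ j = ζ ⟨x, hx⟩ k from Units.ext (hcon ⟨x, hx⟩)]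
        have ek : x * (k.out : GL ι F) = c * ((k.out : GL ι F) * x) := e1 k
        show ((j.out : GL ι F)⁻¹ * k.out) * x = x * ((j.out : GL ι F)⁻¹ * k.out)
        have h2 : (c * (j.out : GL ι F))⁻¹ * x = x * (j.out : GL ι F)⁻¹ := by
          rw [inv_mul_eq_iff_eq_mul, ← mul_assoc, eq_mul_inv_iff_mul_eq, mul_assoc]
          exact ej
        calc ((j.out : GL ι F)⁻¹ * k.out) * x
            = (j.out : GL ι F)⁻¹ * c⁻¹ * (c * ((k.out : GL ι F) * x)) := by group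
          _ = (c * (j.out : GL ι F))⁻¹ * x * k.out := by rw [← ek, _root_.mul_inv_rev]; group
          _ = _ := by rw [h2]; group)
  have hspan : ⊤ ≤ Submodule.span F (Set.range m) := by
    have h1 : Submodule.span F (matrixSet R) = ⊤ := by
      have h2 := congrArg Subalgebra.toSubmodule hRA.adjoin_eq_top
      rw [Algebra.top_toSubmodule, Algebra.adjoin_eq_span] at h2
      have h3 : matrixSet R = (R.toSubmonoid.map (Units.coeHom (Matrix ι ι F)) : Set (Matrix ι ι F)) := rfl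
      rwa [h3, Submonoid.closure_eq, ← h3] at h2
    rw [← h1, Submodule.span_le]
    rintro _ ⟨g, hg, rfl⟩
    obtain ⟨s, hs⟩ := QuotientGroup.mk_out_eq_mul ZR (⟨g, hg⟩ : R)
    obtain ⟨c, hc⟩ := mem_scalars_sch.1 (Subgroup.mem_subgroupOf.1 s.2)
    have hm : m ((⟨g, hg⟩ : R) : R ⧸ ZR) = (c : F) • (g : Matrix ι ι F) := by
      simp only [m, hs]
      rw [Subgroup.coe_mul, Units.val_mul, ← hc, sch_coe, mul_smul_comm, mul_one]
    show (g : Matrix ι ι F) ∈ Submodule.span F (Set.range m)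
    have := Submodule.smul_mem (Submodule.span F (Set.range m)) ((c⁻¹ : Fˣ) : F)
      (Submodule.subset_span ⟨((⟨g, hg⟩ : R) : R ⧸ ZR), rfl⟩)
    rwa [hm, smul_smul, ← Units.val_mul, inv_mul_cancel, Units.val_one, one_smul] at this
  haveI : Fintype (R ⧸ ZR) := Fintype.ofFinite _
  set n := Fintype.card ι with hn
  have hcardQ : Nat.card (R ⧸ ZR) = n * n := by
    rw [Nat.card_eq_fintype_card, ← Module.finrank_eq_card_basis (Module.Basis.mk hindep hspan), Module.finrank_matrix]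
    simp [hn]
  have hRp : IsPGroup r R := fun g => by
    rcases hEcases with ⟨-, h'⟩ | ⟨h2, h'⟩
    · exact ⟨1, Subtype.ext (by rw [pow_one, SubmonoidClass.coe_pow, ← h']; exact hRE _ g.2)⟩
    · exact ⟨2, Subtype.ext (by rw [SubmonoidClass.coe_pow, h2, show (2 : ℕ) ^ 2 = E from h'.symm]; exact hRE _ g.2)⟩
  obtain ⟨k, hk⟩ : ∃ k, n = r ^ k := by
    haveI : Fact r.Prime := ⟨hr⟩
    obtain ⟨l, hl⟩ := IsPGroup.iff_card.1 (hRp.to_quotient ZR)
    rw [hcardQ] at hl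
    obtain ⟨i, -, hi⟩ := (Nat.dvd_prime_pow hr).1 (show n ∣ r ^ l from hl ▸ dvd_mul_left n n)
    exact ⟨i, hi⟩
  have hRnc : ¬ ∀ a ∈ R, ∀ b ∈ R, a * b = b * a := fun h' =>
    hne₀ (h' a₀ (Subgroup.mem_sup_left ha₀) b₀ (Subgroup.mem_sup_left hb₀))
  have hRexp : Monoid.exponent R = E := by
    have hdvd : Monoid.exponent R ∣ E := Monoid.exponent_dvd_of_forall_pow_eq_one fun g =>
      Subtype.ext (by rw [SubmonoidClass.coe_pow]; exact hRE _ g.2)
    have hne1 : Monoid.exponent R ≠ 1 := fun h' => hRnc fun a ha b hb => by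
      have ha1 := Monoid.pow_exponent_eq_one (⟨a, ha⟩ : R)
      rw [h', pow_one] at ha1
      rw [show a = 1 from congrArg Subtype.val ha1, one_mul, mul_one]
    rcases hEcases with ⟨-, h'⟩ | ⟨h2, h'⟩
    · rw [h'] at hdvd ⊢
      exact ((Nat.dvd_prime hr).1 hdvd).resolve_left hne1
    · rw [h'] at hdvd ⊢
      obtain ⟨i, hi, hie⟩ := (Nat.dvd_prime_pow Nat.prime_two (m := 2)).1 (by simpa using hdvd)
      rcases (show i = 0 ∨ i = 1 ∨ i = 2 by omega) with rfl | rfl | rfl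
      · exact absurd hie hne1
      · exfalso
        refine hRnc fun a ha b hb => ?_
        have hsq : ∀ x : R, x * x = 1 := fun x => by
          have := Monoid.pow_exponent_eq_one x
          rwa [hie, pow_one, pow_two] at this
        have hinv : ∀ x : R, x⁻¹ = x := fun x => inv_eq_of_mul_eq_one_right (hsq x)
        have := hinv (⟨a, ha⟩ * ⟨b, hb⟩)
        rw [_root_.mul_inv_rev, hinv, hinv] at this
        exact (congrArg Subtype.val this).symm
      · exact hie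
  refine ⟨R, hRI, hRn, hRA, ⟨hr, hRp, fun A hA hAc => ?_, hRexp⟩, hRcom, hRE, hzR, by rw [hcenter, hz], hrp, hru,
    hindep, k, hk, ?_⟩
  · have hAZ : A.map R.subtype ≤ Z :=
      hchar R hRI le_sup_left (sup_le_sup_left hSZ M) hRn A hA hAc
    haveI : IsCyclic Z := isCyclic_of_surjective (sch ι F).rangeRestrict (MonoidHom.rangeRestrict_surjective _)
    exact isCyclic_of_injective ((R.subtype.comp A.subtype).codRestrict Z fun a => hAZ ⟨a, a.2, rfl⟩)
      fun a b h' => by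
        have := congrArg Subtype.val h'
        exact Subtype.ext (Subtype.ext this)
  · rw [Subgroup.card_eq_card_quotient_mul_card_subgroup ZR, hcardQ, hz, hk, ← pow_add, two_mul]

/-- a minimal normal subgroup that is abelian modulo scalars gives a symplectic type group -/
theorem exists_sympData [Nonempty ι] {σ : F →+* F} {G : Matrix ι ι F} (h : Refl σ G)
    {H M : Subgroup (GL ι F)} (hMI : M ≤ iso σ G) (hM : NormG H M) (hMs : ¬ M ≤ scalars ι F)
    (hmin : ∀ N ≤ M, NormG H N → ¬ N ≤ scalars ι F → N = M)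
    (hcom : ∀ a ∈ M, ∀ b ∈ M, a * b * a⁻¹ * b⁻¹ ∈ scalars ι F)
    (habs : ∀ N ≤ iso σ G, NormG H N → ¬ N ≤ scalars ι F → AbsIrr N) :
    ∃ r R, SympData σ G H r R := by
  set Z := scalars ι F
  have hab : ∀ A ≤ iso σ G, NormG H A → (∀ a ∈ A, ∀ b ∈ A, a * b = b * a) → A ≤ Z := by
    intro A hAI hA hAc
    by_contra hAs
    exact hAs fun a ha => (habs A hAI hA hAs).mem_scalars_of_commute fun x hx => hAc a ha x hx
  have hZc : ∀ z ∈ Z, ∀ y, z * y = y * z := fun z hz y => scalar_central hz y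
  obtain ⟨r, hr, hMr⟩ : ∃ r : ℕ, r.Prime ∧ ∀ x ∈ M, x ^ r ∈ Z := by
    obtain ⟨x, hxM, hxZ⟩ := Set.not_subset.1 hMs
    have hex : ∃ k, 0 < k ∧ x ^ k ∈ Z := ⟨orderOf x, orderOf_pos x, by rw [pow_orderOf_eq_one]; exact one_mem _⟩
    set j := Nat.find hex with hj
    obtain ⟨hj0, hjZ⟩ := Nat.find_spec hex
    have hj1 : j ≠ 1 := fun h => hxZ (by rw [← pow_one x, ← h]; exact hjZ)
    obtain ⟨r, hr, k, hk⟩ := Nat.exists_prime_and_dvd hj1
    refine ⟨r, hr, ?_⟩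
    let T : Subgroup (GL ι F) :=
      { carrier := {y | y ∈ M ∧ y ^ r ∈ Z}
        mul_mem' := fun {a b} ha hb => by
          refine ⟨M.mul_mem ha.1 hb.1, ?_⟩
          have hz := hcom b hb.1 a ha.1
          rw [mul_pow_of_comm_central (hZc _ hz) (show b * a = (b * a * b⁻¹ * a⁻¹) * (a * b) by group) r]
          exact Z.mul_mem (Z.pow_mem hz _) (Z.mul_mem ha.2 hb.2)
        one_mem' := ⟨one_mem _, by rw [one_pow]; exact one_mem _⟩
        inv_mem' := fun {a} ha => ⟨M.inv_mem ha.1, by rw [inv_pow]; exact Z.inv_mem ha.2⟩ }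
    have hT : T = M := by
      refine hmin T (fun y hy => hy.1) (fun g hg y hy => ⟨hM g hg y hy.1, ?_⟩) fun hTZ => ?_
      · rw [conj_pow]; exact (scalars_normal.conj_mem _ hy.2 g)
      · have hk0 : 0 < k := Nat.pos_of_ne_zero fun h => by rw [h, mul_zero] at hk; omega
        have hlt : k < j := hk ▸ lt_mul_of_one_lt_left hk0 hr.one_lt
        refine Nat.find_min hex hlt ⟨hk0, hTZ ⟨M.pow_mem hxM k, ?_⟩⟩
        rw [← pow_mul, mul_comm, ← hk]
        exact hjZ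
    intro y hy
    exact (hT.ge hy).2
  set E := r * Nat.gcd 2 r with hE
  have hrch : r ∣ E.choose 2 := (rE_cases hr).2
  set C := (unitCircle σ).map (sch ι F) with hC
  have hCZ : C ≤ Z := by rintro _ ⟨c, -, rfl⟩; exact sch_mem c
  have hCI : C ≤ iso σ G := by rintro _ ⟨c, hc, rfl⟩; exact (sch_mem_iso h c).2 hc
  set K := M ⊔ C with hK
  have hKI : K ≤ iso σ G := sup_le hMI hCI
  have hKM : K ≤ M ⊔ Z := sup_le_sup_left hCZ M
  have hKcom : ∀ g ∈ K, ∀ g' ∈ K, g * g' * g⁻¹ * g'⁻¹ ∈ Z ∧ (g * g' * g⁻¹ * g'⁻¹) ^ r = 1 ∧ g ^ r ∈ Z := by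
    intro g hg g' hg'
    obtain ⟨a, ha, z, hz, rfl⟩ := Subgroup.mem_sup_of_normal_right.1 (hKM hg)
    obtain ⟨b, hb, w, hw, rfl⟩ := Subgroup.mem_sup_of_normal_right.1 (hKM hg')
    have : a * z * (b * w) * (a * z)⁻¹ * (b * w)⁻¹ = a * b * a⁻¹ * b⁻¹ := by
      calc a * z * (b * w) * (a * z)⁻¹ * (b * w)⁻¹ = a * (z * b) * (w * z⁻¹) * a⁻¹ * w⁻¹ * b⁻¹ := by group
        _ = a * (b * z) * (z⁻¹ * w) * a⁻¹ * w⁻¹ * b⁻¹ := by rw [hZc z hz b, hZc w hw z⁻¹]
        _ = a * b * (w * a⁻¹) * w⁻¹ * b⁻¹ := by group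
        _ = a * b * (a⁻¹ * w) * w⁻¹ * b⁻¹ := by rw [hZc w hw a⁻¹]
        _ = a * b * a⁻¹ * b⁻¹ := by group
    rw [this, (show Commute a z from (hZc z hz a).symm).mul_pow]
    exact ⟨hcom a ha b hb, comm_pow_eq_one (hcom a ha b hb) (hMr a ha), mul_mem (hMr a ha) (pow_mem hz r)⟩
  have hpowE : ∀ g ∈ K, ∀ g' ∈ K, (g * g') ^ E = g ^ E * g' ^ E := by
    intro g hg g' hg'
    obtain ⟨hz, hzr, -⟩ := hKcom g' hg' g hg
    rw [mul_pow_of_comm_central (hZc _ hz) (show g' * g = (g' * g * g'⁻¹ * g⁻¹) * (g * g') by group) E]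
    obtain ⟨k, hk⟩ := hrch
    rw [hk, pow_mul, hzr, one_pow, one_mul]
  haveI : C.Normal := ⟨fun c hc g => by rw [← hZc c (hCZ hc) g, mul_inv_cancel_right]; exact hc⟩
  have hKn : NormG H K := by
    intro g hg x hx
    obtain ⟨y, hy, c, hc, rfl⟩ := Subgroup.mem_sup_of_normal_right.1 hx
    rw [← conj_mul, ← hZc c (hCZ hc) g, mul_inv_cancel_right]
    exact mul_mem (Subgroup.mem_sup_left (hM g hg y hy)) (Subgroup.mem_sup_right hc)
  let M' : Subgroup (GL ι F) :=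
    { carrier := {g | g ∈ K ∧ g ^ E = 1}
      mul_mem' := fun {a b} ha hb => ⟨K.mul_mem ha.1 hb.1, by rw [hpowE a ha.1 b hb.1, ha.2, hb.2, one_mul]⟩
      one_mem' := ⟨one_mem _, one_pow _⟩
      inv_mem' := fun {a} ha => ⟨K.inv_mem ha.1, by rw [inv_pow, ha.2, inv_one]⟩ }
  have hM'n : NormG H M' := fun g hg x hx => ⟨hKn g hg x hx.1, by rw [conj_pow, hx.2, mul_one, mul_inv_cancel]⟩
  obtain ⟨a₀, ha₀, b₀, hb₀, hne₀⟩ : ∃ a ∈ M, ∃ b ∈ M, a * b ≠ b * a := by
    by_contra hcon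
    push Not at hcon
    exact hMs (hab M hMI hM hcon)
  have hM's : ¬ M' ≤ Z := by
    obtain ⟨⟨g, hgU⟩, hg⟩ := IsCyclic.exists_generator (α := unitCircle σ)
    have hex : ∀ x ∈ M, ∃ k : ℕ, x ^ r = sch ι F (g ^ k) := by
      intro x hx
      obtain ⟨c, hc⟩ := mem_scalars_sch.1 (hMr x hx)
      have hcU : c ∈ unitCircle σ := (sch_mem_iso (ι := ι) h c).1 (by rw [hc]; exact pow_mem (hMI hx) r)
      obtain ⟨k, hk⟩ := (Submonoid.mem_powers_iff _ _).1 (mem_powers_iff_mem_zpowers.2 (hg ⟨c, hcU⟩))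
      exact ⟨k, by rw [← hc, show g ^ k = c from congrArg Subtype.val hk]⟩
    obtain ⟨α, hα⟩ := hex a₀ ha₀
    obtain ⟨β, hβ⟩ := hex b₀ hb₀
    have hkey : ∀ x ∈ M, x ∉ Z → ∀ k : ℕ, x ^ E = sch ι F (g ^ k) ^ (Nat.gcd 2 r) → r ∣ k → ¬ M' ≤ Z := by
      rintro x hx hxZ k hk ⟨l, rfl⟩ hle
      have hgl : sch ι F (g ^ l)⁻¹ ∈ K :=
        Subgroup.mem_sup_right ⟨_, inv_mem (pow_mem hgU l), rfl⟩
      have hmem : x * sch ι F (g ^ l)⁻¹ ∈ M' := by
        refine ⟨K.mul_mem (Subgroup.mem_sup_left hx) hgl, ?_⟩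
        rw [hpowE x (Subgroup.mem_sup_left hx) _ hgl, hk, ← map_pow, ← map_pow, ← map_mul, ← pow_mul g, inv_pow,
          ← pow_mul g, show l * E = r * l * Nat.gcd 2 r by rw [hE]; ring, mul_inv_cancel, map_one]
      exact hxZ (by simpa [mul_assoc, ← map_mul] using Z.mul_mem (hle hmem) (sch_mem (g ^ l)))
    have ha₀Z : a₀ ∉ Z := fun h => hne₀ (hZc _ h _)
    by_cases hαr : r ∣ α
    · exact hkey a₀ ha₀ ha₀Z α (by rw [hE, pow_mul, hα]) hαr
    obtain ⟨i, hi⟩ : ∃ i : ℕ, r ∣ α * i + β := by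
      haveI : Fact r.Prime := ⟨hr⟩
      refine ⟨((-(β : ZMod r)) / (α : ZMod r)).val, ?_⟩
      rw [← ZMod.natCast_eq_zero_iff, Nat.cast_add, Nat.cast_mul, ZMod.natCast_val, ZMod.cast_id', id,
        mul_div_cancel₀ _ (by rwa [ne_eq, ZMod.natCast_eq_zero_iff])]
      ring
    have hxy : a₀ ^ i * b₀ ∉ Z := fun h => by
      have h1 := hZc _ h a₀
      have h2 : a₀ ^ i * (b₀ * a₀) = a₀ ^ i * (a₀ * b₀) := by
        rw [← mul_assoc, h1, ← mul_assoc, ← mul_assoc, (Commute.self_pow a₀ i).eq]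
      exact hne₀ (mul_left_cancel h2).symm
    refine hkey _ (M.mul_mem (M.pow_mem ha₀ i) hb₀) hxy _ ?_ hi
    rw [hpowE _ (Subgroup.mem_sup_left (M.pow_mem ha₀ i)) _ (Subgroup.mem_sup_left hb₀), ← pow_mul a₀,
      mul_comm i E, pow_mul, hE, pow_mul, hα, pow_mul b₀, hβ, ← map_pow, ← map_pow, ← map_pow, ← map_pow,
      ← map_mul]
    congr 1
    simp only [← pow_mul, ← pow_add]
    congr 1
    ring
  have hM'I : M' ≤ iso σ G := fun x hx => hKI hx.1
  obtain ⟨R, hR⟩ := sympData_of_exponent h hM'I hM'n (habs M' hM'I hM'n hM's) hM's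
    (fun a ha b hb => (hKcom a ha.1 b hb.1).1) hr (fun x hx => (hKcom x hx.1 1 (one_mem _)).2.2) (fun x hx => hx.2)
    (fun R hRI _ _ hRn A hA hAc => charScalar_of_abelian hab hRI hRn A hA hAc)
  exact ⟨r, R, hR⟩

end CfsgLib.Perm.Asch
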