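import Cfsg.Agent.Lib.Perm.Asch.Forms.SpClifford
import Cfsg.Agent.Lib.Perm.Asch.Forms.SymType
import Cfsg.Agent.Lib.Perm.Asch.Forms.Subfield

/-!
# Symplectic type groups and subfields in the symplectic groups
-/

set_option autoImplicit false
set_option linter.all false

namespace CfsgLib.Perm.Asch

open scoped Classical Matrix
open Matrix Cfsg.Geo

variable {F : Type*} [Field F] [Fintype F] {m : ℕ}

/-- commuting self-adjoint involutions of a symplectic space span at most half the dimension -/
theorem sp_span_involutions (hq : Odd (Fintype.card F)) {α : Type*} [Fintype α] (f : α → Matrix (Fin m ⊕ Fin m) (Fin m ⊕ Fin m) F)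
    (hcomm : ∀ i j, f i * f j = f j * f i) (hsq : ∀ i, f i * f i = 1)
    (hadj : ∀ i, adj (RingHom.id F) (Matrix.J (Fin m) F) (f i) = f i) :
    Module.finrank F (Submodule.span F (Set.range f)) ≤ m := by
  have htwo := two_ne_zero_of_odd hq
  let S := Algebra.adjoin F (Set.range f)
  letI : CommRing S := Algebra.adjoinCommRingOfComm F (by rintro _ ⟨i, rfl⟩ _ ⟨j, rfl⟩; exact hcomm i j)
  let x : α → S := fun i => ⟨f i, Algebra.subset_adjoin ⟨i, rfl⟩⟩
  have hx : ∀ i, x i * x i = 1 := fun i => Subtype.ext (hsq i)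
  have hsadj : ∀ s : S, adj (RingHom.id F) (Matrix.J (Fin m) F) (s : Matrix (Fin m ⊕ Fin m) (Fin m ⊕ Fin m) F) = s := by
    rintro ⟨s, hs⟩
    show adj _ _ s = s
    induction hs using Algebra.adjoin_induction with
    | mem y hy => obtain ⟨i, rfl⟩ := hy; exact hadj i
    | algebraMap c => rw [Algebra.algebraMap_eq_smul_one, refl_J.adj_smul, refl_J.adj_one]; rfl
    | add a b _ _ ha hb => rw [refl_J.adj_add, ha, hb]
    | mul a b ha' hb' ha hb =>
      rw [refl_J.adj_mul, ha, hb]
      exact congrArg Subtype.val (mul_comm (⟨b, hb'⟩ : S) ⟨a, ha'⟩)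
  let p : α → Bool → S := fun i b => (2 : F)⁻¹ • (1 + bif b then x i else -x i)
  let ef : (α → Bool) → S := fun s => ∏ i, p i (s i)
  have hsum1 : ∀ i, p i true + p i false = 1 := by
    intro i
    simp only [p, cond_true, cond_false, ← smul_add]
    rw [show (1 + x i) + (1 + -x i) = (2 : F) • (1 : S) by rw [two_smul]; ring, smul_smul, inv_mul_cancel₀ htwo, one_smul]
  have horth : ∀ i, p i true * p i false = 0 := by
    intro i
    simp only [p, cond_true, cond_false, smul_mul_assoc, mul_smul_comm]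
    rw [show (1 + x i) * (1 + -x i) = 1 - x i * x i by ring, hx, sub_self, smul_zero, smul_zero]
  have hidem : ∀ i b, p i b * p i b = p i b := by
    intro i b
    cases b
    · have := congrArg (· * p i false) (hsum1 i)
      simp only [add_mul, one_mul, horth, zero_add] at this
      exact this
    · have := congrArg (p i true * ·) (hsum1 i)
      simp only [mul_add, mul_one, horth, add_zero] at this
      exact this
  have hes : ∀ s s', s ≠ s' → ef s * ef s' = 0 := by
    intro s s' hne
    obtain ⟨i, hi⟩ := Function.ne_iff.1 hne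
    simp only [ef, ← Finset.prod_mul_distrib]
    refine Finset.prod_eq_zero (Finset.mem_univ i) ?_
    cases h1 : s i <;> cases h2 : s' i <;> simp [h1, h2] at hi
    · rw [mul_comm]; exact horth i
    · exact horth i
  have hee : ∀ s, ef s * ef s = ef s := fun s => by
    simp only [ef, ← Finset.prod_mul_distrib, hidem]
  have hone : ∑ s, ef s = 1 := by
    simp only [ef]
    rw [← Fintype.prod_sum (fun i b => p i b)]
    simp [hsum1]
  set K := {s : α → Bool // ef s ≠ 0}
  let e : K → Matrix (Fin m ⊕ Fin m) (Fin m ⊕ Fin m) F := fun s => (ef s.1 : S)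
  -- every `f i` is a combination of the idempotents
  have hspan : Submodule.span F (Set.range f) ≤ Submodule.span F (Set.range e) := by
    rw [Submodule.span_le]
    rintro _ ⟨i, rfl⟩
    show f i ∈ Submodule.span F (Set.range e)
    have hfi : x i = ∑ s, (if s i then (1 : F) else -1) • ef s := by
      calc x i = x i * ∑ s, ef s := by rw [hone, mul_one]
        _ = _ := by
          rw [Finset.mul_sum]
          refine Finset.sum_congr rfl fun s _ => ?_
          have : x i * p i (s i) = (if s i then (1 : F) else -1) • p i (s i) := by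
            cases s i
            · simp only [p, cond_false, Bool.false_eq_true, if_false, mul_smul_comm, smul_smul, neg_one_mul, neg_smul, ← smul_neg]
              congr 1; rw [mul_add, mul_one, mul_neg, hx]; ring
            · simp only [p, cond_true, if_true, mul_smul_comm, one_smul]
              congr 1; rw [mul_add, mul_one, hx, add_comm]
          simp only [ef]
          rw [← Finset.mul_prod_erase _ _ (Finset.mem_univ i), ← mul_assoc, this, smul_mul_assoc]
    rw [show f i = ((x i : S) : Matrix (Fin m ⊕ Fin m) (Fin m ⊕ Fin m) F) from rfl, hfi]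
    push_cast
    refine Submodule.sum_mem _ fun s _ => Submodule.smul_mem _ _ ?_
    by_cases hs : ef s = 0
    · rw [hs]; exact Submodule.zero_mem _
    · exact Submodule.subset_span ⟨⟨s, hs⟩, rfl⟩
  refine (Submodule.finrank_mono hspan).trans ((finrank_range_le_card e).trans ?_)
  -- a totally singular space with one vector in each idempotent
  have hne : ∀ s : K, ∃ v, e s *ᵥ v ≠ 0 := fun s => by
    by_contra hcon
    push Not at hcon
    refine s.2 (Subtype.ext (Matrix.toLin'.injective ?_))
    rw [ZeroMemClass.coe_zero, map_zero]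
    exact LinearMap.ext hcon
  choose v hv using hne
  let w : K → (Fin m ⊕ Fin m → F) := fun s => e s *ᵥ v s
  have hew : ∀ s s', e s *ᵥ w s' = if s = s' then w s else 0 := by
    intro s s'
    simp only [w, mulVec_mulVec, e, ← Subalgebra.coe_mul]
    split_ifs with h
    · subst h; rw [hee]
    · rw [hes _ _ (fun h' => h (Subtype.ext h')), ZeroMemClass.coe_zero, zero_mulVec]
  have hwi : LinearIndependent F w := by
    rw [Fintype.linearIndependent_iff]
    intro g hg s
    have h1 := congrArg (e s *ᵥ ·) hg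
    simp only [Matrix.mulVec_sum, Matrix.mulVec_smul, hew, mulVec_zero] at h1
    rw [Finset.sum_eq_single s (fun b _ hb => by rw [if_neg (Ne.symm hb), smul_zero]) (by simp), if_pos rfl] at h1
    exact (smul_eq_zero.1 h1).resolve_right (hv s)
  set W := Submodule.span F (Set.range w)
  have hperp : W ≤ perp (RingHom.id F) (Matrix.J (Fin m) F) W := by
    have h1 : ∀ s s', gform (RingHom.id F) (Matrix.J (Fin m) F) (w s) (w s') = 0 := by
      intro s s'
      by_cases h : s = s'
      · subst h; exact symp_self _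
      · have h2 := (refl_J (F := F) (m := m)).adj_spec (e s) (w s) (w s')
        rw [hsadj, hew, hew, if_pos rfl, if_neg h] at h2
        rw [h2]; simp [gform]
    rw [Submodule.span_le]
    rintro _ ⟨s', rfl⟩ u hu
    induction hu using Submodule.span_induction with
    | mem y hy => obtain ⟨s, rfl⟩ := hy; exact h1 s' s
    | zero => simp [gform]
    | add a b _ _ ha hb => rw [gform_add_right, ha, hb, add_zero]
    | smul c a _ ha => rw [gform_smul_right, ha, mul_zero]
  have h2 := (refl_J (F := F) (m := m)).perp_finrank W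
  have h3 := Submodule.finrank_mono hperp
  have h4 : Module.finrank F W = Fintype.card K := finrank_span_eq_card hwi
  rw [card_SI] at h2
  omega

/-- the subfield and symplectic type classes -/
inductive SpSubSym (m : ℕ) (F : Type*) [Field F] [Fintype F] (H : Subgroup (GL (Fin m ⊕ Fin m) F)) : Prop where
  | sub {F₀ : Subfield F} {r : ℕ} {P : GL (Fin m ⊕ Fin m) F} {ζ : F} (hr : r.Prime)
      (hc : Fintype.card F = Nat.card F₀ ^ r) (hζ : ζ ≠ 0)
      (hs : IsFormRationalStructure (Cfsg.sympForm m F) F₀ ζ P) (h : H ≤ subfieldSubgroup F₀ P) : SpSubSym m F H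
  | sym {R : Subgroup (GL (Fin m ⊕ Fin m) F)} {p k : ℕ} (hR : IsSymplecticTypeGroup 2 R)
      (ha : ActsAbsolutelyIrreducibly (matrixSet R)) (hs : R ≤ similarityGroup (Cfsg.sympForm m F))
      (hp : p.Prime) (hpo : Odd p) (hc : Fintype.card F = p) (hcard : Nat.card R = 2 ^ (1 + 2 * k))
      (hz : Nat.card (Subgroup.center R) = 2) (hm : IsOfMinusType k R) (hk : m + m = 2 ^ k)
      (h : H ≤ subgroupNormalizer R) : SpSubSym m F H

theorem SpSubSym.toClass {H : Subgroup (GL (Fin m ⊕ Fin m) F)} (h : SpSubSym m F H) : SpClass m F H := by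
  cases h with
  | sub hr hc hζ hs h => exact .sub hr hc hζ hs h
  | sym hR ha hs hp hpo hc hcard hz hm hk h => exact .sym hR ha hs hp hpo hc hcard hz hm hk h

theorem SpSubSym.of_realisable (hm : 0 < m) {H P : Subgroup (GL (Fin m ⊕ Fin m) F)} (hn : NormG H P) (hP : AbsIrr P)
    (hPI : P ≤ Cfsg.spGL m F) {F₀ : Subfield F} (hne : F₀ ≠ ⊤) (hreal : RealisableOver F₀ (matrixSet P)) :
    SpSubSym m F H := by
  haveI : Nonempty (Fin m ⊕ Fin m) := ⟨Sum.inl ⟨0, hm⟩⟩
  obtain ⟨F₁, r, B, c, G₀, hr, hc, hle, hc0, h0, hG, -, -⟩ :=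
    exists_rational_structure refl_J hn hP (spGL_eq (F := F) (m := m) ▸ hPI) hne hreal
  exact .sub hr hc (inv_ne_zero hc0) (fun u v hu hv =>
    rational_gform hG h0 (by rw [inv_mul_cancel₀ hc0]; exact F₁.one_mem) hu hv) hle

theorem SpClass.of_realisable (hm : 0 < m) {H P : Subgroup (GL (Fin m ⊕ Fin m) F)} (hn : NormG H P) (hP : AbsIrr P)
    (hPI : P ≤ Cfsg.spGL m F) {F₀ : Subfield F} (hne : F₀ ≠ ⊤) (hreal : RealisableOver F₀ (matrixSet P)) :
    SpClass m F H := (SpSubSym.of_realisable hm hn hP hPI hne hreal).toClass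

/-- a group of symplectic type gives class six or a subfield -/
theorem sp_of_sympData (hm : 0 < m) {H : Subgroup (GL (Fin m ⊕ Fin m) F)} {r : ℕ} {R : Subgroup (GL (Fin m ⊕ Fin m) F)}
    (hR : SympData (RingHom.id F) (Matrix.J (Fin m) F) H r R) : SpSubSym m F H := by
  by_contra hH
  haveI : Nonempty (Fin m ⊕ Fin m) := ⟨Sum.inl ⟨0, hm⟩⟩
  set G := Matrix.J (Fin m) F
  have hU : ∀ c : Fˣ, c ∈ unitCircle (RingHom.id F) ↔ c = 1 ∨ c = -1 := by
    intro c
    show (c : F) * (c : F) = 1 ↔ _
    rw [mul_self_eq_one_iff, ← Units.val_one, ← Units.val_neg, ← Units.ext_iff, ← Units.ext_iff]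
  have hr := hR.symp.1
  have hq : Odd (Fintype.card F) := by
    by_contra hq
    haveI := charTwo_of_even hq
    have hbot : unitCircle (RingHom.id F) = ⊥ := by
      rw [Subgroup.eq_bot_iff_forall]
      intro c hc
      rcases (hU c).1 hc with h | h
      · exact h
      · rw [h]; exact Units.ext (by rw [Units.val_neg, CharTwo.neg_eq])
    have := hR.r_dvd
    rw [hbot, Subgroup.card_bot, Nat.dvd_one] at this
    exact hr.ne_one this
  have htwo := two_ne_zero_of_odd hq
  have hUcard : Nat.card (unitCircle (RingHom.id F)) = 2 := by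
    rw [Nat.card_eq_two_iff]
    refine ⟨⟨1, (hU 1).2 (Or.inl rfl)⟩, ⟨-1, (hU (-1)).2 (Or.inr rfl)⟩, ?_, ?_⟩
    · intro h
      have := congrArg Units.val (congrArg Subtype.val h)
      rw [Units.val_one, Units.val_neg, Units.val_one] at this
      exact htwo (by linear_combination this)
    · ext ⟨c, hc⟩
      simp only [Set.mem_insert_iff, Set.mem_singleton_iff, Set.mem_univ, iff_true, Subtype.mk.injEq]
      exact (hU c).1 hc
  obtain rfl : r = 2 := (Nat.prime_dvd_prime_iff_eq hr Nat.prime_two).1 (hUcard ▸ hR.r_dvd)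
  have hE : (2 : ℕ) * Nat.gcd 2 2 = 4 := rfl
  have hSP : scalarPart (RingHom.id F) (2 * Nat.gcd 2 2) = unitCircle (RingHom.id F) := by
    refine inf_eq_left.2 fun c hc => ?_
    show c ^ (2 * Nat.gcd 2 2) = 1
    rcases (hU c).1 hc with h | h <;> rw [h]
    exacts [one_pow _, Even.neg_one_pow ⟨2, hE⟩]
  have hZ2 : Nat.card (Subgroup.center R) = 2 := by rw [hR.card_center, hSP, hUcard]
  obtain ⟨k, hk, hcardR⟩ := hR.card
  rw [hSP, hUcard, ← pow_succ, add_comm] at hcardR
  rw [card_SI] at hk
  set Z := scalars (Fin m ⊕ Fin m) F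
  have hcenter : Subgroup.center R = Z.subgroupOf R := by
    ext x
    rw [Subgroup.mem_center_iff, Subgroup.mem_subgroupOf]
    exact ⟨fun h => hR.absIrr.mem_scalars_of_commute fun y hy => congrArg Subtype.val (h ⟨y, hy⟩).symm,
      fun h y => Subtype.ext (scalar_central h _).symm⟩
  have hscal : ∀ c : Fˣ, sch (Fin m ⊕ Fin m) F c ∈ R → c = 1 ∨ c = -1 := fun c hc =>
    (hU c).1 ((hR.scalar_iff c).1 hc).1
  have hminus : IsOfMinusType k R := by
    intro A hA hA2
    by_contra hlt
    push Not at hlt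
    haveI := hA
    haveI : Fintype A := Fintype.ofFinite _
    let f : A → Matrix (Fin m ⊕ Fin m) (Fin m ⊕ Fin m) F := fun a => (((a : R) : GL (Fin m ⊕ Fin m) F) : Matrix _ _ F)
    have hle := sp_span_involutions hq f
      (fun a b : A => by
        have h := congrArg (fun z : A => (((z : R) : GL (Fin m ⊕ Fin m) F) : Matrix (Fin m ⊕ Fin m) (Fin m ⊕ Fin m) F)) (mul_comm' a b)
        simpa only [Subgroup.coe_mul, Units.val_mul, f] using h)
      (fun a : A => by
        have h := congrArg (fun z : R => ((z : GL (Fin m ⊕ Fin m) F) : Matrix (Fin m ⊕ Fin m) (Fin m ⊕ Fin m) F)) (hA2 a a.2)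
        simpa only [Subgroup.coe_mul, Units.val_mul, OneMemClass.coe_one, Units.val_one, f] using h)
      (fun a : A => by
        have hg : ((a : R) : GL (Fin m ⊕ Fin m) F) ∈ iso (RingHom.id F) G := hR.le_iso (a : R).2
        rw [refl_J.adj_mem_iff.1 hg]
        have h1 : ((a : R) : GL (Fin m ⊕ Fin m) F)⁻¹ = ((a : R) : GL (Fin m ⊕ Fin m) F) :=
          inv_eq_of_mul_eq_one_right (congrArg Subtype.val (hA2 a a.2))
        rw [h1])
    -- independent cosets
    let ρ : A →* R ⧸ Subgroup.center R := (QuotientGroup.mk' _).comp A.subtype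
    have hker : Nat.card ρ.ker ≤ 2 := by
      rw [← hZ2]
      refine Nat.card_le_card_of_injective (fun a => ⟨(a : A), ?_⟩) ?_
      · exact (QuotientGroup.eq_one_iff _).1 (MonoidHom.mem_ker.1 a.2)
      · intro a b hab
        exact Subtype.ext (Subtype.ext (congrArg Subtype.val hab :))
    have hrange : 2 ^ k ≤ Nat.card ρ.range := by
      have h1 := Subgroup.card_eq_card_quotient_mul_card_subgroup ρ.ker
      rw [Nat.card_congr (QuotientGroup.quotientKerEquivRange ρ).toEquiv] at h1
      have h2 := Nat.mul_le_mul_left (Nat.card ρ.range) hker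
      rw [pow_succ] at hlt
      omega
    have hind := hR.indep
    rw [← hcenter] at hind
    haveI : Fintype ρ.range := Fintype.ofFinite _
    have hind' := hind.comp (fun q : ρ.range => (q : R ⧸ Subgroup.center R)) Subtype.val_injective
    have hsub : Submodule.span F (Set.range ((fun j : R ⧸ Subgroup.center R =>
        (((j.out : R) : GL (Fin m ⊕ Fin m) F) : Matrix (Fin m ⊕ Fin m) (Fin m ⊕ Fin m) F)) ∘
        fun q : ρ.range => (q : R ⧸ Subgroup.center R))) ≤ Submodule.span F (Set.range f) := by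
      rw [Submodule.span_le]
      rintro _ ⟨⟨_, a, rfl⟩, rfl⟩
      obtain ⟨z, hz⟩ := QuotientGroup.mk_out_eq_mul (Subgroup.center R) (a : R)
      obtain ⟨c, hc⟩ := mem_scalars.1 (Subgroup.mem_subgroupOf.1 (hcenter ▸ z.2 : (z : R) ∈ Z.subgroupOf R))
      show (((((a : R) : R ⧸ Subgroup.center R).out : R) : GL (Fin m ⊕ Fin m) F) : Matrix _ _ F) ∈ Submodule.span F (Set.range f)
      rw [hz, Subgroup.coe_mul, Units.val_mul, hc, mul_smul_comm, mul_one]
      exact Submodule.smul_mem _ _ (Submodule.subset_span ⟨a, rfl⟩)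
    have h5 := Submodule.finrank_mono hsub
    rw [finrank_span_eq_card hind', ← Nat.card_eq_fintype_card] at h5
    omega
  -- the field is prime
  obtain ⟨p, a, hp, hcp, hcard, ha⟩ := exists_char_card (F := F)
  haveI := hcp
  haveI : Fact p.Prime := ⟨hp⟩
  have hpodd : Odd p := by
    rw [hcard] at hq
    exact (Nat.odd_pow_iff ha.ne').1 hq
  rcases eq_or_ne a 1 with rfl | ha1
  · rw [pow_one] at hcard
    refine hH (.sym hR.symp hR.absIrr (fun g hg => ?_) hp hpodd hcard hcardR hZ2 hminus hk fun g hg x => ?_)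
    · refine ⟨1, fun v w => ?_⟩
      rw [Units.val_one, one_mul]
      exact mem_iso_iff.1 (hR.le_iso hg) v w
    · refine ⟨fun hx => hR.norm g hg x hx, fun hx => ?_⟩
      have := hR.norm g⁻¹ (H.inv_mem hg) _ hx
      simpa [mul_assoc] using this
  · -- Frobenius descent
    obtain ⟨G', hG', hG'0⟩ := exists_invForm_of_indep hR.indep (by
        rw [← hcenter, hZ2]; exact_mod_cast htwo) (frobenius F p) (fun c hc => by
        rw [frobenius_def]
        rcases hscal c hc with h | h <;> rw [h]
        · simp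
        · rw [Units.val_neg, Units.val_one, hpodd.neg_one_pow]; ring)
    have hdet := hG'.det_ne_zero hR.absIrr.irred hG'0
    let S : GL (Fin m ⊕ Fin m) F := Matrix.GeneralLinearGroup.mkOfDetNeZero (G⁻¹ * G') (by
      rw [Matrix.det_mul, Matrix.det_nonsing_inv, Ring.inverse_eq_inv']
      exact mul_ne_zero (inv_ne_zero refl_J.det) hdet)
    obtain ⟨F₀, hne, hreal⟩ := realisable_of_conj hR.absIrr (frobeniusEquiv F p) (by
        intro h
        refine ha1 (Nat.dvd_one.1 ((pow_fix_iff_field hcard 1).1 fun c => ?_))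
        rw [pow_one]
        exact congrArg (fun τ : F ≃+* F => τ c) h) S (fun g hg => by
        show G⁻¹ * G' * (g : Matrix _ _ F).map (frobenius F p) = (g : Matrix _ _ F) * (G⁻¹ * G')
        have h1 := mem_iso.1 (hR.le_iso hg)
        rw [RingHom.coe_id, Matrix.map_id] at h1
        have h2 := hG' g hg
        have hgT : (g : Matrix (Fin m ⊕ Fin m) (Fin m ⊕ Fin m) F)ᵀ =
            G * ((g⁻¹ : GL (Fin m ⊕ Fin m) F) : Matrix _ _ F) * G⁻¹ := by
          calc (g : Matrix (Fin m ⊕ Fin m) (Fin m ⊕ Fin m) F)ᵀ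
              = (g : Matrix (Fin m ⊕ Fin m) (Fin m ⊕ Fin m) F)ᵀ * (G * ((g : Matrix _ _ F) *
                  ((g⁻¹ : GL (Fin m ⊕ Fin m) F) : Matrix _ _ F)) * G⁻¹) := by
                rw [gl_mul_inv, mul_one, refl_J.mul_inv, mul_one]
            _ = ((g : Matrix (Fin m ⊕ Fin m) (Fin m ⊕ Fin m) F)ᵀ * G * (g : Matrix _ _ F)) *
                  ((g⁻¹ : GL (Fin m ⊕ Fin m) F) : Matrix _ _ F) * G⁻¹ := by simp only [mul_assoc]
            _ = _ := by rw [h1]
        rw [hgT] at h2
        calc G⁻¹ * G' * (g : Matrix _ _ F).map (frobenius F p)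
            = (g : Matrix _ _ F) * (G⁻¹ * G) * ((g⁻¹ : GL (Fin m ⊕ Fin m) F) : Matrix _ _ F) * G⁻¹ * G' *
                (g : Matrix _ _ F).map (frobenius F p) := by rw [refl_J.inv_mul, mul_one, gl_mul_inv, one_mul]
          _ = (g : Matrix _ _ F) * (G⁻¹ * (G * ((g⁻¹ : GL (Fin m ⊕ Fin m) F) : Matrix _ _ F) * G⁻¹ * G' *
                (g : Matrix _ _ F).map (frobenius F p))) := by simp only [mul_assoc]
          _ = _ := by rw [h2])
    exact hH (SpSubSym.of_realisable hm hR.norm hR.absIrr (spGL_eq (F := F) (m := m) ▸ hR.le_iso) hne hreal)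

/-- the symplectic type case -/
theorem sp_of_symType (hm : 0 < m) {H M : Subgroup (GL (Fin m ⊕ Fin m) F)} (hI : H ≤ Cfsg.spGL m F)
    (hMH : M ≤ H) (hM : NormG H M) (hMs : ¬ M ≤ scalars (Fin m ⊕ Fin m) F)
    (hmin : ∀ N ≤ M, NormG H N → ¬ N ≤ scalars (Fin m ⊕ Fin m) F → N = M)
    (hcom : ∀ a ∈ M, ∀ b ∈ M, a * b * a⁻¹ * b⁻¹ ∈ scalars (Fin m ⊕ Fin m) F) : SpClass m F H := by
  by_contra hH
  haveI : Nonempty (Fin m ⊕ Fin m) := ⟨Sum.inl ⟨0, hm⟩⟩
  obtain ⟨r, R, hR⟩ := exists_sympData (refl_J (F := F) (m := m)) (spGL_eq (F := F) (m := m) ▸ hMH.trans hI) hM hMs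
    hmin hcom (fun N hNI hN hNs => sp_absIrr_of_normal hm hI hH hN (spGL_eq (F := F) (m := m) ▸ hNI) hNs)
  exact hH (sp_of_sympData hm hR).toClass

end CfsgLib.Perm.Asch
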