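import Cfsg.Agent.Lib.Perm.Asch.Forms.OField
import Cfsg.Agent.Lib.Perm.Asch.Forms.OCongr
import Cfsg.Agent.Lib.Perm.Asch.Forms.SpSymType
import Cfsg.Agent.Lib.Perm.Asch.Forms.SpClifford
import Cfsg.Agent.Lib.Perm.Asch.Forms.SpLemmas
import Cfsg.Agent.Lib.Perm.Asch.Forms.Power

/-!
# Tensor decompositions and the structure of subgroups of odd orthogonal groups
-/

set_option autoImplicit false
set_option linter.all false

namespace CfsgLib.Perm.Asch

open scoped Classical Matrix Kronecker commutatorElement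
open Matrix Cfsg.Geo

variable {F : Type*} [Field F] [Fintype F] {m : ℕ} {H M : Subgroup (GL (OI m) F)}

theorem det_eq_zero_of_skew {κ : Type} [Fintype κ] [DecidableEq κ] (h2 : (2 : F) ≠ 0) (hodd : Odd (Fintype.card κ))
    {A : Matrix κ κ F} (hA : Aᵀ = -A) : A.det = 0 := by
  have h := congrArg Matrix.det hA
  rw [Matrix.det_transpose, Matrix.det_neg, hodd.neg_one_pow] at h
  have h' : (2 : F) * A.det = 0 := by linear_combination h
  exact (mul_eq_zero.1 h').resolve_left h2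

theorem sign_of_symm_eps {κ : Type} [Fintype κ] [DecidableEq κ] {G : Matrix κ κ F} {c : F} (hd : G.det ≠ 0)
    [Nonempty κ] (h : Gᵀ = c • G) : c = 1 ∨ c = -1 := by
  refine mul_self_eq_one_iff.1 ?_
  obtain ⟨i, j, hij⟩ : ∃ i j, G i j ≠ 0 := by
    by_contra hcon
    push Not at hcon
    exact hd (by rw [show G = 0 from Matrix.ext hcon, Matrix.det_zero])
  have h1 := congrFun (congrFun h i) j
  have h3 := congrFun (congrFun h j) i
  rw [Matrix.transpose_apply, Matrix.smul_apply, smul_eq_mul] at h1 h3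
  rw [h1] at h3
  exact mul_right_cancel₀ hij (by linear_combination -h3)

/-- over three elements an isometry of the unit form in dimension three is monomial -/
theorem three_monomial (hq : Fintype.card F = 3) {x : Fin 3 → F} (h : ∑ i, x i * x i = 1) :
    ∃ (i : Fin 3) (s : F), x = s • Pi.single i 1 := by
  let φ : ZMod 3 ≃+* F := ZMod.ringEquivOfPrime F Nat.prime_three hq
  obtain ⟨u, hu⟩ := φ.surjective (x 0)
  obtain ⟨v, hv⟩ := φ.surjective (x 1)
  obtain ⟨w, hw⟩ := φ.surjective (x 2)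
  rw [Fin.sum_univ_three, ← hu, ← hv, ← hw] at h
  simp only [← map_mul, ← map_add] at h
  rw [← map_one φ] at h
  rcases z3_weight u v w (φ.injective h) with ⟨-, rfl, rfl⟩ | ⟨rfl, -, rfl⟩ | ⟨rfl, rfl, -⟩ <;>
    rw [map_zero] at *
  · refine ⟨0, x 0, funext fun i => ?_⟩
    fin_cases i <;> simp [← hv, ← hw]
  · refine ⟨1, x 1, funext fun i => ?_⟩
    fin_cases i <;> simp [← hu, ← hw]
  · refine ⟨2, x 2, funext fun i => ?_⟩
    fin_cases i <;> simp [← hu, ← hv]

theorem pv_single_smul {k t : ℕ} (a : Fin t → Fin k) (s : Fin t → F) :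
    pv (fun l => s l • (Pi.single (a l) (1 : F) : Fin k → F)) = (∏ l, s l) • Pi.single a 1 := by
  funext b
  by_cases hb : b = a
  · subst hb; simp [pv]
  · obtain ⟨l, hl⟩ := Function.ne_iff.1 hb
    rw [Pi.smul_apply, Pi.single_eq_of_ne hb, smul_zero, pv]
    exact Finset.prod_eq_zero (Finset.mem_univ l) (by simp [hl])

/-- a tensor power of a symmetric form -/
theorem o_of_power (h2 : (2 : F) ≠ 0) (hm : 0 < m) (hI : H ≤ Cfsg.isometryGroup F (Cfsg.quadFormOdd m F)) {k t : ℕ}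
    (hk : 3 ≤ k) (ht : 2 ≤ t) {e : OI m ≃ (Fin t → Fin k)} {P : GL (OI m) F}
    (hle : H ≤ tensorWreathSubgroup k t e P) {c : F} (hc : c ≠ 0) {G₁ : Matrix (Fin k) (Fin k) F} (hs : G₁ᵀ = G₁)
    (hd1 : G₁.det ≠ 0) (hG : gramAt (RingHom.id F) (oG m F) e P = c • pure fun _ => G₁) : OClass m F H := by
  by_cases hex : Fintype.card F = 3 ∧ k = 3
  swap
  · refine .power e P (f₁ := gform (RingHom.id F) G₁) hk ht hex (bilin_symmetric hd1 hs) ?_ hle
    rw [oPolar_eq]
    exact powerFormStructure_of_gramAt (σ := RingHom.id F) hc hG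
  obtain ⟨hq, rfl⟩ := hex
  obtain ⟨A, hA⟩ := exists_congr_scalar h2 (by decide) hs hd1
  set dd := G₁.det with hdd
  set P' := P * glReindex e.symm (pureGL fun _ : Fin t => A) with hP'
  have hle' : H ≤ tensorWreathSubgroup 3 t e P' := le_tensorWreath_mul (pureGL_mem _) hle
  set c' := c * dd ^ t with hc'
  have hc'0 : c' ≠ 0 := mul_ne_zero hc (pow_ne_zero _ hd1)
  have hG' : gramAt (RingHom.id F) (oG m F) e P' = c' • pure fun _ => (1 : Matrix (Fin 3) (Fin 3) F) := by
    rw [gramAt_mul, hG, pureGL_coe, pure_transpose, RingHom.coe_id, Matrix.map_id, mul_smul_comm, smul_mul_assoc,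
      pure_mul, pure_mul]
    rw [show ((fun _ : Fin t => (A : Matrix (Fin 3) (Fin 3) F)ᵀ) * (fun _ => G₁) * fun _ => (A : Matrix (Fin 3) (Fin 3) F)) =
      fun _ => dd • (1 : Matrix (Fin 3) (Fin 3) F) from funext fun _ => hA, pure_smul, smul_smul, Finset.prod_const,
      Finset.card_univ, Fintype.card_fin]
  have hcard : 3 ^ t = 2 * m + 1 := by
    have := Fintype.card_congr e
    rw [card_OI] at this
    simpa using this.symm
  let φ : Fin (3 ^ t) ≃ (Fin t → Fin 3) := (Fintype.equivFinOfCardEq (by simp)).symm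
  let w : Fin (3 ^ t) → OI m → F := fun i =>
    (P' : Matrix (OI m) (OI m) F) *ᵥ ((Pi.single (φ i) (1 : F) : (Fin t → Fin 3) → F) ∘ e)
  refine o_of_frame h2 hI hcard hm w hc'0 (fun i j => ?_) fun g hg i => ?_
  · show gform _ _ ((P' : Matrix (OI m) (OI m) F) *ᵥ _) ((P' : Matrix (OI m) (OI m) F) *ᵥ _) = _
    rw [gform_gramAt, hG', gform_single, Matrix.smul_apply, smul_eq_mul]
    rw [show pure (fun _ : Fin t => (1 : Matrix (Fin 3) (Fin 3) F)) = 1 from pure_one, Matrix.one_apply]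
    by_cases hij : i = j
    · subst hij; simp
    · rw [if_neg hij, if_neg (fun h => hij (φ.injective h)), mul_zero]
  · obtain ⟨gs, π, rfl, hd⟩ := wreath_similitude (oG_det h2) hG' (oIso_eq (F := F) (m := m) h2 ▸ hI hg) (hle' hg)
    have hcol : ∀ l : Fin t, ∀ b : Fin 3, ∃ (a : Fin 3) (s : F),
        (gs l : Matrix (Fin 3) (Fin 3) F) *ᵥ Pi.single b 1 = s • Pi.single a 1 := by
      intro l b
      obtain ⟨d, hd0, hd⟩ := hd l
      simp only [RingHom.coe_id, Matrix.map_id, mul_one] at hd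
      have hd1' : d = 1 := by
        have h1 := congrArg Matrix.det hd
        rw [Matrix.det_mul, Matrix.det_transpose, Matrix.det_smul, Matrix.det_one, mul_one, Fintype.card_fin] at h1
        have hne : (gs l : Matrix (Fin 3) (Fin 3) F).det ≠ 0 := fun h0 => by
          rw [h0, mul_zero] at h1; exact pow_ne_zero 3 hd0 h1.symm
        rw [sq_three hq hne, pow_succ, pow_two, sq_three hq hd0, one_mul] at h1
        exact h1.symm
      refine three_monomial hq ?_
      have h1 := congrFun (congrFun hd b) b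
      rw [hd1', one_smul, Matrix.one_apply_eq, Matrix.mul_apply] at h1
      refine Eq.trans (Finset.sum_congr rfl fun a _ => ?_) h1
      simp [Matrix.mulVec_single_one]
    choose α s hαs using hcol
    refine ⟨φ.symm fun l => α l (φ i (π.symm l)), ∏ l, s l (φ i (π.symm l)), ?_⟩
    show ((P' * glReindex e.symm (pureGL gs * permGL π) * P'⁻¹ : GL (OI m) F) : Matrix (OI m) (OI m) F) *ᵥ
      ((P' : Matrix (OI m) (OI m) F) *ᵥ _) = _ • ((P' : Matrix (OI m) (OI m) F) *ᵥ _)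
    rw [Units.val_mul, Units.val_mul, mulVec_mulVec, mul_assoc, gl_inv_mul, mul_one, ← mulVec_mulVec,
      ← Matrix.mulVec_smul, Equiv.apply_symm_apply]
    congr 1
    show rx e ((pureGL gs * permGL π : GL (Fin t → Fin 3) F) : Matrix (Fin t → Fin 3) (Fin t → Fin 3) F) *ᵥ _ = _
    rw [rx_mulVec, Units.val_mul, pureGL_coe, permGL_coe]
    have h1 : (Pi.single (φ i) (1 : F) : (Fin t → Fin 3) → F) = pv (fun l => Pi.single (φ i l) (1 : F)) := by
      have := pv_single_smul (φ i) (fun _ => (1 : F))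
      simpa using this.symm
    rw [h1, ← mulVec_mulVec, permMat_mulVec_pv, pure_mulVec_pv]
    simp only [hαs]
    rw [pv_single_smul]
    funext x
    simp

/-- a tensor decomposition of the form -/
theorem o_tensor_ordered (h2 : (2 : F) ≠ 0) {d k : ℕ} (hd : 3 ≤ d) (hdk : d < k) {e : OI m ≃ Fin d × Fin k}
    {P : GL (OI m) F} {G₁ : Matrix (Fin d) (Fin d) F} {G₂ : Matrix (Fin k) (Fin k) F} (hd1 : G₁.det ≠ 0)
    (hd2 : G₂.det ≠ 0) (h1 : G₁ᵀ = G₁) (h2' : G₂ᵀ = G₂) (hle : H ≤ tensorProductSubgroup d k e P)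
    (hG : gramAt (RingHom.id F) (oG m F) e P = G₁ ⊗ₖ G₂) : OClass m F H := by
  refine .tensor e P (f₁ := gform (RingHom.id F) G₁) (f₂ := gform (RingHom.id F) G₂) hd hdk
    (bilin_symmetric hd1 h1) (bilin_symmetric hd2 h2') ?_ hle
  rw [oPolar_eq]
  exact tensorFormStructure_of_gramAt (σ := RingHom.id F) one_ne_zero (by rw [one_smul]; exact hG)

theorem o_absIrr_of_normal (h2 : (2 : F) ≠ 0) (hm : 0 < m) (hI : H ≤ Cfsg.isometryGroup F (Cfsg.quadFormOdd m F))
    (hH : ¬ OClass m F H) {N : Subgroup (GL (OI m) F)} (hN : NormG H N)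
    (hNI : N ≤ Cfsg.isometryGroup F (Cfsg.quadFormOdd m F)) (hNs : ¬ N ≤ scalars (OI m) F) : AbsIrr N := by
  refine (absIrr_or_tensor (refl_oG h2) (o_irred h2 hI hH)
    (fun Z hc hn hd => o_scalar_of_comm h2 hm hI hH hc hn hd) hN (oIso_eq (F := F) (m := m) h2 ▸ hNI) hNs).resolve_right ?_
  rintro ⟨d, k, e, P, G₁, G₂, hd, hk, hle, hG⟩
  obtain ⟨hd1, hd2, ε, c₁, c₂, hε, hc, e1, e2⟩ := factor_refl (refl_oG h2) hG
  simp only [RingHom.coe_id, Matrix.map_id, id_eq] at hε e1 e2 hc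
  have hcard : d * k = 2 * m + 1 := by
    have := Fintype.card_congr e
    rw [card_OI] at this
    simpa using this.symm
  have hdk : Odd d ∧ Odd k := Nat.odd_mul.1 ⟨m, hcard⟩
  obtain ⟨hd3, hk3⟩ : 3 ≤ d ∧ 3 ≤ k := by
    obtain ⟨⟨i, hi⟩, j, hj⟩ := hdk
    omega
  haveI : Nonempty (Fin d) := ⟨⟨0, by omega⟩⟩
  haveI : Nonempty (Fin k) := ⟨⟨0, by omega⟩⟩
  have h1 : G₁ᵀ = G₁ := by
    rcases sign_of_symm_eps hd1 e1 with h | h <;> rw [h] at e1
    · rwa [one_smul] at e1
    · rw [neg_smul, one_smul] at e1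
      exact absurd (det_eq_zero_of_skew h2 (by simpa using hdk.1) e1) hd1
  have h2' : G₂ᵀ = G₂ := by
    rcases sign_of_symm_eps hd2 e2 with h | h <;> rw [h] at e2
    · rwa [one_smul] at e2
    · rw [neg_smul, one_smul] at e2
      exact absurd (det_eq_zero_of_skew h2 (by simpa using hdk.2) e2) hd2
  rcases lt_trichotomy d k with hlt | heq | hgt
  · exact hH (o_tensor_ordered h2 hd3 hlt hd1 hd2 h1 h2' hle hG)
  swap
  · exact hH (o_tensor_ordered h2 hk3 hgt hd2 hd1 h2' h1 (le_trans hle (tensorProduct_swap e P))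
      (gramAt_swap _ e P hG))
  subst heq
  set l := G₁.det * G₂.det with hl
  have hl0 : l ≠ 0 := mul_ne_zero hd1 hd2
  obtain ⟨A, hA⟩ := exists_congr_symm h2 (A := G₂) (B := l • G₁) h2' (by rw [Matrix.transpose_smul, h1]) hd2
    (by rw [Matrix.det_smul]; exact mul_ne_zero (pow_ne_zero _ hl0) hd1) (by
      obtain ⟨j, hj⟩ := hdk.1
      refine ⟨l ^ (j + 1), ?_⟩
      rw [Matrix.det_smul, Fintype.card_fin]
      calc G₂.det * (l ^ d * G₁.det) = l ^ d * l := by rw [hl]; ring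
        _ = l ^ (j + 1) * l ^ (j + 1) := by rw [← pow_succ, ← pow_add]; congr 1; omega)
  let K : GL (Fin d × Fin d) F := Matrix.GeneralLinearGroup.mkOfDetNeZero
    ((1 : Matrix (Fin d) (Fin d) F) ⊗ₖ (A : Matrix (Fin d) (Fin d) F)) (by
      rw [Matrix.det_kronecker]
      exact mul_ne_zero (by simp) (pow_ne_zero _ ((Matrix.isUnit_iff_isUnit_det _).1 A.isUnit).ne_zero))
  have hle' := le_tensorProduct_mul (k := K) ⟨1, A, by rw [Units.val_one]; rfl⟩ hle
  set P' := P * glReindex e.symm K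
  have hG1 : gramAt (RingHom.id F) (oG m F) e P' = G₁ ⊗ₖ (l • G₁) := by
    rw [gramAt_mul, hG]
    show ((1 : Matrix (Fin d) (Fin d) F) ⊗ₖ (A : Matrix (Fin d) (Fin d) F))ᵀ * _ *
      ((1 : Matrix (Fin d) (Fin d) F) ⊗ₖ (A : Matrix (Fin d) (Fin d) F)).map (RingHom.id F) = _
    rw [RingHom.coe_id, Matrix.map_id, ← Matrix.kroneckerMap_transpose, ← Matrix.mul_kronecker_mul,
      ← Matrix.mul_kronecker_mul, hA, Matrix.transpose_one, one_mul, mul_one]
  let e' : OI m ≃ (Fin 2 → Fin d) := e.trans (finTwoArrowEquiv (Fin d)).symm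
  refine hH (o_of_power h2 hm hI hd3 le_rfl (e := e') (P := P') ?_ hl0 h1 hd1 ?_)
  · intro g hg
    obtain ⟨kk, a, b, rfl, hkk⟩ := tensorProduct_elem (hle' hg)
    refine Subgroup.mem_map.2 ⟨_, Subgroup.mem_map.2 ⟨pureGL ![a, b], pureGL_mem _, rfl⟩, ?_⟩
    show P' * glReindex e'.symm (pureGL ![a, b]) * P'⁻¹ = P' * glReindex e.symm kk * P'⁻¹
    congr 2
    apply Units.ext
    show rx e' ((pureGL ![a, b] : GL (Fin 2 → Fin d) F) : Matrix (Fin 2 → Fin d) (Fin 2 → Fin d) F) =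
      rx e (kk : Matrix (Fin d × Fin d) (Fin d × Fin d) F)
    ext i j
    rw [rx_apply, rx_apply, pureGL_coe, pure_apply, hkk, Fin.prod_univ_two, Matrix.kronecker_apply]
    rfl
  · apply (rx e').injective
    rw [rx_gramAt, ← rx_gramAt (RingHom.id F) (oG m F) e P', hG1]
    ext i j
    rw [rx_apply, rx_apply, Matrix.kronecker_apply, Matrix.smul_apply, Matrix.smul_apply, pure_apply,
      Fin.prod_univ_two, smul_eq_mul, smul_eq_mul]
    show _ = l * (G₁ (e i).1 (e j).1 * G₁ (e i).2 (e j).2)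
    ring

theorem OClass.of_realisable (h2 : (2 : F) ≠ 0) {P : Subgroup (GL (OI m) F)} (hn : NormG H P) (hP : AbsIrr P)
    (hPI : P ≤ Cfsg.isometryGroup F (Cfsg.quadFormOdd m F)) {F₀ : Subfield F} (hne : F₀ ≠ ⊤)
    (hreal : RealisableOver F₀ (matrixSet P)) : OClass m F H := by
  obtain ⟨F₁, r, B, c, G₀, hr, hc, hle, hc0, h0, hG, hd0, -⟩ :=
    exists_rational_structure (refl_oG h2) hn hP (oIso_eq (F := F) (m := m) h2 ▸ hPI) hne hreal
  rw [RingHom.coe_id, Matrix.map_id] at hG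
  obtain ⟨s, hs⟩ := quadRat_of_gram h2 hG h0 hd0 hc0
  exact .sub hr hc hs (by rwa [subfieldSubgroup_smul])

theorem o_not_symType (h2 : (2 : F) ≠ 0) (hm : 0 < m) (hI : H ≤ Cfsg.isometryGroup F (Cfsg.quadFormOdd m F))
    (hH : ¬ OClass m F H) (hMH : M ≤ H) (hM : NormG H M) (hMs : ¬ M ≤ scalars (OI m) F)
    (hmin : ∀ N ≤ M, NormG H N → ¬ N ≤ scalars (OI m) F → N = M)
    (hcom : ∀ a ∈ M, ∀ b ∈ M, a * b * a⁻¹ * b⁻¹ ∈ scalars (OI m) F) : False := by
  obtain ⟨r, R, hR⟩ := exists_sympData (refl_oG h2) (oIso_eq (F := F) (m := m) h2 ▸ hMH.trans hI) hM hMs hmin hcom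
    (fun N hNI hN hNs => o_absIrr_of_normal h2 hm hI hH hN (oIso_eq (F := F) (m := m) h2 ▸ hNI) hNs)
  have hU : ∀ c : Fˣ, c ∈ unitCircle (RingHom.id F) → c = 1 ∨ c = -1 := by
    intro c hc
    have h1 : (c : F) * (c : F) = 1 := hc
    rwa [mul_self_eq_one_iff, ← Units.val_one, ← Units.val_neg, ← Units.ext_iff, ← Units.ext_iff] at h1
  have hle : Nat.card (unitCircle (RingHom.id F)) ≤ 2 := by
    refine le_trans (Nat.card_le_card_of_injective (fun c : unitCircle (RingHom.id F) => decide ((c : Fˣ) = 1)) ?_)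
      (by simp)
    intro a b hab
    have hab' : decide ((a : Fˣ) = 1) = decide ((b : Fˣ) = 1) := hab
    rw [decide_eq_decide] at hab'
    refine Subtype.ext ?_
    rcases hU a a.2 with h | h <;> rcases hU b b.2 with h' | h'
    · rw [h, h']
    · rw [h, hab'.1 h]
    · rw [hab'.2 h', h']
    · rw [h, h']
  have hr := hR.symp.1
  have hpos : 0 < Nat.card (unitCircle (RingHom.id F)) := Nat.card_pos
  have hr2 : r = 2 := by
    have := Nat.le_of_dvd hpos hR.r_dvd
    have := hr.two_le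
    omega
  subst hr2
  obtain ⟨k, hk, -⟩ := hR.card
  rw [card_OI] at hk
  rcases k with _ | k
  · simp at hk; omega
  · rw [pow_succ] at hk; omega

theorem o_of_not_simple (h2 : (2 : F) ≠ 0) (hm : 0 < m) (hI : H ≤ Cfsg.isometryGroup F (Cfsg.quadFormOdd m F))
    (hMH : M ≤ H) (hM : NormG H M) (hMs : ¬ M ≤ scalars (OI m) F) (hperf : ⁅M, M⁆ = M)
    (hmin : ∀ N ≤ M, NormG H N → ¬ N ≤ scalars (OI m) F → N = M)
    (hns : ∃ U ≤ M, NormG M U ∧ ¬ U ≤ scalars (OI m) F ∧ U ≠ M) : OClass m F H := by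
  by_contra hH
  have hMA := o_absIrr_of_normal h2 hm hI hH hM (hMH.trans hI) hMs
  have hr : Refl (RingHom.id F) (oG m F) := refl_oG h2
  obtain ⟨d, t, e, P, c, G₁, hd, ht, hle, hc, hd1, hG⟩ :=
    exists_power_form hr (oIso_eq (F := F) (m := m) h2 ▸ hI) hMH hM hMA hperf hmin hns
  obtain ⟨ε, δ, hε, hδε, hδ⟩ := power_refl hr (by omega) hc hd1 hG
  simp only [RingHom.coe_id, Matrix.map_id] at hδ
  have hcard : d ^ t = 2 * m + 1 := by
    have := Fintype.card_congr e
    rw [card_OI] at this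
    simpa using this.symm
  have hdo : Odd d := by
    have : Odd (d ^ t) := ⟨m, hcard⟩
    exact (Nat.odd_pow_iff (by omega)).1 this
  have hd3 : 3 ≤ d := by obtain ⟨i, hi⟩ := hdo; omega
  haveI : Nonempty (Fin d) := ⟨⟨0, by omega⟩⟩
  have hs : G₁ᵀ = G₁ := by
    rcases sign_of_symm_eps hd1 hδ with h | h <;> rw [h] at hδ
    · rwa [one_smul] at hδ
    · rw [neg_smul, one_smul] at hδ
      exact absurd (det_eq_zero_of_skew h2 (by simpa using hdo) hδ) hd1
  exact hH (o_of_power h2 hm hI hd3 ht hle hc hs hd1 hG)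

theorem o_residual (h2 : (2 : F) ≠ 0) (hm : 0 < m) (hI : H ≤ Cfsg.isometryGroup F (Cfsg.quadFormOdd m F))
    (hH : ¬ OClass m F H) (hMH : M ≤ H) (hM : NormG H M) (hMs : ¬ M ≤ scalars (OI m) F) (hperf : ⁅M, M⁆ = M)
    (hsimple : ∀ U ≤ M, NormG M U → ¬ U ≤ scalars (OI m) F → U = M) : InOrthogonalResidualClass H := by
  have hMA := o_absIrr_of_normal h2 hm hI hH hM (hMH.trans hI) hMs
  have hMI : M ≤ iso (RingHom.id F) (oG m F) := oIso_eq (F := F) (m := m) h2 ▸ hMH.trans hI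
  refine ⟨M, residualCore_of_simple hMA hMH hM hMs hperf hsimple fun F₀ hF₀ hreal =>
    hH (OClass.of_realisable h2 hM hMA (hMH.trans hI) hF₀ hreal), ?_⟩
  rintro ⟨σ, f, hf, hfix⟩
  obtain ⟨G, hG⟩ := exists_gform σ.toRingHom f hf.add_left hf.smul_left
    (fun v x y => by rw [hf.herm, hf.add_left, map_add, ← hf.herm, ← hf.herm])
    (fun c v x => by rw [hf.herm, hf.smul_left, map_mul, ← hf.herm]; rfl)
  have hGinv : InvForm M σ.toRingHom G := invForm_iff.2 (hG ▸ hfix)
  obtain ⟨F₀, hne, hreal⟩ := realisable_of_twisted_form (refl_oG h2) hMA hMI hGinv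
    (hGinv.det_ne_zero hMA.irred (ne_zero_of_nondegenerate (σ := σ.toRingHom) (hG ▸ hf.nondegenerate))) σ
    (fun x => rfl) hf.ne_refl
  exact hH (OClass.of_realisable h2 hM hMA (hMH.trans hI) hne hreal)

/-- Aschbacher's theorem for the orthogonal groups in odd dimension. -/
theorem orthOdd_structure (h2 : (2 : F) ≠ 0) (hm : 0 < m) (hI : H ≤ Cfsg.isometryGroup F (Cfsg.quadFormOdd m F)) :
    OClass m F H ∨ InOrthogonalResidualClass H := by
  by_cases hH : OClass m F H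
  · exact Or.inl hH
  have hirr := o_irred h2 hI hH
  have hHs : ¬ H ≤ scalars (OI m) F := by
    intro hle
    let v : OI m → F := Pi.single (Sum.inl ()) 1
    rcases hirr.eq_bot_or_top (Submodule.span F {v}) (fun g hg w hw => by
      obtain ⟨c, hc⟩ := mem_scalars.1 (hle hg)
      rw [hc, smul_mulVec, one_mulVec]
      exact Submodule.smul_mem _ _ hw) with h | h
    · rw [Submodule.span_singleton_eq_bot] at h
      exact one_ne_zero (Pi.single_eq_zero_iff.1 h)
    · have h1 := finrank_span_singleton (K := F) (v := v) (fun h => one_ne_zero (Pi.single_eq_zero_iff.1 h))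
      rw [h, finrank_top, Module.finrank_fintype_fun_eq_card, card_OI] at h1
      omega
  obtain ⟨M, ⟨hMH, hMn, hMs⟩, hMmin⟩ := Set.Finite.exists_minimal
    (s := {N : Subgroup (GL (OI m) F) | N ≤ H ∧ NormG H N ∧ ¬ N ≤ scalars (OI m) F}) (Set.toFinite _)
    ⟨H, le_rfl, fun g hg x hx => H.mul_mem (H.mul_mem hg hx) (H.inv_mem hg), hHs⟩
  have hmin : ∀ N ≤ M, NormG H N → ¬ N ≤ scalars (OI m) F → N = M := fun N hN hNn hNs =>
    le_antisymm hN (hMmin ⟨hN.trans hMH, hNn, hNs⟩ hN)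
  by_cases hder : ⁅M, M⁆ ≤ scalars (OI m) F
  · exact (o_not_symType h2 hm hI hH hMH hMn hMs hmin
      fun a ha b hb => hder (Subgroup.commutator_mem_commutator ha hb)).elim
  have hperf : ⁅M, M⁆ = M := hmin _ (Subgroup.commutator_le.2 fun a ha b hb => by
      rw [commutatorElement_def]
      exact M.mul_mem (M.mul_mem (M.mul_mem ha hb) (M.inv_mem ha)) (M.inv_mem hb)) hMn.commutator hder
  by_cases hsimple : ∀ U ≤ M, NormG M U → ¬ U ≤ scalars (OI m) F → U = M
  · exact Or.inr (o_residual h2 hm hI hH hMH hMn hMs hperf hsimple)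
  · push Not at hsimple
    exact Or.inl (o_of_not_simple h2 hm hI hMH hMn hMs hperf hmin hsimple)

end CfsgLib.Perm.Asch
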