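import Cfsg.Agent.Lib.Perm.Asch.Forms.Power

/-!
# Tensor powers of the two dimensional space over the field of three elements
-/

set_option autoImplicit false
set_option linter.all false

namespace CfsgLib.Perm.Asch

open scoped Classical Matrix
open Matrix Cfsg.Geo

theorem z3_frame : ∀ a b c a' b' c' : ZMod 3, -a * a - b * c = 1 → -a' * a' - b' * c' = 1 →
    2 * a * a' + b * c' + c * b' = 0 ∨ (a' = a ∧ b' = b ∧ c' = c) ∨ (a' = -a ∧ b' = -b ∧ c' = -c) := by decide

variable {F : Type*} [Field F] [Fintype F]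

theorem three_frame (hq : Fintype.card F = 3) {a b : Matrix (Fin 2) (Fin 2) F} (ha : a.trace = 0) (ha' : a.det = 1)
    (hb : b.trace = 0) (hb' : b.det = 1) : (a * b).trace = 0 ∨ b = a ∨ b = -a := by
  let φ : ZMod 3 ≃+* F := ZMod.ringEquivOfPrime F Nat.prime_three hq
  obtain ⟨A, hA⟩ := φ.surjective (a 0 0)
  obtain ⟨B, hB⟩ := φ.surjective (a 0 1)
  obtain ⟨C, hC⟩ := φ.surjective (a 1 0)
  obtain ⟨A', hA'⟩ := φ.surjective (b 0 0)
  obtain ⟨B', hB'⟩ := φ.surjective (b 0 1)
  obtain ⟨C', hC'⟩ := φ.surjective (b 1 0)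
  rw [Matrix.trace_fin_two] at ha hb
  have ha1 : a 1 1 = - a 0 0 := by linear_combination ha
  have hb1 : b 1 1 = - b 0 0 := by linear_combination hb
  rw [Matrix.det_fin_two, ha1] at ha'
  rw [Matrix.det_fin_two, hb1] at hb'
  rcases z3_frame A B C A' B' C' (φ.injective (by simp only [map_sub, map_neg, map_mul, map_one, hA, hB, hC]; linear_combination ha'))
      (φ.injective (by simp only [map_sub, map_neg, map_mul, map_one, hA', hB', hC']; linear_combination hb')) with
    h | ⟨h1, h2, h3⟩ | ⟨h1, h2, h3⟩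
  · left
    have := congrArg φ h
    simp only [map_add, map_mul, map_ofNat, map_zero, hA, hB, hC, hA', hB', hC'] at this
    rw [Matrix.trace_fin_two, Matrix.mul_apply, Matrix.mul_apply, Fin.sum_univ_two, Fin.sum_univ_two, ha1, hb1]
    linear_combination this
  · right; left
    have e0 : b 0 0 = a 0 0 := by rw [← hA', h1, hA]
    have e1 : b 0 1 = a 0 1 := by rw [← hB', h2, hB]
    have e2 : b 1 0 = a 1 0 := by rw [← hC', h3, hC]
    ext i j
    fin_cases i <;> fin_cases j
    · exact e0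
    · exact e1
    · exact e2
    · show b 1 1 = a 1 1
      rw [ha1, hb1, e0]
  · right; right
    have e0 : b 0 0 = -a 0 0 := by rw [← hA', h1, map_neg, hA]
    have e1 : b 0 1 = -a 0 1 := by rw [← hB', h2, map_neg, hB]
    have e2 : b 1 0 = -a 1 0 := by rw [← hC', h3, map_neg, hC]
    ext i j
    fin_cases i <;> fin_cases j
    · exact e0
    · exact e1
    · exact e2
    · show b 1 1 = -a 1 1
      rw [ha1, hb1, e0]

theorem sq_of_trace_zero {a : Matrix (Fin 2) (Fin 2) F} (ha : a.trace = 0) (ha' : a.det = 1) : a * a = -1 := by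
  rw [Matrix.trace_fin_two] at ha
  rw [Matrix.det_fin_two] at ha'
  ext i j
  fin_cases i <;> fin_cases j <;>
    simp [Matrix.mul_apply, Fin.sum_univ_two] <;>
    [linear_combination (a 0 0) * ha - ha'; linear_combination (a 0 1) * ha; linear_combination (a 1 0) * ha;
      linear_combination (a 1 1) * ha - ha']

theorem anticomm_of_trace_zero {a b : Matrix (Fin 2) (Fin 2) F} (ha : a.trace = 0) (hb : b.trace = 0)
    (hab : (a * b).trace = 0) : a * b = -(b * a) := by
  rw [Matrix.trace_fin_two] at ha hb hab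
  simp only [Matrix.mul_apply, Fin.sum_univ_two] at hab
  ext i j
  fin_cases i <;> fin_cases j <;>
    simp [Matrix.mul_apply, Fin.sum_univ_two] <;>
    [linear_combination (a 0 0) * hb - (b 1 1) * ha + hab;
     linear_combination (b 0 1) * ha + (a 0 1) * hb;
     linear_combination (b 1 0) * ha + (a 1 0) * hb;
     linear_combination (b 1 1) * ha - (a 0 0) * hb + hab]

/-- `1`, `-1` or trace zero and determinant one -/
def IsQuat (X : Matrix (Fin 2) (Fin 2) F) : Prop := X = 1 ∨ X = -1 ∨ (X.trace = 0 ∧ X.det = 1)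

theorem IsQuat.mul (hq : Fintype.card F = 3) {a b : Matrix (Fin 2) (Fin 2) F} (ha : IsQuat a) (hb : IsQuat b) :
    IsQuat (a * b) := by
  have hneg : ∀ {X : Matrix (Fin 2) (Fin 2) F}, IsQuat X → IsQuat (-X) := fun {X} h => by
    rcases h with h | h | ⟨h1, h2⟩
    · exact Or.inr (Or.inl (by rw [h]))
    · exact Or.inl (by rw [h, neg_neg])
    · refine Or.inr (Or.inr ⟨by rw [Matrix.trace_neg, h1, neg_zero], ?_⟩)
      rw [Matrix.det_neg, h2]; simp
  rcases ha with rfl | rfl | ⟨ha1, ha2⟩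
  · rwa [one_mul]
  · rw [neg_one_mul]; exact hneg hb
  rcases hb with rfl | rfl | ⟨hb1, hb2⟩
  · rw [mul_one]; exact Or.inr (Or.inr ⟨ha1, ha2⟩)
  · rw [mul_neg, mul_one]; exact hneg (Or.inr (Or.inr ⟨ha1, ha2⟩))
  rcases three_frame hq ha1 ha2 hb1 hb2 with h | rfl | rfl
  · exact Or.inr (Or.inr ⟨h, by rw [Matrix.det_mul, ha2, hb2, one_mul]⟩)
  · rw [sq_of_trace_zero ha1 ha2]; exact Or.inr (Or.inl rfl)
  · rw [mul_neg, sq_of_trace_zero ha1 ha2, neg_neg]; exact Or.inl rfl

theorem IsQuat.pow_four {a : Matrix (Fin 2) (Fin 2) F} (ha : IsQuat a) : a ^ 4 = 1 ∧ (a * a = 1 ∨ a * a = -1) := by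
  have h2 : a * a = 1 ∨ a * a = -1 := by
    rcases ha with rfl | rfl | ⟨h1, h2⟩
    · exact Or.inl (one_mul 1)
    · exact Or.inl (by simp)
    · exact Or.inr (sq_of_trace_zero h1 h2)
  refine ⟨?_, h2⟩
  rw [show 4 = 2 * 2 from rfl, pow_mul, pow_two, pow_two]
  rcases h2 with h | h <;> rw [h] <;> simp

theorem IsQuat.comm (hq : Fintype.card F = 3) {a b : Matrix (Fin 2) (Fin 2) F} (ha : IsQuat a) (hb : IsQuat b) :
    a * b = b * a ∨ a * b = -(b * a) := by
  rcases ha with rfl | rfl | ⟨ha1, ha2⟩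
  · simp
  · simp
  rcases hb with rfl | rfl | ⟨hb1, hb2⟩
  · simp
  · simp
  rcases three_frame hq ha1 ha2 hb1 hb2 with h | rfl | rfl
  · exact Or.inr (anticomm_of_trace_zero ha1 hb1 h)
  · exact Or.inl rfl
  · exact Or.inl (by simp)

theorem IsQuat.det_eq {a : Matrix (Fin 2) (Fin 2) F} (ha : IsQuat a) : a.det = 1 := by
  rcases ha with rfl | rfl | ⟨-, h⟩
  · exact Matrix.det_one
  · rw [Matrix.det_neg]; simp
  · exact h

/-- the quaternion group -/
def quat3 (hq : Fintype.card F = 3) : Subgroup (GL (Fin 2) F) where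
  carrier := {g | IsQuat (g : Matrix (Fin 2) (Fin 2) F)}
  mul_mem' {a b} ha hb := by show IsQuat _; rw [Units.val_mul]; exact IsQuat.mul hq ha hb
  one_mem' := Or.inl rfl
  inv_mem' {a} ha := by
    show IsQuat _
    have h4 : a ^ 3 * a = 1 := by
      apply Units.ext
      rw [← pow_succ, Units.val_pow_eq_pow_val, Units.val_one]
      exact (IsQuat.pow_four ha).1
    rw [inv_eq_of_mul_eq_one_left h4, Units.val_pow_eq_pow_val, pow_succ, pow_two]
    exact IsQuat.mul hq (IsQuat.mul hq ha ha) ha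

theorem quat3_conj (hq : Fintype.card F = 3) {y : GL (Fin 2) F} (hy : y ∈ quat3 hq) (g : GL (Fin 2) F) :
    g * y * g⁻¹ ∈ quat3 hq := by
  show IsQuat _
  rw [← cj_coe]
  rcases (hy : IsQuat _) with h | h | ⟨h1, h2⟩
  · exact Or.inl (by rw [h, cj_one])
  · exact Or.inr (Or.inl (by rw [h]; simp [cj]))
  · refine Or.inr (Or.inr ⟨?_, ?_⟩)
    · rw [cj, Matrix.trace_mul_cycle, gl_inv_mul, one_mul, h1]
    · rw [cj, Matrix.det_mul, Matrix.det_mul, mul_right_comm, ← Matrix.det_mul, gl_mul_inv, Matrix.det_one, one_mul, h2]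

/-- the quaternion group is absolutely irreducible -/
theorem quat3_commutant (hq : Fintype.card F = 3) {ι : Type} [Fintype ι] [DecidableEq ι]
    (φ : Matrix (Fin 2) (Fin 2) F →ₐ[F] Matrix ι ι F) {M : Matrix ι ι F}
    (h : ∀ g ∈ quat3 hq, M * φ ((g : GL (Fin 2) F) : Matrix (Fin 2) (Fin 2) F) = φ ((g : GL (Fin 2) F) : Matrix (Fin 2) (Fin 2) F) * M)
    (a b : Fin 2) : M * φ (Matrix.single a b 1) = φ (Matrix.single a b 1) * M := by
  have hchar : (3 : F) = 0 := by
    have := FiniteField.cast_card_eq_zero F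
    rw [hq] at this
    exact_mod_cast this
  let C : Subalgebra F (Matrix (Fin 2) (Fin 2) F) := (Subalgebra.centralizer F {M}).comap φ
  have hC : ∀ {X : Matrix (Fin 2) (Fin 2) F}, X ∈ C ↔ M * φ X = φ X * M := fun {X} => by
    show φ X ∈ Subalgebra.centralizer F {M} ↔ _
    simp [Subalgebra.mem_centralizer_iff]
  have hmem : ∀ X : Matrix (Fin 2) (Fin 2) F, X.trace = 0 → X.det = 1 → X ∈ C := fun X h1 h2 => by
    have hu : X.det ≠ 0 := by rw [h2]; exact one_ne_zero
    exact hC.2 (h (Matrix.GeneralLinearGroup.mkOfDetNeZero X hu) (Or.inr (Or.inr ⟨h1, h2⟩)))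
  have hi : (!![0, 1; -1, 0] : Matrix (Fin 2) (Fin 2) F) ∈ C := hmem _ (by simp [Matrix.trace_fin_two])
    (by simp [Matrix.det_fin_two])
  have hj : (!![1, 1; 1, -1] : Matrix (Fin 2) (Fin 2) F) ∈ C := hmem _ (by simp [Matrix.trace_fin_two])
    (by simp [Matrix.det_fin_two]; linear_combination (-1 : F) * hchar)
  set i := (!![0, 1; -1, 0] : Matrix (Fin 2) (Fin 2) F)
  set j := (!![1, 1; 1, -1] : Matrix (Fin 2) (Fin 2) F)
  have hd := C.neg_mem (C.add_mem hj (C.mul_mem hi hj))
  have hs := C.neg_mem (C.sub_mem hj (C.mul_mem hi hj))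
  refine hC.1 ?_
  fin_cases a <;> fin_cases b
  · convert C.neg_mem (C.add_mem C.one_mem hd) using 1
    ext x y; fin_cases x <;> fin_cases y <;> simp [i, j, Matrix.one_apply] <;>
      first | linear_combination hchar | linear_combination (-1 : F) * hchar | ring
  · convert C.neg_mem (C.add_mem hs hi) using 1
    ext x y; fin_cases x <;> fin_cases y <;> simp [i, j] <;>
      first | linear_combination hchar | linear_combination (-1 : F) * hchar | ring
  · convert C.neg_mem (C.sub_mem hs hi) using 1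
    ext x y; fin_cases x <;> fin_cases y <;> simp [i, j] <;>
      first | linear_combination hchar | linear_combination (-1 : F) * hchar | ring
  · convert C.neg_mem (C.sub_mem C.one_mem hd) using 1
    ext x y; fin_cases x <;> fin_cases y <;> simp [i, j, Matrix.one_apply] <;>
      first | linear_combination hchar | linear_combination (-1 : F) * hchar | ring

/-- invertible pure tensors as a homomorphism to the new coordinates -/
def powHom {ι : Type} [Fintype ι] [DecidableEq ι] {k t : ℕ} (e : ι ≃ (Fin t → Fin k)) (P : GL ι F) :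
    (Fin t → GL (Fin k) F) →* GL ι F :=
  (MulAut.conj P).toMonoidHom.comp ((Units.map (rx (F := F) e).toAlgHom.toRingHom.toMonoidHom).comp
    ((Units.map (pureHom (Fin k) t F)).comp MulEquiv.piUnits.symm.toMonoidHom))

theorem powHom_coe {ι : Type} [Fintype ι] [DecidableEq ι] {k t : ℕ} (e : ι ≃ (Fin t → Fin k)) (P : GL ι F)
    (gs : Fin t → GL (Fin k) F) : (powHom e P gs : Matrix ι ι F) = cj P (rx e (pure fun i => (gs i : Matrix (Fin k) (Fin k) F))) :=
  rfl

theorem powHom_mem_scalars {ι : Type} [Fintype ι] [DecidableEq ι] [Nonempty ι] {k t : ℕ} (e : ι ≃ (Fin t → Fin k))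
    (P : GL ι F) {gs : Fin t → GL (Fin k) F}
    (h : ∀ i, ∃ c : F, (gs i : Matrix (Fin k) (Fin k) F) = c • (1 : Matrix (Fin k) (Fin k) F)) :
    powHom e P gs ∈ scalars ι F := by
  choose c hc using h
  refine mem_scalars_of_eq (c := ∏ i, c i) ?_
  rw [powHom_coe, show (fun i => (gs i : Matrix (Fin k) (Fin k) F)) = fun i => c i • (1 : Fin t → Matrix (Fin k) (Fin k) F) i
    from funext hc, pure_smul, pure_one, map_smul, map_one, cj_smul, cj_one]

/-- the quaternion group in each factor -/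
def quatPow {ι : Type} [Fintype ι] [DecidableEq ι] (hq : Fintype.card F = 3) {t : ℕ} (e : ι ≃ (Fin t → Fin 2))
    (P : GL ι F) : Subgroup (GL ι F) :=
  (Subgroup.pi Set.univ fun _ : Fin t => quat3 hq).map (powHom e P)

theorem quatPow_facts {ι : Type} [Fintype ι] [DecidableEq ι] [Nonempty ι] (hq : Fintype.card F = 3) {t : ℕ} (ht : 0 < t)
    (e : ι ≃ (Fin t → Fin 2)) (P : GL ι F) {H : Subgroup (GL ι F)} (hI : Irred H)
    (hle : H ≤ tensorWreathSubgroup 2 t e P) :
    NormG H (quatPow hq e P) ∧ AbsIrr (quatPow hq e P) ∧ ¬ quatPow hq e P ≤ scalars ι F ∧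
      (∀ a ∈ quatPow hq e P, ∀ b ∈ quatPow hq e P, a * b * a⁻¹ * b⁻¹ ∈ scalars ι F) ∧
      (∀ x ∈ quatPow hq e P, x ^ 2 ∈ scalars ι F) ∧ (∀ x ∈ quatPow hq e P, x ^ 4 = 1) := by
  have hn : NormG H (quatPow hq e P) := by
    intro g hg x hx
    obtain ⟨ys, hys, rfl⟩ := Subgroup.mem_map.1 hx
    obtain ⟨y, hy, rfl⟩ := Subgroup.mem_map.1 (hle hg)
    obtain ⟨z, hz, rfl⟩ := Subgroup.mem_map.1 hy
    obtain ⟨gs, π, rfl⟩ := tensorWreathStandard_elem hz
    refine Subgroup.mem_map.2 ⟨fun i => gs i * ys (π.symm i) * (gs i)⁻¹,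
      fun i _ => quat3_conj hq (hys (π.symm i) trivial) (gs i), ?_⟩
    apply Units.ext
    have hrhs : ((P * glReindex e.symm (pureGL gs * permGL π) * P⁻¹ * powHom e P ys *
        (P * glReindex e.symm (pureGL gs * permGL π) * P⁻¹)⁻¹ : GL ι F) : Matrix ι ι F) =
        cj P (rx e (cj (pureGL gs * permGL π) (pure fun i => (ys i : Matrix (Fin 2) (Fin 2) F)))) := by
      rw [← cj_coe, powHom_coe, cj_cj, inv_mul_cancel_right, ← cj_cj, ← cj_rx]
      rfl
    rw [powHom_coe]
    refine Eq.trans ?_ hrhs.symm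
    congr 2
    rw [← cj_cj, cj_permGL_pure, cj_pureGL]
    congr 1
  have hslot : ∀ i (g : GL (Fin 2) F), g ∈ quat3 hq → powHom e P (Pi.mulSingle i g) ∈ quatPow hq e P := fun i g hg =>
    Subgroup.mem_map_of_mem _ (fun j _ => by
      rcases eq_or_ne j i with rfl | hj
      · rwa [Pi.mulSingle_eq_same]
      · rw [Pi.mulSingle_eq_of_ne hj]; exact (quat3 hq).one_mem)
  have hscal : ∀ M : Matrix ι ι F, (∀ x ∈ quatPow hq e P, M * (x : Matrix ι ι F) = (x : Matrix ι ι F) * M) →
      ∃ c : F, M = c • (1 : Matrix ι ι F) := by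
    intro M hM
    set M' := (rx e).symm (cj P⁻¹ M) with hM'
    have hMeq : M = cj P (rx e M') := by rw [hM', AlgEquiv.apply_symm_apply, cj_cj_inv]
    obtain ⟨c, hc⟩ := scalar_of_commute_slots M' (fun i a b => by
      refine quat3_commutant hq (slotHom i) (M := M') (fun g hg => ?_) a b
      have h1 := hM _ (hslot i g hg)
      have he : (fun j => ((Pi.mulSingle i g : Fin t → GL (Fin 2) F) j : Matrix (Fin 2) (Fin 2) F)) =
          Pi.mulSingle i (g : Matrix (Fin 2) (Fin 2) F) := by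
        funext j
        rcases eq_or_ne j i with rfl | hj
        · rw [Pi.mulSingle_eq_same, Pi.mulSingle_eq_same]
        · rw [Pi.mulSingle_eq_of_ne hj, Pi.mulSingle_eq_of_ne hj, Units.val_one]
      rw [powHom_coe, he, hMeq, ← cj_mul, ← cj_mul, ← map_mul, ← map_mul] at h1
      exact (rx e).injective (cj_injective P h1))
    exact ⟨c, by rw [hMeq, hc, map_smul, map_one, cj_smul, cj_one]⟩
  have hA : AbsIrr (quatPow hq e P) :=
    ⟨irred_of_centralizer hI hn hscal, fun M hM => hscal M fun x hx => hM _ (mem_matrixSet hx)⟩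
  refine ⟨hn, hA, fun hle' => ?_, ?_, ?_, ?_⟩
  · -- all matrices would be scalar
    have h01 : ∀ c : F, Matrix.single (e.symm fun _ => 0) (e.symm fun _ => 1) (1 : F) ≠ c • (1 : Matrix ι ι F) := by
      intro c hc
      have := congrFun (congrFun hc (e.symm fun _ => 0)) (e.symm fun _ => 1)
      have hne : (e.symm fun _ => (0 : Fin 2)) ≠ e.symm fun _ => 1 := fun h =>
        absurd (congrFun (e.symm.injective h) ⟨0, ht⟩) (by decide)
      simp [hne] at this
    obtain ⟨c, hc⟩ := hA.scalar_of_commute (M := Matrix.single (e.symm fun _ => 0) (e.symm fun _ => 1) (1 : F))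
      (fun x hx => by
        obtain ⟨c, hc⟩ := mem_scalars.1 (hle' hx)
        rw [hc, mul_smul_comm, smul_mul_assoc, mul_one, one_mul])
    exact h01 c hc
  · rintro _ ⟨as, has, rfl⟩ _ ⟨bs, hbs, rfl⟩
    rw [← map_mul, ← map_inv, ← map_mul, ← map_inv, ← map_mul]
    refine powHom_mem_scalars e P fun i => ?_
    have hab := IsQuat.comm hq (has i trivial) (hbs i trivial)
    simp only [Pi.mul_apply, Pi.inv_apply, Units.val_mul]
    rcases hab with h | h
    · refine ⟨1, ?_⟩
      rw [h, one_smul, mul_assoc (bs i : Matrix (Fin 2) (Fin 2) F), gl_mul_inv, mul_one, gl_mul_inv]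
    · refine ⟨-1, ?_⟩
      rw [h, neg_mul, neg_mul, mul_assoc (bs i : Matrix (Fin 2) (Fin 2) F), gl_mul_inv, mul_one, gl_mul_inv, neg_smul,
        one_smul]
  · rintro _ ⟨as, has, rfl⟩
    rw [← map_pow]
    refine powHom_mem_scalars e P fun i => ?_
    rw [Pi.pow_apply, Units.val_pow_eq_pow_val, pow_two]
    rcases (IsQuat.pow_four (has i trivial)).2 with h | h
    · exact ⟨1, by rw [h, one_smul]⟩
    · exact ⟨-1, by rw [h, neg_smul, one_smul]⟩
  · rintro _ ⟨as, has, rfl⟩
    rw [← map_pow, show as ^ 4 = 1 from funext fun i => Units.ext (by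
      rw [Pi.pow_apply, Units.val_pow_eq_pow_val, (IsQuat.pow_four (has i trivial)).1]; rfl), map_one]

end CfsgLib.Perm.Asch
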