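import Cfsg.Agent.Lib.Perm.Asch.Forms.Commutative

/-!
# The geometric classes of the symplectic groups
-/

set_option autoImplicit false
set_option linter.all false

namespace CfsgLib.Perm.Asch

open scoped Classical Matrix
open Matrix Cfsg.Geo

variable {F : Type*} [Field F] {m : ℕ}

theorem sympForm_eq : Cfsg.sympForm m F = gform (RingHom.id F) (Matrix.J (Fin m) F) := rfl

theorem spGL_eq : Cfsg.spGL m F = iso (RingHom.id F) (Matrix.J (Fin m) F) := by
  ext g
  rw [mem_iso_iff]
  rfl

theorem refl_J : Refl (RingHom.id F) (Matrix.J (Fin m) F) :=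
  ⟨fun _ => rfl, (Matrix.isUnit_det_J (Fin m) F).ne_zero, -1, by
    rw [Matrix.J_transpose]
    ext i j
    simp⟩

theorem J_diag (i : Fin m ⊕ Fin m) : Matrix.J (Fin m) F i i = 0 := by cases i <;> simp [Matrix.J]

theorem symp_self [Fintype F] (v : Fin m ⊕ Fin m → F) : gform (RingHom.id F) (Matrix.J (Fin m) F) v v = 0 :=
  gform_self_eq_zero (Matrix.J_transpose _ _) J_diag v

theorem symp_skew (u v : Fin m ⊕ Fin m → F) :
    gform (RingHom.id F) (Matrix.J (Fin m) F) u v = - gform (RingHom.id F) (Matrix.J (Fin m) F) v u := by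
  rw [gform_swap, Matrix.J_transpose]
  simp [gform, Matrix.neg_mulVec]

variable [Fintype F]

/-- the geometric classes -/
inductive SpClass (m : ℕ) (F : Type*) [Field F] [Fintype F] (H : Subgroup (GL (Fin m ⊕ Fin m) F)) : Prop where
  | singular {W : Submodule F (Fin m ⊕ Fin m → F)} (h0 : W ≠ ⊥) (hs : IsTotallySingularFor (Cfsg.sympForm m F) W)
      (h : H ≤ subspaceStabilizer W) : SpClass m F H
  | nondeg {W : Submodule F (Fin m ⊕ Fin m → F)} (h0 : W ≠ ⊥) (hn : IsNondegenerateOn (Cfsg.sympForm m F) W)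
      (hd : Module.finrank F W < m) (h : H ≤ subspaceStabilizer W) : SpClass m F H
  | dec {t k : ℕ} {D : Fin t → Submodule F (Fin m ⊕ Fin m → F)}
      (hD : IsNondegenerateMDecomposition (Cfsg.sympForm m F) k D) (h : H ≤ decompositionStabilizer D) : SpClass m F H
  | pair {D : Fin 2 → Submodule F (Fin m ⊕ Fin m → F)} (hq : Odd (Fintype.card F)) (hD : IsMDecomposition m D)
      (hs : ∀ i, IsTotallySingularFor (Cfsg.sympForm m F) (D i)) (h : H ≤ decompositionStabilizer D) : SpClass m F H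
  | sub {F₀ : Subfield F} {r : ℕ} {P : GL (Fin m ⊕ Fin m) F} {ζ : F} (hr : r.Prime)
      (hc : Fintype.card F = Nat.card F₀ ^ r) (hζ : ζ ≠ 0)
      (hs : IsFormRationalStructure (Cfsg.sympForm m F) F₀ ζ P) (h : H ≤ subfieldSubgroup F₀ P) : SpClass m F H
  | sym {R : Subgroup (GL (Fin m ⊕ Fin m) F)} {p k : ℕ} (hR : IsSymplecticTypeGroup 2 R)
      (ha : ActsAbsolutelyIrreducibly (matrixSet R)) (hs : R ≤ similarityGroup (Cfsg.sympForm m F))
      (hp : p.Prime) (hpo : Odd p) (hc : Fintype.card F = p) (hcard : Nat.card R = 2 ^ (1 + 2 * k))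
      (hz : Nat.card (Subgroup.center R) = 2) (hm : IsOfMinusType k R) (hk : m + m = 2 ^ k)
      (h : H ≤ subgroupNormalizer R) : SpClass m F H
  | quad {Q : (Fin m ⊕ Fin m → F) → F} (hq : ¬ Odd (Fintype.card F)) (hQ : IsNondegenerateQuadraticForm Q)
      (hp : ∀ u v, QuadraticMap.polar Q u v = Cfsg.sympForm m F u v) (h : H ≤ quadSimilarityGroup Q) : SpClass m F H
  | fieldSA {r : ℕ} {K : Subalgebra F (Matrix (Fin m ⊕ Fin m) (Fin m ⊕ Fin m) F)} (hr : r.Prime) (hK : IsFieldSubalgebra r K)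
      (hs : IsSelfAdjointFor (Cfsg.sympForm m F) K) (hv : ∀ k ∈ K, ∀ v, Cfsg.sympForm m F (k *ᵥ v) v = 0)
      (h : H ≤ subalgebraNormalizer K) : SpClass m F H
  | fieldU {K : Subalgebra F (Matrix (Fin m ⊕ Fin m) (Fin m ⊕ Fin m) F)} (hq : Odd (Fintype.card F)) (hK : IsFieldSubalgebra 2 K)
      (ha : IsAdjointClosedFor (Cfsg.sympForm m F) K) (hns : ¬ IsSelfAdjointFor (Cfsg.sympForm m F) K)
      (h : H ≤ subalgebraNormalizer K) : SpClass m F H
  | tensor {n₁ n₂ : ℕ} (e : Fin m ⊕ Fin m ≃ Fin n₁ × Fin n₂) (P : GL (Fin m ⊕ Fin m) F) {f₁ : (Fin n₁ → F) → (Fin n₁ → F) → F}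
      {f₂ : (Fin n₂ → F) → (Fin n₂ → F) → F} (hq : Odd (Fintype.card F)) (h3 : 3 ≤ n₂) (h₁ : IsSymplecticForm f₁)
      (h₂ : IsSymmetricForm f₂) (hs : IsTensorFormStructure id (Cfsg.sympForm m F) f₁ f₂ e P)
      (h : H ≤ tensorProductSubgroup n₁ n₂ e P) : SpClass m F H
  | power {k t : ℕ} (e : Fin m ⊕ Fin m ≃ (Fin t → Fin k)) (P : GL (Fin m ⊕ Fin m) F) {f₁ : (Fin k → F) → (Fin k → F) → F}
      (hq : Odd (Fintype.card F)) (ht : Odd t) (h3 : 3 ≤ t) (hex : ¬ (Fintype.card F = 3 ∧ k = 2))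
      (h₁ : IsSymplecticForm f₁) (hs : IsTensorPowerFormStructure id (Cfsg.sympForm m F) f₁ e P)
      (h : H ≤ tensorWreathSubgroup k t e P) : SpClass m F H

variable {H : Subgroup (GL (Fin m ⊕ Fin m) F)}

theorem SpClass.exists_member (hI : H ≤ Cfsg.spGL m F) (h : SpClass m F H) :
    ∃ M, InSymplecticClass m F M ∧ H ≤ M := by
  cases h with
  | singular h0 hs h => exact ⟨_, Or.inl (Or.inl ⟨_, h0, hs, rfl⟩), le_inf h hI⟩
  | nondeg h0 hn hd h => exact ⟨_, Or.inl (Or.inr (Or.inl ⟨_, h0, hn, hd, rfl⟩)), le_inf h hI⟩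
  | dec hD h => exact ⟨_, Or.inl (Or.inr (Or.inr (Or.inl ⟨_, _, _, hD, rfl⟩))), le_inf h hI⟩
  | pair hq hD hs h => exact ⟨_, Or.inl (Or.inr (Or.inr (Or.inr (Or.inl ⟨_, hq, hD, hs, rfl⟩)))), le_inf h hI⟩
  | sub hr hc hζ hs h =>
    exact ⟨_, Or.inl (Or.inr (Or.inr (Or.inr (Or.inr (Or.inl ⟨_, _, _, _, hr, hc, hζ, hs, rfl⟩))))), le_inf h hI⟩
  | sym hR ha hs hp hpo hc hcard hz hm hk h =>
    exact ⟨_, Or.inl (Or.inr (Or.inr (Or.inr (Or.inr (Or.inr (Or.inl
      ⟨_, _, _, hR, ha, hs, hp, hpo, hc, hcard, hz, hm, rfl⟩)))))), le_inf h hI⟩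
  | quad hq hQ hp h =>
    exact ⟨_, Or.inl (Or.inr (Or.inr (Or.inr (Or.inr (Or.inr (Or.inr ⟨_, hq, hQ, hp, rfl⟩)))))), le_inf h hI⟩
  | fieldSA hr hK hs hv h => exact ⟨_, Or.inr (Or.inl ⟨_, _, hr, hK, hs, hv, rfl⟩), le_inf h hI⟩
  | fieldU hq hK ha hns h => exact ⟨_, Or.inr (Or.inr (Or.inl ⟨_, hq, hK, ha, hns, rfl⟩)), le_inf h hI⟩
  | tensor e P hq h3 h₁ h₂ hs h =>
    exact ⟨_, Or.inr (Or.inr (Or.inr (Or.inl ⟨_, _, e, P, _, _, hq, h3, h₁, h₂, hs, rfl⟩))), le_inf h hI⟩
  | power e P hq ht h3 hex h₁ hs h =>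
    exact ⟨_, Or.inr (Or.inr (Or.inr (Or.inr ⟨_, _, e, P, _, hq, ht, h3, hex, h₁, hs, rfl⟩))), le_inf h hI⟩

/-! ### reducible groups -/

theorem stab_of_invariant {ι : Type} [Fintype ι] [DecidableEq ι] {H : Subgroup (GL ι F)}
    {W : Submodule F (ι → F)} (h : ∀ g ∈ H, ∀ w ∈ W, (g : Matrix ι ι F) *ᵥ w ∈ W) : H ≤ subspaceStabilizer W :=
  subspaceStabilizer_mem h

theorem card_SI : Fintype.card (Fin m ⊕ Fin m) = m + m := by simp

/-- the classes containing the reducible groups -/
inductive SpRed (m : ℕ) (F : Type*) [Field F] [Fintype F] (H : Subgroup (GL (Fin m ⊕ Fin m) F)) : Prop where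
  | singular {W : Submodule F (Fin m ⊕ Fin m → F)} (h0 : W ≠ ⊥) (hs : IsTotallySingularFor (Cfsg.sympForm m F) W)
      (h : H ≤ subspaceStabilizer W) : SpRed m F H
  | nondeg {W : Submodule F (Fin m ⊕ Fin m → F)} (h0 : W ≠ ⊥) (hn : IsNondegenerateOn (Cfsg.sympForm m F) W)
      (hd : Module.finrank F W < m) (h : H ≤ subspaceStabilizer W) : SpRed m F H
  | dec {D : Fin 2 → Submodule F (Fin m ⊕ Fin m → F)}
      (hD : IsNondegenerateMDecomposition (Cfsg.sympForm m F) m D) (h : H ≤ decompositionStabilizer D) : SpRed m F H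

theorem SpRed.toClass (h : SpRed m F H) : SpClass m F H := by
  cases h with
  | singular h0 hs h => exact .singular h0 hs h
  | nondeg h0 hn hd h => exact .nondeg h0 hn hd h
  | dec hD h => exact .dec hD h

theorem sp_irred_or_red (hI : H ≤ Cfsg.spGL m F) (hH : ¬ SpRed m F H) : Irred H := by
  rw [spGL_eq] at hI
  intro W hW
  by_contra hcon
  push Not at hcon
  obtain ⟨h0, h1⟩ := hcon
  have hinv : ∀ g ∈ H, ∀ w ∈ W, (g : Matrix (Fin m ⊕ Fin m) (Fin m ⊕ Fin m) F) *ᵥ w ∈ W :=
    fun g hg w hw => hW _ (mem_matrixSet hg) ⟨w, hw, rfl⟩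
  have hp : ∀ g ∈ H, ∀ w ∈ perp (RingHom.id F) (Matrix.J (Fin m) F) W, (g : Matrix (Fin m ⊕ Fin m) (Fin m ⊕ Fin m) F) *ᵥ w ∈ perp (RingHom.id F) (Matrix.J (Fin m) F) W :=
    fun g hg => perp_invariant (hI hg) (hinv g⁻¹ (H.inv_mem hg))
  by_cases hR : W ⊓ perp (RingHom.id F) (Matrix.J (Fin m) F) W = ⊥
  swap
  · exact hH (.singular hR (fun u hu v hv => hu.2 v hv.1)
      (stab_of_invariant fun g hg w hw => ⟨hinv g hg w hw.1, hp g hg w hw.2⟩))
  have hn := refl_J.nondegenerateOn hR
  have hn' := refl_J.nondegenerateOn (refl_J.perp_inf_perp hR)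
  have hfin : Module.finrank F W + Module.finrank F (perp (RingHom.id F) (Matrix.J (Fin m) F) W) = m + m :=
    ((refl_J (F := F) (m := m)).perp_finrank W).trans card_SI
  rcases lt_trichotomy (Module.finrank F W) m with hlt | heq | hgt
  · exact hH (.nondeg h0 hn hlt (stab_of_invariant hinv))
  · have heq' : Module.finrank F (perp (RingHom.id F) (Matrix.J (Fin m) F) W) = m := by omega
    have hm : 0 < m := heq ▸ Submodule.one_le_finrank_iff.2 h0
    have hsup : W ⊔ perp (RingHom.id F) (Matrix.J (Fin m) F) W = ⊤ := Submodule.eq_top_of_finrank_eq (by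
      have := Submodule.finrank_sup_add_finrank_inf_eq W (perp (RingHom.id F) (Matrix.J (Fin m) F) W)
      rw [hR, finrank_bot] at this
      rw [Module.finrank_fintype_fun_eq_card, card_SI]
      omega)
    let D : Fin 2 → Submodule F (Fin m ⊕ Fin m → F) := ![W, perp (RingHom.id F) (Matrix.J (Fin m) F) W]
    refine hH (.dec (D := D) ⟨⟨le_rfl, hm, ?_, ?_, ?_⟩, ?_, ?_⟩ ?_)
    · intro i; fin_cases i <;> [exact heq; exact heq']
    · rw [iSupIndep_pair (i := (0 : Fin 2)) (j := 1) (by decide) (fun k => by fin_cases k <;> simp)]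
      exact disjoint_iff.2 hR
    · rw [eq_top_iff, ← hsup]
      exact sup_le (le_iSup D 0) (le_iSup D 1)
    · intro i; fin_cases i <;> [exact hn; exact hn']
    · intro i j hij u hu v hv
      fin_cases i <;> fin_cases j
      · exact absurd rfl hij
      · exact refl_J.swap_eq_zero (hv u hu)
      · exact hu v hv
      · exact absurd rfl hij
    · intro g hg
      refine ⟨1, fun i => ?_⟩
      have : ∀ U : Submodule F (Fin m ⊕ Fin m → F), (∀ w ∈ U, (g : Matrix (Fin m ⊕ Fin m) (Fin m ⊕ Fin m) F) *ᵥ w ∈ U) →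
          U.map (Matrix.toLin' (g : Matrix (Fin m ⊕ Fin m) (Fin m ⊕ Fin m) F)) = U := fun U hU =>
        Submodule.eq_of_le_of_finrank_eq (by rintro _ ⟨w, hw, rfl⟩; exact hU w hw)
          (LinearEquiv.finrank_map_eq (Matrix.GeneralLinearGroup.toLin g).toLinearEquiv U)
      fin_cases i <;> [exact this W (hinv g hg); exact this _ (hp g hg)]
  · refine hH (.nondeg ?_ hn' (by omega) (stab_of_invariant hp))
    intro hb
    rw [hb, finrank_bot] at hfin
    exact h1 (Submodule.eq_top_of_finrank_eq (by rw [Module.finrank_fintype_fun_eq_card, card_SI]; omega))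

theorem sp_irred (hI : H ≤ Cfsg.spGL m F) (hH : ¬ SpClass m F H) : Irred H :=
  sp_irred_or_red hI fun h => hH h.toClass

/-! ### commutative normalised algebras -/

/-- in characteristic two the isometries of `Q v = f (k v) v`, `k + k† = 1` -/
theorem sp_quad_of_half {k : Matrix (Fin m ⊕ Fin m) (Fin m ⊕ Fin m) F} (hq : ¬ Odd (Fintype.card F))
    (hk : k + adj (RingHom.id F) (Matrix.J (Fin m) F) k = 1) (hI : H ≤ Cfsg.spGL m F)
    (hconj : ∀ g ∈ H, cj g k = k ∨ cj g k = adj (RingHom.id F) (Matrix.J (Fin m) F) k) : SpClass m F H := by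
  rw [spGL_eq] at hI
  set G := Matrix.J (Fin m) F
  set σ := RingHom.id F
  haveI : CharP F 2 := by
    have hchar : ringChar F = 2 := by
      rw [FiniteField.even_card_iff_char_two]
      rcases Nat.even_or_odd (Fintype.card F) with h | h
      · exact Nat.even_iff.1 h
      · exact absurd h hq
    exact hchar ▸ ringChar.charP F
  let Q : (Fin m ⊕ Fin m → F) → F := fun v => gform σ G (k *ᵥ v) v
  have hsym : ∀ u v, gform σ G u v = gform σ G v u := fun u v => by rw [symp_skew, CharTwo.neg_eq]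
  have hadjQ : ∀ v, gform σ G (adj σ G k *ᵥ v) v = Q v := fun v => by
    rw [hsym, ← refl_J.adj_spec]
  have hpol : ∀ u v, QuadraticMap.polar Q u v = gform σ G u v := by
    intro u v
    simp only [QuadraticMap.polar, Q, mulVec_add, gform_add_left, gform_add_right]
    have h1 : gform σ G (k *ᵥ v) u = gform σ G (adj σ G k *ᵥ u) v := by
      rw [refl_J.adj_spec, hsym]
    have h2 : gform σ G ((k + adj σ G k) *ᵥ u) v = gform σ G u v := by rw [hk, one_mulVec]
    rw [add_mulVec, gform_add_left] at h2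
    rw [h1]
    linear_combination h2
  refine SpClass.quad (Q := Q) hq ⟨fun c v => ?_, ?_, ?_⟩ hpol ?_
  · simp only [Q, mulVec_smul, gform_smul_left, gform_smul_right, σ, RingHom.id_apply]; ring
  · rw [show QuadraticMap.polar Q = gform σ G from funext fun u => funext (hpol u)]
    exact gform_bilinear G
  · rw [show QuadraticMap.polar Q = gform σ G from funext fun u => funext (hpol u)]
    exact gform_nondegenerate refl_J.det
  · intro g hg
    refine ⟨1, fun v => ?_⟩
    rw [Units.val_one, one_mul]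
    have hg' := H.inv_mem hg
    have key : k * (g : Matrix (Fin m ⊕ Fin m) (Fin m ⊕ Fin m) F) = (g : Matrix (Fin m ⊕ Fin m) (Fin m ⊕ Fin m) F) * cj g⁻¹ k := by
      simp [cj, ← mul_assoc]
    show gform σ G (k *ᵥ (g : Matrix (Fin m ⊕ Fin m) (Fin m ⊕ Fin m) F) *ᵥ v) ((g : Matrix (Fin m ⊕ Fin m) (Fin m ⊕ Fin m) F) *ᵥ v) = Q v
    rw [mulVec_mulVec, key, ← mulVec_mulVec, mem_iso_iff.1 (hI hg)]
    rcases hconj _ hg' with e | e <;> rw [e]
    exact hadjQ v

theorem sp_scalar_of_comm (hm : 0 < m) (hI : H ≤ Cfsg.spGL m F) (hH : ¬ SpClass m F H)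
    {Z : Subalgebra F (Matrix (Fin m ⊕ Fin m) (Fin m ⊕ Fin m) F)} (hc : ∀ x ∈ Z, ∀ y ∈ Z, x * y = y * x) (hn : Normalises H Z)
    (hd : AdjClosed (RingHom.id F) (Matrix.J (Fin m) F) (Z : Set (Matrix (Fin m ⊕ Fin m) (Fin m ⊕ Fin m) F))) :
    ∀ z ∈ Z, ∃ c : F, z = c • (1 : Matrix (Fin m ⊕ Fin m) (Fin m ⊕ Fin m) F) := by
  haveI : Nonempty (Fin m ⊕ Fin m) := ⟨Sum.inl ⟨0, hm⟩⟩
  by_contra hcon
  push Not at hcon
  have hirr := sp_irred hI hH
  have hI' := hI
  rw [spGL_eq] at hI'
  set G := Matrix.J (Fin m) F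
  set σ := RingHom.id F
  rcases comm_forms refl_J hI' hirr hc hn hd hcon with
    ⟨t, k, D, hD, hle, -⟩ | ⟨k, D, e, hD, hs, hle, he, hea, heH⟩ | ⟨r, K, hr, hK, hKd, hle, hKn⟩
  · exact hH (.dec hD hle)
  · by_cases hq : Odd (Fintype.card F)
    · have hkm : k = m := by
        have hint := DirectSum.isInternal_submodule_of_iSupIndep_of_iSup_eq_top hD.indep hD.iSup_eq_top
        let bs : (i : Fin 2) → Module.Basis (Fin k) F (D i) :=
          fun i => Module.finBasisOfFinrankEq F (D i) (hD.finrank_eq i)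
        have h1 := Module.finrank_eq_card_basis (hint.collectedBasis bs)
        rw [Module.finrank_fintype_fun_eq_card, card_SI] at h1
        simp at h1
        omega
      subst hkm
      exact hH (.pair hq hD hs hle)
    · refine hH (sp_quad_of_half hq (k := e) (by rw [hea, add_sub_cancel]) hI fun g hg => ?_)
      rw [hea]; exact heH g hg
  · obtain ⟨p, a, hp, hcp, hcard, ha⟩ := exists_char_card (F := F)
    haveI := hcp
    haveI : Fact p.Prime := ⟨hp⟩
    obtain ⟨hfix, hfrob⟩ := fieldSubalgebra_frob hK hcard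
    by_cases hsa : ∀ x ∈ K, adj σ G x = x
    · refine hH (.fieldSA hr hK (fun x hx u v => ?_) (fun x hx v => ?_) hle)
      · rw [sympForm_eq, refl_J.adj_spec, hsa x hx]
      · rw [sympForm_eq]
        by_cases hq : Odd (Fintype.card F)
        · have h1 := refl_J.adj_spec (σ := σ) (G := G) x v v
          rw [hsa x hx, symp_skew v] at h1
          have h2 : (2 : F) * gform σ G (x *ᵥ v) v = 0 := by linear_combination h1
          exact (mul_eq_zero.1 h2).resolve_left (two_ne_zero_of_odd hq)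
        · -- squares
          have hp2 : p = 2 := by
            by_contra hne
            exact hq (hcard ▸ (hp.odd_of_ne_two hne).pow)
          subst hp2
          have hN : 0 < a * r := Nat.mul_pos ha hr.pos
          obtain ⟨s, hs, rfl⟩ : ∃ s ∈ K, s * s = x := by
            refine ⟨x ^ (2 ^ (a * r - 1)), K.pow_mem hx _, ?_⟩
            rw [← pow_add, ← two_mul, ← pow_succ', show a * r - 1 + 1 = a * r by omega]
            exact (hfix _).2 dvd_rfl x hx
          rw [← mulVec_mulVec, refl_J.adj_spec, hsa s hs, symp_self]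
    · obtain ⟨i, hi⟩ := hfrob (adj σ G) (fun x hx => hKd x hx) refl_J.adj_one
        (fun x _ y _ => refl_J.adj_add x y) (fun x hx y hy => by
          rw [refl_J.adj_mul]; exact hK.comm _ (hKd y hy) _ (hKd x hx))
      have hai : a ∣ i := (pow_fix_iff_field hcard i).1 fun c => by
        have h1 := hi _ (sc_mem K c)
        rw [refl_J.adj_smul, refl_J.adj_one, smul_pow, one_pow] at h1
        have := congrFun (congrFun h1 (Classical.arbitrary _)) (Classical.arbitrary _)
        simpa [σ] using this.symm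
      have h2i : a * r ∣ i + i := (hfix _).1 fun x hx => by
        rw [pow_add, pow_mul, ← hi x hx, ← hi _ (hKd x hx), refl_J.adj_adj]
      obtain ⟨j, rfl⟩ := hai
      obtain rfl : r = 2 := by
        by_contra hne
        rw [← mul_add] at h2i
        have h3 := Nat.dvd_of_mul_dvd_mul_left ha h2i
        rw [← two_mul] at h3
        have hrj : r ∣ j := (hr.dvd_mul.1 h3).resolve_left fun h => hne ((Nat.prime_dvd_prime_iff_eq hr Nat.prime_two).1 h)
        exact hsa fun x hx => by rw [hi x hx]; exact (hfix _).2 (Nat.mul_dvd_mul_left a hrj) x hx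
      by_cases hq : Odd (Fintype.card F)
      · refine hH (.fieldU hq hK (fun x hx => ⟨_, hKd x hx, fun u v => by rw [sympForm_eq, refl_J.adj_spec]⟩)
          (fun h => hsa fun x hx => refl_J.adj_eq_of_forall fun u v => ?_) hle)
        have := h x hx u v
        rwa [sympForm_eq] at this
      · push Not at hsa
        obtain ⟨x, hx, hxne⟩ := hsa
        haveI : CharP F 2 := by
          have : p = 2 := by
            by_contra hne
            exact hq (hcard ▸ (hp.odd_of_ne_two hne).pow)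
          exact this ▸ hcp
        haveI := matrix_charP (ι := Fin m ⊕ Fin m) (F := F) 2
        set y := x + adj σ G x with hy
        have hy0 : y ≠ 0 := fun h => hxne (by
          rw [hy, add_eq_zero_iff_eq_neg, CharTwo.neg_eq] at h
          exact h.symm)
        obtain ⟨z, hz, hyz⟩ := hK.inv y (K.add_mem hx (hKd x hx)) hy0
        have hyad : adj σ G y = y := by rw [hy, refl_J.adj_add, refl_J.adj_adj, add_comm]
        have hzad : adj σ G z = z := by
          have h1 : adj σ G z * y = 1 := by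
            conv_lhs => rw [← hyad]
            rw [← refl_J.adj_mul, hyz, refl_J.adj_one]
          calc adj σ G z = adj σ G z * (y * z) := by rw [hyz, mul_one]
            _ = z := by rw [← mul_assoc, h1, one_mul]
        set k := x * z with hkdef
        have hkK : k ∈ K := K.mul_mem hx hz
        have hkad : adj σ G k = adj σ G x * z := by
          rw [hkdef, refl_J.adj_mul, hzad, hK.comm _ hz _ (hKd x hx)]
        have hk1 : k + adj σ G k = 1 := by rw [hkad, hkdef, ← add_mul, ← hy, hyz]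
        -- the norm of `k` is scalar
        have hscal : ∀ w ∈ K, adj σ G w = w → ∃ c : F, w = c • (1 : Matrix (Fin m ⊕ Fin m) (Fin m ⊕ Fin m) F) := by
          intro w hw hwad
          let K1 : Subalgebra F (Matrix (Fin m ⊕ Fin m) (Fin m ⊕ Fin m) F) :=
            { carrier := {w | w ∈ K ∧ adj σ G w = w}
              mul_mem' := fun {u v} hu hv => ⟨K.mul_mem hu.1 hv.1, by
                rw [refl_J.adj_mul, hu.2, hv.2, hK.comm _ hv.1 _ hu.1]⟩
              one_mem' := ⟨K.one_mem, refl_J.adj_one⟩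
              add_mem' := fun {u v} hu hv => ⟨K.add_mem hu.1 hv.1, by rw [refl_J.adj_add, hu.2, hv.2]⟩
              zero_mem' := ⟨K.zero_mem, refl_J.adj_zero⟩
              algebraMap_mem' := fun c => ⟨K.algebraMap_mem c, by
                rw [Algebra.algebraMap_eq_smul_one, refl_J.adj_smul, refl_J.adj_one]; rfl⟩ }
          have hlt : Module.finrank F K1 < 2 := by
            rw [← hK.finrank_eq]
            refine Submodule.finrank_lt_finrank_of_lt (s := Subalgebra.toSubmodule K1) (t := Subalgebra.toSubmodule K)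
              (lt_of_le_of_ne (fun u (hu : u ∈ K1) => hu.1) fun heq => hxne ?_)
            have : x ∈ Subalgebra.toSubmodule K1 := heq ▸ hx
            exact this.2
          have hpos : 0 < Module.finrank F K1 := Module.finrank_pos
          have hbot : K1 = ⊥ := Subalgebra.eq_bot_of_finrank_one (by omega)
          have : w ∈ (⊥ : Subalgebra F (Matrix (Fin m ⊕ Fin m) (Fin m ⊕ Fin m) F)) := hbot ▸ (⟨hw, hwad⟩ : w ∈ K1)
          exact mem_bot_iff.1 this
        obtain ⟨c, hc'⟩ := hscal (k * adj σ G k) (K.mul_mem hkK (hKd k hkK))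
          (by rw [refl_J.adj_mul, refl_J.adj_adj])
        refine hH (sp_quad_of_half hq (k := k) hk1 hI fun g hg => ?_)
        set w := cj g k with hw
        have hwK : w ∈ K := hKn g hg k hkK
        have heqn : ∀ v : Matrix (Fin m ⊕ Fin m) (Fin m ⊕ Fin m) F, v ∈ K → (v - k) * (v - adj σ G k) = v * v - v + c • (1 : Matrix (Fin m ⊕ Fin m) (Fin m ⊕ Fin m) F) := by
          intro v hv
          rw [← hc', sub_mul, mul_sub, mul_sub, hK.comm k hkK v hv]
          have : v * adj σ G k + v * k = v := by rw [← mul_add, add_comm, hk1, mul_one]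
          conv_rhs => rw [← this]
          rw [this]
          calc v * v - v * adj σ G k - (v * k - k * adj σ G k)
              = v * v - (v * adj σ G k + v * k) + k * adj σ G k := by abel
            _ = _ := by rw [this]
        have h0 : (w - k) * (w - adj σ G k) = 0 := by
          rw [heqn w hwK]
          have := congrArg (cj g) (heqn k hkK)
          rw [sub_self, zero_mul] at this
          simp only [sub_eq_add_neg, cj_add, cj_mul, cj_smul, cj_one] at this ⊢
          have hneg : cj g (-k) = - cj g k := by simp [cj]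
          rw [hneg, ← hw, show cj g 0 = 0 by simp [cj]] at this
          exact this.symm
        by_cases h1 : w - k = 0
        · exact Or.inl (sub_eq_zero.1 h1)
        · right
          obtain ⟨u, hu, huw⟩ := hK.inv _ (K.sub_mem hwK hkK) h1
          refine sub_eq_zero.1 ?_
          calc w - adj σ G k = (u * (w - k)) * (w - adj σ G k) := by
                rw [hK.comm _ hu _ (K.sub_mem hwK hkK), huw, one_mul]
            _ = 0 := by rw [mul_assoc, h0, mul_zero]

end CfsgLib.Perm.Asch
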