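import Cfsg.Agent.Lib.Perm.Asch.Forms.SpSymType
import Cfsg.Agent.Lib.Perm.Asch.Forms.Quat3

/-!
# Groups inside a tensor power of `Sp₂(3)`
-/

set_option autoImplicit false
set_option linter.all false

namespace CfsgLib.Perm.Asch

open scoped Classical Matrix
open Matrix Cfsg.Geo

/-- an element that can be moved to one not commuting with it lies in no characteristic abelian subgroup -/
theorem charScalar_of_conj {ι : Type} [Fintype ι] [DecidableEq ι] {F : Type*} [Field F] [Fintype F]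
    {M R : Subgroup (GL ι F)} (hMR : M ≤ R) (hRM : R ≤ M ⊔ scalars ι F)
    (hmove : ∀ a ∈ M, a ∉ scalars ι F → ∃ g : GL ι F, (∀ x ∈ M, g * x * g⁻¹ ∈ M) ∧
      a * (g * a * g⁻¹) ≠ g * a * g⁻¹ * a)
    (A : Subgroup R) (hA : A.Characteristic) (hAc : IsMulCommutative A) : A.map R.subtype ≤ scalars ι F := by
  intro a ha
  by_contra hs
  haveI : (scalars ι F).Normal := scalars_normal
  obtain ⟨x, hx, z, hz, rfl⟩ := Subgroup.mem_sup_of_normal_right.1 (hRM (Subgroup.map_subtype_le A ha))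
  have hzR : z ∈ R := by
    have h1 := R.mul_mem (R.inv_mem (hMR hx)) (Subgroup.map_subtype_le A ha)
    rwa [inv_mul_cancel_left] at h1
  have hxs : x ∉ scalars ι F := fun h => hs (mul_mem h hz)
  obtain ⟨g, hg, hne⟩ := hmove x hx hxs
  have hfix : ∀ w ∈ scalars ι F, g * w * g⁻¹ = w := fun w hw => by
    rw [← scalar_central hw g, mul_inv_cancel_right]
  have hgR : ∀ w ∈ R, g * w * g⁻¹ ∈ R := by
    intro w hw
    obtain ⟨y, hy, u, hu, rfl⟩ := Subgroup.mem_sup_of_normal_right.1 (hRM hw)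
    have huR : u ∈ R := by
      have h1 := R.mul_mem (R.inv_mem (hMR hy)) hw
      rwa [inv_mul_cancel_left] at h1
    rw [← conj_mul, hfix u hu]
    exact R.mul_mem (hMR (hg y hy)) huR
  have hga := characteristic_conj_mem A hA hgR _ ha
  obtain ⟨b, hb, hbe⟩ := Subgroup.mem_map.1 hga
  obtain ⟨b', hb', hbe'⟩ := Subgroup.mem_map.1 ha
  have hc : (g * (x * z) * g⁻¹) * (x * z) = (x * z) * (g * (x * z) * g⁻¹) := by
    rw [← hbe, ← hbe']
    exact congrArg (fun w : A => ((w : R) : GL ι F)) (mul_comm' (⟨b, hb⟩ : A) ⟨b', hb'⟩)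
  rw [← conj_mul, hfix z hz] at hc
  refine hne (mul_right_cancel (b := z * z) ?_)
  set y := g * x * g⁻¹
  have hsw : ∀ a b : GL ι F, a * z * (b * z) = a * b * (z * z) := fun a b => by
    rw [mul_assoc a z, ← mul_assoc z b z, scalar_central hz b]
    group
  rw [← hsw, ← hc, hsw]

theorem z3_partner : ∀ a b c : ZMod 3, -a * a - b * c = 1 →
    ∃ A B C : ZMod 3, -A * A - B * C = 1 ∧ 2 * a * A + b * C + c * B = 0 := by decide

variable {F : Type*} [Field F] [Fintype F]

theorem exists_quat_partner (hq : Fintype.card F = 3) {y : Matrix (Fin 2) (Fin 2) F} (hy : y.trace = 0)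
    (hy' : y.det = 1) : ∃ z : Matrix (Fin 2) (Fin 2) F, z.trace = 0 ∧ z.det = 1 ∧ (y * z).trace = 0 := by
  let φ : ZMod 3 ≃+* F := ZMod.ringEquivOfPrime F Nat.prime_three hq
  obtain ⟨a, ha⟩ := φ.surjective (y 0 0)
  obtain ⟨b, hb⟩ := φ.surjective (y 0 1)
  obtain ⟨c, hc⟩ := φ.surjective (y 1 0)
  rw [Matrix.trace_fin_two] at hy
  have h11 : y 1 1 = - y 0 0 := by linear_combination hy
  rw [Matrix.det_fin_two, h11] at hy'
  obtain ⟨A, B, C, h1, h2⟩ := z3_partner a b c
    (φ.injective (by simp only [map_sub, map_neg, map_mul, map_one, ha, hb, hc]; linear_combination hy'))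
  have h1' := congrArg φ h1
  have h2' := congrArg φ h2
  simp only [map_sub, map_add, map_neg, map_mul, map_one, map_zero, map_ofNat, ha, hb, hc] at h1' h2'
  refine ⟨!![φ A, φ B; φ C, -φ A], by simp [Matrix.trace_fin_two], ?_, ?_⟩
  · simp [Matrix.det_fin_two]
    linear_combination h1'
  · simp [Matrix.trace_fin_two, Matrix.mul_apply, Fin.sum_univ_two, h11]
    linear_combination h2'

variable {ι : Type} [Fintype ι] [DecidableEq ι] [Nonempty ι]

/-- every element of the power of the quaternion group outside the centre can be moved -/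
theorem quatPow_move (hq : Fintype.card F = 3) {t : ℕ} (e : ι ≃ (Fin t → Fin 2)) (P : GL ι F)
    {a : GL ι F} (ha : a ∈ quatPow hq e P) (has : a ∉ scalars ι F) :
    ∃ g : GL ι F, (∀ x ∈ quatPow hq e P, g * x * g⁻¹ ∈ quatPow hq e P) ∧ a * (g * a * g⁻¹) ≠ g * a * g⁻¹ * a := by
  obtain ⟨ys, hys, rfl⟩ := Subgroup.mem_map.1 ha
  obtain ⟨i, hi⟩ : ∃ i, ¬ ∃ c : F, (ys i : Matrix (Fin 2) (Fin 2) F) = c • (1 : Matrix (Fin 2) (Fin 2) F) := by
    by_contra hcon
    push Not at hcon
    exact has (powHom_mem_scalars e P hcon)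
  obtain ⟨hy1, hy2⟩ : (ys i : Matrix (Fin 2) (Fin 2) F).trace = 0 ∧ (ys i : Matrix (Fin 2) (Fin 2) F).det = 1 := by
    rcases (hys i trivial : IsQuat _) with h | h | h
    · exact absurd ⟨1, by rw [h, one_smul]⟩ hi
    · exact absurd ⟨-1, by rw [h, neg_smul, one_smul]⟩ hi
    · exact h
  set y := (ys i : Matrix (Fin 2) (Fin 2) F) with hy
  obtain ⟨z, hz1, hz2, hyz⟩ := exists_quat_partner hq hy1 hy2
  have hanti := anticomm_of_trace_zero hy1 hz1 hyz
  have hsy := sq_of_trace_zero hy1 hy2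
  have hsz := sq_of_trace_zero hz1 hz2
  have htwo : (2 : F) ≠ 0 := two_ne_zero_of_odd (by rw [hq]; decide)
  have hw2 : (y + z) * (y + z) = (-2 : F) • (1 : Matrix (Fin 2) (Fin 2) F) := by
    rw [add_mul, mul_add, mul_add, hsy, hsz, hanti, neg_smul, two_smul]
    abel
  let h : GL (Fin 2) F :=
    { val := y + z
      inv := (-2 : F)⁻¹ • (y + z)
      val_inv := by rw [mul_smul_comm, hw2, smul_smul, inv_mul_cancel₀ (neg_ne_zero.2 htwo), one_smul]
      inv_val := by rw [smul_mul_assoc, hw2, smul_smul, inv_mul_cancel₀ (neg_ne_zero.2 htwo), one_smul] }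
  have hconj : ((h * ys i * h⁻¹ : GL (Fin 2) F) : Matrix (Fin 2) (Fin 2) F) = z := by
    rw [Units.val_mul, Units.val_mul]
    show (y + z) * y * ((-2 : F)⁻¹ • (y + z)) = z
    have h1 : (y + z) * y = z * (y + z) := by rw [add_mul, mul_add, hsy, hsz]; abel
    rw [h1, mul_smul_comm, mul_assoc, hw2, mul_smul_comm, mul_one, smul_smul,
      inv_mul_cancel₀ (neg_ne_zero.2 htwo), one_smul]
  refine ⟨powHom e P (Pi.mulSingle i h), ?_, ?_⟩
  · rintro _ ⟨xs, hxs, rfl⟩
    rw [← map_inv, ← map_mul, ← map_mul]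
    refine Subgroup.mem_map_of_mem _ fun j _ => ?_
    simp only [Pi.mul_apply, Pi.inv_apply]
    exact quat3_conj hq (hxs j trivial) _
  · intro hne
    rw [← map_inv, ← map_mul, ← map_mul, ← map_mul, ← map_mul] at hne
    have he := congrArg (fun g : GL ι F => (g : Matrix ι ι F)) hne
    simp only [powHom_coe] at he
    have h1 := (rx e).injective (cj_injective P he)
    set w := fun j => ((Pi.mulSingle i h * ys * (Pi.mulSingle i h)⁻¹ : Fin t → GL (Fin 2) F) j : Matrix (Fin 2) (Fin 2) F)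
    have hwi : w i = z := by
      simp only [w, Pi.mul_apply, Pi.inv_apply, Pi.mulSingle_eq_same]
      exact hconj
    have hwj : ∀ j, j ≠ i → w j = (ys j : Matrix (Fin 2) (Fin 2) F) := fun j hj => by
      simp only [w, Pi.mul_apply, Pi.inv_apply, Pi.mulSingle_eq_of_ne hj, one_mul, inv_one, mul_one]
    set g' : Fin t → GL (Fin 2) F := Pi.mulSingle i h with hg'
    set u : Fin t → Matrix (Fin 2) (Fin 2) F :=
      fun j => ((ys * (g' * ys * g'⁻¹) : Fin t → GL (Fin 2) F) j : Matrix (Fin 2) (Fin 2) F)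
    have hswap : (fun j => ((g' * ys * g'⁻¹ * ys : Fin t → GL (Fin 2) F) j :
        Matrix (Fin 2) (Fin 2) F)) = fun j => (if j = i then (-1 : F) else 1) • u j := by
      funext j
      show ((_ * ys j : GL (Fin 2) F) : Matrix (Fin 2) (Fin 2) F) =
        _ • ((ys j * _ : GL (Fin 2) F) : Matrix (Fin 2) (Fin 2) F)
      rw [Units.val_mul, Units.val_mul]
      show w j * _ = _ • (_ * w j)
      rcases eq_or_ne j i with rfl | hj
      · rw [if_pos rfl, hwi, ← hy, neg_smul, one_smul, hanti, neg_neg]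
      · rw [if_neg hj, hwj j hj, one_smul]
    rw [hswap, pure_smul, Finset.prod_ite_eq' Finset.univ i, if_pos (Finset.mem_univ i), neg_smul, one_smul] at h1
    have hu0 : pure u ≠ 0 := ((pureGL (ys * (Pi.mulSingle i h * ys * (Pi.mulSingle i h)⁻¹))).isUnit).ne_zero
    have h2 : (2 : F) • pure u = 0 := by
      rw [two_smul]
      nth_rewrite 1 [h1]
      exact neg_add_cancel _
    exact hu0 ((smul_eq_zero.1 h2).resolve_left htwo)

variable {m : ℕ}

/-- a group in a tensor power of two dimensional spaces over three elements -/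
theorem sp_of_quatPow (hq3 : Fintype.card F = 3) (hm : 0 < m) {H : Subgroup (GL (Fin m ⊕ Fin m) F)} {t : ℕ}
    (ht : 0 < t) (hirr : Irred H) {e : Fin m ⊕ Fin m ≃ (Fin t → Fin 2)} {P : GL (Fin m ⊕ Fin m) F}
    (hle : H ≤ tensorWreathSubgroup 2 t e P) {c : F} {G₁ : Matrix (Fin 2) (Fin 2) F} (hskew : G₁ᵀ = -G₁)
    (hG : gramAt (RingHom.id F) (Matrix.J (Fin m) F) e P = c • pure fun _ => G₁) : SpSubSym m F H := by
  haveI : Nonempty (Fin m ⊕ Fin m) := ⟨Sum.inl ⟨0, hm⟩⟩
  have htwo : (2 : F) ≠ 0 := two_ne_zero_of_odd (by rw [hq3]; decide)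
  obtain ⟨hn, hA, hs, hcom, hsq, h4⟩ := quatPow_facts hq3 ht e P hirr hle
  have hiso : quatPow hq3 e P ≤ iso (RingHom.id F) (Matrix.J (Fin m) F) := by
    rintro _ ⟨ys, hys, rfl⟩
    set Y : Matrix (Fin t → Fin 2) (Fin t → Fin 2) F := pure fun i => (ys i : Matrix (Fin 2) (Fin 2) F) with hY
    have hG1 : G₁ = G₁ 0 1 • J2 F := by
      have e00 : G₁ 0 0 = 0 := by
        have := congrFun (congrFun hskew 0) 0
        rw [Matrix.transpose_apply, Matrix.neg_apply] at this
        exact (mul_eq_zero.1 (show (2 : F) * G₁ 0 0 = 0 by linear_combination this)).resolve_left htwo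
      have e11 : G₁ 1 1 = 0 := by
        have := congrFun (congrFun hskew 1) 1
        rw [Matrix.transpose_apply, Matrix.neg_apply] at this
        exact (mul_eq_zero.1 (show (2 : F) * G₁ 1 1 = 0 by linear_combination this)).resolve_left htwo
      have e10 := congrFun (congrFun hskew 0) 1
      rw [Matrix.transpose_apply, Matrix.neg_apply] at e10
      ext i j
      fin_cases i <;> fin_cases j <;> simp [J2, e00, e11, e10]
    have hinv : Yᵀ * gramAt (RingHom.id F) (Matrix.J (Fin m) F) e P * Y =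
        gramAt (RingHom.id F) (Matrix.J (Fin m) F) e P := by
      rw [hG, mul_smul_comm, smul_mul_assoc, hY, pure_transpose, pure_mul, pure_mul]
      congr 2
      funext i
      show (ys i : Matrix (Fin 2) (Fin 2) F)ᵀ * G₁ * (ys i : Matrix (Fin 2) (Fin 2) F) = G₁
      rw [hG1, mul_smul_comm, smul_mul_assoc, J2_congr, IsQuat.det_eq (hys i trivial), one_smul]
    have hPd : IsUnit ((P : Matrix (Fin m ⊕ Fin m) (Fin m ⊕ Fin m) F)).det := (Matrix.isUnit_iff_isUnit_det _).1 P.isUnit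
    rw [mem_iso, powHom_coe, ← hY]
    simp only [RingHom.coe_id, Matrix.map_id]
    have e1 := congrArg (rx e) hinv
    rw [map_mul, map_mul, rx_gramAt, rx_transpose] at e1
    simp only [RingHom.coe_id, Matrix.map_id] at e1
    set Pi' := ((P⁻¹ : GL (Fin m ⊕ Fin m) F) : Matrix (Fin m ⊕ Fin m) (Fin m ⊕ Fin m) F) with hPi
    have e2 := congrArg (fun X => Pi'ᵀ * X * Pi') e1
    have hPP : Pi'ᵀ * (P : Matrix (Fin m ⊕ Fin m) (Fin m ⊕ Fin m) F)ᵀ = 1 := by
      rw [← Matrix.transpose_mul, hPi, gl_mul_inv, Matrix.transpose_one]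
    simp only [mul_assoc] at e2
    rw [← mul_assoc Pi'ᵀ (P : Matrix _ _ F)ᵀ, hPP, one_mul] at e2
    rw [hPi, gl_mul_inv, mul_one] at e2
    rw [cj, Matrix.transpose_mul, Matrix.transpose_mul, ← hPi]
    simp only [mul_assoc] at e2 ⊢
    exact e2
  obtain ⟨R, hR⟩ := sympData_of_exponent (refl_J (F := F) (m := m)) hiso hn hA hs hcom Nat.prime_two hsq h4
    (fun R _ hMR hRM _ A hAch hAc => charScalar_of_conj hMR hRM (fun a ha has => quatPow_move hq3 e P ha has) A hAch hAc)
  exact sp_of_sympData hm hR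

end CfsgLib.Perm.Asch
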