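import Cfsg.Agent.Lib.Perm.Asch.Forms.SpLemmas
import Cfsg.Agent.Lib.Perm.Asch.Forms.SpQuat

/-!
# The plus type factor in dimension four is a tensor square
-/

set_option autoImplicit false
set_option linter.all false

namespace CfsgLib.Perm.Asch

open scoped Classical Matrix Kronecker
open Matrix Cfsg.Geo

variable {F : Type*} [Field F] [Fintype F]

/-- the hyperbolic form on four dimensions -/
def K22 (F : Type*) [Field F] : Matrix (Fin 2 × Fin 2) (Fin 2 × Fin 2) F := J2 F ⊗ₖ J2 F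

/-- a rank one two by two matrix is a product -/
theorem exists_factor {v : Fin 2 × Fin 2 → F} (hv : v ≠ 0) (hd : v (0, 0) * v (1, 1) - v (0, 1) * v (1, 0) = 0) :
    ∃ x y : Fin 2 → F, ∀ i j, v (i, j) = x i * y j := by
  obtain ⟨⟨p, q⟩, hpq⟩ := Function.ne_iff.1 hv
  rw [Pi.zero_apply] at hpq
  refine ⟨fun i => v (i, q) / v (p, q), fun j => v (p, j), fun i j => ?_⟩
  rw [div_mul_eq_mul_div, eq_div_iff hpq]
  fin_cases p <;> fin_cases q <;> fin_cases i <;> fin_cases j <;> simp <;>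
    first | ring1 | linear_combination hd | linear_combination -hd

theorem K22_congr (M N : Matrix (Fin 2) (Fin 2) F) :
    (M ⊗ₖ N)ᵀ * K22 F * (M ⊗ₖ N) = (M.det * N.det) • K22 F := by
  rw [K22, ← Matrix.kroneckerMap_transpose, ← Matrix.mul_kronecker_mul, ← Matrix.mul_kronecker_mul, J2_congr,
    J2_congr, Matrix.smul_kronecker, Matrix.kronecker_smul, smul_smul]

theorem K22_apply (B : Matrix (Fin 2 × Fin 2) (Fin 2 × Fin 2) F) (p q : Fin 2 × Fin 2) :
    (Bᵀ * K22 F * B) p q = B (0, 0) p * B (1, 1) q - B (0, 1) p * B (1, 0) q - B (1, 0) p * B (0, 1) q +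
      B (1, 1) p * B (0, 0) q := by
  simp [K22, J2, Matrix.mul_apply, Fintype.sum_prod_type, Fin.sum_univ_two, Matrix.kronecker_apply]
  ring

/-- the similitudes of the hyperbolic form are products, possibly followed by the swap -/
theorem similitude_K22 (htwo : (2 : F) ≠ 0) {B : Matrix (Fin 2 × Fin 2) (Fin 2 × Fin 2) F} {μ : F} (hμ : μ ≠ 0)
    (hB : Bᵀ * K22 F * B = μ • K22 F) :
    ∃ X Y : Matrix (Fin 2) (Fin 2) F, X.det ≠ 0 ∧ Y.det ≠ 0 ∧
      (B = X ⊗ₖ Y ∨ B = (X ⊗ₖ Y).submatrix id Prod.swap) := by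
  have hE : ∀ p q, B (0, 0) p * B (1, 1) q - B (0, 1) p * B (1, 0) q - B (1, 0) p * B (0, 1) q +
      B (1, 1) p * B (0, 0) q = μ * K22 F p q := fun p q => by
    rw [← K22_apply, hB, Matrix.smul_apply, smul_eq_mul]
  have hne : ∀ p : Fin 2 × Fin 2, (fun a => B a p) ≠ 0 := by
    intro p h
    have hz : ∀ a, B a p = 0 := fun a => congrFun h a
    obtain ⟨i, j⟩ := p
    have h1 := hE (i, j) (1 - i, 1 - j)
    simp only [hz] at h1
    fin_cases i <;> fin_cases j <;> simp [K22, J2, Matrix.kronecker_apply] at h1 <;> first | exact hμ h1 | exact hμ h1.symm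
  have hdet : ∀ p : Fin 2 × Fin 2, B (0, 0) p * B (1, 1) p - B (0, 1) p * B (1, 0) p = 0 := by
    intro p
    have h1 := hE p p
    have h2 : K22 F p p = 0 := by
      obtain ⟨i, j⟩ := p
      fin_cases i <;> fin_cases j <;> simp [K22, J2, Matrix.kronecker_apply]
    rw [h2, mul_zero] at h1
    exact (mul_eq_zero.1 (show (2 : F) * (B (0, 0) p * B (1, 1) p - B (0, 1) p * B (1, 0) p) = 0 by
      linear_combination h1)).resolve_left htwo
  obtain ⟨x0, y0, h00⟩ := exists_factor (hne (0, 0)) (hdet (0, 0))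
  obtain ⟨x1, y1, h11⟩ := exists_factor (hne (1, 1)) (hdet (1, 1))
  let M : Matrix (Fin 2) (Fin 2) F := !![x0 0, x1 0; x0 1, x1 1]
  let N : Matrix (Fin 2) (Fin 2) F := !![y0 0, y1 0; y0 1, y1 1]
  have hMN : M.det * N.det = μ := by
    have h1 := hE (0, 0) (1, 1)
    simp only [h00, h11] at h1
    simp [K22, J2, Matrix.kronecker_apply] at h1
    simp [M, N, Matrix.det_fin_two]
    linear_combination h1
  have hM : M.det ≠ 0 := fun h => hμ (by rw [← hMN, h, zero_mul])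
  have hN : N.det ≠ 0 := fun h => hμ (by rw [← hMN, h, mul_zero])
  set B0 := (M⁻¹ ⊗ₖ N⁻¹) * B with hB0
  have hBB : B = (M ⊗ₖ N) * B0 := by
    rw [hB0, ← mul_assoc, ← Matrix.mul_kronecker_mul, Matrix.mul_nonsing_inv _ (Ne.isUnit hM),
      Matrix.mul_nonsing_inv _ (Ne.isUnit hN), Matrix.one_kronecker_one, one_mul]
  have hB0K : B0ᵀ * K22 F * B0 = K22 F := by
    have h1 := hB
    rw [hBB, Matrix.transpose_mul] at h1
    have h2 : B0ᵀ * ((M ⊗ₖ N)ᵀ * K22 F * (M ⊗ₖ N)) * B0 = μ • K22 F := by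
      rw [← h1]; simp only [mul_assoc]
    rw [K22_congr, hMN, mul_smul_comm, smul_mul_assoc] at h2
    exact smul_right_injective _ hμ h2
  have hcol : ∀ (p : Fin 2 × Fin 2), B *ᵥ Pi.single p 1 = (M ⊗ₖ N) *ᵥ Pi.single p 1 → ∀ a, B0 a p = if a = p then 1 else 0 := by
    intro p hp a
    have h1 := congrArg ((M⁻¹ ⊗ₖ N⁻¹) *ᵥ ·) hp
    simp only [Matrix.mulVec_mulVec] at h1
    rw [← hB0, ← Matrix.mul_kronecker_mul, Matrix.nonsing_inv_mul _ (Ne.isUnit hM),
      Matrix.nonsing_inv_mul _ (Ne.isUnit hN), Matrix.one_kronecker_one, Matrix.one_mulVec] at h1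
    have h2 := congrFun h1 a
    rw [Matrix.mulVec_single_one, Matrix.col_apply, Pi.single_apply] at h2
    exact h2
  have c00 : ∀ a, B0 a (0, 0) = if a = (0, 0) then 1 else 0 := hcol _ (by
    funext ⟨i, j⟩
    rw [Matrix.mulVec_single_one, Matrix.mulVec_single_one, Matrix.col_apply, Matrix.col_apply, h00,
      Matrix.kronecker_apply]
    fin_cases i <;> fin_cases j <;> simp [M, N])
  have c11 : ∀ a, B0 a (1, 1) = if a = (1, 1) then 1 else 0 := hcol _ (by
    funext ⟨i, j⟩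
    rw [Matrix.mulVec_single_one, Matrix.mulVec_single_one, Matrix.col_apply, Matrix.col_apply, h11,
      Matrix.kronecker_apply]
    fin_cases i <;> fin_cases j <;> simp [M, N])
  have hE0 : ∀ p q, B0 (0, 0) p * B0 (1, 1) q - B0 (0, 1) p * B0 (1, 0) q - B0 (1, 0) p * B0 (0, 1) q +
      B0 (1, 1) p * B0 (0, 0) q = K22 F p q := fun p q => by rw [← K22_apply, hB0K]
  have a1 := hE0 (0, 0) (0, 1)
  have a2 := hE0 (0, 0) (1, 0)
  have a3 := hE0 (1, 1) (0, 1)
  have a4 := hE0 (1, 1) (1, 0)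
  have a5 := hE0 (0, 1) (0, 1)
  have a6 := hE0 (1, 0) (1, 0)
  have a7 := hE0 (0, 1) (1, 0)
  simp [c00, c11, K22, J2, Matrix.kronecker_apply] at a1 a2 a3 a4 a5 a6 a7
  set s := B0 (0, 1) (0, 1) with hs
  set r := B0 (1, 0) (0, 1) with hr
  set s' := B0 (0, 1) (1, 0) with hs'
  set r' := B0 (1, 0) (1, 0) with hr'
  have hsr : s * r = 0 := (mul_eq_zero.1 (show (2 : F) * (s * r) = 0 by
    linear_combination -a5 + B0 (1, 1) (0, 1) * a3 + B0 (1, 1) (0, 1) * a3)).resolve_left htwo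
  have hsr' : s' * r' = 0 := (mul_eq_zero.1 (show (2 : F) * (s' * r') = 0 by
    linear_combination -a6 + B0 (1, 1) (1, 0) * a4 + B0 (1, 1) (1, 0) * a4)).resolve_left htwo
  have hone : s * r' + r * s' = 1 := by
    linear_combination -a7 + B0 (1, 1) (1, 0) * a3 + B0 (1, 1) (0, 1) * a4
  rcases mul_eq_zero.1 hsr with h0 | h0
  · -- the swapped case
    have hr0 : r * s' = 1 := by linear_combination hone - r' * h0
    have hr'0 : r' = 0 := by linear_combination r * hsr' - r' * hr0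
    refine ⟨M * Matrix.diagonal ![1, r], N * Matrix.diagonal ![1, s'], ?_, ?_, Or.inr ?_⟩
    · simp [Matrix.det_diagonal, hM, show r ≠ 0 from fun h => by simp [h] at hr0]
    · simp [Matrix.det_diagonal, hN, show s' ≠ 0 from fun h => by simp [h] at hr0]
    rw [Matrix.mul_kronecker_mul, hBB]
    have e : B0 = (Matrix.diagonal ![(1 : F), r] ⊗ₖ Matrix.diagonal ![(1 : F), s']).submatrix id Prod.swap := by
      ext ⟨i, j⟩ ⟨k, l⟩
      fin_cases i <;> fin_cases j <;> fin_cases k <;> fin_cases l <;>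
        simp [c00, c11, Matrix.kronecker_apply, a1, a2, a3, a4, ← hs, ← hr, ← hs', ← hr', h0, hr'0, mul_comm s', hr0]
    rw [e]
    rfl
  · have hr0 : s * r' = 1 := by linear_combination hone - s' * h0
    have hs'0 : s' = 0 := by linear_combination s * hsr' - s' * hr0
    refine ⟨M * Matrix.diagonal ![1, r'], N * Matrix.diagonal ![1, s], ?_, ?_, Or.inl ?_⟩
    · simp [Matrix.det_diagonal, hM, show r' ≠ 0 from fun h => by simp [h] at hr0]
    · simp [Matrix.det_diagonal, hN, show s ≠ 0 from fun h => by simp [h] at hr0]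
    rw [Matrix.mul_kronecker_mul, hBB]
    congr 1
    ext ⟨i, j⟩ ⟨k, l⟩
    fin_cases i <;> fin_cases j <;> fin_cases k <;> fin_cases l <;>
      simp [c00, c11, Matrix.kronecker_apply, a1, a2, a3, a4, ← hs, ← hr, ← hs', ← hr', h0, hs'0, mul_comm r', hr0]

/-- a plus type symmetric form on four dimensions in hyperbolic coordinates -/
theorem plus_frame [Fintype F] (htwo : (2 : F) ≠ 0) {f₂ : (Fin 4 → F) → (Fin 4 → F) → F} (h₂ : IsSymmetricForm f₂)
    (hplus : IsPlusTypeOn (fun v : Fin 4 → F => f₂ v v) ⊤) :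
    ∃ u : Fin 2 × Fin 2 → Fin 4 → F, ∀ p q, f₂ (u p) (u q) = K22 F p q := by
  obtain ⟨U, -, hU, hUd⟩ := hplus
  rw [finrank_top, Module.finrank_fin_fun] at hUd
  have hb := h₂.bilinear
  have hzero : ∀ v ∈ U, ∀ w ∈ U, f₂ v w = 0 := by
    intro v hv w hw
    have h1 : f₂ (v + w) (v + w) = 0 := hU _ (U.add_mem hv hw)
    rw [hb.add_left, hb.add_right, hb.add_right, show f₂ v v = 0 from hU v hv, show f₂ w w = 0 from hU w hw,
      h₂.symm w v] at h1
    exact (mul_eq_zero.1 (show (2 : F) * f₂ v w = 0 by linear_combination h1)).resolve_left htwo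
  let b := Module.finBasisOfFinrankEq F U (show Module.finrank F U = 2 by omega)
  let L : (Fin 4 → F) →ₗ[F] (Fin 2 → F) :=
    { toFun := fun x i => f₂ (b i) x
      map_add' := fun x y => funext fun i => hb.add_right _ _ _
      map_smul' := fun c x => funext fun i => hb.smul_right _ _ _ }
  have hL : Function.Surjective L := by
    rw [← LinearMap.range_eq_top]
    by_contra hne
    obtain ⟨φ, hφ0, hφ⟩ := Submodule.exists_le_ker_of_lt_top _ (lt_top_iff_ne_top.2 hne)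
    set w : Fin 4 → F := ∑ i, φ (Pi.single i 1) • (b i : Fin 4 → F) with hw
    have hw0 : ∀ x, f₂ w x = 0 := by
      intro x
      have h1 : φ (L x) = 0 := hφ ⟨x, rfl⟩
      rw [pi_eq_sum_univ' (L x), map_sum] at h1
      rw [hw, bilin_sum_left hb, ← h1]
      refine Finset.sum_congr rfl fun i _ => ?_
      rw [hb.smul_left, map_smul, smul_eq_mul, mul_comm]
      rfl
    have hwe : w = 0 := by
      by_contra h
      obtain ⟨-, x, hx⟩ := h₂.nondegenerate w h
      exact hx (hw0 x)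
    refine hφ0 ?_
    have hli := b.linearIndependent.map' U.subtype U.ker_subtype
    have h2 := Fintype.linearIndependent_iff.1 hli (fun i => φ (Pi.single i 1)) (by rw [← hwe, hw]; rfl)
    refine LinearMap.ext fun x => ?_
    rw [pi_eq_sum_univ' x, map_sum]
    simp [h2]
  obtain ⟨w1, hw1⟩ := hL (Pi.single 0 1)
  obtain ⟨w2, hw2⟩ := hL (Pi.single 1 1)
  have e1 := congrFun hw1 0
  have e2 := congrFun hw1 1
  have e3 := congrFun hw2 0
  have e4 := congrFun hw2 1
  simp at e1 e2 e3 e4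
  change f₂ (b 0) w1 = 1 at e1
  change f₂ (b 1) w1 = 0 at e2
  change f₂ (b 0) w2 = 0 at e3
  change f₂ (b 1) w2 = 1 at e4
  set u1 : Fin 4 → F := (b 0).1
  set u2 : Fin 4 → F := (b 1).1
  have z11 := hzero u1 (b 0).2 u1 (b 0).2
  have z12 := hzero u1 (b 0).2 u2 (b 1).2
  have z21 := hzero u2 (b 1).2 u1 (b 0).2
  have z22 := hzero u2 (b 1).2 u2 (b 1).2
  have s1 := h₂.symm w1 u1
  have s2 := h₂.symm w1 u2
  have s3 := h₂.symm w2 u1
  have s4 := h₂.symm w2 u2
  let w1' := w1 + (-(f₂ w1 w1 / 2)) • u1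
  let w2' := w2 + (-(f₂ w2 w2 / 2)) • u2 + (-(f₂ w1 w2)) • u1
  let u : Fin 2 × Fin 2 → Fin 4 → F := fun p => (![![u1, u2], ![(-1 : F) • w2', w1']] p.1) p.2
  refine ⟨u, ?_⟩
  rintro ⟨i, j⟩ ⟨k, l⟩
  fin_cases i <;> fin_cases j <;> fin_cases k <;> fin_cases l <;>
    simp [u, w1', w2', K22, J2, Matrix.kronecker_apply, hb.add_left, hb.add_right, hb.smul_left, hb.smul_right,
      z11, z12, z21, z22, e1, e2, e3, e4, s1, s2, s3, s4, h₂.symm w2 w1, -neg_smul, -neg_one_smul] <;>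
    field_simp <;> ring

/-- pairs as numbers -/
def pr4 : Fin 2 × Fin 2 ≃ Fin 4 := finProdFinEquiv

/-- the bijection to triples -/
def eps3 : Fin 2 × Fin 4 ≃ (Fin 3 → Fin 2) where
  toFun p := ![p.1, (pr4.symm p.2).1, (pr4.symm p.2).2]
  invFun x := (x 0, pr4 (x 1, x 2))
  left_inv := by decide
  right_inv := by decide

theorem sp8_tensor_plus (hq : Odd (Fintype.card F)) {H : Subgroup (GL (Fin 4 ⊕ Fin 4) F)} (hI : H ≤ Cfsg.spGL 4 F)
    (hirr : Irred H) {e : Fin 4 ⊕ Fin 4 ≃ Fin 2 × Fin 4} {P : GL (Fin 4 ⊕ Fin 4) F}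
    {f₁ : (Fin 2 → F) → (Fin 2 → F) → F} {f₂ : (Fin 4 → F) → (Fin 4 → F) → F} (h₁ : IsSymplecticForm f₁)
    (h₂ : IsSymmetricForm f₂) (hplus : IsPlusTypeOn (fun v : Fin 4 → F => f₂ v v) ⊤)
    (hs : IsTensorFormStructure id (Cfsg.sympForm 4 F) f₁ f₂ e P) (hle : H ≤ tensorProductSubgroup 2 4 e P) :
    SpSubSym 4 F H ∨ ∃ (e' : Fin 4 ⊕ Fin 4 ≃ (Fin 3 → Fin 2)) (P' : GL (Fin 4 ⊕ Fin 4) F)
      (f₁' : (Fin 2 → F) → (Fin 2 → F) → F), 5 ≤ Fintype.card F ∧ IsSymplecticForm f₁' ∧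
      IsTensorPowerFormStructure id (Cfsg.sympForm 4 F) f₁' e' P' ∧ H ≤ tensorWreathSubgroup 2 3 e' P' := by
  have htwo := two_ne_zero_of_odd hq
  rw [spGL_eq] at hI
  set G := Matrix.J (Fin 4) F
  set σ := RingHom.id F
  obtain ⟨c, hc, hf⟩ := hs
  set G₁ := gramMatrix f₁
  set G₂ := gramMatrix f₂
  have hG : gramAt σ G e P = c • (G₁ ⊗ₖ G₂) := by
    ext a b
    have h : gform σ G ((P : Matrix (Fin 4 ⊕ Fin 4) (Fin 4 ⊕ Fin 4) F) *ᵥ (Pi.single a 1 ∘ e))
        ((P : Matrix (Fin 4 ⊕ Fin 4) (Fin 4 ⊕ Fin 4) F) *ᵥ (Pi.single b 1 ∘ e)) = _ := hf (Pi.single a 1) (Pi.single b 1)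
    rw [gform_gramAt σ G e P (Pi.single a 1) (Pi.single b 1), gform_single] at h
    refine h.trans ?_
    rw [Matrix.smul_apply, smul_eq_mul]
    congr 1
    simp [formOfGram, Pi.single_apply]
  have hskew : G₁ᵀ = -G₁ := by
    ext i j
    rw [Matrix.transpose_apply, Matrix.neg_apply]
    exact h₁.skew _ _
  set g01 := G₁ 0 1 with hg01
  have hG1 : G₁ = g01 • J2 F := by
    have h00 : G₁ 0 0 = 0 := h₁.alternating _
    have h11 : G₁ 1 1 = 0 := h₁.alternating _
    have h10 : G₁ 1 0 = -g01 := h₁.skew _ _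
    ext i j
    fin_cases i <;> fin_cases j <;> simp [J2, h00, h11, h10, ← hg01]
  have hg0 : g01 ≠ 0 := by
    intro h0
    obtain ⟨⟨x, hx⟩, -⟩ := h₁.nondegenerate (Pi.single 0 1) (by simp)
    apply hx
    rw [pi_eq_sum_univ' x, bilin_sum_left h₁.bilinear]
    refine Finset.sum_eq_zero fun i _ => ?_
    rw [h₁.bilinear.smul_left, show f₁ (Pi.single i 1) (Pi.single 0 1) = G₁ i 0 from rfl, hG1, h0, zero_smul]
    simp
  obtain ⟨u, hu⟩ := plus_frame htwo h₂ hplus
  let c4 : Fin 2 × Fin 2 ≃ Fin 4 := pr4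
  let CM : Matrix (Fin 4) (Fin 4) F := Matrix.of fun i y => u (c4.symm y) i
  have hCM : CMᵀ * G₂ * CM = (K22 F).submatrix c4.symm c4.symm := by
    ext y y'
    rw [Matrix.submatrix_apply, ← hu]
    have hgram : ∀ x x', f₂ x x' = ∑ a, ∑ b, x a * G₂ a b * x' b := by
      intro x x'
      conv_lhs => rw [pi_eq_sum_univ' x, pi_eq_sum_univ' x']
      rw [bilin_sum_left h₂.bilinear]
      refine Finset.sum_congr rfl fun a _ => ?_
      rw [bilin_sum_right h₂.bilinear]
      refine Finset.sum_congr rfl fun b _ => ?_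
      rw [h₂.bilinear.smul_left, h₂.bilinear.smul_right]
      simp [G₂, gramMatrix]
      ring
    rw [hgram, Matrix.mul_apply, Finset.sum_comm]
    simp only [Matrix.mul_apply, Matrix.transpose_apply, Finset.sum_mul, CM, Matrix.of_apply]
  have hKd : (K22 F).det ≠ 0 := by
    rw [K22, Matrix.det_kronecker]
    simp [J2, Matrix.det_fin_two]
  have hCd : CM.det ≠ 0 := fun h0 => by
    have := congrArg Matrix.det hCM
    rw [Matrix.det_mul, h0, mul_zero, Matrix.det_submatrix_equiv_self] at this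
    exact hKd this.symm
  let k0 : GL (Fin 2 × Fin 4) F :=
    { val := (1 : Matrix (Fin 2) (Fin 2) F) ⊗ₖ CM
      inv := (1 : Matrix (Fin 2) (Fin 2) F) ⊗ₖ CM⁻¹
      val_inv := by rw [← Matrix.mul_kronecker_mul, Matrix.mul_nonsing_inv _ (Ne.isUnit hCd), mul_one, Matrix.one_kronecker_one]
      inv_val := by rw [← Matrix.mul_kronecker_mul, Matrix.nonsing_inv_mul _ (Ne.isUnit hCd), mul_one, Matrix.one_kronecker_one] }
  set P' := P * glReindex e.symm k0 with hP'
  let e' := e.trans eps3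
  have hG' : gramAt σ G e' P' = (c * g01) • pure fun _ : Fin 3 => J2 F := by
    have h1 := gramAt_mul (σ := σ) G e P k0
    rw [← hP', hG] at h1
    simp only [σ, RingHom.coe_id, Matrix.map_id] at h1
    have h2 : gramAt σ G e' P' = (gramAt σ G e P').submatrix eps3.symm eps3.symm := rfl
    rw [h2]
    simp only [σ] at h1 ⊢
    rw [h1]
    show ((((1 : Matrix (Fin 2) (Fin 2) F) ⊗ₖ CM)ᵀ * c • (G₁ ⊗ₖ G₂) * ((1 : Matrix (Fin 2) (Fin 2) F) ⊗ₖ CM))).submatrix _ _ = _
    rw [mul_smul_comm, smul_mul_assoc, ← Matrix.kroneckerMap_transpose, Matrix.transpose_one,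
      ← Matrix.mul_kronecker_mul, ← Matrix.mul_kronecker_mul, one_mul, mul_one, hCM, hG1]
    ext x y
    simp only [Matrix.submatrix_apply, Matrix.smul_apply, Matrix.kronecker_apply, pure_apply, Fin.prod_univ_three, K22,
      smul_eq_mul, eps3, Equiv.coe_fn_symm_mk, c4, Equiv.symm_apply_apply]
    ring
  have hwr : H ≤ tensorWreathSubgroup 2 3 e' P' := by
    intro g hg
    obtain ⟨k, a, b, hgk, hk⟩ := tensorProduct_elem (hle hg)
    have hiso := gramAt_isometry (σ := σ) (G := G) e P (k := k) (hgk ▸ hI hg)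
    simp only [σ, RingHom.coe_id, Matrix.map_id] at hiso
    rw [show gramAt (RingHom.id F) G e P = c • (G₁ ⊗ₖ G₂) from hG, hk, mul_smul_comm, smul_mul_assoc,
      ← Matrix.kroneckerMap_transpose, ← Matrix.mul_kronecker_mul, ← Matrix.mul_kronecker_mul] at hiso
    have hiso' := smul_right_injective _ hc hiso
    set A := (a : Matrix (Fin 2) (Fin 2) F)
    set Bm := (b : Matrix (Fin 4) (Fin 4) F)
    have hAd : A.det ≠ 0 := ((Matrix.isUnit_iff_isUnit_det A).1 a.isUnit).ne_zero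
    have hB : Bmᵀ * G₂ * Bm = A.det⁻¹ • G₂ := by
      ext y y'
      have h1 := congrFun (congrFun hiso' (0, y)) (1, y')
      rw [hG1, mul_smul_comm, smul_mul_assoc, J2_congr, Matrix.kronecker_apply, Matrix.kronecker_apply] at h1
      simp [J2] at h1
      rw [Matrix.smul_apply, smul_eq_mul]
      field_simp
      refine mul_left_cancel₀ hg0 ?_
      linear_combination h1
    set B' := (CM⁻¹ * Bm * CM).submatrix c4 c4 with hB'
    have hB'K : B'ᵀ * K22 F * B' = A.det⁻¹ • K22 F := by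
      have h1 : (CM⁻¹ * Bm * CM)ᵀ * (CMᵀ * G₂ * CM) * (CM⁻¹ * Bm * CM) = A.det⁻¹ • (CMᵀ * G₂ * CM) := by
        rw [Matrix.transpose_mul, Matrix.transpose_mul, Matrix.transpose_nonsing_inv]
        calc CMᵀ * (Bmᵀ * CMᵀ⁻¹) * (CMᵀ * G₂ * CM) * (CM⁻¹ * Bm * CM)
            = CMᵀ * (Bmᵀ * (CMᵀ⁻¹ * CMᵀ) * G₂ * (CM * CM⁻¹) * Bm) * CM := by simp only [mul_assoc]
          _ = _ := by
            rw [Matrix.nonsing_inv_mul _ (by rw [Matrix.det_transpose]; exact Ne.isUnit hCd),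
              Matrix.mul_nonsing_inv _ (Ne.isUnit hCd), mul_one, mul_one, hB, mul_smul_comm, smul_mul_assoc]
      rw [hCM] at h1
      have h2 := congrArg (fun X : Matrix (Fin 4) (Fin 4) F => X.submatrix c4 c4) h1
      simp only [Matrix.submatrix_mul _ _ c4 c4 c4 c4.bijective, Matrix.submatrix_submatrix, Matrix.submatrix_smul,
        Equiv.symm_comp_self, Matrix.submatrix_id_id, Pi.smul_apply] at h2
      rw [hB', Matrix.transpose_submatrix]
      exact h2
    obtain ⟨X, Y, hX, hY, hXY⟩ := similitude_K22 htwo (inv_ne_zero hAd) hB'K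
    let gs : Fin 3 → GL (Fin 2) F := ![a, Matrix.GeneralLinearGroup.mkOfDetNeZero X hX, Matrix.GeneralLinearGroup.mkOfDetNeZero Y hY]
    obtain ⟨z, hz, hzv⟩ : ∃ z ∈ tensorWreathStandard 2 3 F,
        ((z : Matrix (Fin 3 → Fin 2) (Fin 3 → Fin 2) F)).submatrix eps3 eps3 = A ⊗ₖ (CM⁻¹ * Bm * CM) := by
      rcases hXY with h | h
      · refine ⟨pureGL gs, pureGL_mem gs, ?_⟩
        ext ⟨i, y⟩ ⟨i', y'⟩
        have h1 := congrFun (congrFun h (c4.symm y)) (c4.symm y')
        rw [hB', Matrix.submatrix_apply, Equiv.apply_symm_apply, Equiv.apply_symm_apply, Matrix.kronecker_apply] at h1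
        rw [Matrix.submatrix_apply, pureGL_coe, pure_apply, Fin.prod_univ_three, Matrix.kronecker_apply, h1]
        simp [gs, eps3, c4, A, mul_assoc]
      · refine ⟨pureGL gs * permGL (Equiv.swap 1 2),
          mul_mem (pureGL_mem gs) (Subgroup.subset_closure (Or.inr ⟨Equiv.swap 1 2, fun x y => rfl⟩)), ?_⟩
        ext ⟨i, y⟩ ⟨i', y'⟩
        have h1 := congrFun (congrFun h (c4.symm y)) (c4.symm y')
        rw [hB', Matrix.submatrix_apply, Equiv.apply_symm_apply, Equiv.apply_symm_apply, Matrix.submatrix_apply,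
          id_eq, Matrix.kronecker_apply] at h1
        rw [Matrix.submatrix_apply, Units.val_mul, pureGL_coe, permGL_coe, Matrix.mul_apply, Matrix.kronecker_apply, h1,
          Finset.sum_eq_single (eps3 (i', y') ∘ Equiv.swap 1 2)]
        · rw [pure_apply, Fin.prod_univ_three]
          have hss : ⇑(Equiv.swap (1 : Fin 3) 2) ∘ ⇑(Equiv.swap (1 : Fin 3) 2) = id := funext fun t => Equiv.swap_apply_self _ _ _
          simp [permMat, gs, eps3, c4, A, mul_assoc, Function.comp_assoc, Equiv.swap_apply_of_ne_of_ne, hss]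
        · intro x _ hx
          have : (permMat (Equiv.swap (1 : Fin 3) 2) : Matrix (Fin 3 → Fin 2) (Fin 3 → Fin 2) F) x (eps3 (i', y')) = 0 := by
            refine if_neg fun h' => hx ?_
            rw [h', Function.comp_assoc]
            funext t
            simp
          rw [this, mul_zero]
        · simp
    refine Subgroup.mem_map.2 ⟨glReindex e'.symm z, Subgroup.mem_map.2 ⟨z, hz, rfl⟩, ?_⟩
    have hk' : glReindex e'.symm z = glReindex e.symm (k0⁻¹ * k * k0) := by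
      apply Units.ext
      show rx e' (z : Matrix (Fin 3 → Fin 2) (Fin 3 → Fin 2) F) = rx e ((k0⁻¹ * k * k0 : GL (Fin 2 × Fin 4) F) : Matrix _ _ F)
      rw [show rx e' (z : Matrix (Fin 3 → Fin 2) (Fin 3 → Fin 2) F) = rx e ((z : Matrix (Fin 3 → Fin 2) (Fin 3 → Fin 2) F).submatrix eps3 eps3) from rfl,
        hzv, Units.val_mul, Units.val_mul, hk]
      congr 1
      show _ = ((1 : Matrix (Fin 2) (Fin 2) F) ⊗ₖ CM⁻¹) * (A ⊗ₖ Bm) * ((1 : Matrix (Fin 2) (Fin 2) F) ⊗ₖ CM)
      rw [← Matrix.mul_kronecker_mul, ← Matrix.mul_kronecker_mul, one_mul, mul_one]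
    show P' * glReindex e'.symm z * P'⁻¹ = g
    rw [hk', hP', hgk]
    simp only [map_mul, map_inv]
    group
  have hc' : c * g01 ≠ 0 := mul_ne_zero hc hg0
  have hJs : (J2 F)ᵀ = -J2 F := by ext i j; fin_cases i <;> fin_cases j <;> simp [J2]
  by_cases hq3 : Fintype.card F = 3
  · exact Or.inl (sp_of_quatPow hq3 (by norm_num) (by norm_num) hirr hwr hJs hG')
  · refine Or.inr ⟨e', P', gform (RingHom.id F) (J2 F), ?_, bilin_symplectic ?_ hJs htwo,
      powerFormStructure_of_gramAt hc' hG', hwr⟩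
    · obtain ⟨k, hk⟩ := hq
      have := Fintype.one_lt_card (α := F)
      omega
    · simp [J2, Matrix.det_fin_two]

end CfsgLib.Perm.Asch
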