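import Cfsg.Agent.Lib.Perm.Asch.Forms.SpSmall4
import Cfsg.Agent.Lib.Perm.Asch.Forms.SpTensor8

/-!
# The candidates for maximal subgroups of `Sp_2m(q)`
-/

set_option autoImplicit false
set_option linter.all false

namespace CfsgLib.Perm.Asch

open scoped Classical Matrix
open Matrix Cfsg.Geo

variable {F : Type*} [Field F] [Fintype F] {m : ℕ}

/-- the possible maximal subgroups -/
inductive SpMax (m : ℕ) (F : Type*) [Field F] [Fintype F] (H : Subgroup (GL (Fin m ⊕ Fin m) F)) : Prop where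
  | singular {W : Submodule F (Fin m ⊕ Fin m → F)} (h0 : W ≠ ⊥) (hs : IsTotallySingularFor (Cfsg.sympForm m F) W)
      (h : H = subspaceStabilizer W ⊓ Cfsg.spGL m F) : SpMax m F H
  | nondeg {W : Submodule F (Fin m ⊕ Fin m → F)} (h0 : W ≠ ⊥) (hn : IsNondegenerateOn (Cfsg.sympForm m F) W)
      (hd : Module.finrank F W < m) (he : Even (Module.finrank F W))
      (h : H = subspaceStabilizer W ⊓ Cfsg.spGL m F) : SpMax m F H
  | dec {t k : ℕ} {D : Fin t → Submodule F (Fin m ⊕ Fin m → F)} (ht : 2 ≤ t) (htk : t * k = m + m) (hk : Even k)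
      (h2 : k = 2 → 3 ≤ Fintype.card F) (hD : IsNondegenerateMDecomposition (Cfsg.sympForm m F) k D)
      (h : H = decompositionStabilizer D ⊓ Cfsg.spGL m F) : SpMax m F H
  | pair {D : Fin 2 → Submodule F (Fin m ⊕ Fin m → F)} (hq : Odd (Fintype.card F))
      (h5 : m = 2 → 5 ≤ Fintype.card F) (hD : IsMDecomposition m D)
      (hs : ∀ i, IsTotallySingularFor (Cfsg.sympForm m F) (D i))
      (h : H = decompositionStabilizer D ⊓ Cfsg.spGL m F) : SpMax m F H
  | sub (h : ∃ (F₀ : Subfield F) (r : ℕ) (P : GL (Fin m ⊕ Fin m) F) (ζ : F), r.Prime ∧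
      Fintype.card F = Nat.card F₀ ^ r ∧ ζ ≠ 0 ∧ IsFormRationalStructure (Cfsg.sympForm m F) F₀ ζ P ∧
      H = subfieldSubgroup F₀ P ⊓ Cfsg.spGL m F) : SpMax m F H
  | sym {R : Subgroup (GL (Fin m ⊕ Fin m) F)} {p k : ℕ} (hp : p.Prime) (hpo : Odd p) (hc : Fintype.card F = p)
      (hR : IsSymplecticTypeGroup 2 R) (ha : ActsAbsolutelyIrreducibly (matrixSet R))
      (hs : R ≤ similarityGroup (Cfsg.sympForm m F)) (hcard : Nat.card R = 2 ^ (1 + 2 * k))
      (hz : Nat.card (Subgroup.center R) = 2) (hm : IsOfMinusType k R) (hk : m + m = 2 ^ k)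
      (h : H = subgroupNormalizer R ⊓ Cfsg.spGL m F) : SpMax m F H
  | quad {Q : (Fin m ⊕ Fin m → F) → F} (hq : ¬ Odd (Fintype.card F)) (hQ : IsNondegenerateQuadraticForm Q)
      (hp : ∀ u v, QuadraticMap.polar Q u v = Cfsg.sympForm m F u v)
      (h : H = quadSimilarityGroup Q ⊓ Cfsg.spGL m F) : SpMax m F H
  | fieldSA {r : ℕ} {K : Subalgebra F (Matrix (Fin m ⊕ Fin m) (Fin m ⊕ Fin m) F)} (hr : r.Prime) (hdvd : r ∣ m)
      (hK : IsFieldSubalgebra r K) (hs : IsSelfAdjointFor (Cfsg.sympForm m F) K)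
      (hv : ∀ k ∈ K, ∀ v, Cfsg.sympForm m F (k *ᵥ v) v = 0)
      (h : H = subalgebraNormalizer K ⊓ Cfsg.spGL m F) : SpMax m F H
  | fieldU {K : Subalgebra F (Matrix (Fin m ⊕ Fin m) (Fin m ⊕ Fin m) F)} (hq : Odd (Fintype.card F))
      (h5 : m = 2 → 5 ≤ Fintype.card F) (hK : IsFieldSubalgebra 2 K)
      (ha : IsAdjointClosedFor (Cfsg.sympForm m F) K) (hns : ¬ IsSelfAdjointFor (Cfsg.sympForm m F) K)
      (h : H = subalgebraNormalizer K ⊓ Cfsg.spGL m F) : SpMax m F H
  | tensor {n₁ n₂ : ℕ} (e : Fin m ⊕ Fin m ≃ Fin n₁ × Fin n₂) (P : GL (Fin m ⊕ Fin m) F)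
      {f₁ : (Fin n₁ → F) → (Fin n₁ → F) → F} {f₂ : (Fin n₂ → F) → (Fin n₂ → F) → F}
      (hq : Odd (Fintype.card F)) (hn : n₁ * n₂ = m + m) (he : Even n₁) (h3 : 3 ≤ n₂)
      (h5 : n₂ = 3 → 5 ≤ Fintype.card F)
      (hplus : n₁ = 2 → n₂ = 4 → ¬ IsPlusTypeOn (fun v => f₂ v v) ⊤)
      (h₁ : IsSymplecticForm f₁) (h₂ : IsSymmetricForm f₂)
      (hs : IsTensorFormStructure id (Cfsg.sympForm m F) f₁ f₂ e P)
      (h : H = tensorProductSubgroup n₁ n₂ e P ⊓ Cfsg.spGL m F) : SpMax m F H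
  | power {k t : ℕ} (e : Fin m ⊕ Fin m ≃ (Fin t → Fin k)) (P : GL (Fin m ⊕ Fin m) F)
      {f₁ : (Fin k → F) → (Fin k → F) → F} (hq : Odd (Fintype.card F)) (hn : k ^ t = m + m) (h3 : 3 ≤ t)
      (h5 : k = 2 → 5 ≤ Fintype.card F) (h₁ : IsSymplecticForm f₁)
      (hs : IsTensorPowerFormStructure id (Cfsg.sympForm m F) f₁ e P)
      (h : H = tensorWreathSubgroup k t e P ⊓ Cfsg.spGL m F) : SpMax m F H
  | residual (h : InSymplecticResidualClass H) : SpMax m F H

theorem symp_symplectic : IsSymplecticForm (Cfsg.sympForm m F) := by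
  rw [sympForm_eq]
  exact ⟨gform_bilinear _, symp_skew, symp_self, gform_nondegenerate refl_J.det⟩

theorem sp_eq_inf {H X : Subgroup (GL (Fin m ⊕ Fin m) F)} (hH : IsMaximalIn (Cfsg.spGL m F) H) (hle : H ≤ X)
    (hne : ¬ Cfsg.spGL m F ≤ X) : H = X ⊓ Cfsg.spGL m F := by
  rcases hH.2 (X ⊓ Cfsg.spGL m F) (le_inf hle hH.1.le) inf_le_right with h | h
  · exact h.symm
  · exact absurd (inf_eq_right.1 h) hne

theorem dec_card {t k : ℕ} {D : Fin t → Submodule F (Fin m ⊕ Fin m → F)} (hD : IsMDecomposition k D) :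
    t * k = m + m := by
  have hint : DirectSum.IsInternal D :=
    DirectSum.isInternal_submodule_of_iSupIndep_of_iSup_eq_top hD.indep hD.iSup_eq_top
  let bs : (i : Fin t) → Module.Basis (Fin k) F (D i) := fun i => Module.finBasisOfFinrankEq F (D i) (hD.finrank_eq i)
  have h := Module.finrank_eq_card_basis (hint.collectedBasis bs)
  rw [Module.finrank_fintype_fun_eq_card, card_SI] at h
  simpa using h.symm

/-- the maximal subgroups of the symplectic groups -/
theorem sp_max (hm : 2 ≤ m) {H : Subgroup (GL (Fin m ⊕ Fin m) F)} (hH : IsMaximalIn (Cfsg.spGL m F) H) :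
    SpMax m F H := by
  haveI : Nonempty (Fin m ⊕ Fin m) := ⟨Sum.inl ⟨0, by omega⟩⟩
  have hI := hH.1.le
  have hf := symp_symplectic (F := F) (m := m)
  have hV := sp_vecTrans (F := F) (m := m)
  have q2 : 2 ≤ Fintype.card F := Fintype.one_lt_card
  have quad : ∀ Q : (Fin m ⊕ Fin m → F) → F, ¬ Odd (Fintype.card F) → IsNondegenerateQuadraticForm Q →
      (∀ u v, QuadraticMap.polar Q u v = Cfsg.sympForm m F u v) → H ≤ quadSimilarityGroup Q → SpMax m F H :=
    fun Q hq hQ hp hle => .quad hq hQ hp (sp_eq_inf hH hle (sp_not_le_quad hm hQ hp))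
  have dec : ∀ {t k : ℕ} {D : Fin t → Submodule F (Fin m ⊕ Fin m → F)},
      IsNondegenerateMDecomposition (Cfsg.sympForm m F) k D → H ≤ decompositionStabilizer D → SpMax m F H := by
    intro t k D hD hle
    have hk : Even k := hD.decomp.finrank_eq ⟨0, by have := hD.decomp.two_le; omega⟩ ▸
      even_finrank_of_alternating hf.bilinear hf.alternating (hD.nondegenerate _)
    by_cases h22 : k = 2 ∧ Fintype.card F = 2
    · obtain ⟨rfl, hq⟩ := h22
      obtain ⟨Q, hQ, hp, hQle⟩ := quad_of_planes hq hf.bilinear hf.alternating hf.nondegenerate hD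
      exact quad Q (by rw [hq]; decide) hQ hp (hle.trans hQle)
    · exact .dec hD.decomp.two_le (dec_card hD.decomp) hk
        (fun h => by by_contra hlt; exact h22 ⟨h, by omega⟩) hD (sp_eq_inf hH hle (hV.not_le_decomposition hD.decomp))
  by_cases hred : SpRed m F H
  · cases hred with
    | @singular W h0 hs h =>
      refine .singular h0 hs (sp_eq_inf hH h (hV.not_le_subspace h0 fun htop => ?_))
      subst htop
      obtain ⟨v, hv⟩ : ∃ v : Fin m ⊕ Fin m → F, v ≠ 0 := ⟨Pi.single (Sum.inl ⟨0, by omega⟩) 1, by simp⟩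
      obtain ⟨⟨x, hx⟩, -⟩ := hf.nondegenerate v hv
      exact hx (hs x trivial v trivial)
    | @nondeg W h0 hn hd h =>
      refine .nondeg h0 hn hd (even_finrank_of_alternating hf.bilinear hf.alternating hn)
        (sp_eq_inf hH h (hV.not_le_subspace h0 fun htop => ?_))
      subst htop
      rw [finrank_top, Module.finrank_fintype_fun_eq_card, card_SI] at hd
      omega
    | dec hD h => exact dec hD h
  have hirr := sp_irred_or_red hI hred
  have sub : SpSubSym m F H → SpMax m F H := fun hc => by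
    cases hc with
    | @sub F₀ r P ζ hr hc hζ hs h =>
      refine .sub ⟨F₀, r, P, ζ, hr, hc, hζ, hs, sp_eq_inf hH h (sp_not_le_subfield hm ?_ P)⟩
      rintro rfl
      have htop : Nat.card (⊤ : Subfield F) = Fintype.card F := by
        rw [Nat.card_congr Subfield.topEquiv.toEquiv, Nat.card_eq_fintype_card]
      rw [htop] at hc
      exact absurd hc (lt_self_pow₀ Fintype.one_lt_card hr.one_lt).ne
    | @sym R p k hR ha hs hp hpo hc hcard hz hmt hk h =>
      exact .sym hp hpo hc hR ha hs hcard hz hmt hk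
        (sp_eq_inf hH h (sp_not_le_normalizer hm (hc ▸ hpo) hs hR.pGroup ha hz))
  have fieldSA : ∀ {r : ℕ} {K : Subalgebra F (Matrix (Fin m ⊕ Fin m) (Fin m ⊕ Fin m) F)}, r.Prime →
      IsFieldSubalgebra r K → IsSelfAdjointFor (Cfsg.sympForm m F) K →
      (∀ k ∈ K, ∀ v, Cfsg.sympForm m F (k *ᵥ v) v = 0) → H ≤ subalgebraNormalizer K → SpMax m F H := by
    intro r K hr hK hs hv hle
    have hdvd := two_mul_dvd_finrank hf.bilinear K hK.comm hK.inv hs hv ⊤ (fun _ _ _ _ => trivial)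
      (fun w _ h => by
        by_contra h0
        obtain ⟨⟨x, hx⟩, -⟩ := hf.nondegenerate w h0
        exact hx (h x trivial))
    rw [finrank_top, Module.finrank_fintype_fun_eq_card, card_SI, hK.finrank_eq, ← two_mul] at hdvd
    exact .fieldSA hr (Nat.dvd_of_mul_dvd_mul_left (by norm_num) hdvd) hK hs hv
      (sp_eq_inf hH hle (sp_not_le_field hm hr hK))
  have five : Odd (Fintype.card F) → Fintype.card F ≠ 3 → 5 ≤ Fintype.card F := by
    rintro ⟨j, hj⟩ h3
    omega
  rcases symplectic_structure (by omega) hI with hc | hres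
  swap
  · exact .residual hres
  cases hc with
  | singular h0 hs h => exact absurd (.singular h0 hs h) hred
  | nondeg h0 hn hd h => exact absurd (.nondeg h0 hn hd h) hred
  | dec hD h => exact dec hD h
  | @pair D hq hD hs h =>
    by_cases h23 : m = 2 ∧ Fintype.card F = 3
    · obtain ⟨rfl, hq3⟩ := h23
      obtain ⟨K, hK, hKs, hKv, hle⟩ := sp4_pair_three hq3 hI hD hs h
      exact fieldSA Nat.prime_two hK hKs hKv hle
    · exact .pair hq (fun hm2 => five hq fun hq3 => h23 ⟨hm2, hq3⟩) hD hs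
        (sp_eq_inf hH h (hV.not_le_decomposition hD))
  | sub hr hc hζ hs h => exact sub (.sub hr hc hζ hs h)
  | sym hR ha hs hp hpo hc hcard hz hmt hk h => exact sub (.sym hR ha hs hp hpo hc hcard hz hmt hk h)
  | quad hq hQ hp h => exact quad _ hq hQ hp h
  | fieldSA hr hK hs hv h => exact fieldSA hr hK hs hv h
  | @fieldU K hq hK ha hns h =>
    by_cases h23 : m = 2 ∧ Fintype.card F = 3
    · obtain ⟨rfl, hq3⟩ := h23
      exact sub (sp4_fieldU_three hq3 hI hirr hK ha hns h)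
    · exact .fieldU hq (fun hm2 => five hq fun hq3 => h23 ⟨hm2, hq3⟩) hK ha hns
        (sp_eq_inf hH h (sp_not_le_field hm Nat.prime_two hK))
  | @tensor n₁ n₂ e P f₁ f₂ hq h3 h₁ h₂ hs h =>
    have hn : n₁ * n₂ = m + m := by simpa using (Fintype.card_congr e).symm
    have he := isSymplecticForm_even h₁
    have hn1 : 2 ≤ n₁ := by
      obtain ⟨j, hj⟩ := he
      have : n₁ ≠ 0 := fun h0 => by rw [h0, zero_mul] at hn; omega
      omega
    by_cases h33 : n₂ = 3 ∧ Fintype.card F = 3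
    · obtain ⟨rfl, hq3⟩ := h33
      obtain ⟨D, hD, hDle⟩ := tensor_three hf.bilinear hf.nondegenerate hq3 (by omega) h₁.bilinear
        h₁.nondegenerate h₂ hs
      refine dec hD fun g hg => hDle g (h hg) ?_
      have := hI hg
      rw [spGL_eq, mem_iso_iff] at this
      rw [sympForm_eq]
      exact this
    by_cases hp : n₁ = 2 ∧ n₂ = 4 ∧ IsPlusTypeOn (fun v => f₂ v v) ⊤
    · obtain ⟨rfl, rfl, hplus⟩ := hp
      obtain rfl : m = 4 := by omega
      rcases sp8_tensor_plus hq hI hirr h₁ h₂ hplus hs h with hc | ⟨e', P', f', h5, hf', hs', hle⟩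
      · exact sub hc
      · exact .power e' P' hq (by norm_num) le_rfl (fun _ => h5) hf' hs'
          (sp_eq_inf hH hle (hV.not_le_wreath le_rfl (by norm_num) e' P'))
    exact .tensor e P hq hn he h3 (fun hn2 => five hq fun hq3 => h33 ⟨hn2, hq3⟩)
      (fun e1 e2 hpl => hp ⟨e1, e2, hpl⟩) h₁ h₂ hs (sp_eq_inf hH h (hV.not_le_tensor hn1 (by omega) e P))
  | @power k t e P f₁ hq ht h3 hex h₁ hs h =>
    have hn : k ^ t = m + m := by simpa using (Fintype.card_congr e).symm
    have hk : 2 ≤ k := by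
      obtain ⟨j, hj⟩ := isSymplecticForm_even h₁
      have : k ≠ 0 := fun h0 => by rw [h0, zero_pow (by omega)] at hn; omega
      omega
    exact .power e P hq hn h3 (fun hk2 => five hq fun hq3 => hex ⟨hq3, hk2⟩) h₁ hs
      (sp_eq_inf hH h (hV.not_le_wreath hk (by omega) e P))

end CfsgLib.Perm.Asch
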