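import Cfsg.Agent.Lib.Perm.Asch.Forms.SpSymType
import Cfsg.Agent.Lib.Perm.Asch.Forms.SpQuat

/-!
# The structure of subgroups of the symplectic groups
-/

set_option autoImplicit false
set_option linter.all false

namespace CfsgLib.Perm.Asch

open scoped Classical Matrix commutatorElement
open Matrix Cfsg.Geo

variable {F : Type*} [Field F] [Fintype F] {m : ℕ} {H M : Subgroup (GL (Fin m ⊕ Fin m) F)}

theorem sp_of_not_simple (hm : 0 < m) (hI : H ≤ Cfsg.spGL m F) (hMH : M ≤ H) (hM : NormG H M)
    (hMs : ¬ M ≤ scalars (Fin m ⊕ Fin m) F) (hperf : ⁅M, M⁆ = M)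
    (hmin : ∀ N ≤ M, NormG H N → ¬ N ≤ scalars (Fin m ⊕ Fin m) F → N = M)
    (hns : ∃ U ≤ M, NormG M U ∧ ¬ U ≤ scalars (Fin m ⊕ Fin m) F ∧ U ≠ M) : SpClass m F H := by
  by_contra hH
  haveI : Nonempty (Fin m ⊕ Fin m) := ⟨Sum.inl ⟨0, hm⟩⟩
  have hMA := sp_absIrr_of_normal hm hI hH hM (hMH.trans hI) hMs
  have hirr := sp_irred hI hH
  have hI' := hI
  rw [spGL_eq] at hI'
  obtain ⟨d, t, e, P, c, G₁, hd, ht, hle, hc, hd1, hG⟩ :=
    exists_power_form refl_J hI' hMH hM hMA hperf hmin hns
  obtain ⟨ε, δ, hε, hδε, hδ⟩ := power_refl refl_J (by omega) hc hd1 hG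
  rw [RingHom.id_apply] at hδε
  simp only [RingHom.coe_id, Matrix.map_id] at hε hδ
  haveI : Nonempty (Fin d) := ⟨⟨0, by omega⟩⟩
  obtain ⟨i0, j0, hij⟩ : ∃ i j, G₁ i j ≠ 0 := by
    by_contra hcon
    push Not at hcon
    exact hd1 (by rw [Matrix.ext (N := 0) hcon, Matrix.det_zero])
  have hδ2 : δ * δ = 1 := by
    have h1 := congrFun (congrFun hδ i0) j0
    have h2 := congrFun (congrFun hδ j0) i0
    rw [Matrix.transpose_apply, Matrix.smul_apply, smul_eq_mul] at h1 h2
    rw [h1] at h2
    exact mul_right_cancel₀ hij (by linear_combination -h2)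
  have hε' : ε = -1 := by
    rw [Matrix.J_transpose] at hε
    obtain ⟨i, j, hij'⟩ : ∃ i j, Matrix.J (Fin m) F i j ≠ 0 := by
      by_contra hcon
      push Not at hcon
      exact (refl_J (F := F) (m := m)).ne_zero (Matrix.ext hcon)
    have := congrFun (congrFun hε i) j
    rw [Matrix.neg_apply, Matrix.smul_apply, smul_eq_mul] at this
    exact mul_right_cancel₀ hij' (by linear_combination -this)
  have hδt : δ ^ t = -1 := by
    rw [hε'] at hδε
    exact mul_left_cancel₀ hc (by linear_combination hδε)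
  by_cases hq : Odd (Fintype.card F)
  · have htwo := two_ne_zero_of_odd hq
    rcases mul_self_eq_one_iff.1 hδ2 with h | h
    · rw [h, one_pow] at hδt
      exact htwo (by linear_combination hδt)
    have htodd : Odd t := by
      rcases Nat.even_or_odd t with he | ho
      · exfalso
        rw [h, he.neg_one_pow] at hδt
        exact htwo (by linear_combination hδt)
      · exact ho
    have ht3 : 3 ≤ t := by obtain ⟨j, rfl⟩ := htodd; omega
    have hskew : G₁ᵀ = -G₁ := by rw [hδ, h, neg_smul, one_smul]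
    by_cases hex : Fintype.card F = 3 ∧ d = 2
    swap
    · refine hH (SpClass.power (k := d) (t := t) e P (f₁ := gform (RingHom.id F) G₁) hq htodd ht3 hex
        (bilin_symplectic hd1 hskew htwo) ?_ hle)
      exact powerFormStructure_of_gramAt (σ := RingHom.id F) (G := Matrix.J (Fin m) F) hc hG
    obtain ⟨hq3, rfl⟩ := hex
    exact hH (sp_of_quatPow hq3 hm (by omega) hirr hle hskew hG).toClass
  · haveI := charTwo_of_even hq
    have hδ1 : δ = 1 := by
      rcases mul_self_eq_one_iff.1 hδ2 with h | h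
      · exact h
      · rwa [CharTwo.neg_eq] at h
    rw [hδ1, one_smul] at hδ
    have helem : ∀ g ∈ H, ∃ (gs : Fin t → GL (Fin d) F) (π : Equiv.Perm (Fin t)),
        g = P * glReindex e.symm (pureGL gs * permGL π) * P⁻¹ ∧
        ∀ i, ∃ c' : F, c' ≠ 0 ∧ (gs i : Matrix (Fin d) (Fin d) F)ᵀ * G₁ * (gs i : Matrix (Fin d) (Fin d) F) = c' • G₁ := by
      intro g hg
      obtain ⟨gs, π, e1, h1⟩ := wreath_similitude (refl_J (F := F) (m := m)).det hG (hI' hg) (hle hg)
      simp only [RingHom.coe_id, Matrix.map_id] at h1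
      exact ⟨gs, π, e1, h1⟩
    have hz : ∀ i, G₁ i i = 0 := by
      intro i
      by_contra hi
      obtain ⟨E, hE0, hEd, hEs⟩ := exists_row hδ hi
      set E' : Matrix (Fin t → Fin d) (Fin t → Fin d) F := pure fun _ => E
      set X := cj P (rx e E')
      have hE'0 : E' ≠ 0 := by
        intro h0
        obtain ⟨a, b, hab⟩ : ∃ a b, E a b ≠ 0 := by
          by_contra hcon
          push Not at hcon
          exact hE0 (Matrix.ext hcon)
        have := congrFun (congrFun h0 fun _ => a) fun _ => b
        simp [E'] at this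
        exact hab this.1
      obtain ⟨w, hw0, hw⟩ := Matrix.exists_mulVec_eq_zero_iff.2 (hEd hd)
      have hX : ∃ v, v ≠ 0 ∧ X *ᵥ v = 0 := by
        refine Matrix.exists_mulVec_eq_zero_iff.2 ?_
        have hB : E' * pure (fun _ : Fin t => Matrix.vecMulVec w w) = 0 := by
          show pure _ * pure _ = 0
          rw [pure_mul]
          ext x y
          rw [pure_apply, Matrix.zero_apply]
          refine Finset.prod_eq_zero (Finset.mem_univ ⟨0, by omega⟩) ?_
          show (E * Matrix.vecMulVec w w) _ _ = 0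
          rw [Matrix.mul_vecMulVec, hw]
          simp [vecMulVec_apply]
        have hE'd : E'.det = 0 := by
          by_contra hne
          have := congrArg (E'⁻¹ * ·) hB
          simp only [← mul_assoc, Matrix.nonsing_inv_mul _ (Ne.isUnit hne), one_mul, mul_zero] at this
          obtain ⟨a, ha⟩ := Function.ne_iff.1 hw0
          have h2 := congrFun (congrFun this fun _ => a) fun _ => a
          simp [vecMulVec_apply] at h2
          exact ha h2.1
        show (cj P (Matrix.reindexAlgEquiv F F e.symm _)).det = 0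
        rw [cj, Matrix.det_mul, Matrix.det_mul, Matrix.det_reindexAlgEquiv, hE'd, mul_zero, zero_mul]
      refine not_irred_of_killed (S := {X}) ⟨X, rfl, fun h0 => hE'0 ?_⟩ ?_ ?_ hirr
      · apply (rx e).injective
        apply cj_injective P
        show X = _
        rw [h0, map_zero]
        simp [cj]
      · obtain ⟨v, hv0, hv⟩ := hX
        intro hb
        have : v ∈ killed ({X} : Set (Matrix (Fin m ⊕ Fin m) (Fin m ⊕ Fin m) F)) := fun s hs => by
          rw [Set.mem_singleton_iff.1 hs]; exact hv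
        rw [hb] at this
        exact hv0 this
      · rintro g hg s rfl
        obtain ⟨gs, π, rfl, hgs⟩ := helem g hg
        have hsi : ∀ j, ∃ s : F, E * (gs j : Matrix (Fin d) (Fin d) F) = s • E := fun j => by
          obtain ⟨c', -, h'⟩ := hgs j
          exact hEs _ c' h'
        choose s hs using hsi
        refine ⟨cj P (rx e ((∏ j, s j) • permMat π)), X, rfl, ?_⟩
        have hgc : ((P * glReindex e.symm (pureGL gs * permGL π) * P⁻¹ : GL (Fin m ⊕ Fin m) F) :
            Matrix (Fin m ⊕ Fin m) (Fin m ⊕ Fin m) F) =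
            cj P (rx e ((pureGL gs * permGL π : GL (Fin t → Fin d) F) : Matrix (Fin t → Fin d) (Fin t → Fin d) F)) :=
          (cj_coe _ _).symm.trans rfl
        rw [hgc, ← cj_mul, ← cj_mul, ← map_mul, ← map_mul, Units.val_mul, pureGL_coe, permGL_coe, ← mul_assoc]
        congr 2
        show pure _ * pure _ * _ = _
        rw [pure_mul, show ((fun _ : Fin t => E) * fun j => (gs j : Matrix (Fin d) (Fin d) F)) = fun j => s j • E from
          funext fun j => hs j, pure_smul, smul_mul_assoc, smul_mul_assoc]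
        congr 1
        have h1 := cj_permGL_pure (F := F) π (fun _ : Fin t => E)
        rw [cj, permGL_coe] at h1
        calc pure (fun _ : Fin t => E) * permMat π
            = permMat π * pure (fun _ : Fin t => E) *
                (((permGL π)⁻¹ : GL (Fin t → Fin d) F) : Matrix (Fin t → Fin d) (Fin t → Fin d) F) * permMat π := by
              rw [h1]; rfl
          _ = _ := by rw [mul_assoc, ← permGL_coe, gl_inv_mul, mul_one]
    let i1 : Fin t := ⟨0, by omega⟩
    let Ai : Fin t → Matrix (Fin d) (Fin d) F := Function.update (fun _ => G₁) i1 (upper G₁)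
    refine hH (sp_quad_of_matrix hq hI e P (T := c • pure Ai) ?_ fun g hg => ?_)
    · have hAT : (pure Ai)ᵀ = pure (Function.update (fun _ => G₁) i1 (upper G₁)ᵀ) := by
        rw [pure_transpose]
        congr 1
        funext j
        rcases eq_or_ne j i1 with rfl | hj
        · simp [Ai]
        · simp [Ai, Function.update_of_ne hj, hδ]
      rw [Matrix.transpose_smul, hAT, ← smul_add, pure_update_add, upper_add hδ hz, hG, Function.update_eq_self]
    · obtain ⟨gs, π, rfl, hgs⟩ := helem g hg
      refine ⟨pureGL gs * permGL π, rfl, fun x => ?_⟩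
      have hT0 : ∀ y, pure Ai y y = 0 := fun y => by
        obtain ⟨j, hj⟩ : ∃ j : Fin t, j ≠ i1 := by
          haveI : Nontrivial (Fin t) := Fin.nontrivial_iff_two_le.2 ht
          exact exists_ne i1
        refine Finset.prod_eq_zero (Finset.mem_univ j) ?_
        show Ai j (y j) (y j) = 0
        rw [show Ai j = G₁ from Function.update_of_ne hj _ _, hz]
      rw [Units.val_mul, pureGL_coe, permGL_coe, Matrix.transpose_mul, pure_transpose]
      simp only [mul_smul_comm, smul_mul_assoc, Matrix.smul_apply, hT0, smul_zero]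
      rw [mul_assoc ((permMat π : Matrix (Fin t → Fin d) (Fin t → Fin d) F)ᵀ), pure_mul, mul_assoc,
        ← mul_assoc (pure _), pure_mul, ← mul_assoc, permMat_congr_diag]
      obtain ⟨j, hj⟩ : ∃ j : Fin t, j ≠ i1 := by
        haveI : Nontrivial (Fin t) := Fin.nontrivial_iff_two_le.2 ht
        exact exists_ne i1
      rw [pure_apply, Finset.prod_eq_zero (Finset.mem_univ j), smul_zero]
      obtain ⟨c', -, h'⟩ := hgs j
      simp only [Pi.mul_apply]
      rw [show Ai j = G₁ from Function.update_of_ne hj _ _, h', Matrix.smul_apply, hz, smul_zero]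

theorem sp_residual (hm : 0 < m) (hI : H ≤ Cfsg.spGL m F) (hH : ¬ SpClass m F H) (hMH : M ≤ H) (hM : NormG H M)
    (hMs : ¬ M ≤ scalars (Fin m ⊕ Fin m) F) (hperf : ⁅M, M⁆ = M)
    (hsimple : ∀ U ≤ M, NormG M U → ¬ U ≤ scalars (Fin m ⊕ Fin m) F → U = M) : InSymplecticResidualClass H := by
  haveI : Nonempty (Fin m ⊕ Fin m) := ⟨Sum.inl ⟨0, hm⟩⟩
  have hMA := sp_absIrr_of_normal hm hI hH hM (hMH.trans hI) hMs
  have hMI : M ≤ iso (RingHom.id F) (Matrix.J (Fin m) F) := spGL_eq (F := F) (m := m) ▸ hMH.trans hI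
  refine ⟨M, residualCore_of_simple hMA hMH hM hMs hperf hsimple fun F₀ hF₀ hreal =>
    hH (SpClass.of_realisable hm hM hMA (hMH.trans hI) hF₀ hreal), ?_, ?_⟩
  · rintro ⟨Q, hQ, hfix⟩
    obtain ⟨G, hG⟩ := exists_gform (RingHom.id F) (QuadraticMap.polar Q) hQ.polar_bilinear.add_left
      hQ.polar_bilinear.smul_left hQ.polar_bilinear.add_right hQ.polar_bilinear.smul_right
    have hGinv : InvForm M (RingHom.id F) G := invForm_iff.2 (hG ▸ FixesQuadForm.polar hfix)
    have hG0 := ne_zero_of_nondegenerate (σ := RingHom.id F) (hG ▸ hQ.nondegenerate)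
    obtain ⟨a, ha⟩ := InvForm.unique hMA (invForm_of_le hMI) refl_J.ne_zero hGinv
    have ha0 : a ≠ 0 := fun h0 => hG0 (by rw [ha, h0, zero_smul])
    have hpol : ∀ u v, QuadraticMap.polar Q u v = a * gform (RingHom.id F) (Matrix.J (Fin m) F) u v := fun u v => by
      rw [hG, ha]; simp [gform, Matrix.smul_mulVec]
    have hQ2 : ∀ v, QuadraticMap.polar Q v v = 2 * Q v := fun v => by
      rw [QuadraticMap.polar, ← two_smul F v, hQ.smul]; ring
    by_cases hq : Odd (Fintype.card F)
    · have hQ0 : ∀ v, Q v = 0 := fun v => by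
        have h1 := hQ2 v
        rw [hpol, symp_self, mul_zero] at h1
        exact (mul_eq_zero.1 h1.symm).resolve_left (two_ne_zero_of_odd hq)
      obtain ⟨⟨x, hx⟩, -⟩ := hQ.nondegenerate (fun _ => 1) (fun h' => one_ne_zero (congrFun h' (Sum.inl ⟨0, hm⟩)))
      exact hx (by simp [QuadraticMap.polar, hQ0])
    · haveI := charTwo_of_even hq
      have hirrM := hMA.irred
      let Q' : (Fin m ⊕ Fin m → F) → F := fun v => a⁻¹ * Q v
      have hpol' : ∀ u v, QuadraticMap.polar Q' u v = gform (RingHom.id F) (Matrix.J (Fin m) F) u v := fun u v => by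
        have := hpol u v
        simp only [QuadraticMap.polar, Q'] at this ⊢
        field_simp
        linear_combination this
      refine hH (SpClass.quad (Q := Q') hq ⟨fun c v => ?_, ?_, ?_⟩ hpol' fun g hg => ⟨1, fun v => ?_⟩)
      · simp only [Q', hQ.smul]; ring
      · rw [show QuadraticMap.polar Q' = gform (RingHom.id F) (Matrix.J (Fin m) F) from
          funext fun u => funext fun v => hpol' u v]
        exact gform_bilinear _
      · rw [show QuadraticMap.polar Q' = gform (RingHom.id F) (Matrix.J (Fin m) F) from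
          funext fun u => funext fun v => hpol' u v]
        exact gform_nondegenerate refl_J.det
      rw [Units.val_one, one_mul]
      let D : (Fin m ⊕ Fin m → F) → F := fun v => Q' ((g : Matrix _ _ F) *ᵥ v) + Q' v
      have hg' : ∀ u w, gform (RingHom.id F) (Matrix.J (Fin m) F) ((g : Matrix _ _ F) *ᵥ u) ((g : Matrix _ _ F) *ᵥ w) =
          gform (RingHom.id F) (Matrix.J (Fin m) F) u w := mem_iso_iff.1 ((spGL_eq (F := F) (m := m) ▸ hI) hg)
      have hDadd : ∀ u w, D (u + w) = D u + D w := by
        intro u w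
        have h1 := hpol' u w
        have h2 := hpol' ((g : Matrix _ _ F) *ᵥ u) ((g : Matrix _ _ F) *ᵥ w)
        rw [hg', ← h1] at h2
        simp only [QuadraticMap.polar, ← mulVec_add] at h2
        simp only [D]
        linear_combination h2 + (Q' (u + w) - Q' u - Q' w) * (CharTwo.two_eq_zero (R := F))
      have hDsmul : ∀ (c : F) w, D (c • w) = c ^ 2 * D w := fun c w => by
        simp only [D, mulVec_smul, Q', hQ.smul]; ring
      let K : Submodule F (Fin m ⊕ Fin m → F) :=
        { carrier := {w | D w = 0}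
          add_mem' := fun {u w} hu hw => by show D _ = 0; rw [hDadd, hu, hw, add_zero]
          zero_mem' := by
            show D 0 = 0
            have := hDsmul 0 0
            rw [zero_smul] at this
            simpa using this
          smul_mem' := fun c w hw => by show D _ = 0; rw [hDsmul, show D w = 0 from hw, mul_zero] }
      have hDM : ∀ x ∈ M, ∀ w, D ((x : Matrix _ _ F) *ᵥ w) = D w := by
        intro x hx w
        have e2 : Q ((x : Matrix _ _ F) *ᵥ w) = Q w := hfix _ (mem_matrixSet hx) w
        have e1 := hfix _ (mem_matrixSet (hM g hg x hx)) ((g : Matrix (Fin m ⊕ Fin m) (Fin m ⊕ Fin m) F) *ᵥ w)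
        rw [mulVec_mulVec, ← Units.val_mul, inv_mul_cancel_right, Units.val_mul, ← mulVec_mulVec] at e1
        simp only [D, Q', e1, e2]
      rcases hirrM.eq_bot_or_top K (fun x hx w hw => show D _ = 0 by rw [hDM x hx]; exact hw) with h | h
      · exfalso
        apply hMs
        intro x hx
        refine mem_scalars_of_eq (c := 1) ?_
        rw [one_smul]
        refine Matrix.toLin'.injective (LinearMap.ext fun w => ?_)
        have hmem : (x : Matrix _ _ F) *ᵥ w + w ∈ K := by
          show D _ = 0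
          rw [hDadd, hDM x hx, CharTwo.add_self_eq_zero]
        rw [h, Submodule.mem_bot] at hmem
        rw [Matrix.toLin'_apply, Matrix.toLin'_one, LinearMap.id_apply]
        funext l
        exact CharTwo.add_eq_zero.1 (congrFun hmem l)
      · have hv : v ∈ K := h ▸ Submodule.mem_top
        exact CharTwo.add_eq_zero.1 hv
  · rintro ⟨σ, f, hf, hfix⟩
    obtain ⟨G, hG⟩ := exists_gform σ.toRingHom f hf.add_left hf.smul_left
      (fun v x y => by rw [hf.herm, hf.add_left, map_add, ← hf.herm, ← hf.herm])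
      (fun c v x => by rw [hf.herm, hf.smul_left, map_mul, ← hf.herm]; rfl)
    have hGinv : InvForm M σ.toRingHom G := invForm_iff.2 (hG ▸ hfix)
    obtain ⟨F₀, hne, hreal⟩ := realisable_of_twisted_form refl_J hMA hMI hGinv
      (hGinv.det_ne_zero hMA.irred (ne_zero_of_nondegenerate (σ := σ.toRingHom) (hG ▸ hf.nondegenerate))) σ
      (fun x => rfl) hf.ne_refl
    exact hH (SpClass.of_realisable hm hM hMA (hMH.trans hI) hne hreal)

/-- Aschbacher's theorem for the symplectic groups. -/
theorem symplectic_structure (hm : 0 < m) (hI : H ≤ Cfsg.spGL m F) :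
    SpClass m F H ∨ InSymplecticResidualClass H := by
  by_cases hH : SpClass m F H
  · exact Or.inl hH
  haveI : Nonempty (Fin m ⊕ Fin m) := ⟨Sum.inl ⟨0, hm⟩⟩
  have hirr := sp_irred hI hH
  have hHs : ¬ H ≤ scalars (Fin m ⊕ Fin m) F := by
    intro hle
    let v : Fin m ⊕ Fin m → F := Pi.single (Sum.inl ⟨0, hm⟩) 1
    rcases hirr.eq_bot_or_top (Submodule.span F {v}) (fun g hg w hw => by
      obtain ⟨c, hc⟩ := mem_scalars.1 (hle hg)
      rw [hc, smul_mulVec, one_mulVec]
      exact Submodule.smul_mem _ _ hw) with h | h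
    · rw [Submodule.span_singleton_eq_bot] at h
      exact one_ne_zero (Pi.single_eq_zero_iff.1 h)
    · have h1 := finrank_span_singleton (K := F) (v := v) (fun h => one_ne_zero (Pi.single_eq_zero_iff.1 h))
      rw [h, finrank_top, Module.finrank_fintype_fun_eq_card, card_SI] at h1
      omega
  obtain ⟨M, ⟨hMH, hMn, hMs⟩, hMmin⟩ := Set.Finite.exists_minimal
    (s := {N : Subgroup (GL (Fin m ⊕ Fin m) F) | N ≤ H ∧ NormG H N ∧ ¬ N ≤ scalars (Fin m ⊕ Fin m) F}) (Set.toFinite _)
    ⟨H, le_rfl, fun g hg x hx => H.mul_mem (H.mul_mem hg hx) (H.inv_mem hg), hHs⟩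
  have hmin : ∀ N ≤ M, NormG H N → ¬ N ≤ scalars (Fin m ⊕ Fin m) F → N = M := fun N hN hNn hNs =>
    le_antisymm hN (hMmin ⟨hN.trans hMH, hNn, hNs⟩ hN)
  by_cases hder : ⁅M, M⁆ ≤ scalars (Fin m ⊕ Fin m) F
  · left
    exact sp_of_symType hm hI hMH hMn hMs hmin fun a ha b hb => hder (Subgroup.commutator_mem_commutator ha hb)
  have hperf : ⁅M, M⁆ = M := hmin _ (Subgroup.commutator_le.2 fun a ha b hb => by
      rw [commutatorElement_def]
      exact M.mul_mem (M.mul_mem (M.mul_mem ha hb) (M.inv_mem ha)) (M.inv_mem hb)) hMn.commutator hder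
  by_cases hsimple : ∀ U ≤ M, NormG M U → ¬ U ≤ scalars (Fin m ⊕ Fin m) F → U = M
  · exact Or.inr (sp_residual hm hI hH hMH hMn hMs hperf hsimple)
  · push Not at hsimple
    exact Or.inl (sp_of_not_simple hm hI hMH hMn hMs hperf hmin hsimple)

end CfsgLib.Perm.Asch
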