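import Cfsg.Agent.Lib.Perm.Asch.Forms.SpLemmas
import Cfsg.Agent.Lib.Perm.Asch.Forms.SpQuat

/-!
# `Sp₄(3)`: the pair stabiliser and the unitary field normaliser
-/

set_option autoImplicit false
set_option linter.all false

namespace CfsgLib.Perm.Asch

open scoped Classical Matrix
open Matrix Cfsg.Geo

variable {F : Type*} [Field F] [Fintype F]

theorem three_eq_zero (hq : Fintype.card F = 3) : (3 : F) = 0 := by
  have := FiniteField.cast_card_eq_zero F
  rw [hq] at this
  exact_mod_cast this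

/-- `F[k]` for `k² = -1` -/
def quadAlg {ι : Type} [Fintype ι] [DecidableEq ι] (k : Matrix ι ι F) (hk : k * k = -1) :
    Subalgebra F (Matrix ι ι F) where
  carrier := {x | ∃ a b : F, x = a • 1 + b • k}
  mul_mem' := by
    rintro _ _ ⟨a, b, rfl⟩ ⟨c, d, rfl⟩
    refine ⟨a * c - b * d, a * d + b * c, ?_⟩
    simp only [add_mul, mul_add, smul_mul_assoc, mul_smul_comm, one_mul, mul_one, hk]
    module
  add_mem' := by
    rintro _ _ ⟨a, b, rfl⟩ ⟨c, d, rfl⟩
    exact ⟨a + c, b + d, by simp only [add_smul]; abel⟩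
  algebraMap_mem' c := ⟨c, 0, by simp [Algebra.algebraMap_eq_smul_one]⟩

theorem z3_norm : ∀ a b : ZMod 3, a * a + b * b = 0 → a = 0 ∧ b = 0 := by decide

theorem norm_three (hq : Fintype.card F = 3) {a b : F} (h : a * a + b * b = 0) : a = 0 ∧ b = 0 := by
  let φ : ZMod 3 ≃+* F := ZMod.ringEquivOfPrime F Nat.prime_three hq
  obtain ⟨x, rfl⟩ := φ.surjective a
  obtain ⟨y, rfl⟩ := φ.surjective b
  obtain ⟨h1, h2⟩ := z3_norm x y (φ.injective (by simpa using h))
  simp [h1, h2]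

theorem quadAlg_field {ι : Type} [Fintype ι] [DecidableEq ι] [Nonempty ι] (hq : Fintype.card F = 3)
    {k : Matrix ι ι F} (hk : k * k = -1) : IsFieldSubalgebra 2 (quadAlg k hk) := by
  have hns : ∀ a b : F, a • (1 : Matrix ι ι F) + b • k = 0 → a = 0 ∧ b = 0 := by
    intro a b h
    have h1 := congrArg (· * (a • (1 : Matrix ι ι F) - b • k)) h
    simp only [zero_mul, add_mul, mul_sub, smul_mul_assoc, mul_smul_comm, one_mul, mul_one, hk] at h1
    refine norm_three hq ?_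
    have h2 : (a * a + b * b) • (1 : Matrix ι ι F) = 0 := by
      have h3 : a • (0 : Matrix ι ι F) - b • 0 = 0 := by simp
      rw [← h3, ← h1]; module
    exact (smul_eq_zero.1 h2).resolve_right one_ne_zero
  refine ⟨?_, ?_, ?_⟩
  · rintro _ ⟨a, b, rfl⟩ _ ⟨c, d, rfl⟩
    simp only [add_mul, mul_add, smul_mul_assoc, mul_smul_comm, one_mul, mul_one]
    module
  · rintro _ ⟨a, b, rfl⟩ hne
    have hN : a * a + b * b ≠ 0 := fun h => by
      obtain ⟨rfl, rfl⟩ := norm_three hq h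
      simp at hne
    refine ⟨(a * a + b * b)⁻¹ • (a • 1 - b • k),
      (quadAlg k hk).smul_mem ⟨a, -b, by rw [neg_smul, ← sub_eq_add_neg]⟩ _, ?_⟩
    rw [mul_smul_comm]
    have : (a • (1 : Matrix ι ι F) + b • k) * (a • 1 - b • k) = (a * a + b * b) • 1 := by
      simp only [add_mul, mul_sub, smul_mul_assoc, mul_smul_comm, one_mul, mul_one, hk]
      module
    rw [this, smul_smul, inv_mul_cancel₀ hN, one_smul]
  · let φ : (F × F) →ₗ[F] Matrix ι ι F :=
      { toFun := fun p => p.1 • 1 + p.2 • k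
        map_add' := fun p q => by simp only [Prod.fst_add, Prod.snd_add, add_smul]; abel
        map_smul' := fun c p => by simp [smul_smul, smul_add] }
    have hφ : Function.Injective φ := by
      rw [injective_iff_map_eq_zero]
      intro p hp
      obtain ⟨h1, h2⟩ := hns p.1 p.2 hp
      exact Prod.ext h1 h2
    have hr : LinearMap.range φ = Subalgebra.toSubmodule (quadAlg k hk) := by
      ext x
      exact ⟨fun ⟨p, hp⟩ => ⟨p.1, p.2, hp.symm⟩, fun ⟨a, b, h⟩ => ⟨(a, b), h.symm⟩⟩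
    rw [← Subalgebra.finrank_toSubmodule, ← hr, LinearMap.finrank_range_of_inj hφ]
    simp

theorem quadAlg_normalizer {ι : Type} [Fintype ι] [DecidableEq ι] {k : Matrix ι ι F} (hk : k * k = -1)
    {H : Subgroup (GL ι F)} (h : ∀ g ∈ H, cj g k = k ∨ cj g k = -k) : H ≤ subalgebraNormalizer (quadAlg k hk) := by
  have key : ∀ g ∈ H, ∀ x ∈ quadAlg k hk, cj g x ∈ quadAlg k hk := by
    rintro g hg _ ⟨a, b, rfl⟩
    rw [cj_add, cj_smul, cj_smul, cj_one]
    rcases h g hg with e | e <;> rw [e]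
    · exact ⟨a, b, rfl⟩
    · exact ⟨a, -b, by rw [smul_neg, neg_smul]⟩
  intro g hg x
  refine ⟨key g hg x, fun hx => ?_⟩
  have := key g⁻¹ (H.inv_mem hg) _ hx
  rwa [show cj g⁻¹ ((g : Matrix ι ι F) * x * ((g⁻¹ : GL ι F) : Matrix ι ι F)) = x from cj_inv_cj g x] at this

theorem fromBlocks_J (A B C D : Matrix (Fin 2) (Fin 2) F) :
    (fromBlocks A B C D)ᵀ * Matrix.J (Fin 2) F * fromBlocks A B C D =
      fromBlocks (Cᵀ * A - Aᵀ * C) (Cᵀ * B - Aᵀ * D) (Dᵀ * A - Bᵀ * C) (Dᵀ * B - Bᵀ * D) := by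
  simp only [Matrix.J, fromBlocks_transpose, fromBlocks_multiply, mul_zero, zero_add, add_zero, mul_one, mul_neg,
    neg_mul]
  congr 1 <;> abel

/-- the involutions and the swap -/
def k3 (F : Type*) [Field F] : Matrix (Fin 2 ⊕ Fin 2) (Fin 2 ⊕ Fin 2) F := fromBlocks 0 (J2 F) (J2 F) 0

theorem J2_sq : J2 F * J2 F = -1 := by
  ext i j; fin_cases i <;> fin_cases j <;> simp [J2]

theorem k3_sq : k3 F * k3 F = -1 := by
  rw [k3, fromBlocks_multiply]
  simp only [mul_zero, zero_mul, add_zero, zero_add, J2_sq]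
  rw [← fromBlocks_one, fromBlocks_neg, neg_zero]

/-- symplectic elements preserving or swapping the two coordinate spaces normalise `F[k3]` -/
theorem k3_normal (hq : Fintype.card F = 3) {g : GL (Fin 2 ⊕ Fin 2) F}
    (hg : (g : Matrix (Fin 2 ⊕ Fin 2) (Fin 2 ⊕ Fin 2) F)ᵀ * Matrix.J (Fin 2) F * (g : Matrix (Fin 2 ⊕ Fin 2) (Fin 2 ⊕ Fin 2) F) = Matrix.J (Fin 2) F)
    (hb : (∀ i j, (g : Matrix (Fin 2 ⊕ Fin 2) (Fin 2 ⊕ Fin 2) F) (Sum.inr i) (Sum.inl j) = 0 ∧ (g : Matrix (Fin 2 ⊕ Fin 2) (Fin 2 ⊕ Fin 2) F) (Sum.inl i) (Sum.inr j) = 0) ∨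
      (∀ i j, (g : Matrix (Fin 2 ⊕ Fin 2) (Fin 2 ⊕ Fin 2) F) (Sum.inl i) (Sum.inl j) = 0 ∧ (g : Matrix (Fin 2 ⊕ Fin 2) (Fin 2 ⊕ Fin 2) F) (Sum.inr i) (Sum.inr j) = 0)) :
    cj g (k3 F) = k3 F ∨ cj g (k3 F) = - k3 F := by
  suffices h : ∃ s : F, s * s = 1 ∧ (g : Matrix (Fin 2 ⊕ Fin 2) (Fin 2 ⊕ Fin 2) F) * k3 F = s • (k3 F * (g : Matrix (Fin 2 ⊕ Fin 2) (Fin 2 ⊕ Fin 2) F)) by
    obtain ⟨s, hs, h⟩ := h
    have e : cj g (k3 F) = s • k3 F := by
      rw [cj, h, smul_mul_assoc, mul_assoc, gl_mul_inv, mul_one]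
    rcases mul_self_eq_one_iff.1 hs with rfl | rfl
    · left; rw [e, one_smul]
    · right; rw [e, neg_one_smul]
  set X := (g : Matrix (Fin 2 ⊕ Fin 2) (Fin 2 ⊕ Fin 2) F) with hX
  have hsplit := (fromBlocks_toBlocks X).symm
  set A := X.toBlocks₁₁
  set B := X.toBlocks₁₂
  set C := X.toBlocks₂₁
  set D := X.toBlocks₂₂
  rcases hb with hb | hb
  · have hB : B = 0 := by ext i j; exact (hb i j).2
    have hC : C = 0 := by ext i j; exact (hb i j).1
    rw [hB, hC] at hsplit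
    rw [hsplit, fromBlocks_J] at hg
    simp only [mul_zero, zero_mul, Matrix.transpose_zero, sub_zero, zero_sub, Matrix.J] at hg
    obtain ⟨-, h12, -, -⟩ := fromBlocks_inj.1 hg
    have hAD : Aᵀ * D = 1 := neg_injective h12
    have hDA : D * Aᵀ = 1 := mul_eq_one_comm.1 hAD
    have hdet : A.det * A.det = 1 := sq_three hq fun h0 => by
      have := congrArg Matrix.det hAD
      rw [Matrix.det_mul, Matrix.det_transpose, h0, zero_mul, Matrix.det_one] at this
      exact zero_ne_one this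
    have h1 : J2 F * A = A.det • (D * J2 F) := by
      calc J2 F * A = (D * Aᵀ) * (J2 F * A) := by rw [hDA, one_mul]
        _ = D * (Aᵀ * J2 F * A) := by simp only [mul_assoc]
        _ = _ := by rw [J2_congr, mul_smul_comm]
    have h2 : A * J2 F = A.det • (J2 F * D) := by
      have h := J2_congr Aᵀ
      rw [Matrix.transpose_transpose, Matrix.det_transpose] at h
      calc A * J2 F = A * J2 F * (Aᵀ * D) := by rw [hAD, mul_one]
        _ = (A * J2 F * Aᵀ) * D := by simp only [mul_assoc]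
        _ = _ := by rw [h, smul_mul_assoc]
    refine ⟨A.det, hdet, ?_⟩
    rw [hsplit, k3, fromBlocks_multiply, fromBlocks_multiply, fromBlocks_smul]
    simp only [mul_zero, zero_mul, zero_add, add_zero, smul_zero]
    rw [h2, h1, smul_smul, hdet, one_smul]
  · have hA : A = 0 := by ext i j; exact (hb i j).1
    have hD : D = 0 := by ext i j; exact (hb i j).2
    rw [hA, hD] at hsplit
    rw [hsplit, fromBlocks_J] at hg
    simp only [mul_zero, zero_mul, Matrix.transpose_zero, sub_zero, zero_sub, Matrix.J] at hg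
    obtain ⟨-, h12, -, -⟩ := fromBlocks_inj.1 hg
    have hCB : (-Cᵀ) * B = 1 := by rw [neg_mul, h12, neg_neg]
    have hBC : B * (-Cᵀ) = 1 := mul_eq_one_comm.1 hCB
    have hBC' : Bᵀ * (-C) = 1 := by
      have := congrArg Matrix.transpose hCB
      rwa [Matrix.transpose_mul, Matrix.transpose_one, Matrix.transpose_neg, Matrix.transpose_transpose] at this
    have hBC'' : (-C) * Bᵀ = 1 := mul_eq_one_comm.1 hBC'
    have hdet : B.det * B.det = 1 := sq_three hq fun h0 => by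
      have := congrArg Matrix.det hBC'
      rw [Matrix.det_mul, Matrix.det_transpose, h0, zero_mul, Matrix.det_one] at this
      exact zero_ne_one this
    have h1 : J2 F * B = B.det • ((-C) * J2 F) := by
      calc J2 F * B = ((-C) * Bᵀ) * (J2 F * B) := by rw [hBC'', one_mul]
        _ = (-C) * (Bᵀ * J2 F * B) := by simp only [mul_assoc]
        _ = _ := by rw [J2_congr, mul_smul_comm]
    have h2 : B * J2 F = B.det • (J2 F * (-C)) := by
      have h := J2_congr Bᵀ
      rw [Matrix.transpose_transpose, Matrix.det_transpose] at h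
      calc B * J2 F = B * J2 F * (Bᵀ * (-C)) := by rw [hBC', mul_one]
        _ = (B * J2 F * Bᵀ) * (-C) := by simp only [mul_assoc]
        _ = _ := by rw [h, smul_mul_assoc]
    refine ⟨-B.det, by rw [neg_mul_neg, hdet], ?_⟩
    rw [hsplit, k3, fromBlocks_multiply, fromBlocks_multiply, fromBlocks_smul]
    simp only [mul_zero, zero_mul, zero_add, add_zero, smul_zero]
    rw [h2, h1]
    simp only [neg_mul, mul_neg, smul_neg, neg_smul, neg_neg, smul_smul, hdet, one_smul]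

theorem iso_of_gram {m : ℕ} {P : GL (Fin m ⊕ Fin m) F}
    (h : (P : Matrix (Fin m ⊕ Fin m) (Fin m ⊕ Fin m) F)ᵀ * Matrix.J (Fin m) F * (P : Matrix (Fin m ⊕ Fin m) (Fin m ⊕ Fin m) F) = Matrix.J (Fin m) F) :
    P ∈ iso (RingHom.id F) (Matrix.J (Fin m) F) := by
  rw [mem_iso, RingHom.coe_id, Matrix.map_id]; exact h

theorem gram_of_iso {m : ℕ} {P : GL (Fin m ⊕ Fin m) F} (h : P ∈ iso (RingHom.id F) (Matrix.J (Fin m) F)) :
    (P : Matrix (Fin m ⊕ Fin m) (Fin m ⊕ Fin m) F)ᵀ * Matrix.J (Fin m) F * (P : Matrix (Fin m ⊕ Fin m) (Fin m ⊕ Fin m) F) = Matrix.J (Fin m) F := by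
  rwa [mem_iso, RingHom.coe_id, Matrix.map_id] at h

theorem gform_mulVec_single (X : Matrix (Fin 2 ⊕ Fin 2) (Fin 2 ⊕ Fin 2) F) (a b : Fin 2 ⊕ Fin 2) :
    (Xᵀ * Matrix.J (Fin 2) F * X) a b =
      gform (RingHom.id F) (Matrix.J (Fin 2) F) (fun i => X i a) (fun i => X i b) := by
  simp only [gform, Matrix.mul_apply, Matrix.transpose_apply, dotProduct, Matrix.mulVec, RingHom.coe_id,
    Function.comp_apply, id_eq, Finset.sum_mul, Finset.mul_sum]
  rw [Finset.sum_comm]
  exact Finset.sum_congr rfl fun _ _ => Finset.sum_congr rfl fun _ _ => by ring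

/-- over three elements the stabiliser of a pair normalises an extension field -/
theorem sp4_pair_three (hq : Fintype.card F = 3) {H : Subgroup (GL (Fin 2 ⊕ Fin 2) F)} (hI : H ≤ Cfsg.spGL 2 F)
    {D : Fin 2 → Submodule F (Fin 2 ⊕ Fin 2 → F)} (hD : IsMDecomposition 2 D)
    (hs : ∀ i, IsTotallySingularFor (Cfsg.sympForm 2 F) (D i)) (hle : H ≤ decompositionStabilizer D) :
    ∃ K : Subalgebra F (Matrix (Fin 2 ⊕ Fin 2) (Fin 2 ⊕ Fin 2) F), IsFieldSubalgebra 2 K ∧
      IsSelfAdjointFor (Cfsg.sympForm 2 F) K ∧ (∀ k ∈ K, ∀ v, Cfsg.sympForm 2 F (k *ᵥ v) v = 0) ∧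
      H ≤ subalgebraNormalizer K := by
  have htwo : (2 : F) ≠ 0 := two_ne_zero_of_odd (by rw [hq]; decide)
  rw [spGL_eq] at hI
  rw [sympForm_eq] at hs ⊢
  set G := Matrix.J (Fin 2) F
  set f := gform (RingHom.id F) G with hf
  have hb : IsBilinearForm f := gform_bilinear G
  let b0 := Module.finBasisOfFinrankEq F (D 0) (hD.finrank_eq 0)
  have hsup : D 0 ⊔ D 1 = ⊤ := by
    rw [eq_top_iff, ← hD.iSup_eq_top]
    refine iSup_le fun i => ?_
    fin_cases i
    · exact le_sup_left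
    · exact le_sup_right
  let ψ : D 1 →ₗ[F] (Fin 2 → F) :=
    { toFun := fun x i => f (b0 i) x
      map_add' := fun x y => funext fun i => hb.add_right _ _ _
      map_smul' := fun c x => funext fun i => hb.smul_right _ _ _ }
  have hψ : Function.Injective ψ := by
    rw [injective_iff_map_eq_zero]
    rintro ⟨x, hx⟩ h
    refine Subtype.ext (refl_J.eq_zero_of_forall_left fun u => ?_)
    obtain ⟨a, ha, c, hc, rfl⟩ := Submodule.mem_sup.1 (hsup ▸ Submodule.mem_top (x := u))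
    show f (a + c) x = 0
    rw [hb.add_left, hs 1 c hc x hx, add_zero]
    have e : a = ∑ i, b0.repr ⟨a, ha⟩ i • (b0 i : Fin 2 ⊕ Fin 2 → F) := by
      have := congrArg Subtype.val (b0.sum_repr ⟨a, ha⟩)
      rw [Submodule.coe_sum] at this
      exact this.symm
    rw [e, bilin_sum_left hb]
    refine Finset.sum_eq_zero fun i _ => ?_
    rw [hb.smul_left, show f (b0 i : Fin 2 ⊕ Fin 2 → F) x = 0 from congrFun h i, mul_zero]
  have hψs : Function.Surjective ψ :=
    (LinearMap.injective_iff_surjective_of_finrank_eq_finrank (by rw [hD.finrank_eq, Module.finrank_fin_fun])).1 hψ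
  choose c hc using fun j : Fin 2 => hψs (-(Pi.single j 1))
  let col : Fin 2 ⊕ Fin 2 → (Fin 2 ⊕ Fin 2 → F) := Sum.elim (fun i => (b0 i : Fin 2 ⊕ Fin 2 → F)) fun i => (c i : Fin 2 ⊕ Fin 2 → F)
  let PM : Matrix (Fin 2 ⊕ Fin 2) (Fin 2 ⊕ Fin 2) F := Matrix.of fun i j => col j i
  have hbc : ∀ i j, f (b0 i) (c j) = -(if i = j then (1 : F) else 0) := fun i j => by
    have := congrFun (hc j) i
    simp [Pi.single_apply] at this
    exact this
  have hPM : PMᵀ * G * PM = G := by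
    ext a b
    rw [gform_mulVec_single]
    show f (col a) (col b) = _
    cases a with
    | inl i => cases b with
      | inl j =>
        show f (b0 i : Fin 2 ⊕ Fin 2 → F) (b0 j) = _
        rw [hs 0 _ (b0 i).2 _ (b0 j).2]; simp [G, Matrix.J]
      | inr j =>
        show f (b0 i : Fin 2 ⊕ Fin 2 → F) (c j) = _
        rw [hbc]; simp [G, Matrix.J, Matrix.one_apply]
    | inr i => cases b with
      | inl j =>
        show f (c i : Fin 2 ⊕ Fin 2 → F) (b0 j) = _
        rw [show f (c i : Fin 2 ⊕ Fin 2 → F) (b0 j) = -f (b0 j : Fin 2 ⊕ Fin 2 → F) (c i) from symp_skew _ _, hbc]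
        simp [G, Matrix.J, Matrix.one_apply, eq_comm]
      | inr j =>
        show f (c i : Fin 2 ⊕ Fin 2 → F) (c j) = _
        rw [hs 1 _ (c i).2 _ (c j).2]; simp [G, Matrix.J]
  let P : GL (Fin 2 ⊕ Fin 2) F := Matrix.GeneralLinearGroup.mkOfDetNeZero PM (fun h0 => by
    have := congrArg Matrix.det hPM
    rw [Matrix.det_mul, h0, mul_zero] at this
    exact refl_J.det this.symm)
  have hP : P ∈ iso (RingHom.id F) G := iso_of_gram hPM
  -- coordinates in the members
  have hcol : ∀ a, PM *ᵥ Pi.single a 1 = col a := fun a => by funext i; simp [PM]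
  have hPi : ∀ x, ((P⁻¹ : GL (Fin 2 ⊕ Fin 2) F) : Matrix (Fin 2 ⊕ Fin 2) (Fin 2 ⊕ Fin 2) F) *ᵥ (PM *ᵥ x) = x := fun x => by
    rw [Matrix.mulVec_mulVec, show PM = (P : Matrix (Fin 2 ⊕ Fin 2) (Fin 2 ⊕ Fin 2) F) from rfl, gl_inv_mul, Matrix.one_mulVec]
  have hspan1 : Submodule.span F (Set.range fun i => (c i : D 1)) = ⊤ := by
    refine LinearIndependent.span_eq_top_of_card_eq_finrank ?_ (by simp [hD.finrank_eq])
    rw [Fintype.linearIndependent_iff]
    intro g hg i
    have h1 := congrArg (fun y => ψ y i) hg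
    simp only [map_sum, map_smul, hc, map_zero] at h1
    simpa [Finset.sum_apply, Pi.single_apply] using h1
  have hcoord : ∀ (x : Fin 2 ⊕ Fin 2 → F),
      (x ∈ D 0 → ∀ j, (((P⁻¹ : GL (Fin 2 ⊕ Fin 2) F) : Matrix (Fin 2 ⊕ Fin 2) (Fin 2 ⊕ Fin 2) F) *ᵥ x) (Sum.inr j) = 0) ∧
      (x ∈ D 1 → ∀ j, (((P⁻¹ : GL (Fin 2 ⊕ Fin 2) F) : Matrix (Fin 2 ⊕ Fin 2) (Fin 2 ⊕ Fin 2) F) *ᵥ x) (Sum.inl j) = 0) := by
    intro x
    constructor <;> intro hx j
    · have e : x = PM *ᵥ ∑ i, b0.repr ⟨x, hx⟩ i • Pi.single (Sum.inl i) 1 := by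
        have := congrArg Subtype.val (b0.sum_repr ⟨x, hx⟩)
        rw [Submodule.coe_sum] at this
        rw [Matrix.mulVec_sum]
        simp only [Matrix.mulVec_smul, hcol]
        exact this.symm
      rw [e, hPi]
      simp
    · obtain ⟨g, hg⟩ := (Submodule.mem_span_range_iff_exists_fun F).1 (hspan1 ▸ Submodule.mem_top (x := (⟨x, hx⟩ : D 1)))
      have e : x = PM *ᵥ ∑ i, g i • Pi.single (Sum.inr i) 1 := by
        have := congrArg Subtype.val hg
        rw [Submodule.coe_sum] at this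
        rw [Matrix.mulVec_sum]
        simp only [Matrix.mulVec_smul, hcol]
        exact this.symm
      rw [e, hPi]
      simp
  have hk := quadAlg_field (k := cj P (k3 F)) hq (by rw [← cj_mul, k3_sq]; simp [cj])
  refine ⟨quadAlg (cj P (k3 F)) _, hk, ?_, ?_, quadAlg_normalizer _ fun g hg => ?_⟩
  rotate_right
  · obtain ⟨π, hπ⟩ := hle hg
    have hg' : P⁻¹ * g * P ∈ iso (RingHom.id F) G := mul_mem (mul_mem (inv_mem hP) (hI hg)) hP
    have hval : ∀ r s, ((P⁻¹ * g * P : GL (Fin 2 ⊕ Fin 2) F) : Matrix (Fin 2 ⊕ Fin 2) (Fin 2 ⊕ Fin 2) F) r s =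
        (((P⁻¹ : GL (Fin 2 ⊕ Fin 2) F) : Matrix (Fin 2 ⊕ Fin 2) (Fin 2 ⊕ Fin 2) F) *ᵥ ((g : Matrix (Fin 2 ⊕ Fin 2) (Fin 2 ⊕ Fin 2) F) *ᵥ col s)) r := by
      intro r s
      rw [← hcol, Matrix.mulVec_mulVec, Matrix.mulVec_mulVec, Matrix.mulVec_single_one,
        Matrix.col_apply, Units.val_mul, Units.val_mul]
      first | rfl | (rw [mul_assoc]; rfl)
    have hl : ∀ j, (g : Matrix (Fin 2 ⊕ Fin 2) (Fin 2 ⊕ Fin 2) F) *ᵥ col (Sum.inl j) ∈ D (π 0) := fun j =>
      (hπ 0).le ⟨_, (b0 j).2, rfl⟩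
    have hr : ∀ j, (g : Matrix (Fin 2 ⊕ Fin 2) (Fin 2 ⊕ Fin 2) F) *ᵥ col (Sum.inr j) ∈ D (π 1) := fun j =>
      (hπ 1).le ⟨_, (c j).2, rfl⟩
    have hperm : ∀ π : Equiv.Perm (Fin 2), (π 0 = 0 ∧ π 1 = 1) ∨ (π 0 = 1 ∧ π 1 = 0) := by decide
    have h : cj (P⁻¹ * g * P) (k3 F) = k3 F ∨ cj (P⁻¹ * g * P) (k3 F) = -k3 F := by
      refine k3_normal hq (gram_of_iso hg') ?_
      rcases hperm π with ⟨h0, h1⟩ | ⟨h0, h1⟩
      · refine Or.inl fun i j => ⟨?_, ?_⟩
        · rw [hval]; exact (hcoord _).1 (h0 ▸ hl j) i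
        · rw [hval]; exact (hcoord _).2 (h1 ▸ hr j) i
      · refine Or.inr fun i j => ⟨?_, ?_⟩
        · rw [hval]; exact (hcoord _).2 (h0 ▸ hl j) i
        · rw [hval]; exact (hcoord _).1 (h1 ▸ hr j) i
    have e : cj g (cj P (k3 F)) = cj P (cj (P⁻¹ * g * P) (k3 F)) := by
      rw [cj_cj, cj_cj]; group
    rw [e]
    rcases h with h | h <;> rw [h]
    · exact Or.inl rfl
    · exact Or.inr (by simp [cj])
  all_goals
    have hadj : ∀ x ∈ quadAlg (cj P (k3 F)) (by rw [← cj_mul, k3_sq]; simp [cj]), adj (RingHom.id F) G x = x := by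
      rintro _ ⟨a, b, rfl⟩
      have h0 : adj (RingHom.id F) G (k3 F) = k3 F := by
        refine refl_J.adj_eq ?_
        rw [RingHom.coe_id, Matrix.map_id]
        have hJT : (J2 F)ᵀ = -J2 F := by ext i j; fin_cases i <;> fin_cases j <;> simp [J2]
        simp only [k3, G, Matrix.J, fromBlocks_transpose, Matrix.transpose_zero, hJT, fromBlocks_multiply,
          mul_zero, zero_mul, add_zero, zero_add, mul_one, one_mul, mul_neg, neg_mul, neg_neg, neg_zero]
      rw [refl_J.adj_add, refl_J.adj_smul, refl_J.adj_smul, refl_J.adj_one, refl_J.adj_cj hP, h0]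
      rfl
  · intro x hx u v
    rw [hf, refl_J.adj_spec, hadj x hx]
  · intro x hx v
    have h1 := refl_J.adj_spec (σ := RingHom.id F) (G := G) x v v
    rw [hadj x hx, symp_skew v] at h1
    exact (mul_eq_zero.1 (show (2 : F) * f (x *ᵥ v) v = 0 by linear_combination h1)).resolve_left htwo

/-! ### the five involutions -/

/-- the self-adjoint trace zero matrices -/
def mk4 (x y z b c : F) : Matrix (Fin 2 ⊕ Fin 2) (Fin 2 ⊕ Fin 2) F :=
  fromBlocks !![x, y; z, -x] (b • J2 F) (c • J2 F) !![x, z; y, -x]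

theorem mk4_mul_add (x y z b c x' y' z' b' c' : F) :
    mk4 x y z b c * mk4 x' y' z' b' c' + mk4 x' y' z' b' c' * mk4 x y z b c =
      (2 * x * x' + y * z' + z * y' - b * c' - c * b') • (1 : Matrix (Fin 2 ⊕ Fin 2) (Fin 2 ⊕ Fin 2) F) := by
  rw [mk4, mk4, fromBlocks_multiply, fromBlocks_multiply, fromBlocks_add, ← fromBlocks_one, fromBlocks_smul]
  congr 1 <;> ext i j <;> fin_cases i <;> fin_cases j <;> simp [J2] <;> ring

theorem mk4_sq (x y z b c : F) :
    mk4 x y z b c * mk4 x y z b c = (x * x + y * z - b * c) • (1 : Matrix (Fin 2 ⊕ Fin 2) (Fin 2 ⊕ Fin 2) F) := by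
  rw [mk4, fromBlocks_multiply, ← fromBlocks_one, fromBlocks_smul]
  congr 1 <;> ext i j <;> fin_cases i <;> fin_cases j <;> simp [J2] <;> ring

theorem mk4_neg (x y z b c : F) : mk4 (-x) (-y) (-z) (-b) (-c) = -mk4 x y z b c := by
  rw [mk4, mk4, fromBlocks_neg]
  congr 1 <;> ext i j <;> fin_cases i <;> fin_cases j <;> simp [J2]

theorem mk4_adj (x y z b c : F) :
    adj (RingHom.id F) (Matrix.J (Fin 2) F) (mk4 x y z b c) = mk4 x y z b c := by
  refine refl_J.adj_eq ?_
  rw [RingHom.coe_id, Matrix.map_id, mk4, Matrix.J, fromBlocks_transpose, fromBlocks_multiply, fromBlocks_multiply]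
  congr 1 <;> ext i j <;> fin_cases i <;> fin_cases j <;> simp [J2]

/-- the coefficients -/
def c5 (R : Type*) [Ring R] : Fin 5 → R × R × R × R × R :=
  ![(1, 0, 0, 0, 0), (0, 1, 1, 0, 0), (0, 0, 0, -1, 1), (0, 1, -1, 1, 1), (0, 1, -1, -1, -1)]

/-- the five anticommuting involutions -/
def g5 (F : Type*) [Field F] (i : Fin 5) : Matrix (Fin 2 ⊕ Fin 2) (Fin 2 ⊕ Fin 2) F :=
  mk4 (c5 F i).1 (c5 F i).2.1 (c5 F i).2.2.1 (c5 F i).2.2.2.1 (c5 F i).2.2.2.2

theorem g5_sq (hq : Fintype.card F = 3) (i : Fin 5) : g5 F i * g5 F i = 1 := by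
  have h3 := three_eq_zero hq
  have e : ∀ c : F, c = 1 → c • (1 : Matrix (Fin 2 ⊕ Fin 2) (Fin 2 ⊕ Fin 2) F) = 1 := fun c h => by rw [h, one_smul]
  rw [g5, mk4_sq]
  refine e _ ?_
  fin_cases i <;> simp [c5] <;> first | ring1 | linear_combination (-1 : F) * h3

theorem g5_anti (hq : Fintype.card F = 3) {i j : Fin 5} (hij : i ≠ j) : g5 F i * g5 F j = -(g5 F j * g5 F i) := by
  have h3 := three_eq_zero hq
  rw [eq_neg_iff_add_eq_zero, g5, g5, mk4_mul_add]
  refine smul_eq_zero.2 (Or.inl ?_)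
  fin_cases i <;> fin_cases j <;> simp [c5] at hij ⊢ <;> ring1

theorem g5_prod (hq : Fintype.card F = 3) :
    g5 F 0 * g5 F 1 * g5 F 2 * g5 F 3 * g5 F 4 = 1 := by
  have h3 := three_eq_zero hq
  simp only [g5, mk4, fromBlocks_multiply]
  rw [← fromBlocks_one]
  congr 1 <;> ext i j <;> fin_cases i <;> fin_cases j <;> simp [J2, c5] <;>
    first | ring1 | linear_combination h3 | linear_combination (-1 : F) * h3 |
      linear_combination (2 : F) * h3 | linear_combination (-2 : F) * h3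

theorem z3_five : ∀ x y z b c : ZMod 3, x * x + y * z - b * c = 1 →
    (b = -c ∧ y = z) ∨ (b = c ∧ x = 0 ∧ y = -z) →
    ∃ i : Fin 5, (x, y, z, b, c) = c5 (ZMod 3) i ∨ (-x, -y, -z, -b, -c) = c5 (ZMod 3) i := by decide

theorem c5_map {R S : Type*} [Ring R] [Ring S] (φ : R →+* S) (i : Fin 5) :
    c5 S i = (φ (c5 R i).1, φ (c5 R i).2.1, φ (c5 R i).2.2.1, φ (c5 R i).2.2.2.1, φ (c5 R i).2.2.2.2) := by
  fin_cases i <;> simp [c5]

/-- the self-adjoint trace zero involutions commuting or anticommuting with `J` -/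
theorem g5_complete (hq : Fintype.card F = 3) {a : Matrix (Fin 2 ⊕ Fin 2) (Fin 2 ⊕ Fin 2) F}
    (had : adj (RingHom.id F) (Matrix.J (Fin 2) F) a = a) (htr : a.trace = 0) (hsq : a * a = 1)
    (hJ : a * Matrix.J (Fin 2) F = Matrix.J (Fin 2) F * a ∨ a * Matrix.J (Fin 2) F = -(Matrix.J (Fin 2) F * a)) :
    ∃ i, a = g5 F i ∨ a = -g5 F i := by
  have htwo : (2 : F) ≠ 0 := two_ne_zero_of_odd (by rw [hq]; decide)
  have h1 := refl_J.mul_map_adj (σ := RingHom.id F) (G := Matrix.J (Fin 2) F) a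
  rw [had, RingHom.coe_id, Matrix.map_id] at h1
  have hsplit := (fromBlocks_toBlocks a).symm
  set A := a.toBlocks₁₁
  set B := a.toBlocks₁₂
  set C := a.toBlocks₂₁
  set D := a.toBlocks₂₂
  rw [hsplit, Matrix.J, fromBlocks_transpose, fromBlocks_multiply, fromBlocks_multiply] at h1
  simp only [mul_zero, zero_mul, mul_one, one_mul, mul_neg, neg_mul, zero_add, add_zero] at h1
  obtain ⟨hC, hD, -, hB⟩ := fromBlocks_inj.1 h1
  have hskew : ∀ X : Matrix (Fin 2) (Fin 2) F, (∀ i j, X j i = -X i j) → X = X 0 1 • J2 F := by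
    intro X hX
    have h00 := (mul_eq_zero.1 (show (2 : F) * X 0 0 = 0 by linear_combination hX 0 0)).resolve_left htwo
    have h11 := (mul_eq_zero.1 (show (2 : F) * X 1 1 = 0 by linear_combination hX 1 1)).resolve_left htwo
    ext i j
    fin_cases i <;> fin_cases j <;> simp [J2, h00, h11, hX 0 1]
  have hCs : C = C 0 1 • J2 F := hskew C fun i j => by
    have := congrFun (congrFun hC i) j
    simp [Matrix.transpose_apply] at this
    linear_combination -this
  have hBs : B = B 0 1 • J2 F := hskew B fun i j => by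
    have := congrFun (congrFun hB i) j
    simp [Matrix.transpose_apply] at this
    linear_combination this
  have hDA : D = Aᵀ := by
    ext i j
    have := congrFun (congrFun hD i) j
    simp [Matrix.transpose_apply] at this ⊢
    linear_combination this
  have h11 : A 1 1 = -A 0 0 := by
    rw [hsplit] at htr
    simp [Matrix.trace, Fintype.sum_sum_type, Fin.sum_univ_two, hDA] at htr
    exact mul_left_cancel₀ htwo (by linear_combination htr)
  set x := A 0 0
  set y := A 0 1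
  set z := A 1 0
  set b := B 0 1
  set c := C 0 1
  have hA : A = !![x, y; z, -x] := by ext i j; fin_cases i <;> fin_cases j <;> simp [x, y, z, h11]
  have ha : a = mk4 x y z b c := by
    rw [hsplit, mk4, hDA, hBs, hCs, hA]
    congr 1
    ext i j; fin_cases i <;> fin_cases j <;> rfl
  have hQ : x * x + y * z - b * c = 1 := by
    rw [ha, mk4_sq] at hsq
    simpa using congrFun (congrFun hsq (Sum.inl 0)) (Sum.inl 0)
  have hJJ : (b = -c ∧ y = z) ∨ (b = c ∧ x = 0 ∧ y = -z) := by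
    rw [ha, mk4, Matrix.J, fromBlocks_multiply, fromBlocks_multiply] at hJ
    simp only [mul_zero, zero_mul, mul_one, one_mul, mul_neg, neg_mul, zero_add, add_zero, fromBlocks_neg, neg_neg] at hJ
    rcases hJ with hJ | hJ <;> obtain ⟨e11, e12, -, -⟩ := fromBlocks_inj.1 hJ
    · refine Or.inl ⟨?_, ?_⟩
      · simpa [J2] using congrFun (congrFun e11 0) 1
      · simpa using congrFun (congrFun e12 0) 1
    · refine Or.inr ⟨?_, ?_, ?_⟩
      · simpa [J2] using congrFun (congrFun e11 0) 1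
      · have := congrFun (congrFun e12 0) 0
        simp at this
        exact (mul_eq_zero.1 (show (2 : F) * x = 0 by linear_combination -this)).resolve_left htwo
      · have := congrFun (congrFun e12 0) 1
        simp at this
        linear_combination -this
  let φ : ZMod 3 ≃+* F := ZMod.ringEquivOfPrime F Nat.prime_three hq
  obtain ⟨x', hx⟩ := φ.surjective x
  obtain ⟨y', hy⟩ := φ.surjective y
  obtain ⟨z', hz⟩ := φ.surjective z
  obtain ⟨b', hb⟩ := φ.surjective b
  obtain ⟨c', hc⟩ := φ.surjective c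
  rw [← hx, ← hy, ← hz, ← hb, ← hc] at hQ hJJ ha
  simp only [← map_neg, EmbeddingLike.apply_eq_iff_eq, map_eq_zero_iff φ φ.injective] at hJJ
  obtain ⟨i, h | h⟩ := z3_five x' y' z' b' c' (φ.injective (by simpa using hQ)) hJJ
  · refine ⟨i, Or.inl ?_⟩
    rw [ha, g5, c5_map (φ : ZMod 3 →+* F) i, ← h]
    rfl
  · refine ⟨i, Or.inr ?_⟩
    rw [ha, g5, c5_map (φ : ZMod 3 →+* F) i, ← h, ← mk4_neg]
    simp

theorem g5_commJ (i : Fin 5) : g5 F i * Matrix.J (Fin 2) F = Matrix.J (Fin 2) F * g5 F i ∨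
    g5 F i * Matrix.J (Fin 2) F = -(Matrix.J (Fin 2) F * g5 F i) := by
  simp only [g5, mk4, Matrix.J, fromBlocks_multiply, mul_zero, zero_mul, mul_one, one_mul, mul_neg, neg_mul, zero_add,
    add_zero, fromBlocks_neg, neg_neg]
  fin_cases i
  · left; congr 1 <;> ext a b <;> fin_cases a <;> fin_cases b <;> simp [J2, c5]
  · left; congr 1 <;> ext a b <;> fin_cases a <;> fin_cases b <;> simp [J2, c5]
  · left; congr 1 <;> ext a b <;> fin_cases a <;> fin_cases b <;> simp [J2, c5]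
  · right; congr 1 <;> ext a b <;> fin_cases a <;> fin_cases b <;> simp [J2, c5]
  · right; congr 1 <;> ext a b <;> fin_cases a <;> fin_cases b <;> simp [J2, c5]

theorem g5_trace (i : Fin 5) : (g5 F i).trace = 0 := by
  simp [g5, mk4, Matrix.trace, Fintype.sum_sum_type, Fin.sum_univ_two]

theorem g5_commutant (hq : Fintype.card F = 3) {M : Matrix (Fin 2 ⊕ Fin 2) (Fin 2 ⊕ Fin 2) F}
    (h : ∀ i, M * g5 F i = g5 F i * M) : ∃ c : F, M = c • (1 : Matrix (Fin 2 ⊕ Fin 2) (Fin 2 ⊕ Fin 2) F) := by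
  have htwo : (2 : F) ≠ 0 := two_ne_zero_of_odd (by rw [hq]; decide)
  have hz : ∀ {u : F}, 2 * u = 0 → u = 0 := fun hu => (mul_eq_zero.1 hu).resolve_left htwo
  have E : ∀ i a b, (M * g5 F i) a b = (g5 F i * M) a b := fun i a b => by rw [h i]
  have z1 := E 0 (Sum.inl 0) (Sum.inl 1)
  have z2 := E 0 (Sum.inl 0) (Sum.inr 1)
  have z3 := E 0 (Sum.inl 1) (Sum.inl 0)
  have z4 := E 0 (Sum.inl 1) (Sum.inr 0)
  have z5 := E 0 (Sum.inr 0) (Sum.inl 1)
  have z6 := E 0 (Sum.inr 0) (Sum.inr 1)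
  have z7 := E 0 (Sum.inr 1) (Sum.inl 0)
  have z8 := E 0 (Sum.inr 1) (Sum.inr 0)
  have e1 := E 1 (Sum.inl 0) (Sum.inl 1)
  have e2 := E 1 (Sum.inl 0) (Sum.inr 1)
  have e3 := E 1 (Sum.inr 0) (Sum.inl 1)
  have e4 := E 1 (Sum.inr 0) (Sum.inr 1)
  have f1 := E 2 (Sum.inl 0) (Sum.inl 1)
  have f2 := E 2 (Sum.inl 0) (Sum.inr 1)
  have k1 := E 3 (Sum.inl 0) (Sum.inl 1)
  simp [g5, mk4, c5, J2, Matrix.mul_apply, Fintype.sum_sum_type, Fin.sum_univ_two, Matrix.fromBlocks] at z1 z2 z3 z4 z5 z6 z7 z8 e1 e2 e3 e4 f1 f2 k1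
  refine ⟨M (Sum.inl 0) (Sum.inl 0), ?_⟩
  have n1 : M (Sum.inl 0) (Sum.inl 1) = 0 := hz (by linear_combination -z1)
  have n2 : M (Sum.inl 0) (Sum.inr 1) = 0 := hz (by linear_combination -z2)
  have n3 : M (Sum.inl 1) (Sum.inl 0) = 0 := hz (by linear_combination z3)
  have n4 : M (Sum.inl 1) (Sum.inr 0) = 0 := hz (by linear_combination z4)
  have n5 : M (Sum.inr 0) (Sum.inl 1) = 0 := hz (by linear_combination -z5)
  have n6 : M (Sum.inr 0) (Sum.inr 1) = 0 := hz (by linear_combination -z6)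
  have n7 : M (Sum.inr 1) (Sum.inl 0) = 0 := hz (by linear_combination z7)
  have n8 : M (Sum.inr 1) (Sum.inr 0) = 0 := hz (by linear_combination z8)
  have hlr : M (Sum.inl 0) (Sum.inr 0) = 0 := hz (by linear_combination f1 + k1 - e1)
  have hlr1 : M (Sum.inl 1) (Sum.inr 1) = 0 := by linear_combination hlr - e2
  have hrl1 : M (Sum.inr 1) (Sum.inl 1) = 0 := by linear_combination f1 - hlr
  have hrl : M (Sum.inr 0) (Sum.inl 0) = 0 := by linear_combination e3 + hrl1
  ext a b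
  rcases a with a | a <;> rcases b with b | b <;> fin_cases a <;> fin_cases b <;>
    simp [n1, n2, n3, n4, n5, n6, n7, n8, hlr, hlr1, hrl, hrl1] <;>
    first
      | linear_combination e1 | linear_combination -e1 | linear_combination f2 | linear_combination -f2
      | linear_combination e4 - f2 | linear_combination e4 + f2 | linear_combination -e4 - f2 | linear_combination f2 - e4

/-- over three elements the normaliser of a unitary field structure is of symplectic type -/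
theorem sp4_fieldU_three (hq : Fintype.card F = 3) {H : Subgroup (GL (Fin 2 ⊕ Fin 2) F)} (hI : H ≤ Cfsg.spGL 2 F)
    (hirr : Irred H) {K : Subalgebra F (Matrix (Fin 2 ⊕ Fin 2) (Fin 2 ⊕ Fin 2) F)} (hK : IsFieldSubalgebra 2 K)
    (ha : IsAdjointClosedFor (Cfsg.sympForm 2 F) K) (hns : ¬ IsSelfAdjointFor (Cfsg.sympForm 2 F) K)
    (hle : H ≤ subalgebraNormalizer K) : SpSubSym 2 F H := by
  have hodd : Odd (Fintype.card F) := by rw [hq]; decide
  have htwo : (2 : F) ≠ 0 := two_ne_zero_of_odd hodd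
  rw [spGL_eq] at hI
  rw [sympForm_eq] at ha hns
  set G := Matrix.J (Fin 2) F with hGdef
  set σ := RingHom.id F
  set f := gform σ G with hf
  have hb : IsBilinearForm f := gform_bilinear G
  haveI : Nonempty (Fin 2 ⊕ Fin 2) := ⟨Sum.inl 0⟩
  have hKd : ∀ x ∈ K, adj σ G x ∈ K := fun x hx => by
    obtain ⟨x', hx', e⟩ := ha x hx
    rwa [refl_J.adj_eq_of_forall fun u v => e u v]
  -- a skew square root of minus one
  obtain ⟨x₀, hx₀, hx₀n⟩ : ∃ x ∈ K, adj σ G x ≠ x := by
    by_contra hcon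
    push Not at hcon
    exact hns fun x hx u v => by rw [hf, refl_J.adj_spec, hcon x hx]
  set k := x₀ - adj σ G x₀ with hkdef
  have hk0 : k ≠ 0 := sub_ne_zero.2 (Ne.symm hx₀n)
  have hkK : k ∈ K := K.sub_mem hx₀ (hKd x₀ hx₀)
  have hka : adj σ G k = -k := by rw [hkdef, refl_J.adj_sub, refl_J.adj_adj, neg_sub]
  have hone : ¬ ∃ c : F, k = c • (1 : Matrix (Fin 2 ⊕ Fin 2) (Fin 2 ⊕ Fin 2) F) := by
    rintro ⟨c, hc⟩
    rw [hc, refl_J.adj_smul, refl_J.adj_one] at hka
    have : (2 * c) • (1 : Matrix (Fin 2 ⊕ Fin 2) (Fin 2 ⊕ Fin 2) F) = 0 := by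
      rw [two_mul, add_smul]; exact eq_neg_iff_add_eq_zero.1 hka
    have h2 := (smul_eq_zero.1 this).resolve_right one_ne_zero
    exact hk0 (by rw [hc, (mul_eq_zero.1 h2).resolve_left htwo, zero_smul])
  let φK : (F × F) →ₗ[F] K :=
    { toFun := fun p => ⟨p.1 • 1 + p.2 • k, K.add_mem (K.smul_mem K.one_mem _) (K.smul_mem hkK _)⟩
      map_add' := fun p q => Subtype.ext (by simp only [Prod.fst_add, Prod.snd_add, add_smul, Subalgebra.coe_add]; abel)
      map_smul' := fun c p => Subtype.ext (by simp [smul_smul, smul_add]) }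
  have hφK : Function.Injective φK := by
    rw [injective_iff_map_eq_zero]
    intro p hp
    have hp' : p.1 • (1 : Matrix (Fin 2 ⊕ Fin 2) (Fin 2 ⊕ Fin 2) F) + p.2 • k = 0 := congrArg Subtype.val hp
    by_cases h2 : p.2 = 0
    · rw [h2, zero_smul, add_zero] at hp'
      exact Prod.ext ((smul_eq_zero.1 hp').resolve_right one_ne_zero) h2
    · refine absurd ⟨-(p.2⁻¹ * p.1), ?_⟩ hone
      calc k = p.2⁻¹ • (p.2 • k) := by rw [smul_smul, inv_mul_cancel₀ h2, one_smul]
        _ = _ := by rw [eq_neg_of_add_eq_zero_right hp', smul_neg, smul_smul, neg_smul]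
  have hKspan : ∀ x ∈ K, ∃ a b : F, x = a • 1 + b • k := fun x hx => by
    obtain ⟨p, hp⟩ := (LinearMap.injective_iff_surjective_of_finrank_eq_finrank (by
      rw [Module.finrank_prod, Module.finrank_self, hK.finrank_eq])).1 hφK ⟨x, hx⟩
    exact ⟨p.1, p.2, (congrArg Subtype.val hp).symm⟩
  have hkk : k * k = -1 := by
    obtain ⟨a, b, hab⟩ := hKspan _ (K.mul_mem hkK hkK)
    have hsa : adj σ G (k * k) = k * k := by rw [refl_J.adj_mul, hka, neg_mul_neg]
    rw [hab, refl_J.adj_add, refl_J.adj_smul, refl_J.adj_smul, refl_J.adj_one, hka] at hsa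
    have hb0 : b = 0 := by
      have h2 : (2 * b) • k = 0 := by
        have h3 := add_left_cancel (hsa : a • (1 : Matrix (Fin 2 ⊕ Fin 2) (Fin 2 ⊕ Fin 2) F) + b • (-k) = a • 1 + b • k)
        rw [smul_neg, neg_eq_iff_add_eq_zero] at h3
        rw [two_mul, add_smul]; exact h3
      exact (mul_eq_zero.1 ((smul_eq_zero.1 h2).resolve_right hk0)).resolve_left htwo
    rw [hb0, zero_smul, add_zero] at hab
    have ha0 : a ≠ 0 := fun h0 => by
      rw [h0, zero_smul] at hab
      obtain ⟨y, -, hy⟩ := hK.inv k hkK hk0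
      exact hk0 (by rw [← mul_one k, ← hy, ← mul_assoc, hab, zero_mul])
    rcases mul_self_eq_one_iff.1 (sq_three hq ha0) with rfl | rfl
    · exfalso
      rw [one_smul] at hab
      have hp : (k - 1) * (k + 1) = 0 := by rw [sub_mul, mul_add, mul_add, hab, mul_one, one_mul, one_mul]; abel
      rcases eq_or_ne (k - 1) 0 with h | h
      · exact hone ⟨1, by rw [one_smul]; exact sub_eq_zero.1 h⟩
      · obtain ⟨y, hy, hy1⟩ := hK.inv _ (K.sub_mem hkK K.one_mem) h
        rw [hK.comm _ (K.sub_mem hkK K.one_mem) y hy] at hy1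
        have := congrArg (y * ·) hp
        simp only [← mul_assoc, hy1, one_mul, mul_zero] at this
        exact hone ⟨-1, by rw [neg_one_smul]; exact eq_neg_of_add_eq_zero_left this⟩
    · rw [hab, neg_one_smul]
  have hHk : ∀ g ∈ H, cj g k = k ∨ cj g k = -k := by
    intro g hg
    obtain ⟨a, b, hab⟩ := hKspan _ ((hle hg k).1 hkK)
    change cj g k = a • 1 + b • k at hab
    have hsk : adj σ G (cj g k) = -cj g k := by rw [refl_J.adj_cj (hI hg), hka]; simp [cj]
    have ha0 : a = 0 := by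
      rw [hab, refl_J.adj_add, refl_J.adj_smul, refl_J.adj_smul, refl_J.adj_one, hka, neg_add, ← smul_neg b] at hsk
      have h3 := add_right_cancel (hsk : a • (1 : Matrix (Fin 2 ⊕ Fin 2) (Fin 2 ⊕ Fin 2) F) + b • (-k) = -(a • 1) + b • (-k))
      have h4 : (2 * a) • (1 : Matrix (Fin 2 ⊕ Fin 2) (Fin 2 ⊕ Fin 2) F) = 0 := by
        rw [two_mul, add_smul]; exact eq_neg_iff_add_eq_zero.1 h3
      exact (mul_eq_zero.1 ((smul_eq_zero.1 h4).resolve_right one_ne_zero)).resolve_left htwo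
    rw [ha0, zero_smul, zero_add] at hab
    have h2 : cj g k * cj g k = -1 := by rw [← cj_mul, hkk]; simp [cj]
    rw [hab, smul_mul_smul_comm, hkk] at h2
    have hb2 : b * b = 1 := by simpa using congrFun (congrFun h2 (Sum.inl 0)) (Sum.inl 0)
    rcases mul_self_eq_one_iff.1 hb2 with rfl | rfl
    · left; rw [hab, one_smul]
    · right; rw [hab, neg_one_smul]
  -- the hermitian form
  set h : (Fin 2 ⊕ Fin 2 → F) → (Fin 2 ⊕ Fin 2 → F) → F := fun u v => f (k *ᵥ u) v with hh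
  have hbh : IsBilinearForm h := ⟨fun a b v => by simp only [h, mulVec_add, hb.add_left],
    fun c a v => by simp only [h, mulVec_smul, hb.smul_left], fun v a b => hb.add_right _ _ _,
    fun c v a => hb.smul_right _ _ _⟩
  have hadjk : ∀ u v, f (k *ᵥ u) v = -f u (k *ᵥ v) := fun u v => by
    rw [hf, refl_J.adj_spec, hka, Matrix.neg_mulVec, ← neg_one_smul F (k *ᵥ v), gform_smul_right]
    simp [σ, G]
  have hsym : ∀ u v, h u v = h v u := fun u v => by
    show f (k *ᵥ u) v = f (k *ᵥ v) u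
    rw [hadjk, hf, symp_skew, neg_neg]
  have hkkv : ∀ v, k *ᵥ k *ᵥ v = -v := fun v => by rw [mulVec_mulVec, hkk, neg_mulVec, one_mulVec]
  have hneg : ∀ u v, f (-u) v = -f u v := fun u v => by rw [← neg_one_smul F u, hb.smul_left]; ring
  have hhk : ∀ u v, h (k *ᵥ u) (k *ᵥ v) = h u v := fun u v => by
    show f (k *ᵥ k *ᵥ u) (k *ᵥ v) = f (k *ᵥ u) v
    rw [hkkv, hneg, hadjk]
  have horth : ∀ v, h v (k *ᵥ v) = 0 := fun v => symp_self _
  have hnd : ∀ u, (∀ v, h v u = 0) → u = 0 := fun u hu => refl_J.eq_zero_of_forall_left fun y => by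
    have := hu (k *ᵥ y)
    change f (k *ᵥ k *ᵥ y) u = 0 at this
    rw [hkkv, hneg] at this
    show f y u = 0
    linear_combination -this
  -- vectors of norm one
  have key : ∀ v₁ : Fin 2 ⊕ Fin 2 → F, h v₁ v₁ ≠ 0 → ∃ v, h v v = 1 ∧ ∀ u, h u v₁ = 0 → h u (k *ᵥ v₁) = 0 → h u v = 0 := by
    intro v₁ hv₁
    rcases mul_self_eq_one_iff.1 (sq_three hq hv₁) with e | e
    · exact ⟨v₁, e, fun u h1 _ => h1⟩
    · refine ⟨v₁ + k *ᵥ v₁, ?_, fun u h1 h2 => by rw [hbh.add_right, h1, h2, add_zero]⟩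
      rw [hbh.add_left, hbh.add_right, hbh.add_right, hhk, hsym (k *ᵥ v₁) v₁, horth, e]
      linear_combination (-1 : F) * three_eq_zero hq
  obtain ⟨v₁, hv₁⟩ : ∃ v, h v v ≠ 0 := by
    by_contra hcon
    push Not at hcon
    have h0 := hnd (Pi.single (Sum.inl 0) 1) fun v => by
      have := hcon (v + Pi.single (Sum.inl 0) 1)
      rw [hbh.add_left, hbh.add_right, hbh.add_right, hcon, hcon, hsym (Pi.single (Sum.inl 0) 1) v] at this
      exact (mul_eq_zero.1 (show (2 : F) * h v (Pi.single (Sum.inl 0) 1) = 0 by linear_combination this)).resolve_left htwo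
    exact one_ne_zero (Pi.single_eq_zero_iff.1 h0)
  obtain ⟨v, hv, -⟩ := key v₁ hv₁
  let pr : (Fin 2 ⊕ Fin 2 → F) → (Fin 2 ⊕ Fin 2 → F) := fun u => u - h u v • v - h u (k *ᵥ v) • (k *ᵥ v)
  have hpr : ∀ u, h (pr u) v = 0 ∧ h (pr u) (k *ᵥ v) = 0 := fun u => by
    have hkv : h (k *ᵥ v) (k *ᵥ v) = 1 := by rw [hhk, hv]
    have e1 : h (k *ᵥ v) v = 0 := by rw [hsym, horth]
    simp only [pr, sub_eq_add_neg, ← neg_smul, hbh.add_left, hbh.smul_left, hv, horth, hkv, e1]
    constructor <;> ring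
  obtain ⟨u₁, hu₁⟩ : ∃ u, h (pr u) (pr u) ≠ 0 := by
    by_contra hcon
    push Not at hcon
    -- then everything orthogonal to `v` and `k v` vanishes
    have hall : ∀ u, h u v = 0 → h u (k *ᵥ v) = 0 → u = 0 := by
      intro u hu hu'
      have hpu : pr u = u := by simp [pr, hu, hu']
      refine hnd u fun y => ?_
      have hadd : pr (u + y) = u + pr y := by
        simp only [pr, hbh.add_left, hu, hu', zero_add]; abel
      have h1 := hcon (u + y)
      have h2 := hcon u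
      rw [hpu] at h2
      rw [hadd, hbh.add_left, hbh.add_right, hbh.add_right, hcon y, h2, hsym (pr y) u] at h1
      have h3 := (mul_eq_zero.1 (show (2 : F) * h u (pr y) = 0 by linear_combination h1)).resolve_left htwo
      simp only [pr, sub_eq_add_neg, ← neg_smul, hbh.add_right, hbh.smul_right, hu, hu', mul_zero, add_zero] at h3
      rw [hsym]; exact h3
    have hle4 : Submodule.span F ({v, k *ᵥ v} : Set (Fin 2 ⊕ Fin 2 → F)) = ⊤ := by
      rw [eq_top_iff]
      intro u _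
      have := hall (pr u) (hpr u).1 (hpr u).2
      rw [show u = h u v • v + h u (k *ᵥ v) • (k *ᵥ v) from by
        simp only [pr] at this; rw [sub_sub, sub_eq_zero] at this; exact this]
      exact Submodule.add_mem _ (Submodule.smul_mem _ _ (Submodule.subset_span (by simp)))
        (Submodule.smul_mem _ _ (Submodule.subset_span (by simp)))
    have hr : Set.range ![v, k *ᵥ v] = ({v, k *ᵥ v} : Set (Fin 2 ⊕ Fin 2 → F)) := by
      simp [Matrix.range_cons, Matrix.range_empty, Set.pair_comm]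
    have hc := finrank_range_le_card (R := F) ![v, k *ᵥ v]
    rw [Set.finrank, hr, hle4, finrank_top, Module.finrank_fintype_fun_eq_card] at hc
    simp at hc
  obtain ⟨w, hw, hwo⟩ := key (pr u₁) hu₁
  have hwv : h v w = 0 ∧ h (k *ᵥ v) w = 0 := by
    refine ⟨hwo v (by rw [hsym]; exact (hpr u₁).1) ?_, hwo _ (by rw [hsym]; exact (hpr u₁).2) ?_⟩
    · rw [← hhk, hkkv, ← neg_one_smul F (pr u₁), hbh.smul_right, hsym, (hpr u₁).2, mul_zero]
    · rw [hhk, hsym]; exact (hpr u₁).1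
  let vs : Fin 2 → (Fin 2 ⊕ Fin 2 → F) := ![v, w]
  have hvs : ∀ i j, h (vs i) (vs j) = if i = j then 1 else 0 := by
    intro i j
    fin_cases i <;> fin_cases j <;> simp [vs, hv, hw, hwv.1, hsym w v]
  have hvk : ∀ i j, h (k *ᵥ vs i) (vs j) = 0 := by
    intro i j
    fin_cases i <;> fin_cases j
    · show h (k *ᵥ v) v = 0; rw [hsym]; exact horth v
    · exact hwv.2
    · show h (k *ᵥ w) v = 0
      rw [← hhk, hkkv, ← neg_one_smul F w, hbh.smul_left, hsym, hwv.2, mul_zero]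
    · show h (k *ᵥ w) w = 0; rw [hsym]; exact horth w
  let col : Fin 2 ⊕ Fin 2 → (Fin 2 ⊕ Fin 2 → F) := Sum.elim vs fun i => k *ᵥ vs i
  let PM : Matrix (Fin 2 ⊕ Fin 2) (Fin 2 ⊕ Fin 2) F := Matrix.of fun i j => col j i
  have hff : ∀ i j, f (vs i) (vs j) = 0 := fun i j => by
    have := hvk i j
    simp only [h, hkkv, hneg, neg_eq_zero] at this
    exact this
  have hPM : PMᵀ * G * PM = G := by
    ext a b
    rw [gform_mulVec_single]
    show f (col a) (col b) = _
    cases a with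
    | inl i => cases b with
      | inl j => show f (vs i) (vs j) = _; rw [hff]; simp [G, Matrix.J]
      | inr j =>
        show f (vs i) (k *ᵥ vs j) = _
        rw [show f (vs i) (k *ᵥ vs j) = -h (vs i) (vs j) by simp only [h, hadjk, neg_neg], hvs]
        simp [G, Matrix.J, Matrix.one_apply]
    | inr i => cases b with
      | inl j => show h (vs i) (vs j) = _; rw [hvs]; simp [G, Matrix.J, Matrix.one_apply]
      | inr j =>
        show h (vs i) (k *ᵥ vs j) = _
        rw [hsym, hvk]; simp [G, Matrix.J]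
  let P : GL (Fin 2 ⊕ Fin 2) F := Matrix.GeneralLinearGroup.mkOfDetNeZero PM (fun h0 => by
    have := congrArg Matrix.det hPM
    rw [Matrix.det_mul, h0, mul_zero] at this
    exact refl_J.det this.symm)
  have hP : P ∈ iso σ G := iso_of_gram hPM
  have hkP : k * PM = PM * G := by
    ext r s
    have hl : (k * PM) r s = (k *ᵥ col s) r := by simp [Matrix.mul_apply, Matrix.mulVec, dotProduct, PM]
    rw [hl]
    cases s with
    | inl j => simp [Matrix.mul_apply, Fintype.sum_sum_type, PM, col, G, Matrix.J, Matrix.one_apply]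
    | inr j => show (k *ᵥ k *ᵥ vs j) r = _; rw [hkkv]; simp [Matrix.mul_apply, Fintype.sum_sum_type, PM, col, G, Matrix.J, Matrix.one_apply]
  have hkJ : k = cj P G := by
    show k = PM * G * ((P⁻¹ : GL (Fin 2 ⊕ Fin 2) F) : Matrix (Fin 2 ⊕ Fin 2) (Fin 2 ⊕ Fin 2) F)
    rw [← hkP, mul_assoc, show PM = (P : Matrix (Fin 2 ⊕ Fin 2) (Fin 2 ⊕ Fin 2) F) from rfl, gl_mul_inv, mul_one]
  -- the group
  have ksq : ∀ i, cj P (g5 F i) * cj P (g5 F i) = 1 := fun i => by rw [← cj_mul, g5_sq hq, cj_one]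
  let kg : Fin 5 → GL (Fin 2 ⊕ Fin 2) F := fun i => ⟨cj P (g5 F i), cj P (g5 F i), ksq i, ksq i⟩
  have kanti : ∀ {i j : Fin 5}, i ≠ j → (kg i : Matrix (Fin 2 ⊕ Fin 2) (Fin 2 ⊕ Fin 2) F) * (kg j : Matrix (Fin 2 ⊕ Fin 2) (Fin 2 ⊕ Fin 2) F) = -((kg j : Matrix (Fin 2 ⊕ Fin 2) (Fin 2 ⊕ Fin 2) F) * (kg i : Matrix (Fin 2 ⊕ Fin 2) (Fin 2 ⊕ Fin 2) F)) := fun {i j} hij => by
    show cj P _ * cj P _ = -(cj P _ * cj P _)
    rw [← cj_mul, ← cj_mul, g5_anti hq hij]
    simp [cj]
  have kself : ∀ i, kg i * kg i = 1 := fun i => Units.ext (ksq i)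
  have kinv : ∀ i, (kg i)⁻¹ = kg i := fun i => inv_eq_of_mul_eq_one_right (kself i)
  have kiso : ∀ i, kg i ∈ iso σ G := fun i => by
    rw [refl_J.adj_mem_iff, kinv]
    show adj σ G (cj P (g5 F i)) = cj P (g5 F i)
    rw [refl_J.adj_cj hP, g5, mk4_adj]
  set M := Subgroup.closure (Set.range kg) with hM
  have hkM : ∀ i, kg i ∈ M := fun i => Subgroup.subset_closure ⟨i, rfl⟩
  have hMI : M ≤ iso σ G := by rw [hM, Subgroup.closure_le]; rintro _ ⟨i, rfl⟩; exact kiso i
  have hnegM : ∀ {x y : GL (Fin 2 ⊕ Fin 2) F}, (y : Matrix (Fin 2 ⊕ Fin 2) (Fin 2 ⊕ Fin 2) F) = -(x : Matrix (Fin 2 ⊕ Fin 2) (Fin 2 ⊕ Fin 2) F) → x ∈ M → y ∈ M := by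
    intro x y hxy hx
    have hm1 : ((kg 0 * kg 1 * kg 0 * kg 1 : GL (Fin 2 ⊕ Fin 2) F) : Matrix (Fin 2 ⊕ Fin 2) (Fin 2 ⊕ Fin 2) F) = -1 := by
      rw [Units.val_mul, Units.val_mul, Units.val_mul, kanti (by decide : (0 : Fin 5) ≠ 1), neg_mul, neg_mul]
      show -(cj P (g5 F 1) * cj P (g5 F 0) * cj P (g5 F 0) * cj P (g5 F 1)) = -1
      rw [mul_assoc (cj P (g5 F 1)), ksq, mul_one, ksq]
    have : y = kg 0 * kg 1 * kg 0 * kg 1 * x := Units.ext (by rw [Units.val_mul, hm1, neg_one_mul, hxy])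
    rw [this]
    exact mul_mem (mul_mem (mul_mem (mul_mem (hkM 0) (hkM 1)) (hkM 0)) (hkM 1)) hx
  have hMn : NormG H M := by
    intro g hg x hx
    have : M ≤ M.comap (MulAut.conj g).toMonoidHom := by
      conv_lhs => rw [hM]
      rw [Subgroup.closure_le]
      rintro _ ⟨i, rfl⟩
      show g * kg i * g⁻¹ ∈ M
      have hg' : P⁻¹ * g * P ∈ iso σ G := mul_mem (mul_mem (inv_mem hP) (hI hg)) hP
      set g' := P⁻¹ * g * P
      have hgJ : cj g' G = G ∨ cj g' G = -G := by
        have e : cj g' G = cj P⁻¹ (cj g k) := by rw [hkJ, cj_cj, cj_cj]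
        rw [e]
        rcases hHk g hg with e' | e' <;> rw [e']
        · left; rw [hkJ, cj_inv_cj]
        · right; rw [hkJ]; simp [cj, mul_assoc]
      obtain ⟨j, hj⟩ := g5_complete hq (a := cj g' (g5 F i))
        (by rw [refl_J.adj_cj hg', g5, mk4_adj])
        (by rw [cj, Matrix.trace_mul_cycle, gl_inv_mul, one_mul, g5_trace])
        (by rw [← cj_mul, g5_sq hq, cj_one])
        (by
          rcases hgJ with e | e <;> rcases g5_commJ (F := F) i with e' | e'
          · left; have h1 := congrArg (cj g') e'; rwa [cj_mul, cj_mul, e] at h1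
          · right; have h1 := congrArg (cj g') e'
            rw [cj_mul, e, show cj g' (-(G * g5 F i)) = -(cj g' (G * g5 F i)) by simp [cj], cj_mul, e] at h1; exact h1
          · left; have h1 := congrArg (cj g') e'
            rw [cj_mul, cj_mul, e, mul_neg, neg_mul, neg_inj] at h1; exact h1
          · right; have h1 := congrArg (cj g') e'
            rw [cj_mul, e, show cj g' (-(G * g5 F i)) = -(cj g' (G * g5 F i)) by simp [cj], cj_mul, e, neg_mul,
              mul_neg, neg_neg, neg_eq_iff_eq_neg] at h1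
            exact h1)
      have hval : ((g * kg i * g⁻¹ : GL (Fin 2 ⊕ Fin 2) F) : Matrix (Fin 2 ⊕ Fin 2) (Fin 2 ⊕ Fin 2) F) = cj P (cj g' (g5 F i)) := by
        rw [← cj_coe]
        show cj g (cj P (g5 F i)) = _
        rw [cj_cj, cj_cj]; congr 1; simp only [g']; group
      rcases hj with hj | hj
      · rw [hj] at hval
        rw [show g * kg i * g⁻¹ = kg j from Units.ext hval]
        exact hkM j
      · refine hnegM (x := kg j) ?_ (hkM j)
        rw [hval, hj]
        show cj P (-g5 F j) = -cj P (g5 F j)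
        simp [cj]
    exact this hx
  have hscal : ∀ X : Matrix (Fin 2 ⊕ Fin 2) (Fin 2 ⊕ Fin 2) F, (∀ i, X * (kg i : Matrix (Fin 2 ⊕ Fin 2) (Fin 2 ⊕ Fin 2) F) = (kg i : Matrix (Fin 2 ⊕ Fin 2) (Fin 2 ⊕ Fin 2) F) * X) →
      ∃ c : F, X = c • (1 : Matrix (Fin 2 ⊕ Fin 2) (Fin 2 ⊕ Fin 2) F) := by
    intro X hX
    obtain ⟨c, hc⟩ := g5_commutant hq (M := cj P⁻¹ X) fun i => by
      apply cj_injective P
      rw [cj_mul, cj_mul, cj_cj_inv]
      exact hX i
    refine ⟨c, ?_⟩
    rw [← cj_cj_inv P X, hc, cj_smul, cj_one]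
  have hMA : AbsIrr M := ⟨irred_of_centralizer hirr hMn fun X hX => hscal X fun i => hX _ (hkM i),
    fun X hX => hscal X fun i => hX _ (mem_matrixSet (hkM i))⟩
  have hMs : ¬ M ≤ scalars (Fin 2 ⊕ Fin 2) F := fun hs' => by
    have h1 := kanti (i := 0) (j := 1) (by decide)
    rw [← Units.val_mul, ← Units.val_mul, scalar_central (hs' (hkM 0))] at h1
    have h2 : (2 : F) • ((kg 1 * kg 0 : GL (Fin 2 ⊕ Fin 2) F) : Matrix (Fin 2 ⊕ Fin 2) (Fin 2 ⊕ Fin 2) F) = 0 := by
      rw [two_smul]; exact eq_neg_iff_add_eq_zero.1 h1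
    exact (kg 1 * kg 0).ne_zero ((smul_eq_zero.1 h2).resolve_left htwo)
  haveI : (scalars (Fin 2 ⊕ Fin 2) F).Normal := scalars_normal
  let π := QuotientGroup.mk' (scalars (Fin 2 ⊕ Fin 2) F)
  have hkk' : ∀ i j, Commute (π (kg i)) (π (kg j)) := by
    intro i j
    rcases eq_or_ne i j with rfl | hij
    · rfl
    show π (kg i) * π (kg j) = π (kg j) * π (kg i)
    rw [← map_mul, ← map_mul]
    refine QuotientGroup.eq.2 (mem_scalars_of_eq (c := -1) ?_)
    rw [_root_.mul_inv_rev, kinv, kinv, Units.val_mul (kg j * kg i) (kg j * kg i), Units.val_mul (kg j) (kg i)]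
    conv_lhs => arg 2; rw [kanti (Ne.symm hij)]
    rw [mul_neg, mul_assoc, ← mul_assoc (kg i : Matrix (Fin 2 ⊕ Fin 2) (Fin 2 ⊕ Fin 2) F)]
    show -(cj P (g5 F j) * (cj P (g5 F i) * cj P (g5 F i) * cj P (g5 F j))) = (-1 : F) • 1
    rw [ksq, one_mul, ksq, neg_one_smul]
  have hMC : M ≤ (Subgroup.centralizer (Set.range fun i => π (kg i))).comap π := by
    rw [hM, Subgroup.closure_le]
    rintro _ ⟨i, rfl⟩ _ ⟨j, rfl⟩
    exact (hkk' j i).eq
  have hab : ∀ a ∈ M, ∀ b ∈ M, π a * π b = π b * π a := by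
    intro a ha' b hb'
    have h1 : M ≤ (Subgroup.centralizer ({π b} : Set _)).comap π := by
      rw [hM, Subgroup.closure_le]
      rintro _ ⟨i, rfl⟩ _ hz
      rw [Set.mem_singleton_iff.1 hz]
      exact (hMC hb' _ ⟨i, rfl⟩).symm
    exact (h1 ha' _ rfl).symm
  have hcom : ∀ a ∈ M, ∀ b ∈ M, a * b * a⁻¹ * b⁻¹ ∈ scalars (Fin 2 ⊕ Fin 2) F := fun a ha' b hb' => by
    refine (QuotientGroup.eq_one_iff _).1 ?_
    show π _ = 1
    rw [map_mul, map_mul, map_mul, map_inv, map_inv, hab a ha' b hb']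
    group
  have hsq : ∀ a ∈ M, a ^ 2 ∈ scalars (Fin 2 ⊕ Fin 2) F := fun a ha' => by
    refine (QuotientGroup.eq_one_iff _).1 ?_
    show π _ = 1
    induction ha' using Subgroup.closure_induction with
    | mem x hx => obtain ⟨i, rfl⟩ := hx; rw [pow_two, kself, map_one]
    | one => simp
    | mul x y hx hy ihx ihy =>
      rw [map_pow] at ihx ihy ⊢
      rw [map_mul, (show Commute (π x) (π y) from hab x hx y hy).mul_pow, ihx, ihy, one_mul]
    | inv x hx ihx => rw [inv_pow, map_inv, ihx, inv_one]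
  have h4 : ∀ a ∈ M, a ^ (2 * Nat.gcd 2 2) = 1 := fun a ha' => by
    obtain ⟨c, hc⟩ := mem_scalars_sch.1 (hsq a ha')
    have hcU := (sch_mem_iso (ι := Fin 2 ⊕ Fin 2) refl_J c).1 (by rw [hc]; exact pow_mem (hMI ha') 2)
    rw [show 2 * Nat.gcd 2 2 = 2 * 2 from rfl, pow_mul, ← hc, ← map_pow]
    rw [show c ^ 2 = 1 from Units.ext (by rw [pow_two, Units.val_mul, Units.val_one]; exact hcU), map_one]
  have hmove : ∀ a ∈ M, a ∉ scalars (Fin 2 ⊕ Fin 2) F → ∃ g : GL (Fin 2 ⊕ Fin 2) F,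
      (∀ x ∈ M, g * x * g⁻¹ ∈ M) ∧ a * (g * a * g⁻¹) ≠ g * a * g⁻¹ * a := by
    intro a ha' has
    set A := (a : Matrix (Fin 2 ⊕ Fin 2) (Fin 2 ⊕ Fin 2) F)
    let u : Fin 5 → Matrix (Fin 2 ⊕ Fin 2) (Fin 2 ⊕ Fin 2) F := fun i => cj P (g5 F i)
    have hu : ∀ i, u i * u i = 1 := ksq
    have hua : ∀ {i j}, i ≠ j → u i * u j = -(u j * u i) := fun {i j} hij => kanti hij
    have hsign : ∀ i, A * u i = u i * A ∨ A * u i = -(u i * A) := by
      intro i
      obtain ⟨c, hc⟩ := mem_scalars_sch.1 (hcom a ha' (kg i) (hkM i))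
      have hcU : (c : F) * c = 1 := (sch_mem_iso (ι := Fin 2 ⊕ Fin 2) refl_J c).1 (by
        rw [hc]; exact mul_mem (mul_mem (mul_mem (hMI ha') (kiso i)) (inv_mem (hMI ha'))) (inv_mem (kiso i)))
      have h1 : a * kg i = sch _ F c * (kg i * a) := by rw [hc]; group
      have h2 := congrArg (fun g : GL (Fin 2 ⊕ Fin 2) F => (g : Matrix (Fin 2 ⊕ Fin 2) (Fin 2 ⊕ Fin 2) F)) h1
      simp only [Units.val_mul, sch_coe, smul_mul_assoc, one_mul] at h2
      rcases mul_self_eq_one_iff.1 hcU with e | e <;> rw [e] at h2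
      · left; rw [one_smul] at h2; exact h2
      · right; rw [neg_one_smul] at h2; exact h2
    have hA0 : A ≠ 0 := a.ne_zero
    obtain ⟨j, hj⟩ : ∃ j, A * u j ≠ u j * A := by
      by_contra hcon
      push Not at hcon
      obtain ⟨c, hc⟩ := hscal A hcon
      exact has (mem_scalars_of_eq hc)
    have hj' := (hsign j).resolve_left hj
    obtain ⟨i, hi⟩ : ∃ i, A * u i = u i * A := by
      by_contra hcon
      push Not at hcon
      have h5 : ∀ i, A * u i = -(u i * A) := fun i => (hsign i).resolve_left (hcon i)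
      have hp : u 0 * u 1 * u 2 * u 3 * u 4 = 1 := by
        simp only [u]
        rw [← cj_mul, ← cj_mul, ← cj_mul, ← cj_mul, g5_prod hq, cj_one]
      have h6 : A * (u 0 * u 1 * u 2 * u 3 * u 4) = -(u 0 * u 1 * u 2 * u 3 * u 4 * A) := by
        simp only [← mul_assoc, h5 0, neg_mul]
        simp only [mul_assoc (u 0), h5 1, neg_mul, mul_neg, neg_neg]
        simp only [mul_assoc, ← neg_mul]
        rw [← mul_assoc A (u 2), h5 2]
        simp only [neg_mul, mul_neg, mul_assoc, neg_neg]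
        rw [← mul_assoc A (u 3), h5 3]
        simp only [neg_mul, mul_neg, mul_assoc, neg_neg]
        rw [h5 4]
        simp only [neg_mul, mul_neg, mul_assoc, neg_neg]
      rw [hp, mul_one, one_mul] at h6
      have h7 : (2 : F) • A = 0 := by rw [two_smul]; exact eq_neg_iff_add_eq_zero.1 h6
      exact hA0 ((smul_eq_zero.1 h7).resolve_left htwo)
    have hij : i ≠ j := fun e => hj (e ▸ hi)
    set w := u i + u j with hwdef
    have hww : w * w = -1 := by
      have h3 : ((2 : F) • (1 : Matrix (Fin 2 ⊕ Fin 2) (Fin 2 ⊕ Fin 2) F)) = -1 := by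
        rw [show (2 : F) = -1 by linear_combination three_eq_zero hq, neg_one_smul]
      rw [← h3, hwdef, add_mul, mul_add, mul_add, hu, hu, hua hij, two_smul]; abel
    let g : GL (Fin 2 ⊕ Fin 2) F := ⟨w, -w, by rw [mul_neg, hww, neg_neg], by rw [neg_mul, hww, neg_neg]⟩
    have hconj : ∀ l, (l = i → cj g (u l) = u j) ∧ (l = j → cj g (u l) = u i) ∧
        (l ≠ i → l ≠ j → cj g (u l) = -u l) := by
      intro l
      have hgl : ∀ X : Matrix (Fin 2 ⊕ Fin 2) (Fin 2 ⊕ Fin 2) F, cj g (u l) = X ↔ w * u l = X * w := by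
        intro X
        show w * u l * (-w) = X ↔ _
        constructor
        · intro h
          rw [← h, mul_assoc (w * u l), neg_mul, hww, neg_neg, mul_one]
        · intro h
          rw [h, mul_assoc, mul_neg, hww, neg_neg, mul_one]
      refine ⟨fun e => (hgl _).2 ?_, fun e => (hgl _).2 ?_, fun e1 e2 => (hgl _).2 ?_⟩
      · rw [e, hwdef, add_mul, mul_add, hu, hu]; abel
      · rw [e, hwdef, add_mul, mul_add, hu, hu]; abel
      · rw [hwdef, add_mul, mul_add, neg_mul, neg_mul, hua (Ne.symm e1), hua (Ne.symm e2)]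
    refine ⟨g, ?_, ?_⟩
    · intro x hx
      have : M ≤ M.comap (MulAut.conj g).toMonoidHom := by
        conv_lhs => rw [hM]
        rw [Subgroup.closure_le]
        rintro _ ⟨l, rfl⟩
        show g * kg l * g⁻¹ ∈ M
        have hval : ((g * kg l * g⁻¹ : GL (Fin 2 ⊕ Fin 2) F) : Matrix (Fin 2 ⊕ Fin 2) (Fin 2 ⊕ Fin 2) F) = cj g (u l) := by
          rw [← cj_coe]
        rcases eq_or_ne l i with e | e1
        · rw [show g * kg l * g⁻¹ = kg j from Units.ext (hval.trans ((hconj l).1 e))]; exact hkM j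
        rcases eq_or_ne l j with e | e2
        · rw [show g * kg l * g⁻¹ = kg i from Units.ext (hval.trans ((hconj l).2.1 e))]; exact hkM i
        · exact hnegM (x := kg l) (hval.trans ((hconj l).2.2 e1 e2)) (hkM l)
      exact this hx
    · intro hne
      have hne' := congrArg (fun g : GL (Fin 2 ⊕ Fin 2) F => (g : Matrix (Fin 2 ⊕ Fin 2) (Fin 2 ⊕ Fin 2) F)) hne
      simp only [Units.val_mul] at hne'
      change A * (w * A * (-w)) = w * A * (-w) * A at hne'
      have hwA : w * A = A * (u i - u j) := by rw [hwdef, add_mul, mul_sub, hi, hj', sub_neg_eq_add]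
      have hy : w * A * (-w) = A * (u i * u j) := by
        rw [hwA, mul_assoc]
        congr 1
        have h3 : u i * u j + u i * u j + u i * u j = 0 := by
          have h := congrArg (· • (u i * u j)) (three_eq_zero hq)
          simp only [zero_smul] at h
          rw [show (3 : F) = 1 + 1 + 1 by norm_num, add_smul, add_smul, one_smul] at h
          exact h
        rw [sub_mul, mul_neg, mul_neg, hwdef, mul_add, mul_add, hu, hu, hua (Ne.symm hij)]
        rw [eq_comm, ← sub_eq_zero]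
        refine Eq.trans ?_ h3
        abel
      rw [hy] at hne'
      have hP1 : A * (u i * u j) * A = -(A * A * (u i * u j)) := by
        have e1 : u i * u j * A = -(A * (u i * u j)) := by
          rw [mul_assoc, ← neg_neg (u j * A), ← hj', mul_neg, ← mul_assoc, ← hi, mul_assoc]
        rw [mul_assoc A, e1, mul_neg, ← mul_assoc]
      rw [hP1, ← mul_assoc A A] at hne'
      have h7 : (2 : F) • (A * A * (u i * u j)) = 0 := by rw [two_smul]; exact eq_neg_iff_add_eq_zero.1 hne'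
      have h8 := (smul_eq_zero.1 h7).resolve_left htwo
      exact (a * a * (kg i * kg j)).ne_zero (by rw [Units.val_mul, Units.val_mul, Units.val_mul]; exact h8)
  obtain ⟨R, hR⟩ := sympData_of_exponent refl_J hMI hMn hMA hMs hcom Nat.prime_two hsq h4
    (fun R _ hMR hRM _ A hAch hAc => charScalar_of_conj hMR hRM hmove A hAch hAc)
  exact sp_of_sympData (by norm_num) hR

end CfsgLib.Perm.Asch
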