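import Cfsg.Agent.Lib.Perm.Asch.Forms.Commutative
import Cfsg.Agent.Lib.Descent.Hermitian

/-!
# Tensor decompositions of a form
-/

set_option autoImplicit false
set_option linter.all false

namespace CfsgLib.Perm.Asch

open scoped Classical Matrix Kronecker
open Matrix Cfsg.Geo

variable {ι : Type} [Fintype ι] [DecidableEq ι] {F : Type*} [Field F]
variable {μ : Type} [Fintype μ] [DecidableEq μ]

theorem rx_transpose (e : ι ≃ μ) (X : Matrix μ μ F) : rx e Xᵀ = (rx e X)ᵀ := rfl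

theorem rx_map (e : ι ≃ μ) (X : Matrix μ μ F) (σ : F →+* F) : rx e (X.map σ) = (rx e X).map σ := rfl

/-- the Gram matrix in new coordinates -/
noncomputable def gramAt (σ : F →+* F) (G : Matrix ι ι F) (e : ι ≃ μ) (P : GL ι F) : Matrix μ μ F :=
  (rx e).symm ((P : Matrix ι ι F)ᵀ * G * (P : Matrix ι ι F).map σ)

theorem rx_gramAt (σ : F →+* F) (G : Matrix ι ι F) (e : ι ≃ μ) (P : GL ι F) :
    rx e (gramAt σ G e P) = (P : Matrix ι ι F)ᵀ * G * (P : Matrix ι ι F).map σ :=
  (rx e).apply_symm_apply _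

theorem gramAt_det_ne_zero {σ : F →+* F} {G : Matrix ι ι F} (h : G.det ≠ 0) (e : ι ≃ μ) (P : GL ι F) :
    (gramAt σ G e P).det ≠ 0 := by
  have hu : IsUnit ((P : Matrix ι ι F)ᵀ * G * (P : Matrix ι ι F).map σ) := by
    rw [Matrix.isUnit_iff_isUnit_det, Matrix.det_mul, Matrix.det_mul, Matrix.det_transpose,
      ← RingHom.mapMatrix_apply, ← RingHom.map_det]
    have hP := (Matrix.isUnit_iff_isUnit_det _).1 P.isUnit
    exact (hP.mul (Ne.isUnit h)).mul (hP.map σ)
  exact ((Matrix.isUnit_iff_isUnit_det _).1 (hu.map (rx e).symm.toAlgHom.toRingHom.toMonoidHom)).ne_zero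

theorem gramAt_mul {σ : F →+* F} (G : Matrix ι ι F) (e : ι ≃ μ) (P : GL ι F) (k : GL μ F) :
    gramAt σ G e (P * glReindex e.symm k) =
      (k : Matrix μ μ F)ᵀ * gramAt σ G e P * (k : Matrix μ μ F).map σ := by
  apply (rx e).injective
  rw [rx_gramAt, map_mul, map_mul, rx_gramAt, rx_transpose, rx_map, Units.val_mul, Matrix.transpose_mul,
    Matrix.map_mul]
  show (rx e (k : Matrix μ μ F))ᵀ * _ * _ * (_ * (rx e (k : Matrix μ μ F)).map σ) = _
  simp only [mul_assoc]

/-- isometries in new coordinates -/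
theorem gramAt_isometry {σ : F →+* F} {G : Matrix ι ι F} (e : ι ≃ μ) (P : GL ι F) {k : GL μ F}
    (hk : P * glReindex e.symm k * P⁻¹ ∈ iso σ G) :
    (k : Matrix μ μ F)ᵀ * gramAt σ G e P * (k : Matrix μ μ F).map σ = gramAt σ G e P := by
  rw [← gramAt_mul]
  apply (rx e).injective
  rw [rx_gramAt, rx_gramAt]
  have hg := mem_iso.1 hk
  set g := P * glReindex e.symm k * P⁻¹
  have e1 : P * glReindex e.symm k = g * P := by simp only [g]; group
  rw [e1, Units.val_mul, Matrix.transpose_mul, Matrix.map_mul]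
  calc _ = (P : Matrix ι ι F)ᵀ * ((g : Matrix ι ι F)ᵀ * G * (g : Matrix ι ι F).map σ) * (P : Matrix ι ι F).map σ := by
        simp only [mul_assoc]
    _ = _ := by rw [hg]

/-- the adjoint in new coordinates -/
theorem gramAt_adj {σ : F →+* F} {G : Matrix ι ι F} (h : Refl σ G) (e : ι ≃ μ) (P : GL ι F) {X Y : Matrix μ μ F}
    (hXY : adj σ G (cj P (rx e X)) = cj P (rx e Y)) : Xᵀ * gramAt σ G e P = gramAt σ G e P * Y.map σ := by
  apply (rx e).injective
  rw [map_mul, map_mul, rx_gramAt, rx_transpose, rx_map]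
  have := h.mul_map_adj (cj P (rx e X))
  rw [hXY, cj, cj, Matrix.transpose_mul, Matrix.transpose_mul, Matrix.map_mul, Matrix.map_mul] at this
  have e1 : (P : Matrix ι ι F)ᵀ * ((P⁻¹ : GL ι F) : Matrix ι ι F)ᵀ = 1 := by
    rw [← Matrix.transpose_mul, gl_inv_mul, Matrix.transpose_one]
  have e2 : ((P⁻¹ : GL ι F) : Matrix ι ι F).map σ * (P : Matrix ι ι F).map σ = 1 := inv_map_mul σ P
  calc (rx e X)ᵀ * ((P : Matrix ι ι F)ᵀ * G * (P : Matrix ι ι F).map σ)
      = ((P : Matrix ι ι F)ᵀ * ((P⁻¹ : GL ι F) : Matrix ι ι F)ᵀ) * (rx e X)ᵀ * (P : Matrix ι ι F)ᵀ * G *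
          (P : Matrix ι ι F).map σ := by rw [e1, one_mul]; simp only [mul_assoc]
    _ = (P : Matrix ι ι F)ᵀ * (((P⁻¹ : GL ι F) : Matrix ι ι F)ᵀ * ((rx e X)ᵀ * (P : Matrix ι ι F)ᵀ) * G) *
          (P : Matrix ι ι F).map σ := by simp only [mul_assoc]
    _ = _ := by
      rw [← this]
      simp only [mul_assoc, e2, mul_one]

/-- an element of a tensor wreath group -/
theorem tensorWreathStandard_elem {k t : ℕ} {x : GL (Fin t → Fin k) F} (hx : x ∈ tensorWreathStandard k t F) :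
    ∃ (gs : Fin t → GL (Fin k) F) (π : Equiv.Perm (Fin t)), x = pureGL gs * permGL π := by
  have hmove : ∀ (π : Equiv.Perm (Fin t)) (gs : Fin t → GL (Fin k) F),
      permGL π * pureGL gs = pureGL (fun i => gs (π⁻¹ i)) * permGL π := by
    intro π gs
    apply Units.ext
    rw [Units.val_mul, Units.val_mul, permGL_coe, pureGL_coe, pureGL_coe]
    have := cj_permGL_pure (F := F) π (fun i => (gs i : Matrix (Fin k) (Fin k) F))
    rw [cj, permGL_coe] at this
    have e1 : permMat π * pure (fun i => (gs i : Matrix (Fin k) (Fin k) F)) =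
        permMat π * pure (fun i => (gs i : Matrix (Fin k) (Fin k) F)) *
          (((permGL π)⁻¹ : GL (Fin t → Fin k) F) : Matrix _ _ F) * permMat π := by
      rw [mul_assoc (_ * _), ← permGL_coe, gl_inv_mul, mul_one]
    rw [e1, this]
    rfl
  have hperm : ∀ π τ : Equiv.Perm (Fin t), (permGL π : GL (Fin t → Fin k) F) * permGL τ = permGL (π * τ) :=
    fun π τ => Units.ext (by rw [Units.val_mul, permGL_coe, permGL_coe, permGL_coe, permMat_mul_permMat])
  have hpure : ∀ a b : Fin t → GL (Fin k) F, pureGL a * pureGL b = pureGL (a * b) := fun a b =>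
    Units.ext (by rw [Units.val_mul, pureGL_coe, pureGL_coe, pureGL_coe, pure_mul]; rfl)
  have hinv : ∀ π : Equiv.Perm (Fin t), (permGL π : GL (Fin t → Fin k) F)⁻¹ = permGL π⁻¹ := fun π =>
    Units.ext rfl
  have hone : (pureGL (1 : Fin t → GL (Fin k) F) : GL (Fin t → Fin k) F) = 1 :=
    Units.ext (by rw [pureGL_coe]; exact pure_one)
  have hone' : (permGL 1 : GL (Fin t → Fin k) F) = 1 := Units.ext (by rw [permGL_coe]; exact permMat_one)
  induction hx using Subgroup.closure_induction with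
  | mem y hy =>
    rcases hy with ⟨gs, hgs⟩ | ⟨π, hπ⟩
    · exact ⟨gs, 1, Units.ext (by rw [hone', mul_one, pureGL_coe]; exact Matrix.ext hgs)⟩
    · exact ⟨1, π, Units.ext (by rw [hone, one_mul, permGL_coe]; exact Matrix.ext hπ)⟩
  | one => exact ⟨1, 1, by rw [hone, hone', one_mul]⟩
  | mul a b _ _ ha hb =>
    obtain ⟨g, π, rfl⟩ := ha
    obtain ⟨g', τ, rfl⟩ := hb
    refine ⟨g * fun i => g' (π⁻¹ i), π * τ, ?_⟩
    rw [← hperm, ← hpure, mul_assoc, ← mul_assoc (permGL π), hmove]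
    simp only [mul_assoc]
  | inv a _ ha =>
    obtain ⟨g, π, rfl⟩ := ha
    refine ⟨fun i => (g⁻¹) (π i), π⁻¹, ?_⟩
    rw [_root_.mul_inv_rev, hinv, show (pureGL g)⁻¹ = pureGL g⁻¹ from Units.ext rfl, hmove]
    simp

theorem pure_cancel {k t : ℕ} {A B : Fin t → Matrix (Fin k) (Fin k) F} {c : F} (h : pure A = c • pure B)
    (h0 : pure A ≠ 0) : ∀ i, ∃ d : F, d ≠ 0 ∧ A i = d • B i := by
  intro i
  obtain ⟨x, y, hxy⟩ : ∃ x y, pure A x y ≠ 0 := by
    by_contra hcon
    push Not at hcon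
    exact h0 (Matrix.ext hcon)
  have e := fun a b => congrFun (congrFun h (Function.update x i a)) (Function.update y i b)
  simp only [pure_apply, Matrix.smul_apply, smul_eq_mul] at e
  have hsplit : ∀ (M : Fin t → Matrix (Fin k) (Fin k) F) a b,
      ∏ j, M j (Function.update x i a j) (Function.update y i b j) =
        M i a b * ∏ j ∈ Finset.univ.erase i, M j (x j) (y j) := by
    intro M a b
    rw [← Finset.mul_prod_erase _ _ (Finset.mem_univ i), Function.update_self, Function.update_self]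
    congr 1
    refine Finset.prod_congr rfl fun j hj => ?_
    rw [Function.update_of_ne (Finset.ne_of_mem_erase hj), Function.update_of_ne (Finset.ne_of_mem_erase hj)]
  simp only [hsplit] at e
  rw [pure_apply, ← Finset.mul_prod_erase _ _ (Finset.mem_univ i)] at hxy
  obtain ⟨hA, hrest⟩ := mul_ne_zero_iff.1 hxy
  set a := ∏ j ∈ Finset.univ.erase i, A j (x j) (y j)
  set b := ∏ j ∈ Finset.univ.erase i, B j (x j) (y j)
  refine ⟨c * b / a, div_ne_zero (fun hcb => ?_) hrest, ?_⟩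
  · have := e (x i) (y i)
    rcases mul_eq_zero.1 hcb with h' | h' <;> simp only [h', zero_mul, mul_zero] at this <;>
      exact mul_ne_zero hA hrest this
  · ext p q
    rw [Matrix.smul_apply, smul_eq_mul, div_mul_eq_mul_div, eq_div_iff hrest]
    linear_combination e p q

/-- `H` stabilises the decomposition given by other bases of the factors -/
theorem le_tensorProduct_mul {n₁ n₂ : ℕ} {H : Subgroup (GL ι F)} {e : ι ≃ Fin n₁ × Fin n₂} {P : GL ι F}
    {k : GL (Fin n₁ × Fin n₂) F} (hk : k ∈ kroneckerSubgroup n₁ n₂ F) (h : H ≤ tensorProductSubgroup n₁ n₂ e P) :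
    H ≤ tensorProductSubgroup n₁ n₂ e (P * glReindex e.symm k) := by
  intro g hg
  obtain ⟨y, hy, rfl⟩ := Subgroup.mem_map.1 (h hg)
  obtain ⟨x, hx, rfl⟩ := Subgroup.mem_map.1 hy
  refine Subgroup.mem_map.2 ⟨_, Subgroup.mem_map.2 ⟨k⁻¹ * x * k,
    (kroneckerSubgroup n₁ n₂ F).mul_mem (mul_mem (inv_mem hk) hx) hk, rfl⟩, ?_⟩
  show P * glReindex e.symm k * glReindex e.symm (k⁻¹ * x * k) * (P * glReindex e.symm k)⁻¹ = P * glReindex e.symm x * P⁻¹
  simp only [map_mul, map_inv]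
  group

theorem le_tensorWreath_mul {k t : ℕ} {H : Subgroup (GL ι F)} {e : ι ≃ (Fin t → Fin k)} {P : GL ι F}
    {z : GL (Fin t → Fin k) F} (hz : z ∈ tensorWreathStandard k t F) (h : H ≤ tensorWreathSubgroup k t e P) :
    H ≤ tensorWreathSubgroup k t e (P * glReindex e.symm z) := by
  intro g hg
  obtain ⟨y, hy, rfl⟩ := Subgroup.mem_map.1 (h hg)
  obtain ⟨x, hx, rfl⟩ := Subgroup.mem_map.1 hy
  refine Subgroup.mem_map.2 ⟨_, Subgroup.mem_map.2 ⟨z⁻¹ * x * z,
    (tensorWreathStandard k t F).mul_mem (mul_mem (inv_mem hz) hx) hz, rfl⟩, ?_⟩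
  show P * glReindex e.symm z * glReindex e.symm (z⁻¹ * x * z) * (P * glReindex e.symm z)⁻¹ = P * glReindex e.symm x * P⁻¹
  simp only [map_mul, map_inv]
  group

theorem pureGL_mem {k t : ℕ} (gs : Fin t → GL (Fin k) F) : pureGL gs ∈ tensorWreathStandard k t F :=
  Subgroup.subset_closure (Or.inl ⟨gs, fun x y => rfl⟩)

theorem permMat_pure_const {k t : ℕ} (π : Equiv.Perm (Fin t)) (B : Matrix (Fin k) (Fin k) F) :
    (permMat π : Matrix (Fin t → Fin k) (Fin t → Fin k) F)ᵀ * pure (fun _ => B) * permMat π = pure fun _ => B := by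
  rw [permMat_transpose]
  have := cj_permGL_pure (F := F) π⁻¹ (fun _ : Fin t => B)
  rw [cj, permGL_coe] at this
  rw [show (((permGL π⁻¹)⁻¹ : GL (Fin t → Fin k) F) : Matrix (Fin t → Fin k) (Fin t → Fin k) F) = permMat π by
    show permMat π⁻¹⁻¹ = _; rw [inv_inv]] at this
  exact this

/-- the members of a tensor wreath group that are isometries of `c · G₁ ⊗ ⋯ ⊗ G₁` are built from similitudes -/
theorem wreath_similitude [Nonempty ι] {σ : F →+* F} {G : Matrix ι ι F} (hdet : G.det ≠ 0) {k t : ℕ}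
    {e : ι ≃ (Fin t → Fin k)} {P : GL ι F} {c : F} {G₁ : Matrix (Fin k) (Fin k) F}
    (hG : gramAt σ G e P = c • pure (fun _ => G₁))
    {g : GL ι F} (hgI : g ∈ iso σ G) (hg : g ∈ tensorWreathSubgroup k t e P) :
    ∃ (gs : Fin t → GL (Fin k) F) (π : Equiv.Perm (Fin t)), g = P * glReindex e.symm (pureGL gs * permGL π) * P⁻¹ ∧
      ∀ i, ∃ d : F, d ≠ 0 ∧ (gs i : Matrix (Fin k) (Fin k) F)ᵀ * G₁ * (gs i : Matrix (Fin k) (Fin k) F).map σ = d • G₁ := by
  obtain ⟨y, hy, rfl⟩ := Subgroup.mem_map.1 hg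
  obtain ⟨x, hx, rfl⟩ := Subgroup.mem_map.1 hy
  obtain ⟨gs, π, rfl⟩ := tensorWreathStandard_elem hx
  refine ⟨gs, π, rfl, ?_⟩
  have hiso := gramAt_isometry e P (k := pureGL gs * permGL π) hgI
  have hne := gramAt_det_ne_zero (σ := σ) hdet e P
  rw [hG] at hiso hne
  haveI : Nonempty (Fin t → Fin k) := ⟨e (Classical.arbitrary ι)⟩
  have hc : c ≠ 0 := fun h0 => by
    rw [h0, zero_smul, Matrix.det_zero] at hne
    exact hne rfl
  have hpm : ((permMat π : Matrix (Fin t → Fin k) (Fin t → Fin k) F)).map σ = permMat π := by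
    ext a b; simp only [Matrix.map_apply, permMat, Matrix.of_apply]; split_ifs <;> simp
  have hpmap : ∀ A : Fin t → Matrix (Fin k) (Fin k) F, (pure A).map σ = pure fun i => (A i).map σ := fun A => by
    ext a b; simp [map_prod]
  set M := pure fun i => (gs i : Matrix (Fin k) (Fin k) F)ᵀ * G₁ * (gs i : Matrix (Fin k) (Fin k) F).map σ with hM
  rw [Units.val_mul, pureGL_coe, permGL_coe, Matrix.transpose_mul, Matrix.map_mul, hpm, hpmap, pure_transpose] at hiso
  simp only [mul_smul_comm, smul_mul_assoc] at hiso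
  have hcancel := smul_right_injective _ hc hiso
  have hiso' : (permMat π : Matrix (Fin t → Fin k) (Fin t → Fin k) F)ᵀ * M * permMat π = pure fun _ => G₁ := by
    rw [hM, show (fun i => (gs i : Matrix (Fin k) (Fin k) F)ᵀ * G₁ * (gs i : Matrix (Fin k) (Fin k) F).map σ) =
      (fun i => (gs i : Matrix (Fin k) (Fin k) F)ᵀ) * (fun _ => G₁) * (fun i => (gs i : Matrix (Fin k) (Fin k) F).map σ) from rfl,
      ← pure_mul, ← pure_mul]
    simp only [mul_assoc] at hcancel ⊢
    exact hcancel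
  have hMeq : M = pure fun _ => G₁ := by
    have h1 : (permMat π : Matrix (Fin t → Fin k) (Fin t → Fin k) F) * (permMat π)ᵀ = 1 := by
      rw [permMat_transpose, permMat_mul_permMat, mul_inv_cancel, permMat_one]
    have h2 : (permMat π : Matrix (Fin t → Fin k) (Fin t → Fin k) F) * pure (fun _ => G₁) * (permMat π)ᵀ =
        pure fun _ => G₁ := by
      have := permMat_pure_const (F := F) π⁻¹ G₁
      rwa [permMat_transpose, inv_inv, ← permMat_transpose] at this
    calc M = (permMat π * (permMat π)ᵀ) * M * (permMat π * (permMat π)ᵀ) := by rw [h1, one_mul, mul_one]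
      _ = permMat π * ((permMat π)ᵀ * M * permMat π) * (permMat π)ᵀ := by simp only [mul_assoc]
      _ = _ := by rw [hiso', h2]
  refine pure_cancel (c := 1) (by rw [one_smul]; exact hMeq) ?_
  rw [show pure _ = M from hM.symm, hMeq]
  intro h0
  rw [h0, smul_zero, Matrix.det_zero] at hne
  exact hne rfl

/-- the gram matrix intertwines the left factor -/
theorem factor_of_intertwine {d m : ℕ} [Nonempty (Fin d)] [Nonempty (Fin m)] {σ : F →+* F}
    {G' : Matrix (Fin d × Fin m) (Fin d × Fin m) F} (hdet : G'.det ≠ 0)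
    (h : ∀ A : Matrix (Fin d) (Fin d) F, ∃ B : Matrix (Fin d) (Fin d) F,
      (A ⊗ₖ (1 : Matrix (Fin m) (Fin m) F))ᵀ * G' = G' * (B ⊗ₖ (1 : Matrix (Fin m) (Fin m) F)).map σ) :
    ∃ (G₁ : Matrix (Fin d) (Fin d) F) (G₂ : Matrix (Fin m) (Fin m) F), G' = G₁ ⊗ₖ G₂ := by
  let L : Matrix (Fin d) (Fin d) F → Matrix (Fin d × Fin m) (Fin d × Fin m) F := fun A => A ⊗ₖ (1 : Matrix (Fin m) (Fin m) F)
  have hLi : Function.Injective L := fun A B hAB => by
    ext i j
    have := congrFun (congrFun hAB (i, Classical.arbitrary _)) (j, Classical.arbitrary (Fin m))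
    simpa [L, Matrix.kronecker_apply] using this
  have hL : ∀ A : Matrix (Fin d) (Fin d) F, ∃ C, L A * G' = G' * L C := by
    intro A
    obtain ⟨B, hB⟩ := h Aᵀ
    refine ⟨B.map σ, ?_⟩
    have e1 : (Aᵀ ⊗ₖ (1 : Matrix (Fin m) (Fin m) F))ᵀ = L A := by
      ext ⟨i, k⟩ ⟨j, l⟩; simp [L, Matrix.kronecker_apply, Matrix.one_apply, eq_comm]
    have e2 : (B ⊗ₖ (1 : Matrix (Fin m) (Fin m) F)).map σ = L (B.map σ) := by
      ext ⟨i, k⟩ ⟨j, l⟩; by_cases hkl : k = l <;> simp [L, Matrix.kronecker_apply, Matrix.one_apply, hkl]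
    rw [← e1, ← e2, hB]
  choose φ hφ using hL
  have hcanc : ∀ {X Y}, G' * L X = G' * L Y → X = Y := fun {X Y} hXY => hLi (by
    have := congrArg (G'⁻¹ * ·) hXY
    simpa [← mul_assoc, Matrix.nonsing_inv_mul _ (Ne.isUnit hdet)] using this)
  have hLmul : ∀ X Y, L (X * Y) = L X * L Y := fun X Y => by
    show _ ⊗ₖ _ = (_ ⊗ₖ _) * (_ ⊗ₖ _)
    rw [← Matrix.mul_kronecker_mul, one_mul]
  have hLadd : ∀ X Y, L (X + Y) = L X + L Y := fun X Y => Matrix.add_kronecker _ _ _
  have hLsc : ∀ c : F, L (algebraMap F _ c) = c • 1 := fun c => by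
    show _ ⊗ₖ _ = _
    rw [Algebra.algebraMap_eq_smul_one, Matrix.smul_kronecker, Matrix.one_kronecker_one]
  obtain ⟨a, ha⟩ := skolem_noether
    { toFun := φ
      map_one' := hcanc (by rw [← hφ, show L 1 = 1 from Matrix.one_kronecker_one, one_mul, mul_one])
      map_mul' := fun X Y => hcanc (by rw [← hφ, hLmul, hLmul, ← mul_assoc, ← hφ, mul_assoc, hφ, mul_assoc])
      map_zero' := hcanc (by rw [← hφ, show L 0 = 0 from Matrix.zero_kronecker _, zero_mul, mul_zero])
      map_add' := fun X Y => hcanc (by rw [← hφ, hLadd, hLadd, mul_add, ← hφ, ← hφ, add_mul])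
      commutes' := fun c => hcanc (by rw [← hφ, hLsc, smul_mul_assoc, one_mul, mul_smul_comm, mul_one]) }
  have hφa : ∀ X, φ X = cj a X := ha
  set M := G' * L (a : Matrix (Fin d) (Fin d) F)
  obtain ⟨C, hC⟩ := exists_right M (fun x y => by
    show L (Matrix.single x y 1) * (G' * L _) = G' * L _ * L (Matrix.single x y 1)
    rw [← mul_assoc, hφ, hφa, mul_assoc, mul_assoc, ← hLmul, ← hLmul]
    congr 2
    rw [cj, mul_assoc, gl_inv_mul, mul_one])
  refine ⟨((a⁻¹ : GL (Fin d) F) : Matrix (Fin d) (Fin d) F), C, ?_⟩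
  calc G' = M * L ((a⁻¹ : GL (Fin d) F) : Matrix (Fin d) (Fin d) F) := by
        show G' = G' * L _ * L _
        rw [mul_assoc, ← hLmul, gl_mul_inv, show L 1 = 1 from Matrix.one_kronecker_one, mul_one]
    _ = _ := by
        rw [hC]
        show _ * (_ ⊗ₖ _) = _
        rw [← Matrix.mul_kronecker_mul, one_mul, mul_one]

/-- both factors of a reflexive form are reflexive -/
theorem factor_refl [Nonempty ι] {σ : F →+* F} {G : Matrix ι ι F} (h : Refl σ G) {d m : ℕ}
    {e : ι ≃ Fin d × Fin m} {P : GL ι F} {G₁ : Matrix (Fin d) (Fin d) F} {G₂ : Matrix (Fin m) (Fin m) F}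
    (hG : gramAt σ G e P = G₁ ⊗ₖ G₂) :
    G₁.det ≠ 0 ∧ G₂.det ≠ 0 ∧ ∃ ε c₁ c₂ : F, Gᵀ.map σ = ε • G ∧ c₁ * c₂ = ε ∧
      G₁ᵀ.map σ = c₁ • G₁ ∧ G₂ᵀ.map σ = c₂ • G₂ := by
  haveI : Nonempty (Fin d) := ⟨(e (Classical.arbitrary ι)).1⟩
  haveI : Nonempty (Fin m) := ⟨(e (Classical.arbitrary ι)).2⟩
  have hne := gramAt_det_ne_zero (σ := σ) h.det e P
  rw [hG, Matrix.det_kronecker] at hne
  obtain ⟨h1, h2⟩ := mul_ne_zero_iff.1 hne
  have hd1 : G₁.det ≠ 0 := fun h0 => h1 (by rw [h0, zero_pow]; simp [Fintype.card_fin, Fin.pos_iff_nonempty.2 inferInstance |>.ne'])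
  have hd2 : G₂.det ≠ 0 := fun h0 => h2 (by rw [h0, zero_pow]; simp [Fintype.card_fin, Fin.pos_iff_nonempty.2 inferInstance |>.ne'])
  refine ⟨hd1, hd2, ?_⟩
  obtain ⟨ε, hε⟩ := h.refl
  have key : (gramAt σ G e P)ᵀ.map σ = ε • gramAt σ G e P := by
    apply (rx e).injective
    rw [rx_map, rx_transpose, map_smul, rx_gramAt, Matrix.transpose_mul, Matrix.transpose_mul,
      Matrix.transpose_transpose, Matrix.map_mul, Matrix.map_mul, Matrix.transpose_map, h.map_map, hε]
    simp only [mul_smul_comm, smul_mul_assoc, mul_assoc]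
  have hkm : ∀ (A : Matrix (Fin d) (Fin d) F) (B : Matrix (Fin m) (Fin m) F), (A ⊗ₖ B)ᵀ.map σ = Aᵀ.map σ ⊗ₖ Bᵀ.map σ := by
    intro A B
    ext ⟨i, k⟩ ⟨j, l⟩
    simp [Matrix.kronecker_apply]
  rw [hG, hkm, ← Matrix.smul_kronecker] at key
  have hnz : (G₁ᵀ.map σ) ⊗ₖ (G₂ᵀ.map σ) ≠ 0 := by
    intro h0
    have := congrArg Matrix.det h0
    rw [Matrix.det_kronecker, Matrix.det_zero, ← RingHom.mapMatrix_apply, ← RingHom.map_det, Matrix.det_transpose,
      ← RingHom.mapMatrix_apply, ← RingHom.map_det, Matrix.det_transpose, mul_eq_zero] at this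
    rcases this with h' | h' <;> have := pow_eq_zero_iff'.1 h'
    · exact hd1 (by simpa using this.1)
    · exact hd2 (by simpa using this.1)
  obtain ⟨c, hc0, e1, e2⟩ := kronecker_cancel key hnz
  refine ⟨ε, ε / c, c, hε, div_mul_cancel₀ ε hc0, ?_, ?_⟩
  · rw [div_eq_inv_mul, ← smul_smul, e1, smul_smul, inv_mul_cancel₀ hc0, one_smul]
  · conv_rhs => rw [e2]
    rw [smul_smul, mul_inv_cancel₀ hc0, one_smul]

/-- Clifford's theorem with a form -/
theorem absIrr_or_tensor [Fintype F] [Nonempty ι] {σ : F →+* F} {G : Matrix ι ι F} (h : Refl σ G)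
    {H N : Subgroup (GL ι F)} (hI : Irred H)
    (hsc : ∀ Z : Subalgebra F (Matrix ι ι F), (∀ x ∈ Z, ∀ y ∈ Z, x * y = y * x) → Normalises H Z →
      AdjClosed σ G (Z : Set (Matrix ι ι F)) → ∀ z ∈ Z, ∃ c : F, z = c • (1 : Matrix ι ι F))
    (hN : NormG H N) (hNI : N ≤ iso σ G) (hNs : ¬ N ≤ scalars ι F) :
    AbsIrr N ∨ ∃ (d m : ℕ) (e : ι ≃ Fin d × Fin m) (P : GL ι F) (G₁ : Matrix (Fin d) (Fin d) F)
      (G₂ : Matrix (Fin m) (Fin m) F), 2 ≤ d ∧ 2 ≤ m ∧ H ≤ tensorProductSubgroup d m e P ∧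
        gramAt σ G e P = G₁ ⊗ₖ G₂ := by
  set C := Subalgebra.centralizer F (matrixSet N)
  have hC : Normalises H C := Normalises.centralizer hN.set
  have hCd : AdjClosed σ G (C : Set (Matrix ι ι F)) := h.adjClosed_centralizer (h.adjClosed_matrixSet hNI)
  have hZ : ∀ z ∈ C, (∀ a ∈ C, z * a = a * z) → ∃ c : F, z = c • (1 : Matrix ι ι F) := by
    intro z hz hzc
    refine hsc (C ⊓ Subalgebra.centralizer F (C : Set (Matrix ι ι F))) (fun x hx y hy => ?_)
      (hC.inf (Normalises.centralizer hC.toSet)) (fun x hx => ⟨hCd x hx.1, h.adjClosed_centralizer hCd x hx.2⟩) z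
      ⟨hz, (Subalgebra.mem_centralizer_iff F).2 fun a ha => (hzc a ha).symm⟩
    exact ((Subalgebra.mem_centralizer_iff F).1 hy.2 x hx.1)
  obtain ⟨d, u, hd, hu, huC, hspan⟩ := exists_matUnits hI hC hZ
  haveI : Nonempty (Fin d) := ⟨⟨0, hd⟩⟩
  obtain ⟨m, ⟨e⟩, he⟩ := hu.exists_basis
  obtain ⟨P, hP⟩ := he e
  haveI : Nonempty (Fin m) := ⟨(e (Classical.arbitrary _)).2⟩
  have hexp : ∀ X : Matrix (Fin d) (Fin d) F,
      cj P (rx e (X ⊗ₖ (1 : Matrix (Fin m) (Fin m) F))) = ∑ a, ∑ b, X a b • u a b := by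
    intro X
    have : X ⊗ₖ (1 : Matrix (Fin m) (Fin m) F) = ∑ a, ∑ b, X a b • lu m a b := by
      ext ⟨i1, i2⟩ ⟨j1, j2⟩
      simp only [Matrix.sum_apply, Matrix.smul_apply, lu_apply, Matrix.kronecker_apply, Matrix.one_apply, smul_eq_mul]
      rw [Finset.sum_eq_single i1, Finset.sum_eq_single j1]
      · by_cases h : i2 = j2 <;> simp [h]
      · intro b _ hb; simp [hb]
      · simp
      · intro b _ hb; simp [hb]
      · simp
    rw [this, ← cjAlg_apply]
    simp only [map_sum, map_smul, cjAlg_apply, hP]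
  rcases Nat.lt_or_ge d 2 with hd2 | hd2
  · left
    have hscal : ∀ M : Matrix ι ι F, (∀ x ∈ N, M * (x : Matrix ι ι F) = (x : Matrix ι ι F) * M) →
        ∃ c : F, M = c • (1 : Matrix ι ι F) := by
      intro M hM
      obtain ⟨X, hX⟩ := hspan M ((Subalgebra.mem_centralizer_iff F).2 (by rintro _ ⟨x, hx, rfl⟩; exact (hM x hx).symm))
      obtain rfl : d = 1 := by omega
      refine ⟨X 0 0, ?_⟩
      rw [hX, Fin.sum_univ_one, Fin.sum_univ_one]
      have := hu.sum_one
      rw [Fin.sum_univ_one] at this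
      rw [this]
    exact ⟨irred_of_centralizer hI hN hscal, fun M hM => hscal M fun x hx => hM _ (mem_matrixSet hx)⟩
  rcases Nat.lt_or_ge m 2 with hm2 | hm2
  · exfalso
    obtain rfl : m = 1 := by
      have : 0 < m := Fin.pos_iff_nonempty.2 inferInstance
      omega
    refine hNs fun x hx => ?_
    obtain ⟨B, hB⟩ := right_of_commute hP (X := (x : Matrix ι ι F)) (fun a b =>
      ((Subalgebra.mem_centralizer_iff F).1 (huC a b) _ (mem_matrixSet hx)).symm)
    refine mem_scalars_of_eq (c := B 0 0) ?_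
    rw [hB]
    have hB1 : B = B 0 0 • (1 : Matrix (Fin 1) (Fin 1) F) := by
      ext i j
      obtain rfl := Fin.fin_one_eq_zero i
      obtain rfl := Fin.fin_one_eq_zero j
      simp
    rw [hB1, Matrix.kronecker_smul, Matrix.one_kronecker_one, map_smul, map_one, cj_smul, cj_one]
    simp
  · right
    have hleft : ∀ A : Matrix (Fin d) (Fin d) F, cj P (rx e (A ⊗ₖ (1 : Matrix (Fin m) (Fin m) F))) ∈ C := fun A => by
      rw [hexp]
      exact C.sum_mem fun a _ => C.sum_mem fun b _ => C.smul_mem (huC a b) _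
    obtain ⟨G₁, G₂, hG⟩ := factor_of_intertwine (gramAt_det_ne_zero (σ := σ) h.det e P) (fun A => by
      obtain ⟨X, hX⟩ := hspan _ (hCd _ (hleft A))
      exact ⟨X, gramAt_adj h e P (by rw [hX, hexp])⟩)
    refine ⟨d, m, e, P, G₁, G₂, hd2, hm2, le_tensorProduct e P fun g hg A => ?_, hG⟩
    obtain ⟨X, hX⟩ := hspan _ (hC g hg _ (hleft A))
    exact ⟨X, by rw [hX, hexp]⟩

/-- the power form of a decomposition whose slots have adjoints with common coefficients -/
theorem power_of_intertwine {k t : ℕ} [Nonempty (Fin k)] (ht : 0 < t) {σ : F →+* F}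
    {G' : Matrix (Fin t → Fin k) (Fin t → Fin k) F} (hdet : G'.det ≠ 0)
    (h : ∀ A : Matrix (Fin k) (Fin k) F, ∃ B : Matrix (Fin k) (Fin k) F,
      ∀ i, (slot i A)ᵀ * G' = G' * (slot i B).map σ) :
    ∃ (c : F) (G₁ : Matrix (Fin k) (Fin k) F), G' = c • pure fun _ => G₁ := by
  let i0 : Fin t := ⟨0, ht⟩
  have hL : ∀ A : Matrix (Fin k) (Fin k) F, ∃ C, ∀ i, slot i A * G' = G' * slot i C := by
    intro A
    obtain ⟨B, hB⟩ := h Aᵀ
    refine ⟨B.map σ, fun i => ?_⟩
    have e1 : (slot i Aᵀ)ᵀ = slot (F := F) i A := by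
      ext x y
      simp only [Matrix.transpose_apply, slot_apply]
      simp [eq_comm]
    have e2 : (slot i B).map σ = slot i (B.map σ) := by
      ext x y
      simp only [Matrix.map_apply, slot_apply]
      split_ifs <;> simp
    rw [← e1, ← e2, hB]
  choose φ hφ using hL
  have hcanc : ∀ {X Y}, G' * slot i0 X = G' * slot i0 Y → X = Y := fun {X Y} hXY => slot_injective i0 (by
    have := congrArg (G'⁻¹ * ·) hXY
    simpa [← mul_assoc, Matrix.nonsing_inv_mul _ (Ne.isUnit hdet)] using this)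
  have hS : ∀ X : Matrix (Fin k) (Fin k) F, slot i0 X = slotHom i0 X := fun _ => rfl
  obtain ⟨a, ha⟩ := skolem_noether
    { toFun := φ
      map_one' := hcanc (by rw [← hφ, hS, map_one, one_mul, mul_one])
      map_mul' := fun X Y => hcanc (by rw [← hφ, ← slot_mul, ← slot_mul, ← mul_assoc, ← hφ, mul_assoc, hφ, mul_assoc])
      map_zero' := hcanc (by rw [← hφ, hS, map_zero, zero_mul, mul_zero])
      map_add' := fun X Y => hcanc (by
        rw [← hφ]
        simp only [hS, map_add, mul_add, add_mul]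
        rw [← hS, ← hS, ← hS, ← hS, hφ, hφ])
      commutes' := fun c => hcanc (by
        rw [← hφ, hS, AlgHom.commutes, Algebra.commutes]) }
  have hφa : ∀ X, φ X = cj a X := ha
  set A := (pureGL fun _ : Fin t => a : GL (Fin t → Fin k) F)
  obtain ⟨c, hc⟩ := scalar_of_commute_slots (G' * (A : Matrix (Fin t → Fin k) (Fin t → Fin k) F)) (fun i x y => by
    rw [← mul_assoc, hφ, hφa, mul_assoc, mul_assoc, ← cj_pureGL_slot (fun _ : Fin t => a), cj]
    simp only [mul_assoc, A, gl_inv_mul, mul_one])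
  refine ⟨c, ((a⁻¹ : GL (Fin k) F) : Matrix (Fin k) (Fin k) F), ?_⟩
  calc G' = G' * (A : Matrix (Fin t → Fin k) (Fin t → Fin k) F) *
        ((A⁻¹ : GL (Fin t → Fin k) F) : Matrix (Fin t → Fin k) (Fin t → Fin k) F) := by
        rw [mul_assoc, gl_mul_inv, mul_one]
    _ = _ := by rw [hc, smul_mul_assoc, one_mul, pureGL_inv_coe]

end CfsgLib.Perm.Asch
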