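import Cfsg.Agent.Lib.Perm.Asch.Forms.Sp
import Cfsg.Agent.Lib.Perm.Asch.Forms.Tensor

/-!
# Tensor decompositions of a symplectic form
-/

set_option autoImplicit false
set_option linter.all false

namespace CfsgLib.Perm.Asch

open scoped Classical Matrix Kronecker
open Matrix Cfsg.Geo

variable {F : Type*} [Field F]

section General
variable {ι : Type} [Fintype ι] [DecidableEq ι] {μ : Type} [Fintype μ] [DecidableEq μ]

/-- the converse of `gramAt_adj` -/
theorem adj_of_gramAt {σ : F →+* F} {G : Matrix ι ι F} (h : Refl σ G) (e : ι ≃ μ) (P : GL ι F) {X Y : Matrix μ μ F}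
    (hXY : Xᵀ * gramAt σ G e P = gramAt σ G e P * Y.map σ) : adj σ G (cj P (rx e X)) = cj P (rx e Y) := by
  obtain ⟨Y₀, hY₀⟩ : ∃ Y₀, adj σ G (cj P (rx e X)) = cj P (rx e Y₀) :=
    ⟨(rx e).symm (cj P⁻¹ (adj σ G (cj P (rx e X)))), by rw [AlgEquiv.apply_symm_apply, cj_cj_inv]⟩
  rw [hY₀]
  have e1 := (gramAt_adj h e P hY₀).symm.trans hXY
  have e2 := congrArg ((gramAt σ G e P)⁻¹ * ·) e1
  simp only [← mul_assoc, Matrix.nonsing_inv_mul _ (Ne.isUnit (gramAt_det_ne_zero h.det e P)), one_mul] at e2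
  have : Y₀ = Y := by
    ext i j
    exact σ.injective (congrFun (congrFun e2 i) j)
  rw [this]

/-- the kernel of a singular matrix commuting with `H` up to left multiplication is invariant -/
theorem not_irred_of_killed {H : Subgroup (GL ι F)} {S : Set (Matrix ι ι F)} (hne : ∃ s ∈ S, s ≠ 0)
    (hker : killed S ≠ ⊥) (hS : ∀ g ∈ H, ∀ s ∈ S, ∃ Y, ∃ s' ∈ S, s * (g : Matrix ι ι F) = Y * s') : ¬ Irred H := by
  intro hI
  rcases hI.eq_bot_or_top (killed S) (fun g hg v hv => by
    intro s hs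
    obtain ⟨Y, s', hs', e⟩ := hS g hg s hs
    rw [mulVec_mulVec, e, ← mulVec_mulVec, hv s' hs', mulVec_zero]) with h | h
  · exact hker h
  · obtain ⟨s, hs, hs0⟩ := hne
    refine hs0 (Matrix.toLin'.injective ?_)
    rw [map_zero]
    exact LinearMap.ext fun v => (h ▸ Submodule.mem_top : v ∈ killed S) s hs

theorem tensorProduct_elem {n₁ n₂ : ℕ} {e : ι ≃ Fin n₁ × Fin n₂} {P : GL ι F} {g : GL ι F}
    (hg : g ∈ tensorProductSubgroup n₁ n₂ e P) :
    ∃ (k : GL (Fin n₁ × Fin n₂) F) (a : GL (Fin n₁) F) (b : GL (Fin n₂) F),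
      g = P * glReindex e.symm k * P⁻¹ ∧
      (k : Matrix (Fin n₁ × Fin n₂) (Fin n₁ × Fin n₂) F) =
        (a : Matrix (Fin n₁) (Fin n₁) F) ⊗ₖ (b : Matrix (Fin n₂) (Fin n₂) F) := by
  obtain ⟨y, hy, rfl⟩ := Subgroup.mem_map.1 hg
  obtain ⟨k, ⟨a, b, hk⟩, rfl⟩ := Subgroup.mem_map.1 hy
  exact ⟨k, a, b, rfl, hk⟩

theorem tensorProduct_swap {n₁ n₂ : ℕ} (e : ι ≃ Fin n₁ × Fin n₂) (P : GL ι F) :
    tensorProductSubgroup n₁ n₂ e P ≤ tensorProductSubgroup n₂ n₁ (e.trans (Equiv.prodComm _ _)) P := by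
  intro x hx
  obtain ⟨k, a, b, rfl, hk⟩ := tensorProduct_elem hx
  refine Subgroup.mem_map.2 ⟨_, Subgroup.mem_map.2 ⟨glReindex (Equiv.prodComm (Fin n₁) (Fin n₂)) k,
    ⟨b, a, ?_⟩, rfl⟩, ?_⟩
  · ext ⟨i1, i2⟩ ⟨j1, j2⟩
    show (k : Matrix _ _ F) (i2, i1) (j2, j1) = _
    rw [hk, Matrix.kronecker_apply, Matrix.kronecker_apply, mul_comm]
  · show P * _ * P⁻¹ = _
    rfl

theorem gramAt_swap {σ : F →+* F} (G : Matrix ι ι F) {n₁ n₂ : ℕ} (e : ι ≃ Fin n₁ × Fin n₂) (P : GL ι F)
    {G₁ : Matrix (Fin n₁) (Fin n₁) F} {G₂ : Matrix (Fin n₂) (Fin n₂) F} (hG : gramAt σ G e P = G₁ ⊗ₖ G₂) :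
    gramAt σ G (e.trans (Equiv.prodComm _ _)) P = G₂ ⊗ₖ G₁ := by
  apply (rx (e.trans (Equiv.prodComm (Fin n₁) (Fin n₂)))).injective
  rw [rx_gramAt, ← rx_gramAt σ G e P, hG]
  ext i j
  simp only [rx_apply, Equiv.trans_apply, Equiv.prodComm_apply]
  show G₁ (e i).1 (e j).1 * G₂ (e i).2 (e j).2 = G₂ (e i).2 (e j).2 * G₁ (e i).1 (e j).1
  ring

/-- `f (P (x ∘ e)) (P (y ∘ e))` through the Gram matrix in new coordinates -/
theorem gform_gramAt (σ : F →+* F) (G : Matrix ι ι F) (e : ι ≃ μ) (P : GL ι F) (x y : μ → F) :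
    gform σ G ((P : Matrix ι ι F) *ᵥ (x ∘ e)) ((P : Matrix ι ι F) *ᵥ (y ∘ e)) =
      gform σ (gramAt σ G e P) x y := by
  rw [gform_mulVec, ← rx_gramAt σ G e P]
  simp only [gform, dotProduct, Matrix.mulVec, Function.comp_apply, rx_apply]
  rw [← Equiv.sum_comp e (fun a => x a * _)]
  refine Finset.sum_congr rfl fun i _ => ?_
  rw [← Equiv.sum_comp e (fun b => gramAt σ G e P (e i) b * _)]

omit [DecidableEq μ] in
theorem formOfGram_eq (σ : F →+* F) (G : Matrix μ μ F) (x y : μ → F) :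
    formOfGram σ G x y = gform σ G x y := by
  simp only [formOfGram, gform, dotProduct, Matrix.mulVec, Function.comp_apply, Finset.mul_sum, mul_assoc]

theorem gramMatrix_gform (σ : F →+* F) (G : Matrix μ μ F) : gramMatrix (gform σ G) = G :=
  Matrix.ext fun a b => gform_single σ G a b

theorem tensorFormStructure_of_gramAt {σ : F →+* F} {G : Matrix ι ι F} {n₁ n₂ : ℕ} {e : ι ≃ Fin n₁ × Fin n₂}
    {P : GL ι F} {c : F} (hc : c ≠ 0) {G₁ : Matrix (Fin n₁) (Fin n₁) F} {G₂ : Matrix (Fin n₂) (Fin n₂) F}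
    (hG : gramAt σ G e P = c • (G₁ ⊗ₖ G₂)) :
    IsTensorFormStructure σ (gform σ G) (gform σ G₁) (gform σ G₂) e P := by
  refine ⟨c, hc, fun x y => ?_⟩
  rw [gform_gramAt, hG, gramMatrix_gform, gramMatrix_gform, formOfGram_eq]
  simp [gform, Matrix.smul_mulVec, dotProduct_smul]

theorem powerFormStructure_of_gramAt {σ : F →+* F} {G : Matrix ι ι F} {k t : ℕ} {e : ι ≃ (Fin t → Fin k)}
    {P : GL ι F} {c : F} (hc : c ≠ 0) {G₁ : Matrix (Fin k) (Fin k) F}
    (hG : gramAt σ G e P = c • pure fun _ => G₁) :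
    IsTensorPowerFormStructure σ (gform σ G) (gform σ G₁) e P := by
  refine ⟨c, hc, fun x y => ?_⟩
  rw [gform_gramAt, hG, gramMatrix_gform]
  simp only [gform, dotProduct, Matrix.mulVec, Matrix.smul_apply, pure_apply, Function.comp_apply, smul_eq_mul,
    Finset.mul_sum]
  exact Finset.sum_congr rfl fun a _ => Finset.sum_congr rfl fun b _ => by ring

theorem bilin_symplectic [Fintype F] {G : Matrix μ μ F} (hd : G.det ≠ 0) (hs : Gᵀ = -G) (h2 : (2 : F) ≠ 0) :
    IsSymplecticForm (gform (RingHom.id F) G) := by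
  refine ⟨gform_bilinear G, fun v w => ?_, fun v => ?_, gform_nondegenerate hd⟩
  · rw [gform_swap G w v, hs]; simp [gform, Matrix.neg_mulVec]
  · refine gform_self_eq_zero hs (fun i => ?_) v
    have := congrFun (congrFun hs i) i
    rw [Matrix.transpose_apply, Matrix.neg_apply] at this
    have h3 : (2 : F) * G i i = 0 := by linear_combination this
    exact (mul_eq_zero.1 h3).resolve_left h2

theorem bilin_symmetric [Fintype F] {G : Matrix μ μ F} (hd : G.det ≠ 0) (hs : Gᵀ = G) :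
    IsSymmetricForm (gform (RingHom.id F) G) :=
  ⟨gform_bilinear G, fun v w => by rw [gform_swap G w v, hs], gform_nondegenerate hd⟩

theorem charTwo_of_even [Fintype F] (hq : ¬ Odd (Fintype.card F)) : CharP F 2 := by
  have hchar : ringChar F = 2 := by
    rw [FiniteField.even_card_iff_char_two]
    rcases Nat.even_or_odd (Fintype.card F) with h | h
    · exact Nat.even_iff.1 h
    · exact absurd h hq
  exact hchar ▸ ringChar.charP F

/-- a row `w` with `w_i² = G_ii` in characteristic two, up to scalars invariant under similitudes -/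
theorem exists_row [Fintype F] [CharP F 2] {d : ℕ} {G : Matrix (Fin d) (Fin d) F} (hs : Gᵀ = G) {i : Fin d}
    (hi : G i i ≠ 0) :
    ∃ E : Matrix (Fin d) (Fin d) F, E ≠ 0 ∧ (2 ≤ d → E.det = 0) ∧
      ∀ (a : Matrix (Fin d) (Fin d) F) (c : F), aᵀ * G * a = c • G → ∃ s : F, E * a = s • E := by
  have hsq : ∀ x : F, ∃ y, y * y = x := fun x => by
    obtain ⟨y, hy⟩ := FiniteField.isSquare_of_char_two (ringChar.eq F 2) x
    exact ⟨y, hy.symm⟩
  choose w hw using fun j => hsq (G j j)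
  refine ⟨Matrix.vecMulVec (Pi.single i 1) w, ?_, fun hd => ?_, fun a c ha => ?_⟩
  · intro h0
    have := congrFun (congrFun h0 i) i
    rw [vecMulVec_apply, Pi.single_eq_same, one_mul, Matrix.zero_apply] at this
    exact hi (by rw [← hw, this, mul_zero])
  · obtain ⟨j, hj⟩ : ∃ j : Fin d, j ≠ i := by
      haveI : Nontrivial (Fin d) := Fin.nontrivial_iff_two_le.2 hd
      exact exists_ne i
    exact Matrix.det_eq_zero_of_row_eq_zero j fun l => by rw [vecMulVec_apply, Pi.single_eq_of_ne hj, zero_mul]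
  · obtain ⟨s, hs'⟩ := hsq c
    refine ⟨s, ?_⟩
    have key : w ᵥ* a = s • w := by
      funext j
      have hval : (w ᵥ* a) j * (w ᵥ* a) j = (s • w) j * (s • w) j := by
        have h1 : (s • w) j * (s • w) j = (aᵀ * G * a) j j := by
          rw [ha, Matrix.smul_apply, smul_eq_mul, Pi.smul_apply, smul_eq_mul, ← hs', ← hw]; ring
        rw [h1]
        have hadd : ∀ x y : F, (x + y) * (x + y) = x * x + y * y := fun x y => by
          linear_combination (x * y) * (CharTwo.two_eq_zero (R := F))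
        let Sq : F →+ F := AddMonoidHom.mk' (fun x => x * x) hadd
        show Sq (∑ k, w k * a k j) = _
        rw [map_sum]
        have h2 : (aᵀ * G * a) j j = gform (RingHom.id F) G (fun k => a k j) (fun k => a k j) := by
          simp [gform, Matrix.mul_apply, dotProduct, Matrix.mulVec, Finset.mul_sum, Finset.sum_mul, mul_assoc]
          exact Finset.sum_comm
        rw [h2]
        -- the diagonal is additive
        have hdadd : ∀ u v, gform (RingHom.id F) G (u + v) (u + v) =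
            gform (RingHom.id F) G u u + gform (RingHom.id F) G v v := fun u v => by
          rw [gform_add_left, gform_add_right, gform_add_right, gform_swap G u v, hs]
          linear_combination (gform (RingHom.id F) G u v) * (CharTwo.two_eq_zero (R := F))
        let Dg : (Fin d → F) →+ F := AddMonoidHom.mk' (fun u => gform (RingHom.id F) G u u) hdadd
        show _ = Dg _
        conv_rhs => rw [pi_eq_sum_univ' (fun k => a k j), map_sum]
        refine Finset.sum_congr rfl fun k _ => ?_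
        show w k * a k j * (w k * a k j) = gform (RingHom.id F) G (a k j • Pi.single k 1) (a k j • Pi.single k 1)
        rw [gform_smul_left, gform_smul_right, gform_single, RingHom.id_apply, ← hw]
        ring
      rcases mul_self_eq_mul_self_iff.1 hval with h | h
      · exact h
      · rw [h, CharTwo.neg_eq]
    rw [Matrix.vecMulVec_mul, key]
    ext p q; simp [vecMulVec_apply]; ring

end General

variable [Fintype F] {m : ℕ} {H : Subgroup (GL (Fin m ⊕ Fin m) F)}

local notation "σ₁" => RingHom.id _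
local notation "Jm" => Matrix.J (Fin _) _

/-- `H` fixes the quadratic form given by `T` when it fixes the diagonal of `T` -/
theorem sp_quad_of_matrix {μ : Type} [Fintype μ] [DecidableEq μ] (hq : ¬ Odd (Fintype.card F))
    (hI : H ≤ Cfsg.spGL m F) (e : (Fin m ⊕ Fin m) ≃ μ) (P : GL (Fin m ⊕ Fin m) F) {T : Matrix μ μ F}
    (hT : T + Tᵀ = gramAt (RingHom.id F) (Matrix.J (Fin m) F) e P)
    (hH : ∀ g ∈ H, ∃ k : GL μ F, g = P * glReindex e.symm k * P⁻¹ ∧
      ∀ x, ((k : Matrix μ μ F)ᵀ * T * (k : Matrix μ μ F)) x x = T x x) : SpClass m F H := by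
  haveI := charTwo_of_even hq
  rw [spGL_eq] at hI
  set Pi' : Matrix (Fin m ⊕ Fin m) (Fin m ⊕ Fin m) F := ↑(P⁻¹ : GL (Fin m ⊕ Fin m) F) with hPi'
  set U := Pi'ᵀ * rx e T * Pi' with hU
  have hUU : U + Uᵀ = Matrix.J (Fin m) F := by
    rw [hU, Matrix.transpose_mul, Matrix.transpose_mul, Matrix.transpose_transpose, ← rx_transpose, ← mul_assoc (Pi'ᵀ),
      ← add_mul, ← mul_add, ← map_add, hT, rx_gramAt]
    simp only [RingHom.coe_id, Matrix.map_id, mul_assoc, hPi', gl_mul_inv, mul_one]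
    rw [← mul_assoc, ← Matrix.transpose_mul, gl_mul_inv, Matrix.transpose_one, one_mul]
  let Q : (Fin m ⊕ Fin m → F) → F := fun v => gform (RingHom.id F) U v v
  have hpol : ∀ u v, QuadraticMap.polar Q u v = gform (RingHom.id F) (Matrix.J (Fin m) F) u v := by
    intro u v
    simp only [QuadraticMap.polar, Q, gform_add_left, gform_add_right]
    rw [gform_swap U u v]
    conv_rhs => rw [← hUU]
    simp [gform, Matrix.add_mulVec, dotProduct_add]
    ring
  refine SpClass.quad (Q := Q) hq ⟨fun c v => ?_, ?_, ?_⟩ hpol ?_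
  · simp only [Q, gform_smul_left, gform_smul_right, RingHom.id_apply]; ring
  · rw [show QuadraticMap.polar Q = _ from funext fun u => funext (hpol u)]
    exact gform_bilinear _
  · rw [show QuadraticMap.polar Q = _ from funext fun u => funext (hpol u)]
    exact gform_nondegenerate refl_J.det
  · intro g hg
    refine ⟨1, fun v => ?_⟩
    obtain ⟨k, rfl, hk⟩ := hH g hg
    rw [Units.val_one, one_mul]
    set km : Matrix μ μ F := (k : Matrix μ μ F)
    have hiso := gramAt_isometry e P (k := k) (hI hg)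
    simp only [RingHom.coe_id, Matrix.map_id] at hiso
    set D := kmᵀ * T * km + T with hD
    have hDs : Dᵀ = -D := by
      have h1 : D + Dᵀ = 0 := by
        rw [hD, Matrix.transpose_add, Matrix.transpose_mul, Matrix.transpose_mul, Matrix.transpose_transpose]
        have : kmᵀ * T * km + T + (kmᵀ * (Tᵀ * km) + Tᵀ) = kmᵀ * (T + Tᵀ) * km + (T + Tᵀ) := by
          rw [mul_add, add_mul]; simp only [mul_assoc]; abel
        rw [this, hT, hiso]
        ext i j
        simp only [Matrix.add_apply, Matrix.zero_apply]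
        exact CharTwo.add_self_eq_zero _
      exact eq_neg_of_add_eq_zero_right h1
    have hDd : ∀ x, D x x = 0 := fun x => by
      rw [hD, Matrix.add_apply, hk x]; exact CharTwo.add_self_eq_zero _
    set w : μ → F := fun x => (Pi' *ᵥ v) (e.symm x)
    have hQ : ∀ u, Q u = gform (RingHom.id F) T (fun x => (Pi' *ᵥ u) (e.symm x)) (fun x => (Pi' *ᵥ u) (e.symm x)) := by
      intro u
      show gform (RingHom.id F) U u u = _
      have h1 := gform_mulVec (RingHom.id F) (rx e T) Pi' Pi' u u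
      simp only [RingHom.coe_id, Matrix.map_id] at h1
      rw [hU, ← h1]
      simp only [gform, dotProduct, Matrix.mulVec, RingHom.coe_id, Function.comp_apply, id_eq, rx_apply]
      rw [← Equiv.sum_comp e.symm]
      refine Finset.sum_congr rfl fun x _ => ?_
      congr 1
      rw [← Equiv.sum_comp e.symm]
      simp
    have hkw : (fun x => (Pi' *ᵥ (((P * glReindex e.symm k * P⁻¹ : GL (Fin m ⊕ Fin m) F) : Matrix _ _ F) *ᵥ v)) (e.symm x)) =
        km *ᵥ w := by
      funext x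
      rw [mulVec_mulVec, Units.val_mul, Units.val_mul, hPi', ← mul_assoc, ← mul_assoc, gl_inv_mul, one_mul,
        ← mulVec_mulVec]
      show (rx e km *ᵥ (Pi' *ᵥ v)) (e.symm x) = _
      simp only [Matrix.mulVec, dotProduct, rx_apply, Equiv.apply_symm_apply, w]
      rw [← Equiv.sum_comp e.symm]
      simp
    show Q _ = Q v
    rw [hQ, hQ v, hkw, gform_mulVec]
    simp only [RingHom.coe_id, Matrix.map_id]
    have h0 := gform_self_eq_zero hDs hDd w
    have hsplit : gform (RingHom.id F) D w w =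
        gform (RingHom.id F) (kmᵀ * T * km) w w + gform (RingHom.id F) T w w := by
      simp [hD, gform, Matrix.add_mulVec, dotProduct_add]
    rw [hsplit, CharTwo.add_eq_zero] at h0
    exact h0

/-- the upper triangle of a Gram matrix -/
def upper {d : ℕ} (G : Matrix (Fin d) (Fin d) F) : Matrix (Fin d) (Fin d) F :=
  Matrix.of fun a b => if a < b then G a b else 0

omit [Fintype F] in
theorem upper_add {d : ℕ} {G : Matrix (Fin d) (Fin d) F} (hs : Gᵀ = G) (hd : ∀ i, G i i = 0) :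
    upper G + (upper G)ᵀ = G := by
  ext a b
  simp only [upper, Matrix.add_apply, Matrix.transpose_apply, Matrix.of_apply]
  rcases lt_trichotomy a b with h | h | h
  · simp [h, h.not_gt]
  · subst h; simp [hd]
  · have hba : G b a = G a b := congrFun (congrFun hs a) b
    simp [h, h.not_gt, hba]

theorem sp_tensor_ordered (hI : H ≤ Cfsg.spGL m F) (hH : ¬ SpClass m F H) (hq : Odd (Fintype.card F)) {d k : ℕ}
    (hd : 2 ≤ d) (hk : 2 ≤ k) {e : (Fin m ⊕ Fin m) ≃ Fin d × Fin k} {P : GL (Fin m ⊕ Fin m) F}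
    {G₁ : Matrix (Fin d) (Fin d) F} {G₂ : Matrix (Fin k) (Fin k) F}
    (hle : H ≤ tensorProductSubgroup d k e P)
    (hG : gramAt (RingHom.id F) (Matrix.J (Fin m) F) e P = G₁ ⊗ₖ G₂) (h1 : G₁ᵀ = -G₁) (h2 : G₂ᵀ = G₂) : False := by
  have htwo := two_ne_zero_of_odd hq
  have hm : 0 < m := by
    have := Fintype.card_congr e
    simp at this
    have : 0 < d * k := by positivity
    omega
  haveI : Nonempty (Fin m ⊕ Fin m) := ⟨Sum.inl ⟨0, hm⟩⟩
  obtain ⟨hd1, hd2, -⟩ := factor_refl refl_J hG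
  rcases Nat.lt_or_ge k 3 with hk3 | hk3
  swap
  · have hG' : gramAt (RingHom.id F) (Matrix.J (Fin m) F) e P = (1 : F) • (G₁ ⊗ₖ G₂) := by rw [one_smul]; exact hG
    have hts := tensorFormStructure_of_gramAt (σ := RingHom.id F) (G := Matrix.J (Fin m) F) one_ne_zero hG'
    exact hH (SpClass.tensor (n₁ := d) (n₂ := k) e P (f₁ := gform (RingHom.id F) G₁) (f₂ := gform (RingHom.id F) G₂) hq hk3
      (bilin_symplectic hd1 h1 htwo) (bilin_symmetric hd2 h2) (by exact hts) hle)
  obtain rfl : k = 2 := by omega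
  haveI : Nonempty (Fin d) := ⟨⟨0, by omega⟩⟩
  set S := G₂⁻¹ * J2 F with hS
  have hG2i : G₂ * G₂⁻¹ = 1 := Matrix.mul_nonsing_inv _ (Ne.isUnit hd2)
  have hG2i' : G₂⁻¹ * G₂ = 1 := Matrix.nonsing_inv_mul _ (Ne.isUnit hd2)
  let X := cj P (rx e ((1 : Matrix (Fin d) (Fin d) F) ⊗ₖ S))
  have hJt : (J2 F)ᵀ = -(J2 F) := by ext a b; fin_cases a <;> fin_cases b <;> simp [J2]
  have hconj : ∀ g ∈ H, ∃ c : F, cj g X = c • X := by
    intro g hg
    obtain ⟨kk, a, b, rfl, hkk⟩ := tensorProduct_elem (hle hg)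
    have hiso := gramAt_isometry (σ := RingHom.id F) (G := Matrix.J (Fin m) F) e P (k := kk) (by rw [← spGL_eq]; exact hI hg)
    simp only [RingHom.coe_id, Matrix.map_id] at hiso
    rw [hG, hkk, ← Matrix.kroneckerMap_transpose, ← Matrix.mul_kronecker_mul, ← Matrix.mul_kronecker_mul] at hiso
    have hne : ((a : Matrix (Fin d) (Fin d) F)ᵀ * G₁ * (a : Matrix (Fin d) (Fin d) F)) ⊗ₖ
        ((b : Matrix (Fin 2) (Fin 2) F)ᵀ * G₂ * (b : Matrix (Fin 2) (Fin 2) F)) ≠ 0 := by
      rw [hiso, ← hG]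
      intro h0
      exact gramAt_det_ne_zero (σ := RingHom.id F) refl_J.det e P
        (by
          haveI : Nonempty (Fin d × Fin 2) := ⟨e (Classical.arbitrary _)⟩
          rw [h0]; exact Matrix.det_zero)
    obtain ⟨c, hc0, -, hc⟩ := kronecker_cancel hiso hne
    set bm := (b : Matrix (Fin 2) (Fin 2) F)
    set bi := ((b⁻¹ : GL (Fin 2) F) : Matrix (Fin 2) (Fin 2) F)
    have hb : bm.det ≠ 0 := ((Matrix.isUnit_iff_isUnit_det _).1 b.isUnit).ne_zero
    refine ⟨(bm.det * c⁻¹)⁻¹, ?_⟩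
    have hbS : bm * S * bi = (bm.det * c⁻¹)⁻¹ • S := by
      have e1 : bmᵀ * J2 F * bm = bm.det • J2 F := J2_congr bm
      have e2 : bmᵀ * G₂ * bm = c • G₂ := by
        conv_rhs => rw [hc, smul_smul, mul_inv_cancel₀ hc0, one_smul]
      -- `b⁻¹ S b` is a multiple of `S`
      have e3 : bi * S * bm = (bm.det * c⁻¹) • S := by
        have e4 : G₂ * bm = c • ((bi)ᵀ * G₂) := by
          rw [← mul_smul_comm, ← e2, ← mul_assoc, ← mul_assoc, ← Matrix.transpose_mul, gl_mul_inv,
            Matrix.transpose_one, one_mul]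
        have e5 : bi * G₂⁻¹ = c⁻¹ • (G₂⁻¹ * bmᵀ) := by
          calc bi * G₂⁻¹ = c⁻¹ • (G₂⁻¹ * (c • G₂) * (bi * G₂⁻¹)) := by
                rw [mul_smul_comm, hG2i', smul_mul_assoc, one_mul, smul_smul, inv_mul_cancel₀ hc0, one_smul]
            _ = c⁻¹ • (G₂⁻¹ * (bmᵀ * G₂ * bm) * (bi * G₂⁻¹)) := by rw [e2]
            _ = _ := by
              simp only [mul_assoc]
              rw [← mul_assoc bm bi, gl_mul_inv, one_mul, hG2i, mul_one]
        rw [hS, ← mul_assoc bi, e5, smul_mul_assoc, smul_mul_assoc, mul_assoc, mul_assoc, ← mul_assoc (bmᵀ),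
          e1, mul_smul_comm, smul_smul, mul_comm]
      calc bm * S * bi = (bm.det * c⁻¹)⁻¹ • (bm * ((bm.det * c⁻¹) • S) * bi) := by
            rw [mul_smul_comm, smul_mul_assoc, smul_smul, inv_mul_cancel₀ (mul_ne_zero hb (inv_ne_zero hc0)), one_smul]
        _ = (bm.det * c⁻¹)⁻¹ • ((bm * bi) * S * (bm * bi)) := by rw [← e3]; simp only [mul_assoc]
        _ = _ := by rw [gl_mul_inv, one_mul, mul_one]
    show cj _ (cj P _) = _ • cj P _
    rw [cj_cj, inv_mul_cancel_right, ← cj_cj, ← cj_smul, ← map_smul, ← Matrix.kronecker_smul, ← hbS]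
    congr 1
    show cj (Units.map (rx e).toAlgHom.toRingHom.toMonoidHom kk) _ = _
    rw [cj_rx]
    congr 1
    have hinv : ((kk⁻¹ : GL (Fin d × Fin 2) F) : Matrix (Fin d × Fin 2) (Fin d × Fin 2) F) =
        ((a⁻¹ : GL (Fin d) F) : Matrix (Fin d) (Fin d) F) ⊗ₖ bi := by
      rw [Matrix.coe_units_inv]
      refine Matrix.inv_eq_right_inv ?_
      rw [hkk, ← Matrix.mul_kronecker_mul, gl_mul_inv, gl_mul_inv, Matrix.one_kronecker_one]
    rw [cj, hinv, hkk, ← Matrix.mul_kronecker_mul, ← Matrix.mul_kronecker_mul, mul_one, gl_mul_inv]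
  have hXadj : adj (RingHom.id F) (Matrix.J (Fin m) F) X = -X := by
    have h' := adj_of_gramAt refl_J e P (X := (1 : Matrix (Fin d) (Fin d) F) ⊗ₖ S)
      (Y := (1 : Matrix (Fin d) (Fin d) F) ⊗ₖ (-S)) ?_
    · rw [h', show (-S) = (-1 : F) • S by simp, Matrix.kronecker_smul, map_smul, cj_smul]
      simp [X]
    · simp only [RingHom.coe_id, Matrix.map_id]
      rw [hG, ← Matrix.kroneckerMap_transpose, Matrix.transpose_one, ← Matrix.mul_kronecker_mul,
        ← Matrix.mul_kronecker_mul, one_mul, mul_one, hS, Matrix.transpose_mul, Matrix.transpose_nonsing_inv, h2, hJt,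
        mul_neg, ← mul_assoc, hG2i, one_mul, mul_assoc, hG2i', mul_one]
  set Z := Algebra.adjoin F ({X} : Set (Matrix (Fin m ⊕ Fin m) (Fin m ⊕ Fin m) F))
  obtain ⟨z, hz⟩ := sp_scalar_of_comm hm hI hH (Z := Z)
    (fun x hx y hy => by
      letI := Algebra.adjoinCommRingOfComm F (s := ({X} : Set (Matrix (Fin m ⊕ Fin m) (Fin m ⊕ Fin m) F)))
        (by rintro a rfl b rfl; rfl)
      exact congrArg Subtype.val (mul_comm (⟨x, hx⟩ : Z) ⟨y, hy⟩))
    (fun g hg a ha => by
      have h1 : Z.map (cjAlg g).toAlgHom ≤ Z := by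
        rw [AlgHom.map_adjoin]
        refine Algebra.adjoin_le ?_
        rintro _ ⟨_, rfl, rfl⟩
        obtain ⟨c, hc⟩ := hconj g hg
        show cj g X ∈ Z
        rw [hc]
        exact Z.smul_mem (Algebra.subset_adjoin rfl) c
      exact h1 ⟨a, ha, rfl⟩)
    (refl_J.adjClosed_adjoin (by
      rintro _ rfl
      rw [hXadj]
      exact Z.neg_mem (Algebra.subset_adjoin rfl)))
    X (Algebra.subset_adjoin rfl)
  -- `S` would be scalar
  have hS1 : S = z • 1 := by
    have h' : ((1 : Matrix (Fin d) (Fin d) F) ⊗ₖ S) = kr (Fin d) (Fin 2) F (z • 1) := by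
      apply (rx e).injective
      apply cj_injective P
      rw [kr_apply, Matrix.kronecker_smul, Matrix.one_kronecker_one, map_smul, map_one, cj_smul, cj_one]
      exact hz
    exact kr_injective (κ := Fin d) h'
  have hJ : J2 F = z • G₂ := by
    calc J2 F = G₂ * S := by rw [hS, ← mul_assoc, hG2i, one_mul]
      _ = _ := by rw [hS1, mul_smul_comm, mul_one]
  have h01 := congrFun (congrFun hJ 0) 1
  have h10 := congrFun (congrFun hJ 1) 0
  have hsym : G₂ 1 0 = G₂ 0 1 := congrFun (congrFun h2 0) 1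
  simp [J2, hsym] at h01 h10
  rw [← h01] at h10
  exact htwo (by linear_combination -h10)

end CfsgLib.Perm.Asch
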