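import Cfsg.Agent.Lib.Perm.Asch.Forms.Commutative
import Cfsg.Agent.Lib.Descent.Hermitian
import Cfsg.Agent.Lib.SU.Ctx

/-!
# The geometric classes of the unitary groups
-/

set_option autoImplicit false
set_option linter.all false

namespace CfsgLib.Perm.Asch

open scoped Classical Matrix
open Matrix Cfsg.Geo

variable {F : Type*} [Field F] [Fintype F]

/-- `σ` is the involution of a field with `q ^ 2` elements -/
structure UConj (σ : F →+* F) (q : ℕ) : Prop where
  card : Fintype.card F = q ^ 2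
  eq : ∀ x, σ x = x ^ q

theorem exists_uconj {q : ℕ} (hF : Fintype.card F = q ^ 2) : ∃ σ : F →+* F, UConj σ q := by
  obtain ⟨p, a, hp, hcp, hcard, ha⟩ := exists_char_card (F := F)
  haveI := hcp
  haveI : Fact p.Prime := ⟨hp⟩
  obtain ⟨e, -, rfl⟩ := (Nat.dvd_prime_pow hp).1 (show q ∣ p ^ a from hcard ▸ hF ▸ dvd_pow_self q two_ne_zero)
  exact ⟨iterateFrobenius F p e, hF, fun x => iterateFrobenius_def ..⟩

namespace UConj

variable {σ : F →+* F} {q : ℕ} (hu : UConj σ q)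
include hu

theorem inv (x : F) : σ (σ x) = x := by
  rw [hu.eq, hu.eq, ← pow_mul, ← pow_two, ← hu.card, FiniteField.pow_card]

theorem exists_prime_pow : ∃ p e : ℕ, p.Prime ∧ CharP F p ∧ q = p ^ e ∧ 0 < e ∧ Fintype.card F = p ^ (2 * e) := by
  obtain ⟨p, a, hp, hcp, hcard, ha⟩ := exists_char_card (F := F)
  obtain ⟨e, -, he⟩ := (Nat.dvd_prime_pow hp).1 (show q ∣ p ^ a from hcard ▸ hu.card ▸ dvd_pow_self q two_ne_zero)
  have hc : Fintype.card F = p ^ (2 * e) := by rw [hu.card, he, ← pow_mul, mul_comm]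
  refine ⟨p, e, hp, hcp, he, Nat.pos_of_ne_zero fun h0 => ?_, hc⟩
  have := Fintype.one_lt_card (α := F)
  rw [hc, h0] at this
  simp at this

theorem two_le : 2 ≤ q := by
  obtain ⟨p, e, hp, -, rfl, he, -⟩ := hu.exists_prime_pow
  exact hp.two_le.trans (Nat.le_self_pow he.ne' p)

theorem odd_iff : Odd q ↔ Odd (Fintype.card F) := by
  rw [hu.card, Nat.odd_pow_iff two_ne_zero]

theorem exists_ne : ∃ x, σ x ≠ x := by
  by_contra hcon
  push Not at hcon
  obtain ⟨p, e, hp, hcp, rfl, he, hc⟩ := hu.exists_prime_pow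
  haveI := hcp
  haveI : Fact p.Prime := ⟨hp⟩
  have := Nat.le_of_dvd he ((pow_fix_iff_field hc e).1 fun c => by rw [← hu.eq]; exact hcon c)
  omega

/-- the involution as a field automorphism -/
theorem exists_ringAut : ∃ τ : RingAut F, orderOf τ = 2 ∧ ∀ x, τ x = σ x := by
  let τ : RingAut F := RingEquiv.ofBijective σ (sigma_bij σ)
  refine ⟨τ, orderOf_eq_prime (RingEquiv.ext fun x => ?_) (fun h1 => ?_), fun x => rfl⟩
  · show τ (τ x) = x
    exact hu.inv x
  · obtain ⟨x, hx⟩ := hu.exists_ne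
    exact hx (congrArg (fun t : RingAut F => t x) h1)

theorem exists_norm {c : F} (hc : c ≠ 0) (hσ : σ c = c) : ∃ s : F, s ≠ 0 ∧ s * σ s = c := by
  obtain ⟨τ, hτ, hτσ⟩ := hu.exists_ringAut
  obtain ⟨s, hs0, hs⟩ := CfsgLib.Descent.exists_norm_eq hτ two_pos hc (by rw [hτσ, hσ])
  refine ⟨s, hs0, ?_⟩
  rw [Finset.prod_range_succ, Finset.prod_range_one, pow_zero, pow_one] at hs
  rw [← hτσ]
  exact hs

/-- Hilbert's theorem 90 inside a subfield that is not fixed -/
theorem exists_scale_in (F₁ : Subfield F) (hne : ∃ x ∈ F₁, σ x ≠ x) {c : F} (hc : c ∈ F₁) (hc1 : σ c * c = 1) :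
    ∃ l ∈ F₁, l ≠ 0 ∧ σ l * c = l := by
  have hst : ∀ x ∈ F₁, σ x ∈ F₁ := fun x hx => by rw [hu.eq]; exact F₁.pow_mem hx q
  obtain ⟨t, ht, ht0⟩ : ∃ t ∈ F₁, t + c * σ t ≠ 0 := by
    by_contra hcon
    push Not at hcon
    have h1 := hcon 1 F₁.one_mem
    rw [map_one, mul_one] at h1
    obtain ⟨x, hx, hxne⟩ := hne
    have h2 := hcon x hx
    exact hxne (by linear_combination (σ x) * h1 - h2)
  refine ⟨_, F₁.add_mem ht (F₁.mul_mem hc (hst t ht)), ht0, ?_⟩
  simp only [map_add, map_mul, hu.inv]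
  linear_combination t * hc1

theorem exists_scale {c : F} (hc1 : σ c * c = 1) : ∃ l : F, l ≠ 0 ∧ σ l * c = l := by
  obtain ⟨x, hx⟩ := hu.exists_ne
  obtain ⟨l, -, hl⟩ := hu.exists_scale_in ⊤ ⟨x, Subfield.mem_top x, hx⟩ (Subfield.mem_top c) hc1
  exact ⟨l, hl⟩

theorem refl_one {ι : Type} [Fintype ι] [DecidableEq ι] : Refl σ (1 : Matrix ι ι F) :=
  ⟨hu.inv, by simp, 1, by simp⟩

/-- a hermitian matrix is congruent to the identity -/
theorem exists_congr_one {ι : Type} [Fintype ι] [DecidableEq ι] {G : Matrix ι ι F} (hd : G.det ≠ 0)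
    (hG : Gᵀ.map σ = G) : ∃ A : GL ι F, (A : Matrix ι ι F)ᵀ * G * (A : Matrix ι ι F).map σ = 1 := by
  obtain ⟨τ, hτ, hτσ⟩ := hu.exists_ringAut
  have hmap : ∀ X : Matrix ι ι F, X.map τ = X.map σ := fun X => by ext i j; simp [hτσ]
  obtain ⟨B, hB⟩ := CfsgLib.Descent.exists_hermitian_decomp τ hτ
    (Matrix.GeneralLinearGroup.mkOfDetNeZero G hd) (by
      show (G.map τ)ᵀ = G
      rw [hmap, ← Matrix.transpose_map, hG])
  change G = (B : Matrix ι ι F) * ((B : Matrix ι ι F).map τ)ᵀ at hB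
  rw [hmap] at hB
  set Bi : Matrix ι ι F := ((B⁻¹ : GL ι F) : Matrix ι ι F) with hBi
  refine ⟨Matrix.GeneralLinearGroup.mkOfDetNeZero Biᵀ ?_, ?_⟩
  · rw [Matrix.det_transpose]
    exact ((Matrix.isUnit_iff_isUnit_det _).1 (Units.isUnit _)).ne_zero
  show Biᵀᵀ * G * Biᵀ.map σ = 1
  have e1 : ((B : Matrix ι ι F).map σ)ᵀ * Biᵀ.map σ = 1 := by
    rw [← Matrix.transpose_map, ← Matrix.map_mul, ← Matrix.transpose_mul, hBi, gl_inv_mul]
    simp
  rw [Matrix.transpose_transpose, hB, ← mul_assoc Bi, hBi, gl_inv_mul, one_mul, e1]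

theorem unitaryFormPow {k : ℕ} {G : Matrix (Fin k) (Fin k) F} (hd : G.det ≠ 0) (hG : Gᵀ.map σ = G) :
    IsUnitaryFormPow q (gform σ G) := by
  refine ⟨fun x y v => gform_add_left σ G x y v, fun c x v => gform_smul_left σ G c x v, fun v w => ?_,
    gform_nondegenerate hd⟩
  rw [← hu.eq]
  have hG' : ∀ i j, σ (G j i) = G i j := fun i j => congrFun (congrFun hG i) j
  simp only [gform, dotProduct, Matrix.mulVec, Function.comp_apply, Finset.mul_sum, map_sum, map_mul, hu.inv, hG']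
  rw [Finset.sum_comm]
  exact Finset.sum_congr rfl fun i _ => Finset.sum_congr rfl fun j _ => by ring

variable {n : ℕ}

theorem hermForm_eq : Cfsg.hermForm n F q = gform σ (1 : Matrix (Fin n) (Fin n) F) := by
  funext u v
  simp [Cfsg.hermForm, gform, dotProduct, hu.eq]

theorem GU_eq : Cfsg.GU n F q = iso σ (1 : Matrix (Fin n) (Fin n) F) := by
  ext g
  rw [mem_iso_iff, ← hu.hermForm_eq]
  rfl

end UConj

/-- the geometric classes -/
inductive UClass (n : ℕ) (F : Type*) [Field F] [Fintype F] (q : ℕ) (H : Subgroup (GL (Fin n) F)) : Prop where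
  | singular {W : Submodule F (Fin n → F)} (h0 : W ≠ ⊥) (hs : IsTotallySingularFor (Cfsg.hermForm n F q) W)
      (h : H ≤ subspaceStabilizer W) : UClass n F q H
  | nondeg {W : Submodule F (Fin n → F)} (h0 : W ≠ ⊥) (hn : IsNondegenerateOn (Cfsg.hermForm n F q) W)
      (hd : 2 * Module.finrank F W < n) (h : H ≤ subspaceStabilizer W) : UClass n F q H
  | dec {t k : ℕ} {D : Fin t → Submodule F (Fin n → F)}
      (hD : IsNondegenerateMDecomposition (Cfsg.hermForm n F q) k D) (h : H ≤ decompositionStabilizer D) : UClass n F q H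
  | pair {k : ℕ} {D : Fin 2 → Submodule F (Fin n → F)} (hk : 2 * k = n) (hD : IsMDecomposition k D)
      (hs : ∀ i, IsTotallySingularFor (Cfsg.hermForm n F q) (D i)) (h : H ≤ decompositionStabilizer D) : UClass n F q H
  | subOdd {F₀ : Subfield F} {r : ℕ} {P : GL (Fin n) F} (hr : r.Prime) (hro : Odd r)
      (hc : Fintype.card F = Nat.card F₀ ^ r) (hs : IsFormRationalStructure (Cfsg.hermForm n F q) F₀ 1 P)
      (h : H ≤ subfieldSubgroup F₀ P) : UClass n F q H
  | subOrth {F₀ : Subfield F} {P : GL (Fin n) F} (hq : Odd q)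
      (hc : Fintype.card F = Nat.card F₀ ^ 2) (hs : IsFormRationalStructure (Cfsg.hermForm n F q) F₀ 1 P)
      (h : H ≤ subfieldSubgroup F₀ P) : UClass n F q H
  | subSymp {F₀ : Subfield F} {P : GL (Fin n) F} {ζ : F} (hn : Even n)
      (hc : Fintype.card F = Nat.card F₀ ^ 2) (hζ : ζ ≠ 0) (hζq : ζ + ζ ^ q = 0)
      (hs : IsFormRationalStructure (Cfsg.hermForm n F q) F₀ ζ P)
      (halt : ∀ u : Fin n → F, (∀ i, u i ∈ F₀) →
        Cfsg.hermForm n F q ((P : Matrix (Fin n) (Fin n) F) *ᵥ u) ((P : Matrix (Fin n) (Fin n) F) *ᵥ u) = 0)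
      (h : H ≤ subfieldSubgroup F₀ P) : UClass n F q H
  | sym {r : ℕ} {R : Subgroup (GL (Fin n) F)} {p e k : ℕ} (hR : IsSymplecticTypeGroup r R)
      (ha : ActsAbsolutelyIrreducibly (matrixSet R)) (hs : R ≤ similarityGroup (Cfsg.hermForm n F q)) (hrp : r ≠ p)
      (hm : IsMinimalFieldFor (Nat.card (Subgroup.center R)) p e F) (hI : R ≤ Cfsg.GU n F q) (hk : n = r ^ k)
      (hcases : (Odd r ∧ Nat.card (Subgroup.center R) = r ∧ 1 ≤ k ∧ Nat.card R = r ^ (1 + 2 * k)) ∨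
        (r = 2 ∧ e = 2 ∧ Nat.card (Subgroup.center R) = 4 ∧ Nat.card R = 2 ^ (2 + 2 * k)))
      (h : H ≤ subgroupNormalizer R) : UClass n F q H
  | field {r : ℕ} {K : Subalgebra F (Matrix (Fin n) (Fin n) F)} (hr : r.Prime) (hro : Odd r)
      (hK : IsFieldSubalgebra r K) (ha : IsAdjointClosedFor (Cfsg.hermForm n F q) K)
      (h : H ≤ subalgebraNormalizer K) : UClass n F q H
  | tensor {n₁ n₂ : ℕ} (e : Fin n ≃ Fin n₁ × Fin n₂) (P : GL (Fin n) F) {f₁ : (Fin n₁ → F) → (Fin n₁ → F) → F}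
      {f₂ : (Fin n₂ → F) → (Fin n₂ → F) → F} (h2 : 2 ≤ n₁) (h12 : n₁ < n₂) (h₁ : IsUnitaryFormPow q f₁)
      (h₂ : IsUnitaryFormPow q f₂)
      (hs : IsTensorFormStructure (fun x : F => x ^ q) (Cfsg.hermForm n F q) f₁ f₂ e P)
      (h : H ≤ tensorProductSubgroup n₁ n₂ e P) : UClass n F q H
  | power {k t : ℕ} (e : Fin n ≃ (Fin t → Fin k)) (P : GL (Fin n) F) {f₁ : (Fin k → F) → (Fin k → F) → F}
      (hk : 3 ≤ k) (ht : 2 ≤ t) (hex : ¬ (q = 2 ∧ k = 3)) (h₁ : IsUnitaryFormPow q f₁)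
      (hs : IsTensorPowerFormStructure (fun x : F => x ^ q) (Cfsg.hermForm n F q) f₁ e P)
      (h : H ≤ tensorWreathSubgroup k t e P) : UClass n F q H

variable {n q : ℕ} {H : Subgroup (GL (Fin n) F)}

theorem UClass.exists_member (hI : H ≤ Cfsg.GU n F q) (h : UClass n F q H) :
    ∃ M, InUnitaryClass n F q M ∧ H ≤ M := by
  cases h with
  | singular h0 hs h => exact ⟨_, Or.inl (Or.inl ⟨_, h0, hs, rfl⟩), le_inf h hI⟩
  | nondeg h0 hn hd h => exact ⟨_, Or.inl (Or.inr (Or.inl ⟨_, h0, hn, hd, rfl⟩)), le_inf h hI⟩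
  | dec hD h => exact ⟨_, Or.inl (Or.inr (Or.inr (Or.inl ⟨_, _, _, hD, rfl⟩))), le_inf h hI⟩
  | pair hk hD hs h => exact ⟨_, Or.inl (Or.inr (Or.inr (Or.inr (Or.inl ⟨_, _, hk, hD, hs, rfl⟩)))), le_inf h hI⟩
  | subOdd hr hro hc hs h =>
    exact ⟨_, Or.inl (Or.inr (Or.inr (Or.inr (Or.inr (Or.inl ⟨_, _, _, hr, hro, hc, hs, rfl⟩))))), le_inf h hI⟩
  | subOrth hq hc hs h =>
    exact ⟨_, Or.inl (Or.inr (Or.inr (Or.inr (Or.inr (Or.inr (Or.inl ⟨_, _, hq, hc, hs, rfl⟩)))))), le_inf h hI⟩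
  | subSymp hn hc hζ hζq hs halt h =>
    exact ⟨_, Or.inl (Or.inr (Or.inr (Or.inr (Or.inr (Or.inr (Or.inr (Or.inl
      ⟨_, _, _, hn, hc, hζ, hζq, hs, halt, rfl⟩))))))), le_inf h hI⟩
  | sym hR ha hs hrp hm hIR hk hcases h =>
    exact ⟨_, Or.inl (Or.inr (Or.inr (Or.inr (Or.inr (Or.inr (Or.inr (Or.inr
      ⟨_, _, _, _, _, hR, ha, hs, hrp, hm, hcases, rfl⟩))))))), le_inf h hI⟩
  | field hr hro hK ha h => exact ⟨_, Or.inr (Or.inl ⟨_, _, hr, hro, hK, ha, rfl⟩), le_inf h hI⟩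
  | tensor e P h2 h12 h₁ h₂ hs h =>
    exact ⟨_, Or.inr (Or.inr (Or.inl ⟨_, _, e, P, _, _, h2, h12, h₁, h₂, hs, rfl⟩)), le_inf h hI⟩
  | power e P hk ht hex h₁ hs h =>
    exact ⟨_, Or.inr (Or.inr (Or.inr ⟨_, _, e, P, _, hk, ht, hex, h₁, hs, rfl⟩)), le_inf h hI⟩

/-! ### reducible groups -/

variable {σ : F →+* F}

theorem u_irred (hu : UConj σ q) (hI : H ≤ Cfsg.GU n F q) (hH : ¬ UClass n F q H) : Irred H := by
  rw [hu.GU_eq] at hI
  have hr : Refl σ (1 : Matrix (Fin n) (Fin n) F) := hu.refl_one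
  set G : Matrix (Fin n) (Fin n) F := 1
  intro W hW
  by_contra hcon
  push Not at hcon
  obtain ⟨h0, h1⟩ := hcon
  have hinv : ∀ g ∈ H, ∀ w ∈ W, (g : Matrix (Fin n) (Fin n) F) *ᵥ w ∈ W :=
    fun g hg w hw => hW _ (mem_matrixSet hg) ⟨w, hw, rfl⟩
  have hp : ∀ g ∈ H, ∀ w ∈ perp σ G W, (g : Matrix (Fin n) (Fin n) F) *ᵥ w ∈ perp σ G W :=
    fun g hg => perp_invariant (hI hg) (hinv g⁻¹ (H.inv_mem hg))
  have hform : Cfsg.hermForm n F q = gform σ G := hu.hermForm_eq
  by_cases hR : W ⊓ perp σ G W = ⊥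
  swap
  · exact hH (.singular hR (by rw [hform]; exact fun u hu v hv => hu.2 v hv.1)
      (subspaceStabilizer_mem fun g hg w hw => ⟨hinv g hg w hw.1, hp g hg w hw.2⟩))
  have hn := hr.nondegenerateOn hR
  have hn' := hr.nondegenerateOn (hr.perp_inf_perp hR)
  have hfin : Module.finrank F W + Module.finrank F (perp σ G W) = n :=
    (hr.perp_finrank W).trans (Fintype.card_fin n)
  rcases lt_trichotomy (2 * Module.finrank F W) n with hlt | heq | hgt
  · exact hH (.nondeg h0 (by rw [hform]; exact hn) hlt (subspaceStabilizer_mem hinv))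
  · set m := Module.finrank F W with hm
    have heq' : Module.finrank F (perp σ G W) = m := by omega
    have hm0 : 0 < m := Submodule.one_le_finrank_iff.2 h0
    have hsup : W ⊔ perp σ G W = ⊤ := Submodule.eq_top_of_finrank_eq (by
      have := Submodule.finrank_sup_add_finrank_inf_eq W (perp σ G W)
      rw [hR, finrank_bot] at this
      rw [Module.finrank_fintype_fun_eq_card, Fintype.card_fin]
      omega)
    let D : Fin 2 → Submodule F (Fin n → F) := ![W, perp σ G W]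
    refine hH (.dec (D := D) (k := m) ⟨⟨le_rfl, hm0, ?_, ?_, ?_⟩, ?_, ?_⟩ ?_)
    · intro i; fin_cases i <;> [exact hm.symm; exact heq']
    · rw [iSupIndep_pair (i := (0 : Fin 2)) (j := 1) (by decide) (fun k => by fin_cases k <;> simp)]
      exact disjoint_iff.2 hR
    · rw [eq_top_iff, ← hsup]
      exact sup_le (le_iSup D 0) (le_iSup D 1)
    · rw [hform]; intro i; fin_cases i <;> [exact hn; exact hn']
    · rw [hform]
      intro i j hij u hu' v hv
      fin_cases i <;> fin_cases j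
      · exact absurd rfl hij
      · exact hr.swap_eq_zero (hv u hu')
      · exact hu' v hv
      · exact absurd rfl hij
    · intro g hg
      refine ⟨1, fun i => ?_⟩
      have : ∀ U : Submodule F (Fin n → F), (∀ w ∈ U, (g : Matrix (Fin n) (Fin n) F) *ᵥ w ∈ U) →
          U.map (Matrix.toLin' (g : Matrix (Fin n) (Fin n) F)) = U := fun U hU =>
        Submodule.eq_of_le_of_finrank_eq (by rintro _ ⟨w, hw, rfl⟩; exact hU w hw)
          (LinearEquiv.finrank_map_eq (Matrix.GeneralLinearGroup.toLin g).toLinearEquiv U)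
      fin_cases i <;> [exact this W (hinv g hg); exact this _ (hp g hg)]
  · refine hH (.nondeg ?_ (by rw [hform]; exact hn') (by omega) (subspaceStabilizer_mem hp))
    intro hb
    rw [hb, finrank_bot] at hfin
    exact h1 (Submodule.eq_top_of_finrank_eq (by rw [Module.finrank_fintype_fun_eq_card, Fintype.card_fin]; omega))

theorem decomposition_card {ι : Type} [Fintype ι] {K : Type*} [Field K] {t k : ℕ} {D : Fin t → Submodule K (ι → K)}
    (hD : IsMDecomposition k D) : t * k = Fintype.card ι := by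
  have hint := DirectSum.isInternal_submodule_of_iSupIndep_of_iSup_eq_top hD.indep hD.iSup_eq_top
  let bs : (i : Fin t) → Module.Basis (Fin k) K (D i) := fun i => Module.finBasisOfFinrankEq K (D i) (hD.finrank_eq i)
  have h1 := Module.finrank_eq_card_basis (hint.collectedBasis bs)
  rw [Module.finrank_fintype_fun_eq_card] at h1
  simpa using h1.symm

theorem u_scalar_of_comm (hu : UConj σ q) (hn : 0 < n) (hI : H ≤ Cfsg.GU n F q) (hH : ¬ UClass n F q H)
    {Z : Subalgebra F (Matrix (Fin n) (Fin n) F)} (hc : ∀ x ∈ Z, ∀ y ∈ Z, x * y = y * x) (hn' : Normalises H Z)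
    (hd : AdjClosed σ (1 : Matrix (Fin n) (Fin n) F) (Z : Set (Matrix (Fin n) (Fin n) F))) :
    ∀ z ∈ Z, ∃ c : F, z = c • (1 : Matrix (Fin n) (Fin n) F) := by
  haveI : Nonempty (Fin n) := ⟨⟨0, hn⟩⟩
  by_contra hcon
  push Not at hcon
  have hirr := u_irred hu hI hH
  rw [hu.GU_eq] at hI
  have hr : Refl σ (1 : Matrix (Fin n) (Fin n) F) := hu.refl_one
  set G : Matrix (Fin n) (Fin n) F := 1
  have hform : Cfsg.hermForm n F q = gform σ G := hu.hermForm_eq
  rcases comm_forms hr hI hirr hc hn' hd hcon with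
    ⟨t, k, D, hD, hle, -⟩ | ⟨k, D, e, hD, hs, hle, he, hea, heH⟩ | ⟨r, K, hrp, hK, hKd, hle, hKn⟩
  · exact hH (.dec (hform ▸ hD) hle)
  · exact hH (.pair (by rw [decomposition_card hD, Fintype.card_fin]) hD (hform ▸ hs) hle)
  · obtain ⟨p, e, hp, hcp, hqe, he0, hcard⟩ := hu.exists_prime_pow
    haveI := hcp
    haveI : Fact p.Prime := ⟨hp⟩
    obtain ⟨hfix, hfrob⟩ := fieldSubalgebra_frob hK hcard
    obtain ⟨i, hi⟩ := hfrob (adj σ G) (fun x hx => hKd x hx) hr.adj_one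
      (fun x _ y _ => hr.adj_add x y) (fun x hx y hy => by
        rw [hr.adj_mul]; exact hK.comm _ (hKd y hy) _ (hKd x hx))
    have hie : ∀ c : F, c ^ p ^ i = σ c := fun c => by
      have h1 := hi _ (sc_mem K c)
      rw [hr.adj_smul, hr.adj_one, smul_pow, one_pow] at h1
      have := congrFun (congrFun h1 (Classical.arbitrary _)) (Classical.arbitrary _)
      simpa using this.symm
    have h1 : 2 * e ∣ i + e := (pow_fix_iff_field hcard _).1 fun c => by
      rw [pow_add, pow_mul, hie, hqe.symm, ← hu.eq, hu.inv]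
    have h2 : 2 * e * r ∣ i + i := (hfix _).1 fun x hx => by
      rw [pow_add, pow_mul, ← hi x hx, ← hi _ (hKd x hx), hr.adj_adj]
    refine hH (.field hrp (hrp.eq_two_or_odd'.resolve_left fun h2r => ?_) hK
      (fun x hx => ⟨_, hKd x hx, fun u v => by rw [hform, hr.adj_spec]⟩) hle)
    subst h2r
    have h3 : 2 * e ∣ i := by
      rw [← two_mul i, mul_assoc] at h2
      have := Nat.dvd_of_mul_dvd_mul_left two_pos h2
      rwa [mul_comm] at this
    have := Nat.le_of_dvd he0 ((Nat.dvd_add_right h3).1 h1)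
    omega

end CfsgLib.Perm.Asch
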