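import Cfsg.Agent.Lib.Perm.Asch.Forms.UCases

/-!
# Field subalgebras in the unitary groups over the field with four elements
-/

set_option autoImplicit false
set_option linter.all false

namespace CfsgLib.Perm.Asch

open scoped Classical Matrix
open Matrix Cfsg.Geo CfsgLib.SU

variable {F : Type*} [Field F] [Fintype F] {ι : Type} [Fintype ι] [DecidableEq ι]

theorem exists_omega (h4 : Fintype.card F = 4) : ∃ w : F, w * w = w + 1 ∧ (2 : F) = 0 := by
  have h2 : (2 : F) = 0 := two_eq_zero (q := 2) h4 rfl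
  obtain ⟨w, hw0, hw1⟩ : ∃ w : F, w ≠ 0 ∧ w ≠ 1 := by
    by_contra hcon
    push Not at hcon
    have : Fintype.card F ≤ ({0, 1} : Finset F).card := Finset.card_le_card fun x _ => by
      rcases eq_or_ne x 0 with rfl | hx
      · simp
      · simp [hcon x hx]
    have := (Finset.card_le_two (a := (0 : F)) (b := 1))
    omega
  have h3 : w ^ 4 = w := by simpa [h4] using FiniteField.pow_card w
  have h5 : w * (w - 1) * (w * w + w + 1) = 0 := by linear_combination h3
  have h6 : w * w + w + 1 = 0 := by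
    rcases mul_eq_zero.1 h5 with h | h
    · rcases mul_eq_zero.1 h with h | h
      · exact absurd h hw0
      · exact absurd (sub_eq_zero.1 h) hw1
    · exact h
  exact ⟨w, by linear_combination h6 - (w + 1) * h2, h2⟩

theorem field_mul_eq_zero {r : ℕ} {K : Subalgebra F (Matrix ι ι F)} (hK : IsFieldSubalgebra r K)
    {x y : Matrix ι ι F} (hx : x ∈ K) (h : x * y = 0) : x = 0 ∨ y = 0 := by
  by_cases h0 : x = 0
  · exact Or.inl h0
  obtain ⟨z, hz, hxz⟩ := hK.inv x hx h0
  right
  calc y = z * x * y := by rw [hK.comm z hz x hx, hxz, one_mul]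
    _ = 0 := by rw [mul_assoc, h, mul_zero]

/-- cube roots of unity in a field subalgebra are scalars -/
theorem scalar_of_cube (h4 : Fintype.card F = 4) {r : ℕ} {K : Subalgebra F (Matrix ι ι F)}
    (hK : IsFieldSubalgebra r K) {x : Matrix ι ι F} (hx : x ∈ K) (h : x ^ 3 = 1) :
    ∃ c : F, x = c • (1 : Matrix ι ι F) := by
  obtain ⟨w, hw, h2⟩ := exists_omega h4
  have e : (x - 1) * ((x - w • 1) * (x - (w + 1) • 1)) = 0 := by
    have h1 : w * (w + 1) = 1 := by linear_combination hw + w * h2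
    have h3 : w + (w + 1) = 1 := by linear_combination w * h2
    have e2 : (x - w • 1) * (x - (w + 1) • 1) = x * x + x + 1 := by
      have : (x - w • 1) * (x - (w + 1) • 1) = x * x - (w + (w + 1)) • x + (w * (w + 1)) • (1 : Matrix ι ι F) := by
        simp only [sub_mul, mul_sub, smul_mul_assoc, mul_smul_comm, one_mul, mul_one, smul_smul]
        module
      rw [this, h1, h3, one_smul, one_smul]
      have hm : ∀ y : Matrix ι ι F, -y = y := fun y => by
        ext i j
        simp only [Matrix.neg_apply]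
        linear_combination (-y i j) * h2
      rw [sub_eq_add_neg, hm]
    rw [e2]
    have : (x - 1) * (x * x + x + 1) = x ^ 3 - 1 := by noncomm_ring
    rw [this, h, sub_self]
  have hm : ∀ c : F, x - c • 1 ∈ K := fun c => K.sub_mem hx (sc_mem K c)
  rcases field_mul_eq_zero hK (K.sub_mem hx K.one_mem) e with e1 | e1
  · exact ⟨1, by rw [one_smul]; exact sub_eq_zero.1 e1⟩
  · rcases field_mul_eq_zero hK (hm w) e1 with e2 | e2
    · exact ⟨w, sub_eq_zero.1 e2⟩
    · exact ⟨w + 1, sub_eq_zero.1 e2⟩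

/-- the adjoint on a field subalgebra of odd degree over the field with four elements -/
theorem field_adj {n r : ℕ} [NeZero n] (h4 : Fintype.card F = 4) {σ : F →+* F} (hu : UConj σ 2)
    {K : Subalgebra F (Matrix (Fin n) (Fin n) F)} (hK : IsFieldSubalgebra r K) (hr : Odd r)
    (ha : IsAdjointClosedFor (Cfsg.hermForm n F 2) K) :
    (∀ i, (∀ x ∈ K, x ^ 2 ^ i = x) ↔ 2 * r ∣ i) ∧
      (∀ k ∈ K, adj σ (1 : Matrix (Fin n) (Fin n) F) k = k ^ 2 ^ r) ∧
      ∀ g ∈ subalgebraNormalizer K, ∃ i, Even i ∧ ∀ k ∈ K, cj g k = k ^ 2 ^ i := by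
  haveI : Fact (Nat.Prime 2) := ⟨Nat.prime_two⟩
  haveI : Nonempty (Fin n) := ⟨⟨0, Nat.pos_of_ne_zero (NeZero.ne n)⟩⟩
  haveI : CharP F 2 := CharTwo.of_one_ne_zero_of_two_eq_zero one_ne_zero (exists_omega h4).choose_spec.2
  have hc : Fintype.card F = 2 ^ 2 := h4
  obtain ⟨hfix, hfrob⟩ := fieldSubalgebra_frob hK hc
  have hr1 : Refl σ (1 : Matrix (Fin n) (Fin n) F) := hu.refl_one
  have hmem : ∀ k ∈ K, adj σ (1 : Matrix (Fin n) (Fin n) F) k ∈ K := fun k hk => by
    obtain ⟨k', hk', hs⟩ := ha k hk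
    rw [hu.hermForm_eq] at hs
    rwa [hr1.adj_eq_of_forall hs]
  refine ⟨hfix, fun k hk => ?_, fun g hg => ?_⟩
  · obtain ⟨i, hi⟩ := hfrob (adj σ 1) hmem hr1.adj_one (fun x _ y _ => hr1.adj_add x y) (fun x hx y hy => by
      rw [hr1.adj_mul]; exact hK.comm _ (hmem y hy) _ (hmem x hx))
    have h2i : 2 * r ∣ i + i := (hfix _).1 fun x hx => by
      rw [pow_add, pow_mul, ← hi x hx, ← hi _ (hmem x hx), hr1.adj_adj]
    have hodd : ¬ Even i := by
      rintro ⟨j, rfl⟩
      obtain ⟨y, hy⟩ := hu.exists_ne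
      have h := hi _ (sc_mem K y)
      rw [hr1.adj_smul, hr1.adj_one, smul_pow, one_pow] at h
      have h' := congrFun (congrFun h 0) 0
      simp only [Matrix.smul_apply, Matrix.one_apply_eq, smul_eq_mul, mul_one] at h'
      refine hy (h'.trans ?_)
      rw [← two_mul j, pow_mul, ← hc]
      exact FiniteField.pow_card_pow j y
    obtain ⟨s, hs⟩ := h2i
    obtain ⟨t, ht⟩ := Nat.not_even_iff_odd.1 hodd
    obtain ⟨u, hu'⟩ := hr
    have hi' : i = r * s := by linarith
    obtain ⟨v, hv⟩ : Odd s := (Nat.odd_mul.1 (hi' ▸ ⟨t, ht⟩ : Odd (r * s))).2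
    rw [hi k hk, show i = r + 2 * r * v by rw [hi', hv]; ring, pow_add, pow_mul]
    exact (hfix _).2 (dvd_mul_right _ _) _ (K.pow_mem hk _)
  · obtain ⟨i, hi⟩ := hfrob (cj g) (fun x hx => (hg x).1 hx) (cj_one g) (fun x _ y _ => cj_add g x y)
      (fun x _ y _ => cj_mul g x y)
    refine ⟨i, ?_, hi⟩
    by_contra hcon
    obtain ⟨j, rfl⟩ := Nat.not_even_iff_odd.1 hcon
    obtain ⟨y, hy⟩ := hu.exists_ne
    have h := hi _ (sc_mem K y)
    rw [cj_smul, cj_one, smul_pow, one_pow] at h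
    have h' := congrFun (congrFun h 0) 0
    simp only [Matrix.smul_apply, Matrix.one_apply_eq, smul_eq_mul, mul_one] at h'
    refine hy ?_
    rw [hu.eq]
    conv_rhs => rw [h']
    rw [show (2 : ℕ) ^ (2 * j + 1) = Fintype.card F ^ j * 2 by rw [h4, pow_succ, pow_mul]; norm_num, pow_mul y,
      FiniteField.pow_card_pow]

/-- a matrix commuting with a field subalgebra of full degree lies in it -/
theorem mem_of_commute_field {r : ℕ} {K : Subalgebra F (Matrix ι ι F)} (hK : IsFieldSubalgebra r K)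
    (hr : r = Fintype.card ι) [Nonempty ι] {y : Matrix ι ι F} (hy : ∀ k ∈ K, y * k = k * y) : y ∈ K := by
  let v : ι → F := Pi.single (Classical.arbitrary ι) 1
  have hv : v ≠ 0 := fun h => by simpa [v] using congrFun h (Classical.arbitrary ι)
  let L : K →ₗ[F] (ι → F) :=
    { toFun := fun k => (k : Matrix ι ι F) *ᵥ v
      map_add' := fun a b => Matrix.add_mulVec ..
      map_smul' := fun c a => Matrix.smul_mulVec .. }
  have hinj : Function.Injective L := (injective_iff_map_eq_zero L).2 fun k hk => by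
    by_contra h0
    obtain ⟨z, hz, hkz⟩ := hK.inv _ k.2 fun h => h0 (Subtype.ext h)
    refine hv ?_
    rw [← one_mulVec v, ← hkz, hK.comm _ k.2 _ hz, ← mulVec_mulVec, show (k : Matrix ι ι F) *ᵥ v = 0 from hk, mulVec_zero]
  have hsur : Function.Surjective L := (LinearMap.injective_iff_surjective_of_finrank_eq_finrank (by
    rw [hK.finrank_eq, hr, Module.finrank_fintype_fun_eq_card])).1 hinj
  obtain ⟨k, hk⟩ := hsur (y *ᵥ v)
  convert k.2 using 1
  refine Matrix.ext_iff_mulVec.2 fun u => ?_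
  obtain ⟨l, rfl⟩ := hsur u
  show y *ᵥ ((l : Matrix ι ι F) *ᵥ v) = (k : Matrix ι ι F) *ᵥ ((l : Matrix ι ι F) *ᵥ v)
  rw [mulVec_mulVec, hy _ l.2, ← mulVec_mulVec, mulVec_mulVec _ (k : Matrix ι ι F), hK.comm _ k.2 _ l.2,
    ← mulVec_mulVec]
  exact congrArg _ hk.symm

end CfsgLib.Perm.Asch
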