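import Cfsg.Agent.Lib.Perm.Asch.Forms.UCases

/-!
# `SU(4, q)`, `q` odd, normalises no `2`-group with scalar centraliser
-/

set_option autoImplicit false
set_option linter.all false

namespace CfsgLib.Perm.Asch.U4

open scoped Classical Matrix
open Matrix Cfsg.Geo CfsgLib.SU

variable {F : Type*} [Field F] [Fintype F] {q : ℕ} (C : UCtx F q)

theorem trace_two_transvections {n : ℕ} (u v : Fin n → F) (s : F) :
    (C.rmap u u s * C.rmap v v (-s)).trace =
      (n : F) + s * C.form u u - s * C.form v v - s * s * C.form v u * C.form u v := by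
  have hdot : ∀ a b : Fin n → F, a ⬝ᵥ (fun j => C.bar (b j)) = C.form a b := fun a b => rfl
  simp only [UCtx.rmap, add_mul, mul_add, one_mul, mul_one, Matrix.trace_add, Matrix.trace_one,
    Fintype.card_fin, Matrix.vecMulVec_mul_vecMulVec, Matrix.trace_vecMulVec, Matrix.trace_smul,
    smul_dotProduct, dotProduct_smul, smul_eq_mul, hdot, C.form_smul_left]
  rw [dotProduct_comm (fun j => C.bar (u j)) v, hdot]
  ring

include C in
theorem su4_not_le_normalizer (h2 : (2 : F) ≠ 0) {R : Subgroup (GL (Fin 4) F)} (hR : IsPGroup 2 R)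
    (h4 : ∀ y ∈ R, y ^ 4 = 1) (hI : R ≤ Cfsg.GU 4 F q)
    (hcomm : ∀ M : Matrix (Fin 4) (Fin 4) F, (∀ s ∈ matrixSet R, M * s = s * M) →
      ∃ c : F, M = c • (1 : Matrix (Fin 4) (Fin 4) F)) :
    ¬ suGL 4 F q ≤ subgroupNormalizer R := by
  intro hle
  haveI : Fact (Nat.Prime 2) := ⟨Nat.prime_two⟩
  obtain ⟨δ, hδ0, hδ⟩ := C.exists_trace_zero
  set Z := scalars (Fin 4) F
  haveI : (Z.subgroupOf R).Normal := Subgroup.Normal.subgroupOf scalars_normal R
  have hne : Nontrivial (R ⧸ Z.subgroupOf R) := by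
    by_contra hn'
    rw [not_nontrivial_iff_subsingleton] at hn'
    obtain ⟨c, hc⟩ := hcomm (Matrix.single (0 : Fin 4) 1 (1 : F)) (by
      rintro _ ⟨y, hy, rfl⟩
      obtain ⟨d, hd⟩ := mem_scalars.1 (Subgroup.mem_subgroupOf.1
        ((QuotientGroup.eq_one_iff _).1 (Subsingleton.elim ((⟨y, hy⟩ : R) : R ⧸ Z.subgroupOf R) 1)))
      have hd' : (y : Matrix (Fin 4) (Fin 4) F) = (d : F) • 1 := hd
      show _ * (y : Matrix (Fin 4) (Fin 4) F) = (y : Matrix (Fin 4) (Fin 4) F) * _
      rw [hd', mul_smul_comm, smul_mul_assoc, mul_one, one_mul])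
    have := congrFun (congrFun hc 0) 1
    simp at this
  obtain ⟨x, hxR, hxT, hxZ⟩ : ∃ x ∈ R, (∀ y ∈ R, x * y * x⁻¹ * y⁻¹ ∈ Z) ∧ x ∉ Z := by
    haveI : Nontrivial (Subgroup.center (R ⧸ Z.subgroupOf R)) := (hR.to_quotient _).center_nontrivial
    obtain ⟨⟨c, hc⟩, hc1⟩ := exists_ne (1 : Subgroup.center (R ⧸ Z.subgroupOf R))
    induction c using QuotientGroup.induction_on with
    | _ x =>
      refine ⟨x, x.2, fun y hy => ?_, fun h => hc1 (Subtype.ext ?_)⟩
      · have h1 := Subgroup.mem_center_iff.1 hc ((⟨y, hy⟩ : R) : R ⧸ Z.subgroupOf R)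
        rw [← QuotientGroup.mk_mul, ← QuotientGroup.mk_mul, QuotientGroup.eq, Subgroup.mem_subgroupOf] at h1
        have h2 := scalars_normal.conj_mem _ h1 (y * (x : GL (Fin 4) F))
        convert h2 using 1
        simp only [Subgroup.coe_mul, InvMemClass.coe_inv]
        group
      · show ((x : R) : R ⧸ Z.subgroupOf R) = 1
        rw [QuotientGroup.eq_one_iff, Subgroup.mem_subgroupOf]
        exact h
  refine hxZ ?_
  obtain ⟨c, hc⟩ := scalar_of_iso_eigen C (by norm_num) (k := (x : Matrix (Fin 4) (Fin 4) F)) fun u hu0 hu => by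
    obtain ⟨g, hg, hgm, hgx, hgi⟩ := exists_utv C u hu δ hδ
    set v := (x : Matrix (Fin 4) (Fin 4) F) *ᵥ u with hv
    set z := g * x * g⁻¹ * x⁻¹ with hz
    have hgR : g * x * g⁻¹ ∈ R := (hle hg x).1 hxR
    have hzR : z ∈ R := R.mul_mem hgR (R.inv_mem hxR)
    have hzT : ∀ y ∈ R, z * y * z⁻¹ * y⁻¹ ∈ Z := by
      intro y hy
      have hy' : g⁻¹ * y * g ∈ R := by simpa using (hle ((suGL 4 F q).inv_mem hg) y).1 hy
      have h1 : g * x * g⁻¹ * y * (g * x * g⁻¹)⁻¹ * y⁻¹ ∈ Z := by
        have := scalars_normal.conj_mem _ (hxT _ hy') g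
        convert this using 1
        group
      have h2 : x⁻¹ * y * x * y⁻¹ ∈ Z := by
        have := scalars_normal.conj_mem _ (Z.inv_mem (hxT y hy)) x⁻¹
        convert this using 1
        group
      have h3 := Z.mul_mem (scalars_normal.conj_mem _ h2 (g * x * g⁻¹)) h1
      convert h3 using 1
      rw [hz]; group
    have hxf : ∀ a b : Fin 4 → F, C.form ((x : Matrix (Fin 4) (Fin 4) F) *ᵥ a)
        ((x : Matrix (Fin 4) (Fin 4) F) *ᵥ b) = C.form a b := fun a b => by
      rw [← herm_form C, ← herm_form C]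
      exact hI hxR a b
    have hvv : C.form v v = 0 := by rw [hv, hxf, hu]
    have hxinv : ∀ w : Fin 4 → F, C.form (((x⁻¹ : GL (Fin 4) F) : Matrix (Fin 4) (Fin 4) F) *ᵥ w) u = C.form w v :=
      fun w => by rw [← hxf, mulVec_mulVec, gl_mul_inv, one_mulVec]
    have hzmat : (z : Matrix (Fin 4) (Fin 4) F) = C.rmap u u δ * C.rmap v v (-δ) := by
      refine Matrix.ext_iff_mulVec.2 fun w => ?_
      rw [hz, Units.val_mul, Units.val_mul, Units.val_mul, ← mulVec_mulVec, ← mulVec_mulVec, ← mulVec_mulVec,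
        hgi, mulVec_add, mulVec_smul, mulVec_mulVec, gl_mul_inv, one_mulVec, hgx, hxinv, ← hv,
        ← mulVec_mulVec, C.rmap_mulVec, C.rmap_mulVec]
    have hzw : ∀ w, (z : Matrix (Fin 4) (Fin 4) F) *ᵥ w =
        w + (-δ * C.form w v) • v + (δ * (C.form w u + -δ * C.form w v * C.form v u)) • u := fun w => by
      rw [hzmat, ← mulVec_mulVec, C.rmap_mulVec, C.rmap_mulVec, C.form_add_left, C.form_smul_left]
    by_cases hall : ∀ y ∈ R, z * y = y * z
    · obtain ⟨c, hc⟩ := hcomm (z : Matrix (Fin 4) (Fin 4) F) (by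
        rintro _ ⟨y, hy, rfl⟩
        show (z : Matrix (Fin 4) (Fin 4) F) * (y : Matrix (Fin 4) (Fin 4) F) = y * z
        exact ((Units.val_mul z y).symm.trans (congrArg Units.val (hall y hy))).trans (Units.val_mul y z))
      have hc1 : c = 1 := by
        obtain ⟨w, hwu, hwv, hw0⟩ : ∃ w, C.form w u = 0 ∧ C.form w v = 0 ∧ w ≠ 0 := by
          obtain ⟨w, h⟩ := C.exists_orth_two (by norm_num : 3 ≤ 4) u v
          exact ⟨w, h.2.1, h.2.2, h.1⟩
        have h1 := hzw w
        rw [hc, smul_mulVec, one_mulVec, hwu, hwv] at h1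
        simp at h1
        exact smul_left_injective F hw0 (h1.trans (one_smul F w).symm)
      have hz1 : z = 1 := Units.ext (by rw [hc, hc1, one_smul, Units.val_one])
      refine eigen_of_commute C hu0 hδ0 hgx ?_
      have : g * x = x * g := by
        have h1 : g * x = z * (x * g) := by rw [hz]; group
        rw [h1, hz1, one_mul]
      rw [← Units.val_mul, this, Units.val_mul]
    push Not at hall
    obtain ⟨y, hy, hyne⟩ := hall
    obtain ⟨d, hd⟩ := mem_scalars.1 (hzT y hy)
    have hzy : ((y⁻¹ : GL (Fin 4) F) : Matrix (Fin 4) (Fin 4) F) * z * y = (d : F) • (z : Matrix (Fin 4) (Fin 4) F) := by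
      have : y⁻¹ * z * y = y⁻¹ * (z * y * z⁻¹ * y⁻¹) * y * z := by group
      rw [← Units.val_mul, ← Units.val_mul, this, Units.val_mul, Units.val_mul, Units.val_mul, hd,
        mul_smul_comm, mul_one, smul_mul_assoc, gl_inv_mul, smul_mul_assoc, one_mul]
    have hd1 : (d : F) ≠ 1 := by
      intro h
      apply hyne
      rw [h, one_smul] at hzy
      have h' : y⁻¹ * z * y = z := Units.ext (by rw [Units.val_mul, Units.val_mul, hzy])
      calc z * y = y * (y⁻¹ * z * y) := by group
        _ = y * z := by rw [h']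
    have htr : (z : Matrix (Fin 4) (Fin 4) F).trace = 0 := by
      have h := congrArg Matrix.trace hzy
      rw [Matrix.trace_mul_cycle, gl_mul_inv, one_mul, Matrix.trace_smul, smul_eq_mul] at h
      by_contra h0
      exact hd1 (mul_right_cancel₀ h0 (by rw [one_mul]; exact h.symm))
    rw [hzmat, trace_two_transvections, hu, hvv] at htr
    push_cast at htr
    have hP : δ * δ * C.form v u * C.form u v = 4 := by linear_combination -htr
    -- the image of `u` and the fourth power
    set a := δ * C.form u v with ha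
    have ha0 : a ≠ 0 := by
      intro h
      rw [ha] at h
      have : (4 : F) = 0 := by rw [← hP]; linear_combination δ * C.form v u * h
      exact h2 (by
        have h22 : (2 : F) * 2 = 0 := by linear_combination this
        exact mul_self_eq_zero.1 h22)
    have hzu : (z : Matrix (Fin 4) (Fin 4) F) *ᵥ u = (-3 : F) • u + (-a) • v := by
      rw [hzw, hu]
      match_scalars <;> first | linear_combination -hP | (rw [ha]; ring)
    have hzv : (z : Matrix (Fin 4) (Fin 4) F) *ᵥ v = v + (δ * C.form v u) • u := by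
      rw [hzw, hvv]
      match_scalars <;> ring
    set N := (-2 : F) • u + (-a) • v with hN
    have hzN : (z : Matrix (Fin 4) (Fin 4) F) *ᵥ N = -N := by
      rw [hN, mulVec_add, mulVec_smul, mulVec_smul, hzu, hzv]
      match_scalars <;> rw [ha] <;> first | linear_combination -hP | ring
    have hzu' : (z : Matrix (Fin 4) (Fin 4) F) *ᵥ u = -u + N := by
      rw [hzu, hN]; match_scalars <;> ring
    have hz4 : (z : Matrix (Fin 4) (Fin 4) F) *ᵥ ((z : Matrix (Fin 4) (Fin 4) F) *ᵥ
        ((z : Matrix (Fin 4) (Fin 4) F) *ᵥ ((z : Matrix (Fin 4) (Fin 4) F) *ᵥ u))) = u := by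
      have h := congrArg (fun G : GL (Fin 4) F => (G : Matrix (Fin 4) (Fin 4) F) *ᵥ u) (h4 z hzR)
      simp only [pow_succ', pow_zero, mul_one, Units.val_mul, Units.val_one, one_mulVec, ← mulVec_mulVec] at h
      exact h
    simp only [hzu', mulVec_add, mulVec_neg, hzN] at hz4
    have h4N : (4 : F) • N = 0 := by
      linear_combination (norm := module) -hz4
    have hN0 : N = 0 := by
      rcases smul_eq_zero.1 h4N with h | h
      · exact absurd (mul_self_eq_zero.1 (by linear_combination h : (2 : F) * 2 = 0)) h2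
      · exact h
    refine ⟨-2 / a, ?_⟩
    have h5 : a • v = (-2 : F) • u := by
      rw [hN] at hN0
      linear_combination (norm := module) -hN0
    have := congrArg (fun w => a⁻¹ • w) h5
    simp only [smul_smul, inv_mul_cancel₀ ha0, one_smul] at this
    rw [this, div_eq_inv_mul]
  exact mem_scalars_of_eq hc

end CfsgLib.Perm.Asch.U4
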