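import Cfsg.Agent.Lib.Perm.Asch.Forms.UCases
import Cfsg.Agent.Lib.Perm.Asch.Forms.U4Normalizer

/-!
# The candidates for maximal subgroups of `SU_4(q)`
-/

set_option autoImplicit false
set_option linter.all false

namespace CfsgLib.Perm.Asch

open scoped Classical Matrix
open Matrix Cfsg.Geo CfsgLib.SU

variable {F : Type*} [Field F] [Fintype F] {q : ℕ}

theorem sym_proper (C : UCtx F q) {r : ℕ} {R : Subgroup (GL (Fin 4) F)} {p e k : ℕ} (hR : IsSymplecticTypeGroup r R)
    (ha : ActsAbsolutelyIrreducibly (matrixSet R)) (hI : R ≤ Cfsg.GU 4 F q) (hk : 4 = r ^ k) (hrp : r ≠ p)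
    (hm : IsMinimalFieldFor (Nat.card (Subgroup.center R)) p e F) : ¬ suGL 4 F q ≤ subgroupNormalizer R := by
  obtain rfl : r = 2 := (Nat.prime_dvd_prime_iff_eq hR.prime Nat.prime_two).1
    (hR.prime.dvd_of_dvd_pow (show r ∣ 2 ^ 2 by rw [show 2 ^ 2 = r ^ k from hk]; exact dvd_pow_self r (by
      rintro rfl; simp at hk)))
  obtain ⟨hp, hcp, -⟩ := hm
  haveI := hcp
  have h2 : (2 : F) ≠ 0 := fun h => hrp ((Nat.prime_dvd_prime_iff_eq hp Nat.prime_two).1
    ((CharP.cast_eq_zero_iff F p 2).1 (by exact_mod_cast h))).symm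
  refine U4.su4_not_le_normalizer C h2 hR.pGroup (fun y hy => ?_) hI (ha.2)
  have h := Monoid.pow_exponent_eq_one (⟨y, hy⟩ : R)
  rw [hR.exponent_eq, show 2 * Nat.gcd 2 2 = 4 from rfl] at h
  exact congrArg Subtype.val h

/-- the maximal subgroups of `SU_4(q)` -/
theorem su_max_four (hF : Fintype.card F = q ^ 2) {H : Subgroup (GL (Fin 4) F)}
    (hH : IsMaximalIn (suGL 4 F q) H) : UMax 4 F q H := by
  obtain ⟨σ, hu⟩ := exists_uconj hF
  obtain ⟨C, -⟩ := exists_uctx hu
  have hI : H ≤ Cfsg.GU 4 F q := fun g hg => (hH.1.le hg).1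
  have hq2 : q ≠ 2 → 3 ≤ q := fun hne => by
    have h1 := hu.two_le
    omega
  have decOne : ∀ {t : ℕ} {D : Fin t → Submodule F (Fin 4 → F)},
      IsNondegenerateMDecomposition (Cfsg.hermForm 4 F q) 1 D → H ≤ decompositionStabilizer D → UMax 4 F q H := by
    intro t D hD hle
    refine .dec hD.decomp.two_le ?_ (by simp) hD
      (su_eq_inf hH hle (su_not_le_frame C hF (by omega) (Or.inr (by omega)) hD))
    rw [decomposition_card hD.decomp, Fintype.card_fin]
  have dec : ∀ {t k : ℕ} {D : Fin t → Submodule F (Fin 4 → F)},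
      IsNondegenerateMDecomposition (Cfsg.hermForm 4 F q) k D → H ≤ decompositionStabilizer D → UMax 4 F q H := by
    intro t k D hD hle
    have hk := hD.decomp.pos
    rcases Nat.lt_or_ge k 2 with hk1 | hk2
    · obtain rfl : k = 1 := by omega
      exact decOne hD hle
    by_cases h22 : k = 2 ∧ q = 2
    · obtain ⟨rfl, hq⟩ := h22
      obtain ⟨t', D', hD', hle'⟩ := frame_of_planes C hF hq hD hI hle
      exact decOne hD' hle'
    · refine .dec hD.decomp.two_le ?_ (fun h => hq2 fun hq => h22 ⟨h, hq⟩) hD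
        (su_eq_inf hH hle (su_not_le_decomposition C (by omega) hk2 hD.decomp))
      rw [decomposition_card hD.decomp, Fintype.card_fin]
  rcases unitary_structure hu (by omega) hI with hc | hres
  swap
  · exact .residual hres
  cases hc with
  | @singular W h0 hs h =>
    refine .singular h0 hs (su_eq_inf hH h (su_not_le_subspace C (by omega) h0 fun htop => ?_))
    subst htop
    obtain ⟨e, he0, -⟩ := C.exists_isotropic (n := 4) (by omega)
    obtain ⟨y, hy⟩ := C.exists_form_eq_one he0
    have h1 := hs y trivial e trivial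
    rw [herm_form C, hy] at h1
    exact one_ne_zero h1
  | @nondeg W h0 hn' hd h =>
    refine .nondeg h0 hn' hd (su_eq_inf hH h (su_not_le_subspace C (by omega) h0 fun htop => ?_))
    subst htop
    rw [finrank_top, Module.finrank_fin_fun] at hd
    omega
  | dec hD h => exact dec hD h
  | @pair k D hk hD hs h =>
    exact .pair hk hD hs (su_eq_inf hH h (su_not_le_decomposition C (by omega) (by omega) hD))
  | @subOdd F₀ r P hr hro hc hs h =>
    exact .subOdd ⟨F₀, r, P, hr, hro, hc, hs,
      su_eq_inf hH h (su_not_le_subfield C (by omega) (ne_top_of_card hr.one_lt hc) P)⟩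
  | @subOrth F₀ P hq hc hs h =>
    exact .subOrth hq ⟨F₀, P, hc, hs,
      su_eq_inf hH h (su_not_le_subfield C (by omega) (ne_top_of_card one_lt_two hc) P)⟩
  | @subSymp F₀ P ζ hev hc hζ hζq hs halt h =>
    exact .subSymp hev ⟨F₀, P, ζ, hc, hζ, hζq, hs, halt,
      su_eq_inf hH h (su_not_le_subfield C (by omega) (ne_top_of_card one_lt_two hc) P)⟩
  | @sym r R p e k hR ha hs hrp hm hIR hk hcases h =>
    exact .sym hR ha hs hrp hm hIR hk hcases (su_eq_inf hH h (sym_proper C hR ha hIR hk hrp hm))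
  | @field r K hr hro hK ha h =>
    refine .field hr hro ?_ hK ha (su_eq_inf hH h (su_not_le_field C (by omega) hr hK))
    have := finrank_dvd_card hK
    rwa [Fintype.card_fin] at this
  | @tensor n₁ n₂ e P f₁ f₂ h2 h12 h₁ h₂ hs h =>
    have hn' : n₁ * n₂ = 4 := by simpa using (Fintype.card_congr e).symm
    by_cases h22 : n₁ = 2 ∧ q = 2
    · obtain ⟨rfl, hq⟩ := h22
      obtain ⟨D, hD, hle⟩ := dec_of_tensor C hF hq (by omega) e P h₁ hs hI h
      exact dec hD hle
    · exact .tensor e P h2 h12 hn' (fun h1 => hq2 fun hq => h22 ⟨h1, hq⟩) h₁ h₂ hs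
        (su_eq_inf hH h (su_not_le_tensor C P e h2 (by omega)))
  | @power k t e P f₁ hk ht hex h₁ hs h =>
    exact .power e P hk ht (by simpa using (Fintype.card_congr e).symm) hex h₁ hs
      (su_eq_inf hH h (su_not_le_wreath C e P (by omega) ht))

end CfsgLib.Perm.Asch
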