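import Cfsg.Agent.Lib.Perm.Asch.Forms.U4Mono

/-!
# The monomial subgroup of `SU(4, 3)` is not maximal

It normalises the group `4 ∘ 2^(1+4)` of monomial matrices, which is also normalised by a Hadamard matrix.
-/

set_option autoImplicit false
set_option linter.all false

namespace CfsgLib.Perm.Asch.U4

open scoped Classical Matrix
open Matrix Cfsg.Geo CfsgLib.SU

/-- signed monomial matrices -/
def wint (c b : Fin 4) : Matrix (Fin 4) (Fin 4) ℤ :=
  Matrix.of fun r j => if r = kp c j then (if kx 0 b j = 0 then 1 else -1) else 0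

/-- a Hadamard matrix on two pairs -/
def had : Matrix (Fin 4) (Fin 4) ℤ := !![1, 1, 0, 0; 1, -1, 0, 0; 0, 0, 1, 1; 0, 0, -1, 1]

theorem had_normalizes : ∀ c b, ∃ c' b', had * wint c b = wint c' b' * had ∨ had * wint c b = -(wint c' b' * had) := by
  decide +kernel

theorem kx_split : ∀ a b j, (kx a b j = a ∧ kx 0 b j = 0) ∨ (kx a b j = a + 2 ∧ kx 0 b j ≠ 0) := by decide +kernel

theorem kx_shift : ∀ a b, ∃ a', ∀ j, kx a b j + 2 = kx a' b j := by decide +kernel

theorem kx_separates : ∀ i j : Fin 4, i ≠ j → ∃ b, kx 0 b i ≠ kx 0 b j := by decide +kernel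

theorem kp_start : ∀ i, kp i 0 = i := by decide +kernel

variable {F : Type*} [Field F]

theorem mon_eq_wint (ι : F) (h4 : ι ^ 4 = 1) (hι2 : pw ι 2 = -1) (c : Fin 4) (a : ZMod 4) (b : Fin 4) :
    mon ι (kp c) (kx a b) = pw ι a • (wint c b).map (Int.cast : ℤ → F) := by
  ext r j
  simp only [mon, wint, Matrix.of_apply, Matrix.smul_apply, Matrix.map_apply, smul_eq_mul]
  by_cases hr : r = kp c j
  · rw [if_pos hr, if_pos hr]
    rcases kx_split a b j with ⟨h, h'⟩ | ⟨h, h'⟩
    · rw [h, if_pos h', Int.cast_one, mul_one]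
    · rw [h, if_neg h', pw_add ι h4, hι2]; push_cast; ring
  · rw [if_neg hr, if_neg hr, Int.cast_zero, mul_zero]

variable [Fintype F]

/-- the monomial subgroup is not maximal -/
theorem frame_not_maximal {q : ℕ} (hF : Fintype.card F = q ^ 2) (hq : q = 3) {H : Subgroup (GL (Fin 4) F)}
    (hH : IsMaximalIn (suGL 4 F q) H) {D : Fin 4 → Submodule F (Fin 4 → F)}
    (hD : IsNondegenerateMDecomposition (Cfsg.hermForm 4 F q) 1 D)
    (hHD : H = decompositionStabilizer D ⊓ suGL 4 F q) : False := by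
  obtain ⟨σ, hu⟩ := exists_uconj hF
  obtain ⟨C, -⟩ := exists_uctx hu
  subst hq
  have h9 : Fintype.card F = 9 := by rw [hF]; norm_num
  have h3 : (3 : F) = 0 := by
    have h := Nat.cast_card_eq_zero F
    rw [h9] at h
    have : (3 : F) * 3 = 0 := by push_cast at h; linear_combination h
    exact mul_self_eq_zero.1 this
  have h2 : (2 : F) ≠ 0 := fun h => one_ne_zero (α := F) (by linear_combination h3 - h)
  obtain ⟨ι, hι⟩ : ∃ ι : F, ι * ι = -1 := by
    obtain ⟨r, hr⟩ := FiniteField.isSquare_neg_one_iff.2 (show Fintype.card F % 4 ≠ 3 by rw [h9]; norm_num)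
    exact ⟨r, hr.symm⟩
  have h4 : ι ^ 4 = 1 := by linear_combination (ι * ι - 1) * hι
  have hneg : (-1 : F) ≠ 1 := fun h => h2 (by linear_combination -h)
  have hι2 : pw ι 2 = -1 := by rw [pw, show (2 : ZMod 4).val = 2 from rfl, sq, hι]
  have hbar : ∀ x : F, C.bar x = x ^ 3 := C.bar_eq
  have hnorm : ∀ k, pw ι k * C.bar (pw ι k) = 1 := fun k => by
    rw [hbar, ← pow_succ', pw, ← pow_mul, mul_comm, pow_mul, h4, one_pow]
  have hroot : ∀ d : F, d * C.bar d = 1 → ∃ k, d = pw ι k := by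
    intro d hd
    rw [hbar] at hd
    have e : (d * d - 1) * (d * d + 1) = 0 := by linear_combination hd
    rcases mul_eq_zero.1 e with h | h
    · rcases mul_self_eq_one_iff.1 (sub_eq_zero.1 h) with h | h
      · exact ⟨0, by rw [pw_zero, h]⟩
      · exact ⟨2, by rw [hι2, h]⟩
    · have e' : (d - ι) * (d + ι) = 0 := by linear_combination h - hι
      rcases mul_eq_zero.1 e' with h | h
      · exact ⟨1, by rw [pw, show (1 : ZMod 4).val = 1 from rfl, pow_one]; exact sub_eq_zero.1 h⟩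
      · exact ⟨3, by rw [pw, show (3 : ZMod 4).val = 3 from rfl]; linear_combination h - ι * hι⟩
  -- an orthonormal basis
  have hv : ∀ i, ∃ v ∈ D i, C.form v v = 1 ∧ ∀ x ∈ D i, ∃ a : F, x = a • v := by
    intro i
    obtain ⟨⟨v, hv⟩, hv0, hsp⟩ := finrank_eq_one_iff'.1 (hD.decomp.finrank_eq i)
    have hline : ∀ x ∈ D i, ∃ a : F, x = a • v := fun x hx => by
      obtain ⟨a, ha⟩ := hsp ⟨x, hx⟩
      exact ⟨a, (congrArg Subtype.val ha).symm⟩
    have hne : C.form v v ≠ 0 := by
      intro h0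
      obtain ⟨⟨x, hx, hne⟩, -⟩ := hD.nondegenerate i v hv fun h => hv0 (Subtype.ext h)
      obtain ⟨a, rfl⟩ := hline x hx
      rw [herm_form C, C.form_smul_left, h0, mul_zero] at hne
      exact hne rfl
    obtain ⟨s, hs⟩ := C.exists_norm (c := (C.form v v)⁻¹) (by rw [map_inv₀, C.form_self_fixed])
    refine ⟨s • v, (D i).smul_mem s hv, ?_, fun x hx => ?_⟩
    · rw [C.form_smul_left, C.form_smul_right, ← mul_assoc, hs, inv_mul_cancel₀ hne]
    · obtain ⟨a, rfl⟩ := hline x hx
      have hs0 : s ≠ 0 := fun h => inv_ne_zero hne (by rw [← hs, h, zero_mul])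
      exact ⟨a / s, by rw [smul_smul, div_mul_cancel₀ _ hs0]⟩
  choose v hvD hv1 hline using hv
  have horth : ∀ i j, C.form (v i) (v j) = if i = j then 1 else 0 := fun i j => by
    by_cases h : i = j
    · subst h; simp [hv1]
    · rw [if_neg h, ← herm_form C]
      exact hD.orthogonal i j h _ (hvD i) _ (hvD j)
  set V : Matrix (Fin 4) (Fin 4) F := Matrix.of fun k i => v i k with hV
  have hVu : ∀ u : Fin 4 → F, V *ᵥ u = ∑ i, u i • v i := fun u => by
    ext k; simp [hV, Matrix.mulVec, dotProduct, Fin.sum_univ_four]; ring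
  have hVf : ∀ u w : Fin 4 → F, C.form (V *ᵥ u) (V *ᵥ w) = C.form u w := fun u w => by
    rw [hVu, hVu, C.form_sum_left]
    simp only [Fin.sum_univ_four, C.form_add_right, C.form_smul_left, C.form_smul_right, horth]
    simp [UCtx.form, Fin.sum_univ_four]
  have hVdet : IsUnit V.det := by
    rw [isUnit_iff_ne_zero]
    intro h0
    obtain ⟨u, hu0, hu⟩ := Matrix.exists_mulVec_eq_zero_iff.2 h0
    exact hu0 (C.eq_zero_of_form fun w => by rw [← hVf, hu, C.form_zero_left])
  let B : GL (Fin 4) F := Matrix.GeneralLinearGroup.mk'' V hVdet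
  have hBf : ∀ u w : Fin 4 → F, C.form ((B : Matrix (Fin 4) (Fin 4) F) *ᵥ u) ((B : Matrix (Fin 4) (Fin 4) F) *ᵥ w) = C.form u w := hVf
  have hBif : ∀ u w : Fin 4 → F,
      C.form (((B⁻¹ : GL (Fin 4) F) : Matrix (Fin 4) (Fin 4) F) *ᵥ u) (((B⁻¹ : GL (Fin 4) F) : Matrix (Fin 4) (Fin 4) F) *ᵥ w) = C.form u w :=
    fun u w => by rw [← hBf, mulVec_mulVec, mulVec_mulVec, gl_mul_inv, one_mulVec, one_mulVec]
  -- the group
  let cB : GL (Fin 4) F → Matrix (Fin 4) (Fin 4) F := fun g => ((B⁻¹ * g * B : GL (Fin 4) F) : Matrix (Fin 4) (Fin 4) F)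
  have hcmul : ∀ g g', cB (g * g') = cB g * cB g' := fun g g' => by
    show ((B⁻¹ * (g * g') * B : GL (Fin 4) F) : Matrix (Fin 4) (Fin 4) F) = _
    rw [show B⁻¹ * (g * g') * B = B⁻¹ * g * B * (B⁻¹ * g' * B) by group, Units.val_mul]
  have hcone : cB 1 = 1 := by show ((B⁻¹ * 1 * B : GL (Fin 4) F) : Matrix (Fin 4) (Fin 4) F) = 1; simp
  let R : Subgroup (GL (Fin 4) F) :=
    { carrier := {g | InR ι (cB g)}
      mul_mem' := fun {g g'} hg hg' => by
        show InR ι (cB (g * g')); rw [hcmul]; exact inR_mul ι h4 hg hg'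
      one_mem' := by show InR ι (cB 1); rw [hcone]; exact inR_one ι
      inv_mem' := fun {g} hg => by
        obtain ⟨N, hN, hMN⟩ := inR_inv ι h4 hg
        show InR ι (cB g⁻¹)
        have e : cB g⁻¹ * cB g = 1 := by rw [← hcmul, inv_mul_cancel, hcone]
        have : cB g⁻¹ = N := by rw [← mul_one (cB g⁻¹), ← hMN, ← mul_assoc, e, one_mul]
        rwa [this] }
  have hcinj : Function.Injective cB := fun g g' h => by
    have : B⁻¹ * g * B = B⁻¹ * g' * B := Units.ext h
    simpa using this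
  have hR4 : ∀ y ∈ R, y ^ 4 = 1 := fun y hy => hcinj (by
    rw [pow_succ', pow_succ', pow_succ', pow_one, hcmul, hcmul, hcmul, hcone]
    rw [← inR_four ι h4 hy, pow_succ', pow_succ', pow_succ', pow_one])
  have hRp : IsPGroup 2 R := fun y => ⟨2, Subtype.ext (by rw [Subgroup.coe_pow]; exact hR4 y y.2)⟩
  have hmonf : ∀ (p : Equiv.Perm (Fin 4)) k (u w : Fin 4 → F), C.form (mon ι p k *ᵥ u) (mon ι p k *ᵥ w) = C.form u w := by
    intro p k u w
    have hm : ∀ (x : Fin 4 → F) j, (mon ι p k *ᵥ x) (p j) = pw ι (k j) * x j := fun x j => by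
      simp only [Matrix.mulVec, dotProduct, mon, Matrix.of_apply]
      rw [Finset.sum_eq_single j (fun i _ hi => by rw [if_neg fun e => hi (p.injective e).symm, zero_mul]) (by simp),
        if_pos rfl]
    simp only [UCtx.form]
    rw [← Equiv.sum_comp p]
    refine Finset.sum_congr rfl fun j _ => ?_
    rw [hm, hm, map_mul, mul_mul_mul_comm, hnorm, one_mul]
  have hback : ∀ g : GL (Fin 4) F, (∀ u w, C.form (cB g *ᵥ u) (cB g *ᵥ w) = C.form u w) → g ∈ Cfsg.GU 4 F 3 := by
    intro g hg u w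
    show Cfsg.hermForm 4 F 3 ((g : Matrix (Fin 4) (Fin 4) F) *ᵥ u) ((g : Matrix (Fin 4) (Fin 4) F) *ᵥ w) = Cfsg.hermForm 4 F 3 u w
    rw [herm_form C, herm_form C]
    have e : ∀ x, (g : Matrix (Fin 4) (Fin 4) F) *ᵥ x =
        (B : Matrix (Fin 4) (Fin 4) F) *ᵥ (cB g *ᵥ (((B⁻¹ : GL (Fin 4) F) : Matrix (Fin 4) (Fin 4) F) *ᵥ x)) := fun x => by
      rw [mulVec_mulVec, mulVec_mulVec, ← Units.val_mul, ← Units.val_mul,
        show B * (B⁻¹ * g * B) * B⁻¹ = g by group]
    rw [e, e, hBf, hg, hBif]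
  have hRI : R ≤ Cfsg.GU 4 F 3 := fun g hg => hback g fun u w => by
    obtain ⟨c, a, b, h⟩ := hg
    rw [h, hmonf]
  have hcomm : ∀ M : Matrix (Fin 4) (Fin 4) F, (∀ s ∈ matrixSet R, M * s = s * M) →
      ∃ c : F, M = c • (1 : Matrix (Fin 4) (Fin 4) F) := by
    intro M hM
    set N := ((B⁻¹ : GL (Fin 4) F) : Matrix (Fin 4) (Fin 4) F) * M * (B : Matrix (Fin 4) (Fin 4) F) with hN
    have hgm : ∀ c b, N * mon ι (kp c) (kx 0 b) = mon ι (kp c) (kx 0 b) * N := by
      intro c b
      obtain ⟨N', -, hN'⟩ := inR_inv ι h4 (M := mon ι (kp c) (kx 0 b)) ⟨c, 0, b, rfl⟩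
      let y : GL (Fin 4) F := B * ⟨mon ι (kp c) (kx 0 b), N', hN', mul_eq_one_comm.1 hN'⟩ * B⁻¹
      have hy : cB y = mon ι (kp c) (kx 0 b) := by
        show ((B⁻¹ * (B * _ * B⁻¹) * B : GL (Fin 4) F) : Matrix (Fin 4) (Fin 4) F) = _
        simp [mul_assoc]
      have hyR : y ∈ R := by show InR ι (cB y); rw [hy]; exact ⟨c, 0, b, rfl⟩
      have h1 := hM _ ⟨y, hyR, rfl⟩
      rw [← hy, hN]
      show _ * ((B⁻¹ * y * B : GL (Fin 4) F) : Matrix (Fin 4) (Fin 4) F) =
        ((B⁻¹ * y * B : GL (Fin 4) F) : Matrix (Fin 4) (Fin 4) F) * _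
      have eB : ∀ X : Matrix (Fin 4) (Fin 4) F, (B : Matrix (Fin 4) (Fin 4) F) * (((B⁻¹ : GL (Fin 4) F) : Matrix (Fin 4) (Fin 4) F) * X) = X :=
        fun X => by rw [← mul_assoc, gl_mul_inv, one_mul]
      simp only [Units.val_mul, mul_assoc, eB]
      rw [← mul_assoc M, h1, mul_assoc]
    have hdiag : ∀ i j, i ≠ j → N i j = 0 := by
      intro i j hij
      obtain ⟨b, hb⟩ := kx_separates i j hij
      have h := congrFun (congrFun (hgm 0 b) i) j
      simp only [Matrix.mul_apply, mon, Matrix.of_apply, kp_zero, mul_ite, mul_zero, ite_mul, zero_mul,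
        Finset.sum_ite_eq, Finset.sum_ite_eq', Finset.mem_univ, if_true] at h
      by_contra hne
      have hp : pw ι (kx 0 b i) = pw ι (kx 0 b j) := mul_right_cancel₀ hne (by rw [← h]; ring)
      rcases kx_split 0 b i with ⟨h1, h1'⟩ | ⟨h1, h1'⟩ <;> rcases kx_split 0 b j with ⟨h2', h2''⟩ | ⟨h2', h2''⟩
      · exact hb (h1.trans h2'.symm)
      · rw [h1, h2', zero_add, pw_zero, hι2] at hp; exact hneg hp.symm
      · rw [h1, h2', zero_add, pw_zero, hι2] at hp; exact hneg hp
      · exact hb (h1.trans h2'.symm)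
    have hconst : ∀ i, N i i = N 0 0 := by
      intro i
      have h := congrFun (congrFun (hgm i 0) i) 0
      simp only [Matrix.mul_apply, mon, Matrix.of_apply, kp_start, mul_ite, mul_zero, ite_mul, zero_mul,
        Finset.sum_ite_eq, Finset.sum_ite_eq', Finset.mem_univ, if_true] at h
      rw [Finset.sum_eq_single (0 : Fin 4) (fun x _ hx => by rw [hdiag x 0 hx]; simp) (by simp), if_pos (kp_start i).symm] at h
      rw [show kx 0 0 0 = 0 from by decide +kernel, pw_zero, one_mul, mul_one] at h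
      exact h
    refine ⟨N 0 0, ?_⟩
    have hN1 : N = N 0 0 • (1 : Matrix (Fin 4) (Fin 4) F) := by
      ext i j
      by_cases hij : i = j
      · subst hij; simp [hconst i]
      · simp [hdiag i j hij, hij]
    calc M = (B : Matrix (Fin 4) (Fin 4) F) * N * ((B⁻¹ : GL (Fin 4) F) : Matrix (Fin 4) (Fin 4) F) := by
          rw [hN]; simp only [mul_assoc, gl_mul_inv, mul_one]; rw [← mul_assoc, gl_mul_inv, one_mul]
      _ = N 0 0 • 1 := by
          conv_lhs => rw [hN1]
          rw [mul_smul_comm, mul_one, smul_mul_assoc, gl_mul_inv]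
  -- the normaliser
  have hnorm_of : ∀ (g : GL (Fin 4) F), (∀ M, InR ι M → ∃ N, InR ι N ∧ cB g * M = N * cB g) →
      g ∈ subgroupNormalizer R := by
    intro g hg
    have hle : R.map (MulAut.conj g).toMonoidHom ≤ R := by
      rintro _ ⟨y, hy, rfl⟩
      obtain ⟨N, hN, he⟩ := hg _ hy
      show InR ι (cB (g * y * g⁻¹))
      have : cB (g * y * g⁻¹) = N := by
        rw [hcmul, hcmul, he, mul_assoc, ← hcmul, mul_inv_cancel, hcone, mul_one]
      rwa [this]
    rw [subgroupNormalizer, Subgroup.mem_normalizer_iff_map_conj_eq]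
    exact Subgroup.eq_of_le_of_card_ge hle
      (Nat.card_congr (R.equivMapOfInjective _ (MulAut.conj g).injective).toEquiv).le
  set L := subgroupNormalizer R ⊓ suGL 4 F 3 with hL
  have hHL : H ≤ L := by
    intro g hg
    have hgS : g ∈ suGL 4 F 3 := hH.1.le hg
    rw [hHD, Subgroup.mem_inf] at hg
    obtain ⟨p, hp⟩ := hg.1
    have hmap : ∀ i, ∃ a : F, (g : Matrix (Fin 4) (Fin 4) F) *ᵥ v i = a • v (p i) := fun i =>
      hline _ _ (hp i ▸ Submodule.mem_map_of_mem (hvD i))
    choose d hd using hmap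
    have hdk : ∀ i, ∃ k, d i = pw ι k := fun i => hroot _ (by
      have h1 := form_suGL C hgS (v i) (v i)
      rw [hd, C.form_smul_left, C.form_smul_right, hv1, hv1, mul_one] at h1
      exact h1)
    choose k hk using hdk
    have hgc : cB g = mon ι p k := by
      have hgV : (g : Matrix (Fin 4) (Fin 4) F) * V = V * mon ι p k := by
        ext r i
        rw [show ((g : Matrix (Fin 4) (Fin 4) F) * V) r i = ((g : Matrix (Fin 4) (Fin 4) F) *ᵥ v i) r from rfl, hd,
          Matrix.mul_apply, Finset.sum_eq_single (p i)]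
        · simp [hV, mon, hk i, mul_comm]
        · intro j _ hj; simp [mon, hj]
        · simp
      show ((B⁻¹ * g * B : GL (Fin 4) F) : Matrix (Fin 4) (Fin 4) F) = _
      rw [Units.val_mul, Units.val_mul, mul_assoc]
      show _ * ((g : Matrix (Fin 4) (Fin 4) F) * V) = _
      rw [hgV, ← mul_assoc]
      show ((B⁻¹ : GL (Fin 4) F) : Matrix (Fin 4) (Fin 4) F) * (B : Matrix (Fin 4) (Fin 4) F) * _ = _
      rw [gl_inv_mul, one_mul]
    have hsum : 2 * (k 0 + k 1 + k 2 + k 3) = 0 := by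
      have hdet : (cB g).det = 1 := by
        show (((B⁻¹ * g * B : GL (Fin 4) F)) : Matrix (Fin 4) (Fin 4) F).det = 1
        rw [← Matrix.GeneralLinearGroup.val_det_apply, map_mul, map_mul, map_inv, mul_right_comm, inv_mul_cancel,
          one_mul, show Matrix.GeneralLinearGroup.det g = 1 from hgS.2, Units.val_one]
      have hmon : mon ι p k = (Matrix.diagonal fun j => pw ι (k j)).submatrix p.symm id := by
        ext r j
        simp only [mon, Matrix.of_apply, Matrix.submatrix_apply, id, Matrix.diagonal_apply]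
        by_cases h : r = p j
        · subst h; simp
        · rw [if_neg h, if_neg fun e => h (by rw [← e, Equiv.apply_symm_apply])]
      rw [hgc, hmon, Matrix.det_permute, Matrix.det_diagonal, Fin.prod_univ_four] at hdet
      simp only [← pw_add ι h4] at hdet
      set S := k 0 + k 1 + k 2 + k 3 with hS
      have hsq : pw ι S * pw ι S = 1 := by
        rcases Int.units_eq_one_or (Equiv.Perm.sign p.symm) with h | h <;> rw [h] at hdet <;> push_cast at hdet
        · rw [one_mul] at hdet; rw [hdet, one_mul]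
        · have : pw ι S = -1 := by linear_combination -hdet
          rw [this]; ring
      rw [← pw_add ι h4, ← two_mul] at hsq
      have : ∀ S : ZMod 4, 2 * S = 0 ∨ 2 * S = 2 := by decide
      rcases this S with h | h
      · exact h
      · rw [h, hι2] at hsq; exact absurd hsq hneg
    refine ⟨hnorm_of g fun M hM => ?_, hgS⟩
    rw [hgc]
    exact mon_normalizes ι h4 p k hsum hM
  -- the Hadamard element
  obtain ⟨s, hs⟩ := C.exists_norm (c := (2 : F)⁻¹) (by rw [map_inv₀, map_ofNat])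
  have hs2 : 2 * (s * C.bar s) = 1 := by rw [hs, mul_inv_cancel₀ h2]
  set Hd : Matrix (Fin 4) (Fin 4) F := s • had.map (Int.cast : ℤ → F) with hHd
  have hHdet : Hd.det = 1 := by
    rw [hbar] at hs2
    rw [hHd, Matrix.det_smul, Fintype.card_fin]
    have : (had.map (Int.cast : ℤ → F)).det = -4 := by
      rw [show had.map (Int.cast : ℤ → F) = (Int.castRingHom F).mapMatrix had from rfl, ← RingHom.map_det,
        show had.det = -4 by decide +kernel]
      simp
    rw [this]
    linear_combination (-2 : F) * hs2 - h3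
  have hHf : ∀ u w : Fin 4 → F, C.form (Hd *ᵥ u) (Hd *ᵥ w) = C.form u w := by
    intro u w
    simp [hHd, UCtx.form, Matrix.mulVec, dotProduct, Fin.sum_univ_four, had]
    linear_combination (u 0 * C.bar (w 0) + u 1 * C.bar (w 1) + u 2 * C.bar (w 2) + u 3 * C.bar (w 3)) * hs2
  let h0 : GL (Fin 4) F := Matrix.GeneralLinearGroup.mk'' Hd (by rw [hHdet]; exact isUnit_one)
  set h : GL (Fin 4) F := B * h0 * B⁻¹ with hh
  have hch : cB h = Hd := by
    show ((B⁻¹ * (B * h0 * B⁻¹) * B : GL (Fin 4) F) : Matrix (Fin 4) (Fin 4) F) = Hd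
    rw [show B⁻¹ * (B * h0 * B⁻¹) * B = h0 by group]
    rfl
  have hhS : h ∈ suGL 4 F 3 := by
    refine Subgroup.mem_inf.2 ⟨hback h (by rw [hch]; exact hHf), ?_⟩
    show Matrix.GeneralLinearGroup.det h = 1
    rw [hh, map_mul, map_mul, map_inv, mul_right_comm, mul_inv_cancel, one_mul]
    exact Units.ext hHdet
  have hhL : h ∈ L := by
    refine ⟨hnorm_of h fun M hM => ?_, hhS⟩
    obtain ⟨c, a, b, rfl⟩ := hM
    obtain ⟨c', b', he⟩ := had_normalizes c b
    rcases he with he | he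
    · refine ⟨mon ι (kp c') (kx a b'), ⟨c', a, b', rfl⟩, ?_⟩
      rw [hch, hHd, mon_eq_wint ι h4 hι2, mon_eq_wint ι h4 hι2, smul_mul_smul_comm, smul_mul_smul_comm, mul_comm s]
      congr 1
      have := congrArg (Int.castRingHom F).mapMatrix he
      simp only [map_mul, map_neg] at this
      exact this
    · obtain ⟨a', ha'⟩ := kx_shift a b'
      refine ⟨mon ι (kp c') (kx a' b'), ⟨c', a', b', rfl⟩, ?_⟩
      have hm : mon ι (kp c') (kx a' b') = -mon ι (kp c') (kx a b') := by
        ext r j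
        simp only [mon, Matrix.of_apply, Matrix.neg_apply]
        split_ifs
        · rw [← ha', pw_add ι h4, hι2, mul_neg, mul_one]
        · rw [neg_zero]
      rw [hch, hHd, hm, mon_eq_wint ι h4 hι2, mon_eq_wint ι h4 hι2, neg_mul, smul_mul_smul_comm,
        smul_mul_smul_comm, mul_comm s, ← smul_neg]
      congr 1
      have := congrArg (Int.castRingHom F).mapMatrix he
      simp only [map_mul, map_neg] at this
      exact this
  have hhH : h ∉ H := by
    intro hc
    rw [hHD, Subgroup.mem_inf] at hc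
    obtain ⟨p, hp⟩ := hc.1
    obtain ⟨a, ha⟩ := hline (p 0) ((h : Matrix (Fin 4) (Fin 4) F) *ᵥ v 0) (hp 0 ▸ Submodule.mem_map_of_mem (hvD 0))
    have e : (h : Matrix (Fin 4) (Fin 4) F) *ᵥ v 0 = s • v 0 + s • v 1 := by
      have e0 : v 0 = V *ᵥ Pi.single 0 1 := by ext r; simp [hV]
      rw [hh, Units.val_mul, Units.val_mul]
      conv_lhs => rw [e0]
      show ((B : Matrix (Fin 4) (Fin 4) F) * Hd * ((B⁻¹ : GL (Fin 4) F) : Matrix (Fin 4) (Fin 4) F)) *ᵥ ((B : Matrix (Fin 4) (Fin 4) F) *ᵥ Pi.single 0 1) = _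
      rw [mulVec_mulVec, mul_assoc, gl_inv_mul, mul_one, ← mulVec_mulVec]
      show V *ᵥ _ = _
      rw [hVu]
      simp [hHd, had, Fin.sum_univ_four]
    rw [ha] at e
    have f0 := congrArg (fun x => C.form x (v 0)) e
    have f1 := congrArg (fun x => C.form x (v 1)) e
    simp only [C.form_add_left, C.form_smul_left, horth] at f0 f1
    have hs0 : s ≠ 0 := fun h => by rw [h, zero_mul, mul_zero] at hs2; exact zero_ne_one hs2
    rcases eq_or_ne (p 0) 0 with hp0 | hp0
    · rw [hp0] at f1; simp at f1; exact hs0 f1.symm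
    · simp [hp0] at f0; exact hs0 f0.symm
  rcases hH.2 L hHL inf_le_right with h1 | h1
  · exact hhH (h1 ▸ hhL)
  · exact su4_not_le_normalizer C h2 hRp hR4 hRI hcomm (by rw [← h1]; exact inf_le_left)

end CfsgLib.Perm.Asch.U4
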