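import Cfsg.Agent.Lib.Perm.Asch.Forms.U4Normalizer

/-!
# A symplectic type group of order `64` normalised by monomial matrices with fourth roots of unity
-/

set_option autoImplicit false
set_option linter.all false

namespace CfsgLib.Perm.Asch.U4

open scoped Classical Matrix
open Matrix

/-- the regular four-group -/
def kp : Fin 4 → Equiv.Perm (Fin 4) :=
  ![1, Equiv.swap 0 1 * Equiv.swap 2 3, Equiv.swap 0 2 * Equiv.swap 1 3, Equiv.swap 0 3 * Equiv.swap 1 2]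

/-- exponents of a scalar times a character -/
def kx (a : ZMod 4) (b : Fin 4) : Fin 4 → ZMod 4 := fun j => a + 2 * (![![0, 0, 0, 0], ![0, 1, 0, 1], ![0, 0, 1, 1], ![0, 1, 1, 0]] b j)

theorem kp_mul : ∀ c c', ∃ c'', kp c * kp c' = kp c'' := by decide +kernel

theorem kp_conj : ∀ (p : Equiv.Perm (Fin 4)) c, ∃ c', p * kp c * p⁻¹ = kp c' := by decide +kernel

theorem kx_add : ∀ a b a' b' c, ∃ a'' b'', ∀ j, kx a b (kp c j) + kx a' b' j = kx a'' b'' j := by decide +kernel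

theorem kx_perm : ∀ (p : Equiv.Perm (Fin 4)) a b, ∃ a' b', ∀ j, kx a b j = kx a' b' (p j) := by decide +kernel

theorem kx_coboundary : ∀ k₀ k₁ k₂ k₃ : ZMod 4, 2 * (k₀ + k₁ + k₂ + k₃) = 0 →
    ∀ c, ∃ a b, ∀ j, ![k₀, k₁, k₂, k₃] (kp c j) - ![k₀, k₁, k₂, k₃] j = kx a b j := by decide +kernel

theorem kx_inv : ∀ a b c, ∃ a' b', (kp c * kp c = 1) ∧ ∀ j, kx a b (kp c j) + kx a' b' j = 0 := by decide +kernel

theorem kx_four : ∀ a b c j, kx a b (kp c (kp c (kp c j))) + (kx a b (kp c (kp c j)) + (kx a b (kp c j) + kx a b j)) = 0 := by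
  decide +kernel

theorem kp_zero : ∀ j, kp 0 j = j := by decide +kernel

theorem kp_four : ∀ c j, kp c (kp c (kp c (kp c j))) = j := by decide +kernel

variable {F : Type*} [Field F] (ι : F) (h4 : ι ^ 4 = 1)

/-- powers of a fourth root of unity -/
def pw (k : ZMod 4) : F := ι ^ k.val

include h4 in
theorem pw_add (a b : ZMod 4) : pw ι (a + b) = pw ι a * pw ι b := by
  rw [pw, pw, pw, ← pow_add, ZMod.val_add, ← pow_eq_pow_mod _ h4]

theorem pw_zero : pw ι 0 = 1 := by simp [pw]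

/-- monomial matrices -/
def mon (p : Equiv.Perm (Fin 4)) (k : Fin 4 → ZMod 4) : Matrix (Fin 4) (Fin 4) F :=
  Matrix.of fun r j => if r = p j then pw ι (k j) else 0

include h4 in
theorem mon_mul (p p' : Equiv.Perm (Fin 4)) (k k' : Fin 4 → ZMod 4) :
    mon ι p k * mon ι p' k' = mon ι (p * p') (fun j => k (p' j) + k' j) := by
  ext r j
  simp only [mon, Matrix.mul_apply, Matrix.of_apply]
  rw [Finset.sum_eq_single (p' j) (fun x _ hx => by rw [if_neg hx, mul_zero]) (by simp), if_pos rfl,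
    Equiv.Perm.mul_apply, pw_add ι h4]
  split_ifs <;> simp

theorem mon_one : mon ι 1 (fun _ => 0) = 1 := by
  ext r j
  simp [mon, pw_zero, Matrix.one_apply]

theorem mon_zero_eq {p : Equiv.Perm (Fin 4)} {k : Fin 4 → ZMod 4} (hp : ∀ j, p j = j) (hk : ∀ j, k j = 0) :
    mon ι p k = 1 := by
  rw [show p = 1 from Equiv.ext hp, show k = fun _ => 0 from funext hk, mon_one]

/-- membership in the group -/
def InR (M : Matrix (Fin 4) (Fin 4) F) : Prop := ∃ c a b, M = mon ι (kp c) (kx a b)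

include h4 in
theorem inR_mul {M N : Matrix (Fin 4) (Fin 4) F} (hM : InR ι M) (hN : InR ι N) : InR ι (M * N) := by
  obtain ⟨c, a, b, rfl⟩ := hM
  obtain ⟨c', a', b', rfl⟩ := hN
  obtain ⟨c'', hc⟩ := kp_mul c c'
  obtain ⟨a'', b'', hab⟩ := kx_add a b a' b' c'
  exact ⟨c'', a'', b'', by rw [mon_mul ι h4, hc, funext hab]⟩

theorem inR_one : InR ι 1 := by
  refine ⟨0, 0, 0, (mon_zero_eq ι ?_ ?_).symm⟩
  · decide +kernel
  · decide +kernel

include h4 in
theorem inR_inv {M : Matrix (Fin 4) (Fin 4) F} (hM : InR ι M) : ∃ N, InR ι N ∧ M * N = 1 := by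
  obtain ⟨c, a, b, rfl⟩ := hM
  obtain ⟨a', b', hc, hab⟩ := kx_inv a b c
  refine ⟨_, ⟨c, a', b', rfl⟩, ?_⟩
  rw [mon_mul ι h4, hc, funext hab, mon_one]

include h4 in
theorem inR_four {M : Matrix (Fin 4) (Fin 4) F} (hM : InR ι M) : M ^ 4 = 1 := by
  obtain ⟨c, a, b, rfl⟩ := hM
  rw [pow_succ', pow_succ', pow_succ', pow_one, mon_mul ι h4, mon_mul ι h4, mon_mul ι h4]
  exact mon_zero_eq ι (fun j => kp_four c j) (fun j => kx_four a b c j)

include h4 in
/-- monomial matrices normalise the group -/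
theorem mon_normalizes (p : Equiv.Perm (Fin 4)) (k : Fin 4 → ZMod 4) (hk : 2 * (k 0 + k 1 + k 2 + k 3) = 0)
    {M : Matrix (Fin 4) (Fin 4) F} (hM : InR ι M) : ∃ N, InR ι N ∧ mon ι p k * M = N * mon ι p k := by
  obtain ⟨c, a, b, rfl⟩ := hM
  obtain ⟨c', hc⟩ := kp_conj p c
  obtain ⟨a₁, b₁, h1⟩ := kx_coboundary _ _ _ _ hk c
  obtain ⟨a₂, b₂, h2⟩ := kx_add a₁ b₁ a b 0
  obtain ⟨a₃, b₃, h3⟩ := kx_perm p a₂ b₂
  refine ⟨_, ⟨c', a₃, b₃, rfl⟩, ?_⟩
  have hkk : ![k 0, k 1, k 2, k 3] = k := by ext j; fin_cases j <;> rfl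
  rw [mon_mul ι h4, mon_mul ι h4, ← hc, show p * kp c * p⁻¹ * p = p * kp c by group]
  congr 1
  funext j
  have e1 := h1 j
  rw [hkk] at e1
  have e2 := h2 j
  rw [kp_zero] at e2
  rw [← h3 j, ← e2, ← e1]
  ring

end CfsgLib.Perm.Asch.U4
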