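import Cfsg.Agent.Lib.Perm.Asch.Forms.USub
import Cfsg.Agent.Lib.Perm.Asch.Forms.SymType

/-!
# Symplectic type groups in the unitary groups
-/

set_option autoImplicit false
set_option linter.all false

namespace CfsgLib.Perm.Asch

open scoped Classical Matrix
open Matrix Cfsg.Geo

variable {F : Type*} [Field F] [Fintype F] {n q : ℕ} {σ : F →+* F}

theorem card_scalarPart (hu : UConj σ q) (E : ℕ) : Nat.card (scalarPart σ E) = Nat.gcd (q + 1) E := by
  have hU : ∀ c : Fˣ, c ∈ unitCircle σ ↔ c ^ (q + 1) = 1 := by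
    intro c
    show (c : F) * σ c = 1 ↔ _
    rw [hu.eq, ← Units.val_pow_eq_pow_val, ← Units.val_mul, ← pow_succ', Units.val_eq_one]
  have heq : scalarPart σ E = (powMonoidHom (Nat.gcd (q + 1) E) : Fˣ →* Fˣ).ker := by
    ext c
    rw [mem_scalarPart, MonoidHom.mem_ker, powMonoidHom_apply]
    show (c ∈ unitCircle σ ∧ c ^ E = 1) ↔ _
    rw [hU, pow_gcd_eq_one]
  rw [heq, IsCyclic.card_powMonoidHom_ker, Nat.card_eq_fintype_card, Fintype.card_units, hu.card]
  refine Nat.gcd_eq_right ((Nat.gcd_dvd_left _ _).trans ⟨q - 1, ?_⟩)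
  rw [← Nat.sq_sub_sq, one_pow]

theorem card_unitCircle (hu : UConj σ q) : Nat.card (unitCircle σ) = q + 1 := by
  have h : scalarPart σ (q + 1) = unitCircle σ := by
    refine inf_eq_left.2 fun c hc => ?_
    rw [MonoidHom.mem_ker, powMonoidHom_apply]
    refine Units.ext ?_
    rw [Units.val_pow_eq_pow_val, pow_succ', ← hu.eq, Units.val_one]
    exact hc
  rw [← h, card_scalarPart hu, Nat.gcd_self]

/-- a group of symplectic type gives class six or a subfield class -/
theorem u_of_sympData (hu : UConj σ q) (hn : 2 ≤ n) {H : Subgroup (GL (Fin n) F)} {r : ℕ}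
    {R : Subgroup (GL (Fin n) F)} (hR : SympData σ (1 : Matrix (Fin n) (Fin n) F) H r R) : UClass n F q H := by
  haveI : Nonempty (Fin n) := ⟨⟨0, by omega⟩⟩
  obtain ⟨p, e, hp, hcp, hqe, he, hcard⟩ := hu.exists_prime_pow
  haveI := hcp
  haveI : Fact p.Prime := ⟨hp⟩
  have hr := hR.symp.1
  have hrp : r ≠ p := fun h => hR.r_ne (h.symm ▸ hcp)
  have hrq : r ∣ q + 1 := card_unitCircle hu ▸ hR.r_dvd
  have hrF : (r : F) ≠ 0 := fun h => hrp
    ((Nat.prime_dvd_prime_iff_eq hp hr).1 ((CharP.cast_eq_zero_iff F p r).1 h)).symm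
  have hRI : R ≤ Cfsg.GU n F q := hu.GU_eq (n := n) ▸ hR.le_iso
  obtain ⟨k, hk, hcardR⟩ := hR.card
  rw [Fintype.card_fin] at hk
  set E := r * Nat.gcd 2 r with hE
  set z := Nat.card (scalarPart σ E) with hz
  have hzval : z = Nat.gcd (q + 1) E := card_scalarPart hu E
  have hcenter : Subgroup.center R = (scalars (Fin n) F).subgroupOf R := by
    ext x
    rw [Subgroup.mem_center_iff, Subgroup.mem_subgroupOf]
    exact ⟨fun h => hR.absIrr.mem_scalars_of_commute fun y hy => congrArg Subtype.val (h ⟨y, hy⟩).symm,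
      fun h y => Subtype.ext (scalar_central h _).symm⟩
  have hbil : (r = 2 ∧ z = 2) ∨ z = E := by
    obtain ⟨hcases, -⟩ := rE_cases hr
    rcases hcases with ⟨-, h⟩ | ⟨h2, h⟩
    · right
      rw [hzval, hE, h]
      exact Nat.gcd_eq_right hrq
    · rw [hzval, hE, h]
      subst h2
      have h4 : Nat.gcd (q + 1) 4 ∣ 2 ^ 2 := Nat.gcd_dvd_right _ _
      obtain ⟨i, hi, hie⟩ := (Nat.dvd_prime_pow Nat.prime_two).1 h4
      have h2' : 2 ∣ Nat.gcd (q + 1) 4 := Nat.dvd_gcd hrq (by norm_num)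
      rw [hie] at h2' ⊢
      rcases (show i = 0 ∨ i = 1 ∨ i = 2 by omega) with rfl | rfl | rfl
      · norm_num at h2'
      · exact Or.inl ⟨rfl, rfl⟩
      · exact Or.inr rfl
  rcases hbil with ⟨rfl, hz2⟩ | hzE
  · -- an invariant bilinear form
    obtain ⟨τ, hτ, hτσ⟩ := hu.exists_ringAut
    have hU : ∀ c : Fˣ, sch (Fin n) F c ∈ R → (RingHom.id F) c * (c : F) = 1 := by
      intro c hc
      have h1 := ((hR.scalar_iff c).1 hc)
      have hneg : (-1 : Fˣ) ∈ scalarPart σ E := by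
        rw [mem_scalarPart]
        exact ⟨by simp, Even.neg_one_pow ⟨2, rfl⟩⟩
      have htwo : (2 : F) ≠ 0 := by exact_mod_cast hrF
      have hne : (⟨1, one_mem _⟩ : scalarPart σ E) ≠ ⟨-1, hneg⟩ := fun h => by
        have := congrArg Units.val (congrArg Subtype.val h)
        rw [Units.val_one, Units.val_neg, Units.val_one] at this
        exact htwo (by linear_combination this)
      obtain ⟨a, b, hab, huniv⟩ := Nat.card_eq_two_iff.1 (hz ▸ hz2)
      have hmem : ∀ x : scalarPart σ E, x = a ∨ x = b := fun x => by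
        have : x ∈ ({a, b} : Set (scalarPart σ E)) := huniv ▸ Set.mem_univ x
        simpa using this
      have : (⟨c, h1⟩ : scalarPart σ E) = ⟨1, one_mem _⟩ ∨ (⟨c, h1⟩ : scalarPart σ E) = ⟨-1, hneg⟩ := by
        rcases hmem ⟨c, h1⟩ with h | h <;> rcases hmem ⟨1, one_mem _⟩ with h' | h' <;>
          rcases hmem ⟨-1, hneg⟩ with h'' | h'' <;>
          first
            | exact Or.inl (h.trans h'.symm)
            | exact Or.inr (h.trans h''.symm)
            | exact absurd (h'.trans h''.symm) hne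
      rcases this with h | h <;> rw [Subtype.mk.injEq] at h <;> subst h <;> simp
    obtain ⟨G', hG', hG'0⟩ := exists_invForm_of_indep hR.indep (by
        rw [← hcenter, hR.card_center, ← hz, hz2]
        exact_mod_cast hrF) (RingHom.id F) hU
    obtain ⟨F₀, hne, hreal⟩ := realisable_of_twisted_form (hu.refl_one) hR.absIrr hR.le_iso hG'
      (hG'.det_ne_zero hR.absIrr.irred hG'0) τ (fun x => hτσ x) (fun h => by
        obtain ⟨x, hx⟩ := hu.exists_ne
        exact hx (by rw [← hτσ, h]; rfl))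
    exact UClass.of_realisable hu hn hR.norm hR.absIrr hRI hne hreal
  have hEpos : 0 < E := Nat.mul_pos hr.pos (Nat.gcd_pos_of_pos_left _ two_pos)
  have hEF : (E : F) ≠ 0 := by
    rw [hE]
    push_cast
    refine mul_ne_zero hrF ?_
    obtain ⟨hcases, -⟩ := rE_cases hr
    rcases hcases with ⟨hro, -⟩ | ⟨h2, -⟩
    · rw [(Nat.coprime_two_left.2 hro).gcd_eq_one]; simp
    · subst h2; exact hrF
  by_cases hd : ∃ d, 0 < d ∧ d < 2 * e ∧ z ∣ p ^ d - 1
  · obtain ⟨d, hd0, hde, hzd⟩ := hd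
    obtain ⟨g, hg⟩ := IsCyclic.exists_generator (α := Fˣ)
    have hg' : orderOf g = p ^ (2 * e) - 1 := by
      rw [orderOf_eq_card_of_forall_mem_zpowers hg, Nat.card_eq_fintype_card, Fintype.card_units, hcard]
    have hzdvd : z ∣ p ^ (2 * e) - 1 := by
      rw [hzval, ← hcard, hu.card]
      refine (Nat.gcd_dvd_left _ _).trans ⟨q - 1, ?_⟩
      rw [← Nat.sq_sub_sq, one_pow]
    obtain ⟨m, hm⟩ := hzdvd
    have hpos : p ^ (2 * e) - 1 ≠ 0 := by
      have := Nat.one_lt_pow (by omega : 2 * e ≠ 0) hp.one_lt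
      omega
    have hω : IsPrimitiveRoot (((g ^ m : Fˣ) : F)) E := by
      rw [IsPrimitiveRoot.coe_units_iff, ← hzE]
      refine (IsPrimitiveRoot.orderOf g).pow ?_ ?_
      · rw [hg']; omega
      · rw [hg', hm, mul_comm]
    let F₀ : Subfield F := RingHom.eqLocusField (iterateFrobenius F p d) (RingHom.id F)
    have hF₀ : F₀ ≠ ⊤ := by
      intro htop
      have := Nat.le_of_dvd hd0 ((pow_fix_iff_field hcard d).1 fun c => by
        have : c ∈ F₀ := htop ▸ Subfield.mem_top c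
        simpa [F₀, RingHom.eqLocusField, iterateFrobenius_def] using this)
      omega
    have hωF : ((g ^ m : Fˣ) : F) ∈ F₀ := by
      show iterateFrobenius F p d _ = _
      rw [iterateFrobenius_def, RingHom.id_apply]
      obtain ⟨j, hj⟩ := hzd
      have h1 : ((g ^ m : Fˣ) : F) ^ (p ^ d - 1) = 1 := by
        rw [hj, pow_mul, hzE, hω.pow_eq_one, one_pow]
      have : 1 ≤ p ^ d := Nat.one_le_pow _ _ hp.pos
      conv_lhs => rw [show p ^ d = (p ^ d - 1) + 1 by omega, pow_succ, h1, one_mul]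
    exact UClass.of_realisable hu hn hR.norm hR.absIrr hRI hF₀
      (realisable_monomial hR.absIrr hR.comm hEpos hR.pow_eq hω hEF F₀ hωF)
  push Not at hd
  have hzcenter : Nat.card (Subgroup.center R) = z := hR.card_center
  have hk1 : 1 ≤ k := by
    rcases Nat.eq_zero_or_pos k with h | h
    · rw [h, pow_zero] at hk; omega
    · exact h
  refine .sym (R := R) (p := p) (e := 2 * e) (k := k) hR.symp hR.absIrr (fun g hg => ?_) hrp ?_ hRI hk ?_
    (fun g hg x => ?_)
  · refine ⟨1, fun v w => ?_⟩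
    rw [Units.val_one, one_mul, hu.hermForm_eq]
    exact mem_iso_iff.1 (hR.le_iso hg) v w
  · refine ⟨hp, hcp, hcard, ?_, fun d hd0 hde => by rw [hzcenter]; exact hd d hd0 hde⟩
    rw [hzcenter, hzval, ← hcard, hu.card]
    refine (Nat.gcd_dvd_left _ _).trans ⟨q - 1, ?_⟩
    rw [← Nat.sq_sub_sq, one_pow]
  · obtain ⟨hcases, -⟩ := rE_cases hr
    rw [hzcenter]
    rcases hcases with ⟨hro, h⟩ | ⟨h2, h⟩
    · refine Or.inl ⟨hro, by rw [hzE, hE, h], hk1, ?_⟩
      rw [hcardR, hzE, hE, h, ← pow_succ, add_comm]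
    · subst h2
      have hz4 : z = 4 := by rw [hzE, hE, h]
      have he1 : e = 1 := by
        by_contra hne
        refine hd 2 two_pos (by omega) ?_
        rw [hz4]
        have hodd : Odd p := hp.odd_of_ne_two (fun h => hrp h.symm)
        obtain ⟨j, rfl⟩ := hodd
        refine ⟨j * j + j, ?_⟩
        rw [show (2 * j + 1) ^ 2 = 4 * (j * j + j) + 1 by ring, Nat.add_sub_cancel]
      refine Or.inr ⟨rfl, by omega, hz4, ?_⟩
      rw [hcardR, hz4]
      ring
  · refine ⟨fun hx => hR.norm g hg x hx, fun hx => ?_⟩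
    have := hR.norm g⁻¹ (H.inv_mem hg) _ hx
    simpa [mul_assoc] using this

/-- the symplectic type case -/
theorem u_of_symType (hu : UConj σ q) (hn : 2 ≤ n) {H M : Subgroup (GL (Fin n) F)} (hI : H ≤ Cfsg.GU n F q)
    (hMH : M ≤ H) (hM : NormG H M) (hMs : ¬ M ≤ scalars (Fin n) F)
    (hmin : ∀ N ≤ M, NormG H N → ¬ N ≤ scalars (Fin n) F → N = M)
    (hcom : ∀ a ∈ M, ∀ b ∈ M, a * b * a⁻¹ * b⁻¹ ∈ scalars (Fin n) F)
    (habs : ∀ N ≤ Cfsg.GU n F q, NormG H N → ¬ N ≤ scalars (Fin n) F → AbsIrr N) : UClass n F q H := by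
  haveI : Nonempty (Fin n) := ⟨⟨0, by omega⟩⟩
  obtain ⟨r, R, hR⟩ := exists_sympData (hu.refl_one) (hu.GU_eq (n := n) ▸ hMH.trans hI) hM hMs hmin hcom
    (fun N hNI hN hNs => habs N (hu.GU_eq (n := n) ▸ hNI) hN hNs)
  exact u_of_sympData hu hn hR

end CfsgLib.Perm.Asch
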