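import Cfsg.Agent.Lib.Perm.Asch.Forms.UHex
import Cfsg.Agent.Lib.Perm.Asch.Forms.USym
import Cfsg.Agent.Lib.Perm.Asch.Forms.Power
import Cfsg.Agent.Lib.Perm.Asch.Forms.SpQuat

/-!
# Tensor powers in the unitary groups
-/

set_option autoImplicit false
set_option linter.all false

namespace CfsgLib.Perm.Asch

open scoped Classical Matrix
open Matrix Cfsg.Geo

variable {F : Type*} [Field F] [Fintype F] {σ : F →+* F} {q : ℕ}

theorem similitude_multiplier (hu : UConj σ q) {κ : Type} [Fintype κ] [DecidableEq κ] [Nonempty κ] {a : GL κ F} {d : F}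
    (ha : (a : Matrix κ κ F)ᵀ * (1 : Matrix κ κ F) * (a : Matrix κ κ F).map σ = d • (1 : Matrix κ κ F)) : σ d = d := by
  have h := congrArg (fun X : Matrix κ κ F => Xᵀ.map σ) ha
  simp only [mul_one, Matrix.transpose_mul, Matrix.transpose_transpose, Matrix.map_mul, Matrix.transpose_map,
    Matrix.transpose_smul, Matrix.transpose_one, hu.refl_one.map_map, hu.refl_one.map_smul',
    Matrix.map_one σ σ.map_zero σ.map_one] at h
  rw [mul_one] at ha
  rw [ha] at h
  simpa using (congrFun (congrFun h (Classical.arbitrary κ)) (Classical.arbitrary κ)).symm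

theorem mem_subfieldSubgroup_of {ι : Type} [Fintype ι] [DecidableEq ι] [Nonempty ι] {F₁ : Subfield F} {P g : GL ι F}
    {s : F} (hs : s ≠ 0) (h : ∀ i j, s⁻¹ * cj P⁻¹ (g : Matrix ι ι F) i j ∈ F₁) : g ∈ subfieldSubgroup F₁ P := by
  let L₁ : Matrix ι ι F₁ := Matrix.of fun i j => ⟨_, h i j⟩
  have hLmap : L₁.map F₁.subtype = s⁻¹ • cj P⁻¹ (g : Matrix ι ι F) := rfl
  have hL : IsUnit L₁ := by
    rw [Matrix.isUnit_iff_isUnit_det]
    refine Ne.isUnit fun h0 => ?_
    have h1 : (s⁻¹ • cj P⁻¹ (g : Matrix ι ι F)).det = 0 := by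
      rw [← hLmap, ← RingHom.mapMatrix_apply, ← RingHom.map_det, h0, map_zero]
    rw [Matrix.det_smul, cj_coe] at h1
    rcases mul_eq_zero.1 h1 with h2 | h2
    · exact pow_ne_zero _ (inv_ne_zero hs) h2
    · exact ((Matrix.isUnit_iff_isUnit_det _).1 (Units.isUnit _)).ne_zero h2
  obtain ⟨U, hU⟩ := hL
  refine Subgroup.mem_map.2 ⟨Matrix.GeneralLinearGroup.map (F₁.subtype : F₁ →+* F) U * sch ι F (Units.mk0 s hs),
    Subgroup.mul_mem _ (Subgroup.mem_sup_left ⟨U, rfl⟩) (Subgroup.mem_sup_right (sch_mem _)), ?_⟩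
  apply Units.ext
  show ((P * _ * P⁻¹ : GL ι F) : Matrix ι ι F) = g
  have hval : ((Matrix.GeneralLinearGroup.map (F₁.subtype : F₁ →+* F) U : GL ι F) : Matrix ι ι F) =
      s⁻¹ • cj P⁻¹ (g : Matrix ι ι F) := by
    rw [← hLmap, ← hU]; rfl
  rw [← cj_coe, Units.val_mul, hval, sch_coe, smul_mul_assoc, mul_smul_comm, mul_one, Units.val_mk0, smul_smul,
    inv_mul_cancel₀ hs, one_smul, cj_cj_inv]

variable {n : ℕ} {H : Subgroup (GL (Fin n) F)}

/-- similitudes of the unitary plane are rational up to scalars -/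
theorem gu2_rational (hu : UConj σ q) :
    ∃ (B : GL (Fin 2) F) (z : F), z ≠ 0 ∧ σ z = -z ∧
      (B : Matrix (Fin 2) (Fin 2) F)ᵀ * (1 : Matrix (Fin 2) (Fin 2) F) * (B : Matrix (Fin 2) (Fin 2) F).map σ =
        z • J2 F ∧
      ∀ (a : GL (Fin 2) F) (d : F), d ≠ 0 →
        (a : Matrix (Fin 2) (Fin 2) F)ᵀ * (1 : Matrix (Fin 2) (Fin 2) F) * (a : Matrix (Fin 2) (Fin 2) F).map σ =
          d • (1 : Matrix (Fin 2) (Fin 2) F) →
        ∃ s : F, s ≠ 0 ∧ ∀ i j, σ (s⁻¹ * cj B⁻¹ (a : Matrix (Fin 2) (Fin 2) F) i j) =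
          s⁻¹ * cj B⁻¹ (a : Matrix (Fin 2) (Fin 2) F) i j := by
  obtain ⟨y, hy⟩ := hu.exists_ne
  set z := y - σ y
  have hz0 : z ≠ 0 := sub_ne_zero.2 (Ne.symm hy)
  have hzσ : σ z = -z := by simp [z, map_sub, hu.inv]
  have hJt : (J2 F)ᵀ = -(J2 F) := by ext a b; fin_cases a <;> fin_cases b <;> simp [J2]
  have hJσ : (J2 F).map σ = J2 F := by ext a b; fin_cases a <;> fin_cases b <;> simp [J2]
  have hJd : (z • J2 F).det ≠ 0 := by
    rw [Matrix.det_smul, Matrix.det_fin_two]
    simp [J2, hz0]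
  obtain ⟨A, hA⟩ := hu.exists_congr_one hJd (by
    rw [Matrix.transpose_smul, hJt, show (z • -(J2 F)).map σ = σ z • -((J2 F).map σ) by ext a b; simp, hzσ, hJσ,
      neg_smul, smul_neg, neg_neg])
  set Ai := ((A⁻¹ : GL (Fin 2) F) : Matrix (Fin 2) (Fin 2) F) with hAi
  have e1 : Aiᵀ * (A : Matrix (Fin 2) (Fin 2) F)ᵀ = 1 := by
    rw [← Matrix.transpose_mul, hAi, gl_mul_inv, Matrix.transpose_one]
  have e2 : (A : Matrix (Fin 2) (Fin 2) F).map σ * Ai.map σ = 1 := by
    rw [← Matrix.map_mul, hAi, gl_mul_inv, Matrix.map_one σ σ.map_zero σ.map_one]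
  have hB : Aiᵀ * (1 : Matrix (Fin 2) (Fin 2) F) * Ai.map σ = z • J2 F := by
    rw [← hA]
    calc Aiᵀ * ((A : Matrix (Fin 2) (Fin 2) F)ᵀ * (z • J2 F) * (A : Matrix (Fin 2) (Fin 2) F).map σ) * Ai.map σ
        = (Aiᵀ * (A : Matrix (Fin 2) (Fin 2) F)ᵀ) * (z • J2 F) * ((A : Matrix (Fin 2) (Fin 2) F).map σ * Ai.map σ) := by
          simp only [mul_assoc]
      _ = _ := by rw [e1, e2, one_mul, mul_one]
  refine ⟨A⁻¹, z, hz0, hzσ, hB, fun a d hd ha => ?_⟩
  set X := cj (A⁻¹)⁻¹ (a : Matrix (Fin 2) (Fin 2) F) with hX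
  have hX' : X = (A : Matrix (Fin 2) (Fin 2) F) * (a : Matrix (Fin 2) (Fin 2) F) * Ai := by
    rw [hX, inv_inv, cj, hAi]
  have e1' : (A : Matrix (Fin 2) (Fin 2) F)ᵀ * Aiᵀ = 1 := by
    rw [← Matrix.transpose_mul, hAi, gl_inv_mul, Matrix.transpose_one]
  have h1 : Xᵀ * J2 F * X.map σ = d • J2 F := by
    refine smul_right_injective _ hz0 ?_
    show z • _ = z • _
    rw [← smul_mul_assoc, ← mul_smul_comm, smul_comm, ← hB, hX', Matrix.transpose_mul, Matrix.transpose_mul,
      Matrix.map_mul, Matrix.map_mul]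
    have hM : (A : Matrix (Fin 2) (Fin 2) F)ᵀ * (Aiᵀ * (1 : Matrix (Fin 2) (Fin 2) F) * Ai.map σ) *
        (A : Matrix (Fin 2) (Fin 2) F).map σ = 1 := by
      rw [mul_one, ← mul_assoc, e1', one_mul, ← Matrix.map_mul, hAi, gl_inv_mul, Matrix.map_one σ σ.map_zero σ.map_one]
    calc _ = Aiᵀ * ((a : Matrix (Fin 2) (Fin 2) F)ᵀ * ((A : Matrix (Fin 2) (Fin 2) F)ᵀ *
          (Aiᵀ * (1 : Matrix (Fin 2) (Fin 2) F) * Ai.map σ) * (A : Matrix (Fin 2) (Fin 2) F).map σ) *
          (a : Matrix (Fin 2) (Fin 2) F).map σ) * Ai.map σ := by simp only [mul_assoc]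
      _ = _ := by rw [hM, ha, mul_smul_comm, smul_mul_assoc]
  have hXd : X.det ≠ 0 := by
    rw [hX, cj_coe]; exact ((Matrix.isUnit_iff_isUnit_det _).1 (Units.isUnit _)).ne_zero
  have hσX : X.map σ = (d / X.det) • X := by
    have h2 : Xᵀ * J2 F * (X.map σ - (d / X.det) • X) = 0 := by
      rw [mul_sub, mul_smul_comm, h1, J2_congr, smul_smul, div_mul_cancel₀ d hXd, sub_self]
    have hu' : IsUnit (Xᵀ * J2 F).det := by
      rw [Matrix.det_mul, Matrix.det_transpose, Matrix.det_fin_two (J2 F)]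
      simp [J2, hXd]
    have h3 := congrArg ((Xᵀ * J2 F)⁻¹ * ·) h2
    simp only [← mul_assoc, Matrix.nonsing_inv_mul _ hu', one_mul, mul_zero] at h3
    exact sub_eq_zero.1 h3
  obtain ⟨i0, j0, hne⟩ : ∃ i j, X i j ≠ 0 := by
    by_contra hcon
    push Not at hcon
    exact hXd (by rw [Matrix.ext (N := 0) hcon, Matrix.det_zero])
  refine ⟨X i0 j0, hne, fun i j => ?_⟩
  have hij := congrFun (congrFun hσX i) j
  have h00 := congrFun (congrFun hσX i0) j0
  simp only [Matrix.map_apply, Matrix.smul_apply, smul_eq_mul] at hij h00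
  rw [map_mul, map_inv₀, hij, h00]
  have : d / X.det ≠ 0 := div_ne_zero hd hXd
  field_simp

/-- a tensor power of two dimensional unitary spaces lies in a subfield class -/
theorem u_power_two (hu : UConj σ q) (hn : 2 ≤ n) (hI : H ≤ Cfsg.GU n F q) {t : ℕ} (ht : 0 < t)
    {e : Fin n ≃ (Fin t → Fin 2)} {P : GL (Fin n) F} (hle : H ≤ tensorWreathSubgroup 2 t e P)
    (hG : gramAt σ (1 : Matrix (Fin n) (Fin n) F) e P = 1) : UClass n F q H := by
  haveI : Nonempty (Fin n) := ⟨⟨0, by omega⟩⟩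
  obtain ⟨p, ex, hp, hcp, hqe, hex, hcard⟩ := hu.exists_prime_pow
  obtain ⟨τ, hτ, hτσ⟩ := hu.exists_ringAut
  obtain ⟨-, hcF⟩ := CfsgLib.Descent.card_fixedField hp hcard hτ two_pos
  rw [Nat.mul_div_cancel_left _ two_pos, ← hqe] at hcF
  set F₁ := CfsgLib.Descent.fixedField τ
  have hF1 : ∀ x, x ∈ F₁ ↔ σ x = x := fun x => by rw [CfsgLib.Descent.mem_fixedField, hτσ]
  have hc : Fintype.card F = Nat.card F₁ ^ 2 := by rw [hcF, hu.card]
  obtain ⟨B, z, hz, hzσ, hB, hrat⟩ := gu2_rational hu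
  set Q := P * glReindex e.symm (pureGL fun _ : Fin t => B) with hQ
  set G₀ : Matrix (Fin n) (Fin n) F := rx e (pure fun _ : Fin t => J2 F) with hG₀
  have hQG : (Q : Matrix (Fin n) (Fin n) F)ᵀ * (1 : Matrix (Fin n) (Fin n) F) * (Q : Matrix (Fin n) (Fin n) F).map σ =
      z ^ t • G₀ := by
    rw [← rx_gramAt σ (1 : Matrix (Fin n) (Fin n) F) e Q, hQ, gramAt_mul, hG, pureGL_coe, pure_transpose,
      show (pure fun _ : Fin t => (B : Matrix (Fin 2) (Fin 2) F)).map σ =
        pure fun _ : Fin t => (B : Matrix (Fin 2) (Fin 2) F).map σ by ext a b; simp [map_prod],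
      ← pure_one, pure_mul, pure_mul,
      show ((fun _ : Fin t => (B : Matrix (Fin 2) (Fin 2) F)ᵀ) * 1 * fun _ => (B : Matrix (Fin 2) (Fin 2) F).map σ) =
        fun _ => z • J2 F from funext fun _ => hB,
      pure_smul, Finset.prod_const, Finset.card_univ, Fintype.card_fin, map_smul, hG₀]
  have hJF : ∀ a b : Fin 2, J2 F a b ∈ F₁ := fun a b => by
    rw [hF1]; fin_cases a <;> fin_cases b <;> simp [J2]
  have h0 : ∀ i j, G₀ i j ∈ F₁ := fun i j => by
    rw [hG₀, rx_apply, pure_apply]; exact prod_mem fun l _ => hJF _ _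
  have hd0 : ∀ i, G₀ i i = 0 := fun i => by
    rw [hG₀, rx_apply, pure_apply]
    refine Finset.prod_eq_zero (Finset.mem_univ ⟨0, ht⟩) ?_
    have : ∀ a, J2 F a a = 0 := fun a => by fin_cases a <;> simp [J2]
    exact this _
  have hle' : H ≤ subfieldSubgroup F₁ Q := by
    intro g hg
    obtain ⟨gs, π, rfl, hd⟩ := wreath_similitude (σ := σ) (G := (1 : Matrix (Fin n) (Fin n) F)) (c := 1)
      (G₁ := (1 : Matrix (Fin 2) (Fin 2) F)) (by simp)
      (by rw [one_smul, hG]; exact pure_one.symm) (hu.GU_eq (n := n) ▸ hI hg) (hle hg)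
    have hs : ∀ i, ∃ s : F, s ≠ 0 ∧ ∀ a b, σ (s⁻¹ * cj B⁻¹ (gs i : Matrix (Fin 2) (Fin 2) F) a b) =
        s⁻¹ * cj B⁻¹ (gs i : Matrix (Fin 2) (Fin 2) F) a b := fun i => by
      obtain ⟨d, hd0, hd⟩ := hd i
      exact hrat _ d hd0 hd
    choose s hs0 hs using hs
    refine mem_subfieldSubgroup_of (s := ∏ i, s i) (Finset.prod_ne_zero_iff.2 fun i _ => hs0 i) fun a b => ?_
    have key : cj Q⁻¹ ((P * glReindex e.symm (pureGL gs * permGL π) * P⁻¹ : GL (Fin n) F) : Matrix (Fin n) (Fin n) F) =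
        rx e (pure (fun i => cj B⁻¹ (gs i : Matrix (Fin 2) (Fin 2) F)) * permMat π) := by
      rw [cj_coe, inv_inv, hQ, _root_.mul_inv_rev]
      have hgr : (glReindex e.symm (pureGL fun _ : Fin t => B))⁻¹ * P⁻¹ *
          (P * glReindex e.symm (pureGL gs * permGL π) * P⁻¹) * (P * glReindex e.symm (pureGL fun _ : Fin t => B)) =
          glReindex e.symm ((pureGL fun _ : Fin t => B)⁻¹ * (pureGL gs * permGL π) * pureGL fun _ : Fin t => B) := by
        simp only [map_mul, map_inv]; group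
      rw [hgr]
      show rx e (_ : Matrix (Fin t → Fin 2) (Fin t → Fin 2) F) = _
      congr 1
      rw [Units.val_mul, Units.val_mul, Units.val_mul, pureGL_coe, pureGL_coe, pureGL_inv_coe, permGL_coe]
      have hcomm : permMat π * pure (fun _ : Fin t => (B : Matrix (Fin 2) (Fin 2) F)) =
          pure (fun _ : Fin t => (B : Matrix (Fin 2) (Fin 2) F)) * permMat π := by
        have h1 := cj_permGL_pure (F := F) π (fun _ : Fin t => (B : Matrix (Fin 2) (Fin 2) F))
        rw [cj, permGL_coe] at h1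
        calc _ = permMat π * pure (fun _ : Fin t => (B : Matrix (Fin 2) (Fin 2) F)) *
              (((permGL π)⁻¹ : GL (Fin t → Fin 2) F) : Matrix (Fin t → Fin 2) (Fin t → Fin 2) F) * permMat π := by
              rw [mul_assoc _ _ (permMat π), ← permGL_coe, gl_inv_mul, mul_one]
          _ = _ := by rw [h1]; rfl
      rw [mul_assoc, mul_assoc, hcomm, ← mul_assoc, ← mul_assoc, pure_mul, pure_mul]
      congr 2
    rw [key, rx_apply, mul_permMat, Matrix.of_apply, pure_apply, ← Finset.prod_inv_distrib, ← Finset.prod_mul_distrib]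
    exact prod_mem fun l _ => (hF1 _).2 (hs l _ _)
  have hζc : σ (z ^ t) = (-1) ^ t * z ^ t := by rw [map_pow, hzσ, neg_pow]
  have hzt : z ^ t ≠ 0 := pow_ne_zero _ hz
  have hform : Cfsg.hermForm n F q = gform σ (1 : Matrix (Fin n) (Fin n) F) := hu.hermForm_eq
  by_cases hso : Odd q ∧ Even t
  · obtain ⟨hq, hte⟩ := hso
    refine .subOrth hq hc (fun u v hu' hv => ?_) hle'
    rw [hform]
    refine rational_gform hQG h0 ?_ hu' hv
    rw [one_mul, hF1, hζc, hte.neg_one_pow, one_mul]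
  have hneg : σ (z ^ t) = -(z ^ t) := by
    rw [hζc]
    rcases Nat.even_or_odd t with hte | hto
    · haveI := charTwo_of_even (F := F) (fun h => hso ⟨hu.odd_iff.2 h, hte⟩)
      rw [hte.neg_one_pow, one_mul, CharTwo.neg_eq]
    · rw [hto.neg_one_pow, neg_one_mul]
  have heven : Even n := by
    have := Fintype.card_congr e
    simp at this
    rw [this]
    exact (even_two).pow_of_ne_zero ht.ne'
  refine .subSymp (ζ := (z ^ t)⁻¹) heven hc (inv_ne_zero hzt) ?_ (fun u v hu' hv => ?_) (fun u hu' => ?_) hle'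
  · rw [← hu.eq, map_inv₀, hneg, inv_neg, add_neg_cancel]
  · rw [hform]
    exact rational_gform hQG h0 (by rw [inv_mul_cancel₀ hzt]; exact F₁.one_mem) hu' hv
  · rw [hform, gform_mulVec, hQG]
    have hσu : (σ : F → F) ∘ u = u := funext fun a => (hF1 _).1 (hu' a)
    have hskew : G₀ᵀ = -G₀ := by
      have hJt : (J2 F)ᵀ = -(J2 F) := by ext a b; fin_cases a <;> fin_cases b <;> simp [J2]
      rw [hG₀, ← rx_transpose, pure_transpose, ← map_neg]
      congr 1
      rw [show (fun _ : Fin t => (J2 F)ᵀ) = fun _ => (-1 : F) • J2 F from funext fun _ => by rw [hJt, neg_smul, one_smul],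
        pure_smul, Finset.prod_const, Finset.card_univ, Fintype.card_fin]
      rcases Nat.even_or_odd t with hte | hto
      · haveI := charTwo_of_even (F := F) (fun h => hso ⟨hu.odd_iff.2 h, hte⟩)
        rw [hte.neg_one_pow, one_smul]
        ext a b; simp [CharTwo.neg_eq]
      · rw [hto.neg_one_pow, neg_smul, one_smul]
    have h1 := gform_self_eq_zero hskew hd0 u
    simp only [gform, RingHom.coe_id, Function.id_comp] at h1
    simp only [gform, hσu, Matrix.smul_mulVec, dotProduct_smul, h1, smul_zero]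

/-- a tensor power of three dimensional unitary spaces over four elements -/
theorem u_power_hex (hu : UConj σ 2) (hn : 2 ≤ n) (hI : H ≤ Cfsg.GU n F 2) (hirr : Irred H) {t : ℕ} (ht : 0 < t)
    {e : Fin n ≃ (Fin t → Fin 3)} {P : GL (Fin n) F} (hle : H ≤ tensorWreathSubgroup 3 t e P)
    (hG : gramAt σ (1 : Matrix (Fin n) (Fin n) F) e P = 1) : UClass n F 2 H := by
  haveI : Nonempty (Fin n) := ⟨⟨0, by omega⟩⟩
  have hq : Fintype.card F = 4 := hu.card
  set M : Subgroup (GL (Fin n) F) := (Subgroup.pi Set.univ fun _ : Fin t => hex3 F).map (powHom e P) with hM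
  have hiso : M ≤ iso σ (1 : Matrix (Fin n) (Fin n) F) := by
    rintro _ ⟨ys, hys, rfl⟩
    set Y : Matrix (Fin t → Fin 3) (Fin t → Fin 3) F := pure fun i => (ys i : Matrix (Fin 3) (Fin 3) F) with hY
    have hinv : Yᵀ * gramAt σ (1 : Matrix (Fin n) (Fin n) F) e P * Y.map σ =
        gramAt σ (1 : Matrix (Fin n) (Fin n) F) e P := by
      rw [hG, mul_one, hY, pure_transpose,
        show (pure fun i => (ys i : Matrix (Fin 3) (Fin 3) F)).map σ =
          pure fun i => (ys i : Matrix (Fin 3) (Fin 3) F).map σ by ext a b; simp [map_prod],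
        pure_mul, ← pure_one]
      congr 1
      funext i
      have := mem_iso.1 (hex3_le_iso hu (hys i trivial))
      rwa [mul_one] at this
    rw [mem_iso, powHom_coe, ← hY]
    have e1 := congrArg (rx e) hinv
    rw [map_mul, map_mul, rx_gramAt, rx_transpose, rx_map] at e1
    set Pi' := ((P⁻¹ : GL (Fin n) F) : Matrix (Fin n) (Fin n) F) with hPi
    have hPP : Pi'ᵀ * (P : Matrix (Fin n) (Fin n) F)ᵀ = 1 := by
      rw [← Matrix.transpose_mul, hPi, gl_mul_inv, Matrix.transpose_one]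
    have hPP' : (P : Matrix (Fin n) (Fin n) F).map σ * Pi'.map σ = 1 := by
      rw [← Matrix.map_mul, hPi, gl_mul_inv, Matrix.map_one σ σ.map_zero σ.map_one]
    rw [cj, Matrix.transpose_mul, Matrix.transpose_mul, Matrix.map_mul, Matrix.map_mul, ← hPi]
    calc _ = Pi'ᵀ * ((rx e Y)ᵀ * ((P : Matrix (Fin n) (Fin n) F)ᵀ * 1 * (P : Matrix (Fin n) (Fin n) F).map σ) *
          (rx e Y).map σ) * Pi'.map σ := by simp only [mul_assoc]
      _ = (Pi'ᵀ * (P : Matrix (Fin n) (Fin n) F)ᵀ) * 1 * ((P : Matrix (Fin n) (Fin n) F).map σ * Pi'.map σ) := by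
        rw [e1]; simp only [mul_assoc]
      _ = 1 := by rw [hPP, hPP', one_mul, mul_one]
  have hn' : NormG H M := by
    intro g hg x hx
    obtain ⟨ys, hys, rfl⟩ := Subgroup.mem_map.1 hx
    obtain ⟨gs, π, rfl, hd⟩ := wreath_similitude (σ := σ) (G := (1 : Matrix (Fin n) (Fin n) F)) (c := 1)
      (G₁ := (1 : Matrix (Fin 3) (Fin 3) F)) (by simp)
      (by rw [one_smul, hG]; exact pure_one.symm) (hu.GU_eq (n := n) ▸ hI hg) (hle hg)
    have hgs : ∀ i, gs i ∈ iso σ (1 : Matrix (Fin 3) (Fin 3) F) := fun i => by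
      obtain ⟨d, hd0, hd⟩ := hd i
      have hd2 : d * d = d := by rw [← pow_two, ← hu.eq, similitude_multiplier hu hd]
      rw [mem_iso, hd, mul_right_cancel₀ hd0 (hd2.trans (one_mul d).symm), one_smul]
    refine Subgroup.mem_map.2 ⟨fun i => gs i * ys (π.symm i) * (gs i)⁻¹,
      fun i _ => hex3_conj hu (hgs i) (hys (π.symm i) trivial), ?_⟩
    apply Units.ext
    have hrhs : ((P * glReindex e.symm (pureGL gs * permGL π) * P⁻¹ * powHom e P ys *
        (P * glReindex e.symm (pureGL gs * permGL π) * P⁻¹)⁻¹ : GL (Fin n) F) : Matrix (Fin n) (Fin n) F) =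
        cj P (rx e (cj (pureGL gs * permGL π) (pure fun i => (ys i : Matrix (Fin 3) (Fin 3) F)))) := by
      rw [← cj_coe, powHom_coe, cj_cj, inv_mul_cancel_right, ← cj_cj, ← cj_rx]
      rfl
    rw [powHom_coe]
    refine Eq.trans ?_ hrhs.symm
    congr 2
    rw [← cj_cj, cj_permGL_pure, cj_pureGL]
    congr 1
  have hslot : ∀ i (g : GL (Fin 3) F), g ∈ hex3 F → powHom e P (Pi.mulSingle i g) ∈ M := fun i g hg =>
    Subgroup.mem_map_of_mem _ (fun j _ => by
      rcases eq_or_ne j i with rfl | hj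
      · rwa [Pi.mulSingle_eq_same]
      · rw [Pi.mulSingle_eq_of_ne hj]; exact (hex3 F).one_mem)
  have hscal : ∀ X : Matrix (Fin n) (Fin n) F,
      (∀ x ∈ M, X * (x : Matrix (Fin n) (Fin n) F) = (x : Matrix (Fin n) (Fin n) F) * X) →
      ∃ c : F, X = c • (1 : Matrix (Fin n) (Fin n) F) := by
    intro X hX
    set X' := (rx e).symm (cj P⁻¹ X) with hX'
    have hXeq : X = cj P (rx e X') := by rw [hX', AlgEquiv.apply_symm_apply, cj_cj_inv]
    obtain ⟨c, hc⟩ := scalar_of_commute_slots X' (fun i a b => by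
      have htop := hex3_span hq ((Subalgebra.centralizer F ({X'} : Set _)).comap (slotHom i)) (fun g hg => by
        rw [Subalgebra.mem_comap, Subalgebra.mem_centralizer_iff]
        rintro _ rfl
        have h1 := hX _ (hslot i g hg)
        have he : (fun j => ((Pi.mulSingle i g : Fin t → GL (Fin 3) F) j : Matrix (Fin 3) (Fin 3) F)) =
            Pi.mulSingle i (g : Matrix (Fin 3) (Fin 3) F) := by
          funext j
          rcases eq_or_ne j i with rfl | hj
          · rw [Pi.mulSingle_eq_same, Pi.mulSingle_eq_same]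
          · rw [Pi.mulSingle_eq_of_ne hj, Pi.mulSingle_eq_of_ne hj, Units.val_one]
        rw [powHom_coe, he, hXeq, ← cj_mul, ← cj_mul, ← map_mul, ← map_mul] at h1
        exact (rx e).injective (cj_injective P h1))
      have hmem : Matrix.single a b (1 : F) ∈ (Subalgebra.centralizer F ({X'} : Set _)).comap (slotHom i) :=
        htop ▸ Algebra.mem_top
      rw [Subalgebra.mem_comap, Subalgebra.mem_centralizer_iff] at hmem
      exact hmem X' rfl)
    exact ⟨c, by rw [hXeq, hc, map_smul, map_one, cj_smul, cj_one]⟩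
  have hA : AbsIrr M :=
    ⟨irred_of_centralizer hirr hn' hscal, fun X hX => hscal X fun x hx => hX _ (mem_matrixSet hx)⟩
  have hs : ¬ M ≤ scalars (Fin n) F := by
    intro hle'
    obtain ⟨c, hc⟩ := hscal (Matrix.single (e.symm fun _ => 0) (e.symm fun _ => 1) (1 : F)) (fun x hx => by
      obtain ⟨c, hc⟩ := mem_scalars.1 (hle' hx)
      rw [hc, mul_smul_comm, smul_mul_assoc, mul_one, one_mul])
    have := congrFun (congrFun hc (e.symm fun _ => 0)) (e.symm fun _ => 1)
    have hne : (e.symm fun _ => (0 : Fin 3)) ≠ e.symm fun _ => 1 := fun h =>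
      absurd (congrFun (e.symm.injective h) ⟨0, ht⟩) (by decide)
    simp [hne] at this
  have hcom : ∀ a ∈ M, ∀ b ∈ M, a * b * a⁻¹ * b⁻¹ ∈ scalars (Fin n) F := by
    rintro _ ⟨as, has, rfl⟩ _ ⟨bs, hbs, rfl⟩
    rw [← map_mul, ← map_inv, ← map_mul, ← map_inv, ← map_mul]
    refine powHom_mem_scalars e P fun i => ?_
    obtain ⟨c, hc⟩ := mem_scalars.1 (hex3_comm hq (has i trivial) (hbs i trivial))
    exact ⟨c, hc⟩
  have h3 : ∀ x ∈ M, x ^ 3 = 1 := by
    rintro _ ⟨as, has, rfl⟩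
    rw [← map_pow, show as ^ 3 = 1 from funext fun i => hex3_cube hq (has i trivial), map_one]
  obtain ⟨R, hR⟩ := sympData_of_exponent hu.refl_one hiso hn' hA hs hcom Nat.prime_three
    (fun x hx => by rw [h3 x hx]; exact one_mem _) (fun x hx => h3 x hx)
    (fun R _ hMR hRM _ A hAch hAc => charScalar_of_conj hMR hRM (fun a ha has => by
      obtain ⟨ys, hys, rfl⟩ := Subgroup.mem_map.1 ha
      obtain ⟨i, hi⟩ : ∃ i, ¬ ∃ c : F, (ys i : Matrix (Fin 3) (Fin 3) F) = c • (1 : Matrix (Fin 3) (Fin 3) F) := by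
        by_contra hcon
        push Not at hcon
        exact has (powHom_mem_scalars e P hcon)
      obtain ⟨g, hg, hne⟩ := hex3_move hu (hys i trivial) (fun h => hi (by
        obtain ⟨c, hc⟩ := mem_scalars.1 h; exact ⟨_, hc⟩))
      refine ⟨powHom e P (Pi.mulSingle i g), ?_, ?_⟩
      · rintro _ ⟨xs, hxs, rfl⟩
        rw [← map_inv, ← map_mul, ← map_mul]
        refine Subgroup.mem_map_of_mem _ fun j _ => ?_
        simp only [Pi.mul_apply, Pi.inv_apply]
        refine hex3_conj hu ?_ (hxs j trivial)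
        rcases eq_or_ne j i with rfl | hj
        · rwa [Pi.mulSingle_eq_same]
        · rw [Pi.mulSingle_eq_of_ne hj]; exact one_mem _
      · intro heq
        set g' : Fin t → GL (Fin 3) F := Pi.mulSingle i g with hg'
        rw [← map_inv, ← map_mul, ← map_mul, ← map_mul, ← map_mul] at heq
        set u := ys * (g' * ys * g'⁻¹) with hu'
        set v := g' * ys * g'⁻¹ * ys with hv'
        have he := congrArg (fun x : GL (Fin n) F => (x : Matrix (Fin n) (Fin n) F)) heq
        simp only [powHom_coe] at he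
        have h1 := (rx e).injective (cj_injective P he)
        have hgi : g' i = g := Pi.mulSingle_eq_same ..
        have hcomm := hex3_comm hq (hys i trivial) (hex3_conj hu hg (hys i trivial))
        obtain ⟨c, hc⟩ := mem_scalars.1 hcomm
        apply hne
        have hother : ∀ j, j ≠ i → u j = v j := fun j hj => by
          simp [hu', hv', hg', Pi.mulSingle_eq_of_ne hj]
        have hcu : (u i : Matrix (Fin 3) (Fin 3) F) = (c : F) • (v i : Matrix (Fin 3) (Fin 3) F) := by
          rw [← one_mul (v i : Matrix (Fin 3) (Fin 3) F), ← smul_mul_assoc, ← hc, ← Units.val_mul]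
          congr 1
          simp only [hu', hv', Pi.mul_apply, Pi.inv_apply, hgi]
          group
        have hsm : (fun j => (u j : Matrix (Fin 3) (Fin 3) F)) =
            fun j => (if j = i then (c : F) else 1) • (v j : Matrix (Fin 3) (Fin 3) F) := by
          funext j
          rcases eq_or_ne j i with rfl | hj
          · rw [if_pos rfl, hcu]
          · rw [if_neg hj, one_smul, hother j hj]
        rw [hsm, pure_smul, Finset.prod_ite_eq' Finset.univ i, if_pos (Finset.mem_univ i)] at h1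
        have hv0 : pure (fun j => (v j : Matrix (Fin 3) (Fin 3) F)) ≠ 0 := (pureGL v).isUnit.ne_zero
        have hc1 : (c : F) = 1 := smul_left_injective F hv0 (by
          show (c : F) • _ = (1 : F) • _
          rw [one_smul]; exact h1)
        rw [hc1, one_smul] at hcu
        have := Units.ext hcu
        simp only [hu', hv', Pi.mul_apply, Pi.inv_apply, hgi] at this
        exact this) A hAch hAc)
  exact u_of_sympData hu hn hR

/-- a tensor power decomposition of the unitary form -/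
theorem u_of_power (hu : UConj σ q) (hn : 2 ≤ n) (hI : H ≤ Cfsg.GU n F q) (hirr : Irred H) {k t : ℕ} (hk : 2 ≤ k)
    (ht : 2 ≤ t) {e : Fin n ≃ (Fin t → Fin k)} {P : GL (Fin n) F} (hle : H ≤ tensorWreathSubgroup k t e P)
    (hG : gramAt σ (1 : Matrix (Fin n) (Fin n) F) e P = 1) : UClass n F q H := by
  rcases Nat.lt_or_ge k 3 with h | h
  · obtain rfl : k = 2 := by omega
    exact u_power_two hu hn hI (by omega) hle hG
  by_cases hex : q = 2 ∧ k = 3
  · obtain ⟨rfl, rfl⟩ := hex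
    exact u_power_hex hu hn hI hirr (by omega) hle hG
  · refine .power e P (f₁ := gform σ (1 : Matrix (Fin k) (Fin k) F)) h ht hex
      (hu.unitaryFormPow (by simp) (by simp)) ?_ hle
    rw [hu.hermForm_eq, ← funext hu.eq]
    exact powerFormStructure_of_gramAt (σ := σ) (c := 1) one_ne_zero (by rw [one_smul, hG]; exact pure_one.symm)

end CfsgLib.Perm.Asch
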