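import Cfsg.Agent.Lib.Perm.Asch.Forms.UCases
import Cfsg.Agent.Lib.Perm.Asch.Forms.UPower

/-!
# For `q ≤ 3` the stabiliser of two complementary totally isotropic planes is not maximal in `SU(4, q)`

It lies in a subfield group of symplectic type.
-/

set_option autoImplicit false
set_option linter.all false

namespace CfsgLib.Perm.Asch.U4

open scoped Classical Matrix
open Matrix Cfsg.Geo CfsgLib.SU

variable {F : Type*} [Field F] [Fintype F] {q : ℕ} (C : UCtx F q)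

/-- coordinates of the rational vectors -/
def InV0 (z : Fin 4 → F) : Prop := z 3 = C.bar (z 0) ∧ z 2 = -C.bar (z 1)

/-- an almost rational image -/
def Twisted (d : F) (w : Fin 4 → F) : Prop := d * w 3 = C.bar (w 0) ∧ d * w 2 = -C.bar (w 1)

theorem exists_scale {d : F} (hd : d * d = 1) : ∃ s : F, s ≠ 0 ∧ ∀ w, Twisted C d w → InV0 C (s⁻¹ • w) := by
  obtain ⟨δ, hδ0, hδ⟩ := C.exists_trace_zero
  rcases mul_self_eq_one_iff.1 hd with h | h
  · refine ⟨1, one_ne_zero, fun w hw => ?_⟩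
    simpa [InV0, Twisted, h] using hw
  · refine ⟨δ, hδ0, fun w hw => ?_⟩
    obtain ⟨h1, h2⟩ := hw
    have hb : C.bar δ = -δ := by linear_combination hδ
    simp only [InV0, Pi.smul_apply, smul_eq_mul, map_mul, map_inv₀, hb, ← h1, h, inv_neg]
    have h2' : C.bar (w 1) = -(d * w 2) := by linear_combination h2
    refine ⟨by ring, ?_⟩
    rw [h2', h]
    ring

/-- the preserved block shape -/
theorem twisted_fix (A00 A01 A10 A11 B00 B01 B10 B11 : F)
    (h00 : A00 * C.bar B00 + A10 * C.bar B10 = 1) (h01 : A00 * C.bar B01 + A10 * C.bar B11 = 0)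
    (h10 : A01 * C.bar B00 + A11 * C.bar B10 = 0) (h11 : A01 * C.bar B01 + A11 * C.bar B11 = 1)
    (hdet : (A00 * A11 - A01 * A10) * (B00 * B11 - B01 * B10) = 1) :
    ∃ d : F, d ≠ 0 ∧ C.bar d = d ∧ ∀ z, InV0 C z →
      Twisted C d ![A00 * z 0 + A01 * z 1, A10 * z 0 + A11 * z 1, B00 * z 2 + B01 * z 3, B10 * z 2 + B11 * z 3] := by
  set d := A00 * A11 - A01 * A10 with hd
  have hd0 : d ≠ 0 := left_ne_zero_of_mul_eq_one hdet
  have hdB : d * C.bar (B00 * B11 - B01 * B10) = 1 := by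
    rw [map_sub, map_mul, map_mul, hd]
    linear_combination (A01 * C.bar B01 + A11 * C.bar B11) * h00 - (A01 * C.bar B00 + A11 * C.bar B10) * h01 + h11
  have hdf : C.bar d = d := by
    have h := congrArg C.bar hdet
    rw [map_mul, map_one] at h
    exact mul_right_cancel₀ (right_ne_zero_of_mul_eq_one h) (h.trans hdB.symm)
  have e00 : d * B00 = C.bar A11 := C.bar.injective (by
    rw [map_mul, hdf, C.bar_bar, hd]; linear_combination A11 * h00 - A10 * h10)
  have e01 : d * B01 = -C.bar A10 := C.bar.injective (by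
    rw [map_mul, map_neg, hdf, C.bar_bar, hd]; linear_combination A11 * h01 - A10 * h11)
  have e10 : d * B10 = -C.bar A01 := C.bar.injective (by
    rw [map_mul, map_neg, hdf, C.bar_bar, hd]; linear_combination A00 * h10 - A01 * h00)
  have e11 : d * B11 = C.bar A00 := C.bar.injective (by
    rw [map_mul, hdf, C.bar_bar, hd]; linear_combination A00 * h11 - A01 * h01)
  refine ⟨d, hd0, hdf, ?_⟩
  rintro z ⟨z3, z2⟩
  constructor <;> simp only [Matrix.cons_val_zero, Matrix.cons_val_one, Matrix.cons_val, map_add, map_mul, z2, z3]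
  · linear_combination (-C.bar (z 1)) * e10 + C.bar (z 0) * e11
  · linear_combination (-C.bar (z 1)) * e00 + C.bar (z 0) * e01

/-- the swapped block shape -/
theorem twisted_swap (K00 K01 K10 K11 B00 B01 B10 B11 : F)
    (h00 : B00 * C.bar K00 + B10 * C.bar K10 = 1) (h01 : B00 * C.bar K01 + B10 * C.bar K11 = 0)
    (h10 : B01 * C.bar K00 + B11 * C.bar K10 = 0) (h11 : B01 * C.bar K01 + B11 * C.bar K11 = 1)
    (hdet : (B00 * B11 - B01 * B10) * (K00 * K11 - K01 * K10) = 1) :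
    ∃ d : F, d ≠ 0 ∧ C.bar d = d ∧ (d * d = 1 → ∀ z, InV0 C z →
      Twisted C (-d) ![B00 * z 2 + B01 * z 3, B10 * z 2 + B11 * z 3, K00 * z 0 + K01 * z 1, K10 * z 0 + K11 * z 1]) := by
  set d := K00 * K11 - K01 * K10 with hd
  have hd0 : d ≠ 0 := right_ne_zero_of_mul_eq_one hdet
  have hdB : C.bar d * (B00 * B11 - B01 * B10) = 1 := by
    rw [hd, map_sub, map_mul, map_mul]
    linear_combination (B01 * C.bar K01 + B11 * C.bar K11) * h00 - (B01 * C.bar K00 + B11 * C.bar K10) * h01 + h11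
  have hdf : C.bar d = d :=
    mul_right_cancel₀ (left_ne_zero_of_mul_eq_one hdet) (hdB.trans (hdet.symm.trans (mul_comm _ _)))
  have hb : C.bar K00 * C.bar K11 - C.bar K01 * C.bar K10 = d := by
    rw [← map_mul, ← map_mul, ← map_sub]; exact hdf
  have e00 : d * B00 = C.bar K11 := by rw [← hb]; linear_combination C.bar K11 * h00 - C.bar K10 * h01
  have e10 : d * B10 = -C.bar K01 := by rw [← hb]; linear_combination C.bar K00 * h01 - C.bar K01 * h00
  have e01 : d * B01 = -C.bar K10 := by rw [← hb]; linear_combination C.bar K11 * h10 - C.bar K10 * h11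
  have e11 : d * B11 = C.bar K00 := by rw [← hb]; linear_combination C.bar K00 * h11 - C.bar K01 * h10
  refine ⟨d, hd0, hdf, fun hdd z hz => ?_⟩
  obtain ⟨z3, z2⟩ := hz
  have hm : ∀ x y : F, d * x = y → x = d * y := fun x y h => by rw [← h, ← mul_assoc, hdd, one_mul]
  constructor <;> simp only [Matrix.cons_val_zero, Matrix.cons_val_one, Matrix.cons_val, z2, z3, map_add, map_mul,
    map_neg, C.bar_bar, hm _ _ e00, hm _ _ e01, hm _ _ e10, hm _ _ e11, hdf] <;> ring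

include C in
/-- the stabiliser of two complementary totally isotropic planes is not maximal -/
theorem pair_not_maximal (hF : Fintype.card F = q ^ 2) (hq : q = 2 ∨ q = 3) {H : Subgroup (GL (Fin 4) F)}
    (hH : IsMaximalIn (suGL 4 F q) H) {D : Fin 2 → Submodule F (Fin 4 → F)}
    (hD : IsMDecomposition 2 D) (hs : ∀ i, IsTotallySingularFor (Cfsg.hermForm 4 F q) (D i))
    (hHD : H = decompositionStabilizer D ⊓ suGL 4 F q) : False := by
  have hz : ∀ i, ∀ u ∈ D i, ∀ w ∈ D i, C.form u w = 0 := fun i u hu w hw => by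
    rw [← herm_form C]; exact hs i u hu w hw
  have hsup : D 0 ⊔ D 1 = ⊤ := by
    rw [← hD.iSup_eq_top]
    exact le_antisymm (sup_le (le_iSup D 0) (le_iSup D 1))
      (iSup_le fun i => by fin_cases i <;> [exact le_sup_left; exact le_sup_right])
  -- dual bases
  let b := Module.finBasisOfFinrankEq F (D 0) (hD.finrank_eq 0)
  set x0 : Fin 4 → F := (b 0 : Fin 4 → F) with hx0
  set x1 : Fin 4 → F := (b 1 : Fin 4 → F) with hx1
  have hx0m : x0 ∈ D 0 := (b 0).2
  have hx1m : x1 ∈ D 0 := (b 1).2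
  have hsurj : Function.Surjective (fun y : D 1 => (C.form x0 y, C.form x1 y)) := by
    refine ((Fintype.bijective_iff_injective_and_card _).2 ⟨fun y y' h => ?_, ?_⟩).2
    · simp only [Prod.mk.injEq] at h
      obtain ⟨h0, h1⟩ := h
      refine Subtype.ext (sub_eq_zero.1 (C.eq_zero_of_form' fun v => ?_))
      obtain ⟨u, hu, w, hw, rfl⟩ := Submodule.mem_sup.1 (hsup ▸ Submodule.mem_top : v ∈ D 0 ⊔ D 1)
      have e : u = b.repr ⟨u, hu⟩ 0 • x0 + b.repr ⟨u, hu⟩ 1 • x1 := by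
        have := congrArg Subtype.val (b.sum_repr ⟨u, hu⟩)
        rw [Fin.sum_univ_two] at this
        simpa [hx0, hx1] using this.symm
      rw [C.form_add_left, hz 1 w hw _ ((D 1).sub_mem y.2 y'.2), e]
      simp [C.form_add_left, C.form_smul_left, C.form_sub_right, h0, h1]
    · rw [Fintype.card_prod, ← Nat.card_eq_fintype_card (α := D 1),
        Module.natCard_eq_pow_finrank (K := F) (V := D 1), hD.finrank_eq 1, Nat.card_eq_fintype_card, sq]
  obtain ⟨⟨y0, hy0m⟩, hy0⟩ := hsurj (1, 0)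
  obtain ⟨⟨y1, hy1m⟩, hy1⟩ := hsurj (0, 1)
  simp only [Prod.mk.injEq] at hy0 hy1
  obtain ⟨h00, h10⟩ := hy0
  obtain ⟨h01, h11⟩ := hy1
  have g00 : C.form y0 x0 = 1 := by rw [← C.bar_form, h00, map_one]
  have g01 : C.form y0 x1 = 0 := C.form_swap_zero h10
  have g10 : C.form y1 x0 = 0 := C.form_swap_zero h01
  have g11 : C.form y1 x1 = 1 := by rw [← C.bar_form, h11, map_one]
  have zxx := fun u hu w hw => hz 0 u hu w hw
  have zyy := fun u hu w hw => hz 1 u hu w hw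
  set V : Matrix (Fin 4) (Fin 4) F := Matrix.of fun k i => ![x0, x1, y0, y1] i k with hV
  have hVu : ∀ u : Fin 4 → F, V *ᵥ u = u 0 • x0 + u 1 • x1 + u 2 • y0 + u 3 • y1 := fun u => by
    ext k; simp [hV, Matrix.mulVec, dotProduct, Fin.sum_univ_four]; ring
  have hcoord : ∀ u, C.form (V *ᵥ u) y0 = u 0 ∧ C.form (V *ᵥ u) y1 = u 1 ∧ C.form (V *ᵥ u) x0 = u 2 ∧
      C.form (V *ᵥ u) x1 = u 3 := fun u => by
    rw [hVu]
    simp [C.form_add_left, C.form_smul_left, zxx _ hx0m _ hx0m, zxx _ hx0m _ hx1m, zxx _ hx1m _ hx0m,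
      zxx _ hx1m _ hx1m, zyy _ hy0m _ hy0m, zyy _ hy0m _ hy1m, zyy _ hy1m _ hy0m, zyy _ hy1m _ hy1m,
      h00, h01, h10, h11, g00, g01, g10, g11]
  have hVdet : IsUnit V.det := by
    rw [isUnit_iff_ne_zero]
    intro h0
    obtain ⟨u, hu0, hu⟩ := Matrix.exists_mulVec_eq_zero_iff.2 h0
    obtain ⟨a, b', c, d⟩ := hcoord u
    rw [hu, C.form_zero_left] at a b' c d
    exact hu0 (by funext i; fin_cases i <;> simp [← a, ← b', ← c, ← d])
  let B : GL (Fin 4) F := Matrix.GeneralLinearGroup.mk'' V hVdet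
  -- the fixed field and the rational basis
  obtain ⟨ε, hε⟩ := C.exists_not_fixed
  have hεd : ε - C.bar ε ≠ 0 := sub_ne_zero.2 (Ne.symm hε)
  let F0 : Subfield F := RingHom.eqLocusField (C.bar : F →+* F) (RingHom.id F)
  have hF0 : ∀ x, x ∈ F0 ↔ C.bar x = x := fun x => Iff.rfl
  have hF0top : F0 ≠ ⊤ := fun h => hε ((hF0 ε).1 (h ▸ Subfield.mem_top ε))
  set Q : Matrix (Fin 4) (Fin 4) F := !![1, 0, ε, 0; 0, 1, 0, ε; 0, -1, 0, -C.bar ε; 1, 0, C.bar ε, 0] with hQ
  have hQu : ∀ c : Fin 4 → F, Q *ᵥ c = ![c 0 + ε * c 2, c 1 + ε * c 3, -c 1 - C.bar ε * c 3, c 0 + C.bar ε * c 2] :=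
    fun c => by ext i; fin_cases i <;> simp [hQ, Matrix.mulVec, dotProduct, Fin.sum_univ_four] <;> ring
  have hQdet : IsUnit Q.det := by
    rw [isUnit_iff_ne_zero]
    intro h0
    obtain ⟨c, hc0, hc⟩ := Matrix.exists_mulVec_eq_zero_iff.2 h0
    rw [hQu] at hc
    have e0 := congrFun hc 0
    have e1 := congrFun hc 1
    have e2 := congrFun hc 2
    have e3 := congrFun hc 3
    simp at e0 e1 e2 e3
    have k2 : c 2 = 0 := (mul_eq_zero.1 (show (ε - C.bar ε) * c 2 = 0 by linear_combination e0 - e3)).resolve_left hεd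
    have k3 : c 3 = 0 := (mul_eq_zero.1 (show (ε - C.bar ε) * c 3 = 0 by linear_combination e1 + e2)).resolve_left hεd
    rw [k2, mul_zero, add_zero] at e0
    rw [k3, mul_zero, add_zero] at e1
    exact hc0 (by funext i; fin_cases i <;> assumption)
  let Qg : GL (Fin 4) F := Matrix.GeneralLinearGroup.mk'' Q hQdet
  have hrat : ∀ z, InV0 C z → ∃ c : Fin 4 → F, (∀ i, c i ∈ F0) ∧ Q *ᵥ c = z := by
    intro z hz
    obtain ⟨r0, s0, hr0, hs0, e0⟩ := C.exists_decomp hε (z 0)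
    obtain ⟨r1, s1, hr1, hs1, e1⟩ := C.exists_decomp hε (z 1)
    refine ⟨![r0, r1, s0, s1], fun i => by fin_cases i <;> simp [hF0, hr0, hr1, hs0, hs1], ?_⟩
    rw [hQu]
    funext i
    fin_cases i <;> simp [hz.1, hz.2, e0, e1, map_add, map_mul, hr0, hr1, hs0, hs1] <;> ring
  have hQV0 : ∀ j, InV0 C (fun i => Q i j) := fun j => by
    fin_cases j <;> simp [InV0, hQ]
  have hmem : ∀ (g : GL (Fin 4) F) (M : Matrix (Fin 4) (Fin 4) F) (s : F), s ≠ 0 →
      (g : Matrix (Fin 4) (Fin 4) F) * V = V * M → (∀ z, InV0 C z → InV0 C (s⁻¹ • (M *ᵥ z))) →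
      g ∈ subfieldSubgroup F0 (B * Qg) := by
    intro g M s hs0 hgV hM
    refine mem_subfieldSubgroup_of hs0 fun i j => ?_
    obtain ⟨c, hc, hQc⟩ := hrat _ (hM _ (hQV0 j))
    have e : cj (B * Qg)⁻¹ (g : Matrix (Fin 4) (Fin 4) F) i j = (((Qg⁻¹ : GL (Fin 4) F) : Matrix (Fin 4) (Fin 4) F) *ᵥ
        (M *ᵥ fun k => Q k j)) i := by
      rw [cj, inv_inv, Units.val_mul, _root_.mul_inv_rev, Units.val_mul]
      show ((((Qg⁻¹ : GL (Fin 4) F) : Matrix (Fin 4) (Fin 4) F) * ((B⁻¹ : GL (Fin 4) F) : Matrix (Fin 4) (Fin 4) F)) *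
        (g : Matrix (Fin 4) (Fin 4) F) * (V * Q)) i j = _
      rw [mul_assoc, mul_assoc, ← mul_assoc (g : Matrix (Fin 4) (Fin 4) F), hgV, mul_assoc V,
        ← mul_assoc ((B⁻¹ : GL (Fin 4) F) : Matrix (Fin 4) (Fin 4) F)]
      show ((((Qg⁻¹ : GL (Fin 4) F) : Matrix (Fin 4) (Fin 4) F) *
        ((((B⁻¹ : GL (Fin 4) F) : Matrix (Fin 4) (Fin 4) F) * (B : Matrix (Fin 4) (Fin 4) F)) * (M * Q))) :
          Matrix (Fin 4) (Fin 4) F) i j = _
      rw [gl_inv_mul, one_mul, mulVec_mulVec, ← mul_assoc]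
      rfl
    have e2 : ((Qg⁻¹ : GL (Fin 4) F) : Matrix (Fin 4) (Fin 4) F) *ᵥ (s⁻¹ • (M *ᵥ fun k => Q k j)) = c := by
      rw [← hQc, mulVec_mulVec]
      show (_ * (Qg : Matrix (Fin 4) (Fin 4) F)) *ᵥ c = c
      rw [gl_inv_mul, one_mulVec]
    rw [mulVec_smul] at e2
    have e3 := congrFun e2 i
    rw [Pi.smul_apply, smul_eq_mul, ← e] at e3
    rw [e3]
    exact hc i
  have hdd : ∀ d : F, d ≠ 0 → C.bar d = d → d * d = 1 := by
    intro d hd0 hd
    rcases hq with hq | hq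
    · rw [fixed_eq_one C hq hd hd0, mul_one]
    · rw [C.bar_eq, hq] at hd
      exact mul_right_cancel₀ hd0 (by linear_combination hd)
  set L := subfieldSubgroup F0 (B * Qg) ⊓ suGL 4 F q with hL
  have hHL : H ≤ L := by
    intro g hg
    have hgS : g ∈ suGL 4 F q := hH.1.le hg
    refine ⟨?_, hgS⟩
    rw [hHD, Subgroup.mem_inf] at hg
    obtain ⟨p, hp⟩ := hg.1
    have hmap : ∀ i u, u ∈ D i → (g : Matrix (Fin 4) (Fin 4) F) *ᵥ u ∈ D (p i) := fun i u hu =>
      hp i ▸ Submodule.mem_map_of_mem hu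
    let gV : Fin 4 → Fin 4 → F := fun j => (g : Matrix (Fin 4) (Fin 4) F) *ᵥ ![x0, x1, y0, y1] j
    set M : Matrix (Fin 4) (Fin 4) F := Matrix.of fun i j => C.form (gV j) (![y0, y1, x0, x1] i) with hM
    have hgV : (g : Matrix (Fin 4) (Fin 4) F) * V = V * M := by
      ext k j
      obtain ⟨u, hu⟩ : ∃ u, V *ᵥ u = gV j :=
        ⟨((B⁻¹ : GL (Fin 4) F) : Matrix (Fin 4) (Fin 4) F) *ᵥ gV j, by
          rw [mulVec_mulVec]
          show ((B : Matrix (Fin 4) (Fin 4) F) * _) *ᵥ _ = _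
          rw [gl_mul_inv, one_mulVec]⟩
      obtain ⟨a, b', c, d⟩ := hcoord u
      rw [hu] at a b' c d
      have hu' : (fun i => M i j) = u := by funext i; fin_cases i <;> simp [hM, a, b', c, d]
      show ((g : Matrix (Fin 4) (Fin 4) F) *ᵥ fun i => V i j) k = (V *ᵥ fun i => M i j) k
      rw [hu', hu]
      rfl
    have hVg : ∀ j, gV j = M 0 j • x0 + M 1 j • x1 + M 2 j • y0 + M 3 j • y1 := fun j => by
      have := hVu (fun i => M i j)
      rw [← this]
      funext k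
      show ((g : Matrix (Fin 4) (Fin 4) F) *ᵥ fun i => V i j) k = (V *ᵥ fun i => M i j) k
      exact congrFun (congrFun hgV k) j
    have hform : ∀ i j, C.form (gV i) (gV j) = C.form (![x0, x1, y0, y1] i) (![x0, x1, y0, y1] j) :=
      fun i j => form_suGL C hgS _ _
    have hpair : ∀ i j, C.form (gV i) (gV j) =
        M 0 i * C.bar (M 2 j) + M 1 i * C.bar (M 3 j) + (M 2 i * C.bar (M 0 j) + M 3 i * C.bar (M 1 j)) := fun i j => by
      rw [hVg i, hVg j]
      simp [C.form_add_left, C.form_add_right, C.form_smul_left, C.form_smul_right, zxx _ hx0m _ hx0m,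
        zxx _ hx0m _ hx1m, zxx _ hx1m _ hx0m, zxx _ hx1m _ hx1m, zyy _ hy0m _ hy0m, zyy _ hy0m _ hy1m,
        zyy _ hy1m _ hy0m, zyy _ hy1m _ hy1m, h00, h01, h10, h11, g00, g01, g10, g11]
      ring
    have hMdet : M.det = 1 := by
      have h := congrArg Matrix.det hgV
      rw [Matrix.det_mul, Matrix.det_mul, ← Matrix.GeneralLinearGroup.val_det_apply,
        show Matrix.GeneralLinearGroup.det g = 1 from hgS.2, Units.val_one, one_mul] at h
      exact mul_left_cancel₀ hVdet.ne_zero (h.symm.trans (mul_one _).symm)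
    rw [Matrix.det_succ_row_zero, Fin.sum_univ_four] at hMdet
    simp [Fin.sum_univ_succ, Matrix.det_fin_three, Fin.succAbove] at hMdet
    have h02 := (hpair 0 2).symm.trans (hform 0 2)
    have h03 := (hpair 0 3).symm.trans (hform 0 3)
    have h12 := (hpair 1 2).symm.trans (hform 1 2)
    have h13 := (hpair 1 3).symm.trans (hform 1 3)
    simp [h00, h01, h10, h11] at h02 h03 h12 h13
    have hMe : ∀ i j, M i j = C.form (gV j) (![y0, y1, x0, x1] i) := fun i j => rfl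
    have hMz : ∀ z : Fin 4 → F, M *ᵥ z = ![M 0 0 * z 0 + M 0 1 * z 1 + (M 0 2 * z 2 + M 0 3 * z 3),
        M 1 0 * z 0 + M 1 1 * z 1 + (M 1 2 * z 2 + M 1 3 * z 3),
        M 2 0 * z 0 + M 2 1 * z 1 + (M 2 2 * z 2 + M 2 3 * z 3),
        M 3 0 * z 0 + M 3 1 * z 1 + (M 3 2 * z 2 + M 3 3 * z 3)] := fun z => by
      funext i; fin_cases i <;> simp [Matrix.mulVec, dotProduct, Fin.sum_univ_four] <;> ring
    have hp01 : (p 0 = 0 ∧ p 1 = 1) ∨ (p 0 = 1 ∧ p 1 = 0) :=
      (show ∀ q : Equiv.Perm (Fin 2), (q 0 = 0 ∧ q 1 = 1) ∨ (q 0 = 1 ∧ q 1 = 0) by decide) p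
    rcases hp01 with ⟨p0, p1⟩ | ⟨p0, p1⟩
    · have z0 : ∀ u ∈ D 0, (g : Matrix (Fin 4) (Fin 4) F) *ᵥ u ∈ D 0 := fun u hu => p0 ▸ hmap 0 u hu
      have z1 : ∀ u ∈ D 1, (g : Matrix (Fin 4) (Fin 4) F) *ᵥ u ∈ D 1 := fun u hu => p1 ▸ hmap 1 u hu
      have m20 : M 2 0 = 0 := by rw [hMe]; exact zxx _ (z0 _ hx0m) _ hx0m
      have m21 : M 2 1 = 0 := by rw [hMe]; exact zxx _ (z0 _ hx1m) _ hx0m
      have m30 : M 3 0 = 0 := by rw [hMe]; exact zxx _ (z0 _ hx0m) _ hx1m
      have m31 : M 3 1 = 0 := by rw [hMe]; exact zxx _ (z0 _ hx1m) _ hx1m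
      have m02 : M 0 2 = 0 := by rw [hMe]; exact zyy _ (z1 _ hy0m) _ hy0m
      have m03 : M 0 3 = 0 := by rw [hMe]; exact zyy _ (z1 _ hy1m) _ hy0m
      have m12 : M 1 2 = 0 := by rw [hMe]; exact zyy _ (z1 _ hy0m) _ hy1m
      have m13 : M 1 3 = 0 := by rw [hMe]; exact zyy _ (z1 _ hy1m) _ hy1m
      simp [m20, m21, m30, m31, m02, m03, m12, m13] at h02 h03 h12 h13 hMdet
      obtain ⟨d, hd0, hdf, hd⟩ := twisted_fix C (M 0 0) (M 0 1) (M 1 0) (M 1 1) (M 2 2) (M 2 3) (M 3 2) (M 3 3)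
        (by linear_combination h02) (by linear_combination h03) (by linear_combination h12) (by linear_combination h13)
        (by linear_combination hMdet)
      obtain ⟨s, hs0, hs⟩ := exists_scale C (hdd d hd0 hdf)
      refine hmem g M s hs0 hgV fun z hz => hs _ ?_
      have := hd z hz
      rw [hMz z]
      simpa [m20, m21, m30, m31, m02, m03, m12, m13] using this
    · have z0 : ∀ u ∈ D 0, (g : Matrix (Fin 4) (Fin 4) F) *ᵥ u ∈ D 1 := fun u hu => p0 ▸ hmap 0 u hu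
      have z1 : ∀ u ∈ D 1, (g : Matrix (Fin 4) (Fin 4) F) *ᵥ u ∈ D 0 := fun u hu => p1 ▸ hmap 1 u hu
      have m00 : M 0 0 = 0 := by rw [hMe]; exact zyy _ (z0 _ hx0m) _ hy0m
      have m01 : M 0 1 = 0 := by rw [hMe]; exact zyy _ (z0 _ hx1m) _ hy0m
      have m10 : M 1 0 = 0 := by rw [hMe]; exact zyy _ (z0 _ hx0m) _ hy1m
      have m11 : M 1 1 = 0 := by rw [hMe]; exact zyy _ (z0 _ hx1m) _ hy1m
      have m22 : M 2 2 = 0 := by rw [hMe]; exact zxx _ (z1 _ hy0m) _ hx0m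
      have m23 : M 2 3 = 0 := by rw [hMe]; exact zxx _ (z1 _ hy1m) _ hx0m
      have m32 : M 3 2 = 0 := by rw [hMe]; exact zxx _ (z1 _ hy0m) _ hx1m
      have m33 : M 3 3 = 0 := by rw [hMe]; exact zxx _ (z1 _ hy1m) _ hx1m
      have h20 := (hpair 2 0).symm.trans (hform 2 0)
      have h21 := (hpair 2 1).symm.trans (hform 2 1)
      have h30 := (hpair 3 0).symm.trans (hform 3 0)
      have h31 := (hpair 3 1).symm.trans (hform 3 1)
      simp [m00, m01, m10, m11, m22, m23, m32, m33, g00, g01, g10, g11] at h20 h21 h30 h31 hMdet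
      obtain ⟨d, hd0, hdf, hd⟩ := twisted_swap C (M 2 0) (M 2 1) (M 3 0) (M 3 1) (M 0 2) (M 0 3) (M 1 2) (M 1 3)
        (by linear_combination h20) (by linear_combination h21) (by linear_combination h30) (by linear_combination h31)
        (by linear_combination hMdet)
      obtain ⟨s, hs0, hs⟩ := exists_scale C (show -d * -d = 1 by rw [neg_mul_neg]; exact hdd d hd0 hdf)
      refine hmem g M s hs0 hgV fun z hz => hs _ ?_
      have := hd (hdd d hd0 hdf) z hz
      rw [hMz z]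
      simpa [m00, m01, m10, m11, m22, m23, m32, m33] using this
  -- a transvection centred at a rational vector
  obtain ⟨δ, hδ0, hδ⟩ := C.exists_trace_zero
  set u := x0 + y1 with hu
  have huu : C.form u u = 0 := by
    simp [hu, C.form_add_left, C.form_add_right, zxx _ hx0m _ hx0m, zyy _ hy1m _ hy1m, g10, h01]
  obtain ⟨T, hT, -, hTx, -⟩ := exists_utv C u huu δ hδ
  set MT : Matrix (Fin 4) (Fin 4) F := !![1, δ, δ, 0; 0, 1, 0, 0; 0, 0, 1, 0; 0, δ, δ, 1] with hMT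
  have hTV : (T : Matrix (Fin 4) (Fin 4) F) * V = V * MT := by
    refine Matrix.ext_iff_mulVec.2 fun c => ?_
    rw [← mulVec_mulVec, ← mulVec_mulVec, hTx, hVu, hVu]
    have e : C.form (c 0 • x0 + c 1 • x1 + c 2 • y0 + c 3 • y1) u = c 1 + c 2 := by
      simp [hu, C.form_add_left, C.form_add_right, C.form_smul_left, zxx _ hx0m _ hx0m, zxx _ hx1m _ hx0m,
        zyy _ hy0m _ hy1m, zyy _ hy1m _ hy1m, h00, h01, h10, h11, g00, g01, g10, g11]
    rw [e, hu]
    simp [hMT, Matrix.mulVec, dotProduct, Fin.sum_univ_four]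
    module
  have hTL : T ∈ L := by
    refine ⟨hmem T MT 1 one_ne_zero hTV fun z hz => ?_, hT⟩
    obtain ⟨z3, z2⟩ := hz
    simp [InV0, hMT, Matrix.mulVec, dotProduct, Fin.sum_univ_four, z2, z3, C.bar_bar]
    linear_combination (-C.bar (z 1) + z 1) * hδ
  have hTH : T ∉ H := by
    intro hc
    rw [hHD, Subgroup.mem_inf] at hc
    obtain ⟨p, hp⟩ := hc.1
    have hm : (T : Matrix (Fin 4) (Fin 4) F) *ᵥ x1 ∈ D (p 0) := hp 0 ▸ Submodule.mem_map_of_mem hx1m
    have e : (T : Matrix (Fin 4) (Fin 4) F) *ᵥ x1 = x1 + δ • u := by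
      rw [hTx]; simp [hu, C.form_add_right, zxx _ hx1m _ hx0m, h11]
    rw [e] at hm
    obtain h | h : p 0 = 0 ∨ p 0 = 1 := by generalize p 0 = i; fin_cases i <;> simp
    · rw [h] at hm
      have := zxx _ hm _ hx1m
      simp [hu, C.form_add_left, C.form_smul_left, zxx _ hx1m _ hx1m, zxx _ hx0m _ hx1m, g11, hδ0] at this
    · rw [h] at hm
      have := zyy _ hm _ hy0m
      simp [hu, C.form_add_left, C.form_smul_left, zyy _ hy1m _ hy0m, h00, h10, hδ0] at this
  rcases hH.2 L hHL inf_le_right with h | h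
  · exact hTH (h ▸ hTL)
  · exact su_not_le_subfield C (by norm_num) hF0top (B * Qg) (by rw [← h]; exact inf_le_left)

end CfsgLib.Perm.Asch.U4
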