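import Mathlib

/-!
# Matrices of PSL(2, 11) over the field with four elements

The field is encoded as `0, 1, 2 = ω, 3 = ω + 1`.
-/

set_option autoImplicit false
set_option linter.all false

namespace CfsgLib.Perm.Asch.U52

/-- addition -/
def qa (a b : Fin 4) : Fin 4 := (![![0, 1, 2, 3], ![1, 0, 3, 2], ![2, 3, 0, 1], ![3, 2, 1, 0]] : Fin 4 → Fin 4 → Fin 4) a b

/-- multiplication -/
def qm (a b : Fin 4) : Fin 4 := (![![0, 0, 0, 0], ![0, 1, 2, 3], ![0, 2, 3, 1], ![0, 3, 1, 2]] : Fin 4 → Fin 4 → Fin 4) a b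

/-- conjugation -/
def qb (a : Fin 4) : Fin 4 := qm a a

/-- matrices -/
abbrev QMat := Fin 5 → Fin 5 → Fin 4

/-- vectors -/
abbrev QVec := Fin 5 → Fin 4

/-- matrix times vector -/
def qmv (A : QMat) (v : QVec) : QVec := fun i =>
  qa (qa (qa (qa (qm (A i 0) (v 0)) (qm (A i 1) (v 1))) (qm (A i 2) (v 2))) (qm (A i 3) (v 3))) (qm (A i 4) (v 4))

/-- matrix product -/
def qmm (A B : QMat) : QMat := fun i j => qmv A (fun k => B k j) i

/-- conjugate transpose -/
def qct (A : QMat) : QMat := fun i j => qb (A j i)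

/-- identity -/
def qone : QMat := fun i j => if i = j then 1 else 0

/-- powers -/
def qpow (A : QMat) : ℕ → QMat
  | 0 => qone
  | k + 1 => qmm (qpow A k) A

/-- an element of order 11 -/
def qA : QMat := ![![0, 0, 1, 0, 0], ![0, 0, 0, 1, 0], ![2, 2, 0, 0, 1], ![1, 3, 0, 0, 1], ![1, 2, 0, 0, 2]]

/-- an element of order 5 normalising it -/
def qB : QMat := ![![2, 0, 1, 3, 0], ![0, 1, 1, 3, 0], ![1, 3, 3, 0, 0], ![3, 2, 0, 1, 0], ![0, 0, 0, 0, 1]]

/-- an involution -/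
def qC : QMat := ![![0, 0, 1, 0, 0], ![0, 0, 0, 3, 0], ![1, 0, 0, 0, 0], ![0, 2, 0, 0, 0], ![0, 0, 0, 0, 1]]

/-- an invariant set of 66 vectors, as codes -/
def codes : List ℕ := [848, 677, 890, 871, 918, 761, 751, 702, 987, 525, 256, 501, 42, 55, 198, 425, 447, 494, 139, 349, 592, 479, 450, 307, 92, 74, 27, 382, 168, 933, 29, 236, 387, 405, 452, 161, 375, 634, 241, 414, 392, 473, 188, 362, 615, 367, 377, 296, 77, 411, 662, 22, 71, 290, 244, 1017, 81, 308, 226, 1007, 357, 179, 958, 470, 731, 781]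

/-- decoding -/
def qS (i : Fin 66) : QVec := fun k => Fin.ofNat 4 (codes.getD i 0 / 4 ^ (k : ℕ))

/-- the action of `qA` -/
def permA (i : Fin 66) : Fin 66 := Fin.ofNat 66 ([11, 12, 13, 14, 15, 16, 17, 18, 19, 0, 20, 21, 22, 23, 24, 25, 26, 27, 28, 1, 29, 30, 31, 32, 33, 34, 35, 36, 2, 37, 38, 39, 40, 41, 42, 43, 3, 44, 45, 46, 47, 48, 49, 4, 50, 51, 52, 53, 54, 5, 55, 56, 57, 58, 6, 59, 60, 61, 7, 62, 63, 8, 64, 9, 65, 10].getD i 0)

/-- the action of `qB` -/
def permB (i : Fin 66) : Fin 66 := Fin.ofNat 66 ([2, 5, 8, 0, 3, 6, 9, 1, 4, 7, 10, 32, 35, 12, 30, 33, 36, 21, 31, 34, 37, 53, 15, 39, 51, 54, 24, 45, 52, 55, 18, 42, 57, 63, 27, 48, 60, 64, 13, 16, 19, 11, 14, 17, 20, 40, 43, 22, 38, 41, 44, 58, 25, 46, 56, 59, 28, 49, 61, 65, 23, 26, 29, 47, 50, 62].getD i 0)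

/-- the action of `qC` -/
def permC (i : Fin 66) : Fin 66 := Fin.ofNat 66 ([65, 50, 59, 62, 29, 64, 37, 44, 55, 20, 10, 49, 58, 61, 28, 63, 36, 43, 54, 19, 9, 46, 47, 23, 48, 31, 38, 45, 14, 4, 56, 25, 57, 33, 40, 51, 16, 6, 26, 60, 34, 41, 52, 17, 7, 27, 21, 22, 24, 11, 1, 35, 42, 53, 18, 8, 30, 32, 12, 2, 39, 13, 3, 15, 5, 0].getD i 0)

set_option maxRecDepth 100000

theorem qA_order : qpow qA 11 = qone := by decide +kernel

theorem qB_order : qpow qB 5 = qone := by decide +kernel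

theorem qC_order : qpow qC 2 = qone := by decide +kernel

theorem qA_unit : qmm (qct qA) qA = qone := by decide +kernel

theorem qB_unit : qmm (qct qB) qB = qone := by decide +kernel

theorem qC_unit : qmm (qct qC) qC = qone := by decide +kernel

theorem qBA : qmm qB qA = qmm (qpow qA 3) qB := by decide +kernel

theorem qA_ne : qA ≠ qone := by decide +kernel

theorem qB_ne : qB ≠ qone := by decide +kernel

theorem qC_ne : qC ≠ qone := by decide +kernel

theorem qA_perm : ∀ i, qmv qA (qS i) = qS (permA i) := by decide +kernel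

theorem qB_perm : ∀ i, qmv qB (qS i) = qS (permB i) := by decide +kernel

theorem qC_perm : ∀ i, qmv qC (qS i) = qS (permC i) := by decide +kernel

/-- a diagonal matrix moving the set -/
def qT : QMat := fun i j => if i = j then ![2, 3, 1, 1, 1] i else 0

theorem qT_unit : qmm (qct qT) qT = qone := by decide +kernel

theorem qT_moves : ∀ i, qmv qT (qS 1) ≠ qS i := by decide +kernel

end CfsgLib.Perm.Asch.U52
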