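import Cfsg.Agent.Lib.Perm.Asch.Forms.UFieldTwo
import Cfsg.Agent.Lib.Perm.Asch.Forms.U52Data

/-!
# The field-type subgroup of SU(5, 2) is not maximal
-/

set_option autoImplicit false
set_option linter.all false

namespace CfsgLib.Perm.Asch.U52

open scoped Classical Matrix
open Matrix Cfsg.Geo CfsgLib.SU

variable {F : Type*} [Field F] [Fintype F]

/-- the field elements -/
def emb (w : F) : Fin 4 → F := ![0, 1, w, w + 1]

/-- embedded matrices -/
def embM (w : F) (A : QMat) : Matrix (Fin 5) (Fin 5) F := Matrix.of fun i j => emb w (A i j)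

/-- embedded vectors -/
def embV (w : F) (v : QVec) : Fin 5 → F := fun i => emb w (v i)

section

variable {w : F} (hw : w * w = w + 1) (h2 : (2 : F) = 0)

include h2 in
theorem emb_add (a b : Fin 4) : emb w (qa a b) = emb w a + emb w b := by
  fin_cases a <;> fin_cases b <;> simp [emb, qa] <;> first
    | ring1
    | linear_combination (-1 : F) * h2
    | linear_combination (-w) * h2
    | linear_combination (-w - 1) * h2
    | linear_combination (1 : F) * h2
    | linear_combination w * h2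
    | linear_combination (w + 1) * h2

include hw h2 in
theorem emb_mul (a b : Fin 4) : emb w (qm a b) = emb w a * emb w b := by
  fin_cases a <;> fin_cases b <;> simp [emb, qm] <;> first
    | ring1
    | linear_combination -hw
    | linear_combination -hw - w * h2
    | linear_combination -hw - (w + 1) * h2

include hw h2 in
theorem embV_qmv (A : QMat) (v : QVec) : embM w A *ᵥ embV w v = embV w (qmv A v) := by
  funext i
  simp [Matrix.mulVec, dotProduct, Fin.sum_univ_five, embM, embV, qmv, emb_add h2, emb_mul hw h2]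

include hw h2 in
theorem embM_qmm (A B : QMat) : embM w (qmm A B) = embM w A * embM w B := by
  ext i j
  simp [Matrix.mul_apply, Fin.sum_univ_five, embM, qmm, qmv, emb_add h2, emb_mul hw h2]

omit [Fintype F] in
theorem embM_one : embM w qone = 1 := by
  ext i j
  by_cases h : i = j <;> simp [embM, qone, emb, h, Matrix.one_apply]

include hw h2 in
theorem embM_pow (A : QMat) (k : ℕ) : embM w (qpow A k) = embM w A ^ k := by
  induction k with
  | zero => rw [qpow, embM_one, pow_zero]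
  | succ k ih => rw [qpow, embM_qmm hw h2, ih, pow_succ]

include hw in
theorem emb_inj : Function.Injective (emb w) := by
  intro a b h
  have hw0 : w ≠ 0 := fun e => by simp [e] at hw
  have hw1 : w + 1 ≠ 0 := fun e => by rw [e, mul_self_eq_zero] at hw; exact hw0 hw
  have hw2 : w ≠ 1 := fun e => by
    rw [e, mul_one] at hw
    exact one_ne_zero (left_eq_add.1 hw)
  fin_cases a <;> fin_cases b <;> simp [emb, hw0, hw1, hw2, Ne.symm hw0, Ne.symm hw1, Ne.symm hw2] at h ⊢

include hw in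
theorem embM_inj : Function.Injective (embM (F := F) w) := fun A B h => by
  funext i j
  exact emb_inj hw (congrFun (congrFun h i) j)

include hw in
theorem embV_inj : Function.Injective (embV (F := F) w) := fun A B h => funext fun i => emb_inj hw (congrFun h i)

include hw h2 in
theorem emb_qb (σ : F →+* F) (hσ : ∀ x, σ x = x ^ 2) (a : Fin 4) : emb w (qb a) = σ (emb w a) := by
  rw [qb, emb_mul hw h2, hσ, sq]

include hw h2 in
theorem exists_elt (σ : F →+* F) (hσ : ∀ x, σ x = x ^ 2) (A : QMat) (hA : qmm (qct A) A = qone) :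
    ∃ g : GL (Fin 5) F, (g : Matrix (Fin 5) (Fin 5) F) = embM w A ∧ g ∈ iso σ (1 : Matrix (Fin 5) (Fin 5) F) := by
  have h1 : embM w (qct A) * embM w A = 1 := by rw [← embM_qmm hw h2, hA, embM_one]
  have hT : (embM w A)ᵀ = (embM w (qct A)).map σ := by
    ext i j
    simp only [embM, qct, Matrix.transpose_apply, Matrix.map_apply, Matrix.of_apply, emb_qb hw h2 σ hσ]
    have h4 : ∀ x : Fin 4, σ (σ (emb w x)) = emb w x := fun x => by
      rw [← emb_qb hw h2 σ hσ, ← emb_qb hw h2 σ hσ]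
      congr 1
      fin_cases x <;> rfl
    rw [h4]
  refine ⟨⟨embM w A, embM w (qct A), mul_eq_one_comm.1 h1, h1⟩, rfl, ?_⟩
  rw [mem_iso]
  show (embM w A)ᵀ * 1 * (embM w A).map σ = 1
  rw [mul_one, hT, ← Matrix.map_mul, h1, Matrix.map_one σ σ.map_zero σ.map_one]

end

theorem mem_su_of_pow {σ : F →+* F} (hu : UConj σ 2) {g : GL (Fin 5) F}
    (hg : g ∈ iso σ (1 : Matrix (Fin 5) (Fin 5) F)) {k : ℕ} (hk : g ^ k = 1) (h3 : Nat.Coprime k 3) :
    g ∈ suGL 5 F 2 := by
  refine ⟨by rwa [hu.GU_eq], ?_⟩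
  show Matrix.GeneralLinearGroup.det g = 1
  have h1 : orderOf (Matrix.GeneralLinearGroup.det g) ∣ k := orderOf_dvd_of_pow_eq_one (by rw [← map_pow, hk, map_one])
  have h2 : orderOf (Matrix.GeneralLinearGroup.det g) ∣ 3 := by
    refine (orderOf_dvd_natCard _).trans (dvd_of_eq ?_)
    rw [Nat.card_units, Nat.card_eq_fintype_card, hu.card]
    norm_num
  exact orderOf_eq_one_iff.1 (Nat.eq_one_of_dvd_coprimes h3 h1 h2)

/-- the configuration: a proper subgroup properly containing a Frobenius group of order 55 -/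
theorem exists_config {σ : F →+* F} (hu : UConj σ 2) :
    ∃ (a b c : suGL 5 F 2) (L : Subgroup (suGL 5 F 2)), orderOf a = 11 ∧ orderOf b = 5 ∧ orderOf c = 2 ∧
      b * a * b⁻¹ = a ^ 3 ∧ a ∈ L ∧ b ∈ L ∧ c ∈ L ∧ L ≠ ⊤ := by
  obtain ⟨w, hw, h2⟩ := exists_omega (F := F) hu.card
  have mk : ∀ (A : QMat) (k : ℕ), Nat.Coprime k 3 → qpow A k = qone → qmm (qct A) A = qone →
      ∃ g : suGL 5 F 2, ((g : GL (Fin 5) F) : Matrix (Fin 5) (Fin 5) F) = embM w A ∧ g ^ k = 1 := by
    intro A k hk hpow hA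
    obtain ⟨g, hg, hiso⟩ := exists_elt hw h2 σ hu.eq A hA
    have hgk : g ^ k = 1 := Units.ext (by rw [Units.val_pow_eq_pow_val, hg, ← embM_pow hw h2, hpow, embM_one, Units.val_one])
    exact ⟨⟨g, mem_su_of_pow hu hiso hgk hk⟩, hg, Subtype.ext hgk⟩
  obtain ⟨a, ha, ha'⟩ := mk qA 11 (by norm_num) qA_order qA_unit
  obtain ⟨b, hb, hb'⟩ := mk qB 5 (by norm_num) qB_order qB_unit
  obtain ⟨c, hc, hc'⟩ := mk qC 2 (by norm_num) qC_order qC_unit
  have ne1 : ∀ {g : suGL 5 F 2} {A : QMat}, ((g : GL (Fin 5) F) : Matrix (Fin 5) (Fin 5) F) = embM w A →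
      A ≠ qone → g ≠ 1 := fun hg hA h => hA (embM_inj hw (by rw [← hg, h, embM_one]; rfl))
  have hba : b * a = a ^ 3 * b := Subtype.ext (Units.ext (by
    rw [Subgroup.coe_mul, Subgroup.coe_mul, SubgroupClass.coe_pow, Units.val_mul, Units.val_mul,
      Units.val_pow_eq_pow_val, ha, hb, ← embM_pow hw h2, ← embM_qmm hw h2, ← embM_qmm hw h2, qBA]))
  let S : Set (Fin 5 → F) := Set.range fun i : Fin 66 => embV w (qS i)
  let L : Subgroup (suGL 5 F 2) :=
    { carrier := {g | ∀ x, x ∈ S ↔ ((g : GL (Fin 5) F) : Matrix (Fin 5) (Fin 5) F) *ᵥ x ∈ S}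
      mul_mem' := fun {g h} hg hh x => by
        rw [hh x, hg, mulVec_mulVec]
        rfl
      one_mem' := fun x => by simp
      inv_mem' := fun {g} hg x => by
        rw [hg (((g⁻¹ : suGL 5 F 2) : GL (Fin 5) F).1 *ᵥ x), mulVec_mulVec]
        show x ∈ S ↔ _
        rw [InvMemClass.coe_inv, gl_mul_inv, one_mulVec] }
  have memL : ∀ {g : suGL 5 F 2} {A : QMat}, ((g : GL (Fin 5) F) : Matrix (Fin 5) (Fin 5) F) = embM w A →
      ∀ π : Fin 66 → Fin 66, (∀ i, qmv A (qS i) = qS (π i)) → g ∈ L := by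
    intro g A hg π hπ x
    have hinj : Function.Injective fun y : Fin 5 → F => ((g : GL (Fin 5) F) : Matrix (Fin 5) (Fin 5) F) *ᵥ y :=
      Function.LeftInverse.injective (g := fun y => (((g : GL (Fin 5) F)⁻¹ : GL (Fin 5) F) : Matrix (Fin 5) (Fin 5) F) *ᵥ y)
        fun y => by simp only [mulVec_mulVec, gl_inv_mul, one_mulVec]
    have hsub : Set.MapsTo (fun y : Fin 5 → F => ((g : GL (Fin 5) F) : Matrix (Fin 5) (Fin 5) F) *ᵥ y) S S := by
      rintro _ ⟨i, rfl⟩
      exact ⟨π i, by simp only [hg, embV_qmv hw h2, hπ]⟩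
    refine ⟨fun hx => hsub hx, fun hx => ?_⟩
    have himg := Set.eq_of_subset_of_ncard_le hsub.image_subset (Set.ncard_image_of_injective S hinj).ge (Set.toFinite S)
    obtain ⟨y, hy, hyx⟩ := himg.symm ▸ hx
    rwa [← hinj hyx]
  haveI : Fact (Nat.Prime 11) := ⟨by norm_num⟩
  haveI : Fact (Nat.Prime 5) := ⟨by norm_num⟩
  haveI : Fact (Nat.Prime 2) := ⟨Nat.prime_two⟩
  refine ⟨a, b, c, L, orderOf_eq_prime ha' (ne1 ha qA_ne), orderOf_eq_prime hb' (ne1 hb qB_ne),
    orderOf_eq_prime hc' (ne1 hc qC_ne), by rw [hba, mul_inv_cancel_right], memL ha _ qA_perm, memL hb _ qB_perm,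
    memL hc _ qC_perm, fun htop => ?_⟩
  obtain ⟨t, ht, hiso⟩ := exists_elt hw h2 σ hu.eq qT qT_unit
  have hdet : (embM w qT).det = 1 := by
    rw [show embM w qT = Matrix.diagonal fun i => emb w (![2, 3, 1, 1, 1] i) from by
      ext i j
      by_cases h : i = j <;> simp [embM, qT, h, emb, Matrix.diagonal_apply]]
    rw [Matrix.det_diagonal]
    simp [Fin.prod_univ_five, emb]
    linear_combination hw + w * h2
  have htG : t ∈ suGL 5 F 2 := ⟨by rwa [hu.GU_eq], Units.ext (by
    rw [Matrix.GeneralLinearGroup.val_det_apply, ht, hdet, Units.val_one])⟩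
  have hmem : (⟨t, htG⟩ : suGL 5 F 2) ∈ L := htop ▸ Subgroup.mem_top _
  obtain ⟨i, hi⟩ := (hmem _).1 ⟨1, rfl⟩
  simp only [ht, embV_qmv hw h2] at hi
  exact qT_moves i (embV_inj hw hi).symm

/-- field-type subgroups are not maximal -/
theorem not_maximal (hF : Fintype.card F = 4) {H : Subgroup (GL (Fin 5) F)}
    (hH : IsMaximalIn (suGL 5 F 2) H) {K : Subalgebra F (Matrix (Fin 5) (Fin 5) F)} (hK : IsFieldSubalgebra 5 K)
    (ha : IsAdjointClosedFor (Cfsg.hermForm 5 F 2) K) (hHK : H = subalgebraNormalizer K ⊓ suGL 5 F 2) : False := by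
  have hF' : Fintype.card F = 2 ^ 2 := hF
  haveI : Fact (Nat.Prime 2) := ⟨Nat.prime_two⟩
  obtain ⟨σ, hu⟩ := exists_uconj hF'
  obtain ⟨hfix, hadj, hnorm⟩ := field_adj hF hu hK (by decide) ha
  obtain ⟨a, b, c, L, hoa, hob, hoc, hbab, haL, hbL, hcL, hLtop⟩ := exists_config hu
  let H' : Subgroup (suGL 5 F 2) := H.subgroupOf (suGL 5 F 2)
  have hco : IsCoatom H' := by
    refine ⟨fun h => hH.1.ne (le_antisymm hH.1.le (Subgroup.subgroupOf_eq_top.1 h)), fun M hM => ?_⟩
    by_contra hne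
    rcases hH.2 (M.map (suGL 5 F 2).subtype) (fun x hx => ⟨⟨x, hH.1.le hx⟩, hM.le hx, rfl⟩)
      (Subgroup.map_subtype_le M) with h | h
    · refine hM.not_ge fun x hx => ?_
      show (x : GL (Fin 5) F) ∈ H
      exact h ▸ ⟨x, hx, rfl⟩
    · refine hne (Subgroup.map_injective (suGL 5 F 2).subtype_injective ?_)
      rw [h, ← MonoidHom.range_eq_map, Subgroup.range_subtype]
  have hmemH : ∀ g : suGL 5 F 2, g ∈ H' ↔ (g : GL (Fin 5) F) ∈ subalgebraNormalizer K := fun g => by
    rw [Subgroup.mem_subgroupOf, hHK, Subgroup.mem_inf]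
    exact and_iff_left g.2
  -- a maximal subgroup inside `L` is `L`
  have key : ∀ g : suGL 5 F 2, H'.map (MulAut.conj g).toMonoidHom ≤ L →
      L ≤ H'.map (MulAut.conj g).toMonoidHom := fun g h => by
    rcases eq_or_lt_of_le h with h | h
    · exact h.ge
    · exact absurd ((((MulAut.conj g).mapSubgroup).isCoatom_iff H').2 hco |>.2 _ h) hLtop
  have hcard : ∀ g : suGL 5 F 2, Nat.card (H'.map (MulAut.conj g).toMonoidHom : Subgroup _) = Nat.card H' := fun g =>
    Subgroup.card_map_of_injective (MulAut.conj g).injective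
  -- the kernel
  let P : Subgroup (suGL 5 F 2) :=
    { carrier := {g | ∀ k ∈ K, cj (g : GL (Fin 5) F) k = k}
      mul_mem' := fun {g h} hg hh k hk => by
        show cj ((g : GL (Fin 5) F) * (h : GL (Fin 5) F)) k = k
        rw [← cj_cj, hh k hk, hg k hk]
      one_mem' := fun k hk => by
        show cj (1 : GL (Fin 5) F) k = k
        rw [cj_one_left]
      inv_mem' := fun {g} hg k hk => by
        show cj (g : GL (Fin 5) F)⁻¹ k = k
        conv_lhs => rw [← hg k hk]
        rw [cj_inv_cj] }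
  have hPK : ∀ g ∈ P, ((g : GL (Fin 5) F) : Matrix (Fin 5) (Fin 5) F) ∈ K := fun g hg =>
    mem_of_commute_field hK (by simp) fun k hk => by
      conv_rhs => rw [← hg k hk]
      rw [cj, mul_assoc, gl_inv_mul, mul_one]
  have hP11 : ∀ g ∈ P, g ^ 11 = 1 := by
    intro g hg
    set x := ((g : GL (Fin 5) F) : Matrix (Fin 5) (Fin 5) F) with hx
    have h1 := hu.refl_one.adj_mem_iff.1 (hu.GU_eq ▸ g.2.1)
    rw [hadj _ (hPK g hg)] at h1
    have h33 : x ^ 33 = 1 := by rw [show (33 : ℕ) = 2 ^ 5 + 1 by norm_num, pow_succ, h1, gl_inv_mul]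
    obtain ⟨d, hd⟩ := scalar_of_cube hF hK (K.pow_mem (hPK g hg) 11) (by rw [← pow_mul]; exact h33)
    have hdet : x.det = 1 := by
      have := congrArg Units.val g.2.2
      rwa [Matrix.GeneralLinearGroup.val_det_apply, Units.val_one] at this
    have h5 := congrArg Matrix.det hd
    rw [Matrix.det_pow, hdet, one_pow, Matrix.det_smul, Matrix.det_one, mul_one, Fintype.card_fin] at h5
    have hd3 : d ^ 3 = 1 := by
      have h6 : (x ^ 11) ^ 3 = 1 := by rw [← pow_mul]; exact h33
      rw [hd, smul_pow, one_pow] at h6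
      have h7 := congrFun (congrFun h6 0) 0
      simpa using h7
    have hd1 : d = 1 := by
      calc d = d ^ 5 * d ^ 5 := by
            rw [show d ^ 5 * d ^ 5 = (d ^ 3) ^ 3 * d by ring, hd3, one_pow, one_mul]
        _ = 1 := by rw [← h5, one_mul]
    refine Subtype.ext (Units.ext ?_)
    rw [SubgroupClass.coe_pow, Units.val_pow_eq_pow_val, OneMemClass.coe_one, Units.val_one, ← hx, hd, hd1, one_smul]
  have hPH : P ≤ H' := fun g hg => (hmemH g).2 fun k => by
    show k ∈ K ↔ cj (g : GL (Fin 5) F) k ∈ K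
    refine ⟨fun hk => by rwa [hg k hk], fun hk => ?_⟩
    have h1 : cj ((g : GL (Fin 5) F))⁻¹ (cj (g : GL (Fin 5) F) k) = cj (g : GL (Fin 5) F) k := (inv_mem hg : g⁻¹ ∈ P) _ hk
    rw [cj_inv_cj] at h1
    exact h1.symm ▸ hk
  -- the quotient
  have hn : ∀ g : H', ∃ i : Fin 5, ∀ k ∈ K, cj (((g : suGL 5 F 2)) : GL (Fin 5) F) k = k ^ 2 ^ (2 * (i : ℕ)) := by
    intro g
    obtain ⟨i, ⟨j, rfl⟩, hi⟩ := hnorm _ ((hmemH _).1 g.2)
    refine ⟨⟨j % 5, Nat.mod_lt _ (by norm_num)⟩, fun k hk => ?_⟩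
    rw [hi k hk, show j + j = 2 * (j % 5) + 2 * 5 * (j / 5) by omega, pow_add, pow_mul]
    exact (hfix _).2 (dvd_mul_right _ _) _ (K.pow_mem hk _)
  choose θ hθ using hn
  have hfib : ∀ g g' : H', θ g = θ g' → ((g' : suGL 5 F 2))⁻¹ * (g : suGL 5 F 2) ∈ P := by
    intro g g' h k hk
    rw [Subgroup.coe_mul, InvMemClass.coe_inv, ← cj_cj, hθ g k hk, h, ← hθ g' k hk, cj_inv_cj]
  have hle5 : Nat.card H' ≤ 5 * Nat.card P := by
    let s : Fin 5 → H' := fun i => if h : ∃ g, θ g = i then h.choose else 1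
    have hs : ∀ g, θ (s (θ g)) = θ g := fun g => by
      simp only [s, dif_pos (⟨g, rfl⟩ : ∃ g', θ g' = θ g)]
      exact (⟨g, rfl⟩ : ∃ g', θ g' = θ g).choose_spec
    let f : H' → Fin 5 × P := fun g => (θ g, ⟨_, hfib g (s (θ g)) (hs g).symm⟩)
    have hf : Function.Injective f := fun g g' h => by
      obtain ⟨h1, h2⟩ := Prod.mk.injEq .. ▸ h
      have h3 := congrArg Subtype.val h2
      simp only [h1, mul_right_inj] at h3
      exact Subtype.ext h3
    simpa using Nat.card_le_card_of_injective f hf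
  by_cases hP : P = ⊥
  · -- exponent five
    rw [hP, Subgroup.card_bot, mul_one] at hle5
    have h55 : ∀ g : H', g ^ 5 = 1 := by
      intro g
      have hit : ∀ m : ℕ, ∀ k ∈ K, cj (((g : suGL 5 F 2) ^ m : suGL 5 F 2) : GL (Fin 5) F) k =
          k ^ 2 ^ (2 * (θ g : ℕ) * m) := by
        intro m
        induction m with
        | zero => intro k hk; simp
        | succ m ih =>
          intro k hk
          rw [pow_succ, Subgroup.coe_mul, ← cj_cj, hθ g k hk, cj_pow, ih k hk, ← pow_mul, ← pow_add, Nat.mul_succ, Nat.add_comm]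
      have hg5 : (g : suGL 5 F 2) ^ 5 ∈ P := fun k hk => by
        rw [hit 5 k hk]
        exact (hfix _).2 ⟨(θ g : ℕ), by ring⟩ k hk
      rw [hP, Subgroup.mem_bot] at hg5
      exact Subtype.ext hg5
    haveI : Fact (Nat.Prime 5) := ⟨by norm_num⟩
    have hpg : IsPGroup 5 H' := fun g => ⟨1, by rw [pow_one]; exact h55 g⟩
    obtain ⟨Q, hQ⟩ := hpg.exists_le_sylow
    have hQne : (Q : Subgroup (suGL 5 F 2)) ≠ ⊤ := fun h => by
      obtain ⟨k, hk⟩ := IsPGroup.iff_card.1 Q.isPGroup'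
      have : 11 ∣ Nat.card (Q : Subgroup (suGL 5 F 2)) := hoa ▸ Subgroup.orderOf_dvd_natCard _ (h ▸ Subgroup.mem_top a)
      rw [hk] at this
      have := (Nat.prime_dvd_prime_iff_eq (by norm_num) (by norm_num : Nat.Prime 5)).1
        ((by norm_num : Nat.Prime 11).dvd_of_dvd_pow this)
      omega
    have hQeq : H' = Q := by
      rcases eq_or_lt_of_le hQ with h | h
      · exact h
      · exact absurd (hco.2 _ h) hQne
    have hb5 : IsPGroup 5 (Subgroup.zpowers b) := IsPGroup.of_card (n := 1) (by rw [Nat.card_zpowers, hob, pow_one])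
    obtain ⟨Q', hQ'⟩ := hb5.exists_le_sylow
    obtain ⟨g, hg⟩ := MulAction.exists_smul_eq (suGL 5 F 2) Q Q'
    have hmap : H'.map (MulAut.conj g).toMonoidHom = (Q' : Subgroup (suGL 5 F 2)) := by
      rw [hQeq, ← hg]; rfl
    have hb : H'.map (MulAut.conj g).toMonoidHom = Subgroup.zpowers b := by
      rw [hmap]
      symm
      refine Subgroup.eq_of_le_of_card_ge hQ' ?_
      rw [← hmap, hcard, Nat.card_zpowers, hob]
      exact hle5
    have h := key g (hb ▸ Subgroup.zpowers_le.2 hbL) haL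
    have hdvd := Subgroup.orderOf_dvd_natCard _ h
    rw [hb, Nat.card_zpowers, hob, hoa] at hdvd
    norm_num at hdvd
  -- an element of order eleven
  obtain ⟨x, hxP, hx1⟩ := P.bot_or_exists_ne_one.resolve_left hP
  haveI : Fact (Nat.Prime 11) := ⟨by norm_num⟩
  have hox : orderOf x = 11 := orderOf_eq_prime (hP11 x hxP) hx1
  set X := ((x : GL (Fin 5) F) : Matrix (Fin 5) (Fin 5) F) with hX
  have hXK : X ∈ K := hPK x hxP
  have hgen : ∀ y : Matrix (Fin 5) (Fin 5) F, y * X = X * y → y ∈ K := by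
    intro y hy
    refine mem_of_commute_field hK (by simp) ?_
    let K' : Subalgebra F (Matrix (Fin 5) (Fin 5) F) := K ⊓ Subalgebra.centralizer F {y}
    have hle : K' ≤ K := inf_le_left
    have hinv : ∀ z ∈ K', z ≠ 0 → ∃ u ∈ K', z * u = 1 := fun z hz hz0 => by
      obtain ⟨u, hu', hzu⟩ := hK.inv z (hle hz) hz0
      refine ⟨u, ⟨hu', ?_⟩, hzu⟩
      have hyz : y * z = z * y := (Subalgebra.mem_centralizer_iff F).1 hz.2 y rfl
      refine (Subalgebra.mem_centralizer_iff F).2 fun v hv => ?_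
      obtain rfl : v = y := hv
      have huz : u * z = 1 := by rw [hK.comm u hu' z (hle hz), hzu]
      calc v * u = u * z * (v * u) := by rw [huz, one_mul]
        _ = u * (v * z) * u := by rw [hyz]; simp only [mul_assoc]
        _ = u * v := by rw [mul_assoc, mul_assoc v, hzu, mul_one]
    have hK' : IsFieldSubalgebra (Module.finrank F K') K' :=
      ⟨fun u hu' v hv => hK.comm u (hle hu') v (hle hv), hinv, rfl⟩
    haveI : CharP F 2 := CharTwo.of_one_ne_zero_of_two_eq_zero one_ne_zero (exists_omega hF).choose_spec.2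
    have hd5 : Module.finrank F K' ≤ 5 := by
      have h := LinearMap.finrank_le_finrank_of_injective
        (f := (Subalgebra.inclusion hle).toLinearMap) (Subalgebra.inclusion_injective hle)
      rw [hK.finrank_eq] at h
      exact h
    have hd0 : 0 < Module.finrank F K' := Module.finrank_pos
    have hXK' : X ∈ K' := ⟨hXK, (Subalgebra.mem_centralizer_iff F).2 fun v hv => by
      obtain rfl : v = y := hv
      exact hy⟩
    have hXpow : X ^ 2 ^ (2 * Module.finrank F K') = X :=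
      ((fieldSubalgebra_frob hK' hF').1 _).2 dvd_rfl X hXK'
    have h11 : 11 ∣ 2 ^ (2 * Module.finrank F K') - 1 := by
      rw [← hox]
      refine orderOf_dvd_of_pow_eq_one ?_
      have hu' : x ^ 2 ^ (2 * Module.finrank F K') = x := Subtype.ext (Units.ext (by
        rw [SubgroupClass.coe_pow, Units.val_pow_eq_pow_val, ← hX, hXpow]))
      rw [← mul_left_inj x, one_mul, ← pow_succ, Nat.sub_add_cancel (Nat.one_le_two_pow), hu']
    have hd : Module.finrank F K' = 5 := by
      have : ∀ d, 0 < d → d ≤ 5 → 11 ∣ 2 ^ (2 * d) - 1 → d = 5 := by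
        intro d h1 h2
        interval_cases d <;> norm_num
      exact this _ hd0 hd5 h11
    have heq : K' = K := SetLike.ext' (Set.Subset.antisymm hle fun k hk => by
      have hsur := (LinearMap.injective_iff_surjective_of_finrank_eq_finrank
        (f := (Subalgebra.inclusion hle).toLinearMap) (hd.trans hK.finrank_eq.symm)).1 (Subalgebra.inclusion_injective hle)
      obtain ⟨k', hk'⟩ := hsur ⟨k, hk⟩
      rw [← show (k' : Matrix (Fin 5) (Fin 5) F) = k from congrArg Subtype.val hk']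
      exact k'.2)
    intro k hk
    exact (Subalgebra.mem_centralizer_iff F).1 (heq.symm ▸ hk : k ∈ K').2 y rfl
  -- `P` is cyclic
  have hXpows : ∀ g ∈ P, g ∈ Subgroup.zpowers x := by
    intro g hg
    letI : CommRing K := { (inferInstance : Ring K) with mul_comm := fun u v => Subtype.ext (hK.comm _ u.2 _ v.2) }
    haveI : IsDomain K := by
      haveI : Nontrivial K := ⟨⟨0, 1, fun h => zero_ne_one (congrArg Subtype.val h)⟩⟩
      haveI : NoZeroDivisors K := ⟨fun {u v} h => (field_mul_eq_zero hK u.2 (congrArg Subtype.val h)).imp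
        (fun e => Subtype.ext e) (fun e => Subtype.ext e)⟩
      exact NoZeroDivisors.to_isDomain K
    have hprim : IsPrimitiveRoot (⟨X, hXK⟩ : K) 11 := by
      have h := IsPrimitiveRoot.orderOf (⟨X, hXK⟩ : K)
      rwa [orderOf_eq_prime (p := 11) (Subtype.ext (by
        rw [SubmonoidClass.coe_pow, OneMemClass.coe_one]
        show X ^ 11 = 1
        rw [hX, ← Units.val_pow_eq_pow_val, ← SubgroupClass.coe_pow, hP11 x hxP]; rfl))
        (fun e => hx1 (Subtype.ext (Units.ext (congrArg Subtype.val e))))] at h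
    obtain ⟨i, -, hi⟩ := hprim.eq_pow_of_pow_eq_one (ξ := (⟨_, hPK g hg⟩ : K)) (Subtype.ext (by
      rw [SubmonoidClass.coe_pow, OneMemClass.coe_one]
      show ((g : GL (Fin 5) F) : Matrix (Fin 5) (Fin 5) F) ^ 11 = 1
      rw [← Units.val_pow_eq_pow_val, ← SubgroupClass.coe_pow, hP11 g hg]; rfl))
    have hi' := congrArg Subtype.val hi
    rw [SubmonoidClass.coe_pow] at hi'
    refine Subgroup.mem_zpowers_iff.2 ⟨i, Subtype.ext (Units.ext ?_)⟩
    rw [zpow_natCast, SubgroupClass.coe_pow, Units.val_pow_eq_pow_val, ← hX]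
    exact hi'
  have hPx : P = Subgroup.zpowers x := le_antisymm hXpows (Subgroup.zpowers_le.2 hxP)
  have hcardP : Nat.card P = 11 := by rw [hPx, Nat.card_zpowers, hox]
  rw [hcardP] at hle5
  -- `H'` is the normaliser of `⟨x⟩`
  have hN : H' = Subgroup.normalizer (Subgroup.zpowers x : Set (suGL 5 F 2)) := by
    refine le_antisymm ?_ ?_
    · rw [← hPx]
      intro g hg
      refine Subgroup.mem_normalizer_iff.2 fun h => ?_
      have fwd : ∀ g ∈ H', ∀ h ∈ P, g * h * g⁻¹ ∈ P := by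
        intro g hg h hh k hk
        have h1 : cj (((g⁻¹ : suGL 5 F 2)) : GL (Fin 5) F) k ∈ K := ((hmemH _).1 (inv_mem hg) k).1 hk
        rw [Subgroup.coe_mul, Subgroup.coe_mul, ← cj_cj, ← cj_cj, hh _ h1, InvMemClass.coe_inv, cj_cj_inv]
      refine ⟨fun hh => fwd g hg h hh, fun hh => ?_⟩
      have := fwd g⁻¹ (inv_mem hg) _ hh
      rwa [show g⁻¹ * (g * h * g⁻¹) * g⁻¹⁻¹ = h by group] at this
    · intro g hg
      have fwd : ∀ g ∈ Subgroup.normalizer (Subgroup.zpowers x : Set (suGL 5 F 2)), ∀ k ∈ K,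
          cj (g : GL (Fin 5) F) k ∈ K := by
        intro g hg k hk
        refine hgen _ ?_
        have h2 : g⁻¹ * x * g⁻¹⁻¹ ∈ P := hPx ▸ (Subgroup.mem_normalizer_iff.1 (inv_mem hg) x).1 (Subgroup.mem_zpowers x)
        have h3 := hPK _ h2
        rw [Subgroup.coe_mul, Subgroup.coe_mul, Units.val_mul, Units.val_mul, InvMemClass.coe_inv, InvMemClass.coe_inv,
          InvMemClass.coe_inv] at h3
        change cj ((g : GL (Fin 5) F))⁻¹ X ∈ K at h3
        conv_lhs => rw [← cj_cj_inv (g : GL (Fin 5) F) X, ← cj_mul, hK.comm _ hk _ h3, cj_mul, cj_cj_inv]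
      refine (hmemH g).2 fun k => ⟨fwd g hg k, fun hk => ?_⟩
      have := fwd g⁻¹ (inv_mem hg) _ hk
      rwa [InvMemClass.coe_inv, show ((g : GL (Fin 5) F) : Matrix (Fin 5) (Fin 5) F) * k *
        (((g : GL (Fin 5) F)⁻¹ : GL (Fin 5) F) : Matrix (Fin 5) (Fin 5) F) = cj (g : GL (Fin 5) F) k from rfl,
        cj_inv_cj] at this
  -- `⟨x⟩` is a Sylow subgroup
  have hx11 : IsPGroup 11 (Subgroup.zpowers x) := IsPGroup.of_card (n := 1) (by rw [Nat.card_zpowers, hox, pow_one])
  obtain ⟨Q, hQ⟩ := hx11.exists_le_sylow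
  have hQx : (Q : Subgroup (suGL 5 F 2)) = Subgroup.zpowers x := by
    by_contra hne
    obtain ⟨m, hm⟩ := IsPGroup.iff_card.1 Q.isPGroup'
    haveI : Group.IsNilpotent (Q : Subgroup (suGL 5 F 2)) := Q.isPGroup'.isNilpotent
    have hlt : (Subgroup.zpowers x).subgroupOf Q < ⊤ := lt_top_iff_ne_top.2 fun h =>
      hne (le_antisymm (Subgroup.subgroupOf_eq_top.1 h) hQ)
    have hgrow := normalizerCondition_of_isNilpotent _ hlt
    obtain ⟨y, hy, hynot⟩ := SetLike.exists_of_lt hgrow
    have hyN : (y : suGL 5 F 2) ∈ H' := by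
      rw [hN]
      refine Subgroup.mem_normalizer_iff.2 fun h => ⟨fun hh => ?_, fun hh => ?_⟩
      · exact (Subgroup.mem_normalizer_iff.1 hy ⟨h, hQ hh⟩).1 hh
      · have hhQ : h ∈ (Q : Subgroup (suGL 5 F 2)) := by
          have := mul_mem (mul_mem (inv_mem y.2) (hQ hh)) y.2
          rwa [show (y : suGL 5 F 2)⁻¹ * (↑y * h * (↑y)⁻¹) * ↑y = h by group] at this
        exact (Subgroup.mem_normalizer_iff.1 hy ⟨h, hhQ⟩).2 hh
    -- a `11`-subgroup of `H'` of order at least `121`
    let R : Subgroup (suGL 5 F 2) := Subgroup.zpowers x ⊔ Subgroup.zpowers (y : suGL 5 F 2)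
    have hRQ : R ≤ (Q : Subgroup (suGL 5 F 2)) := sup_le hQ (Subgroup.zpowers_le.2 y.2)
    have hRH : R ≤ H' := sup_le (hPx ▸ hPH) (Subgroup.zpowers_le.2 hyN)
    obtain ⟨r, hr⟩ := IsPGroup.iff_card.1 (Q.isPGroup'.to_le hRQ)
    have hlt' : Subgroup.zpowers x < R := lt_of_le_of_ne le_sup_left fun e =>
      hynot (e ▸ (le_sup_right : Subgroup.zpowers (y : suGL 5 F 2) ≤ R) (Subgroup.mem_zpowers _) :
        (y : suGL 5 F 2) ∈ Subgroup.zpowers x)
    have h1 : Nat.card (Subgroup.zpowers x) < Nat.card R := Set.Finite.card_lt_card (Set.toFinite _) hlt'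
    rw [Nat.card_zpowers, hox, hr] at h1
    have h2 : 2 ≤ r := by
      by_contra hc
      interval_cases r <;> norm_num at h1
    have h3 : 11 ^ 2 ≤ Nat.card R := hr ▸ Nat.pow_le_pow_right (by norm_num) h2
    have h4 := Nat.le_of_dvd Nat.card_pos (Subgroup.card_dvd_of_le hRH)
    omega
  have ha11 : IsPGroup 11 (Subgroup.zpowers a) := IsPGroup.of_card (n := 1) (by rw [Nat.card_zpowers, hoa, pow_one])
  obtain ⟨Qa, hQa⟩ := ha11.exists_le_sylow
  obtain ⟨g, hg⟩ := MulAction.exists_smul_eq (suGL 5 F 2) Q Qa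
  have hmapx : (Subgroup.zpowers x).map (MulAut.conj g).toMonoidHom = Subgroup.zpowers a := by
    have e : (Subgroup.zpowers x).map (MulAut.conj g).toMonoidHom = (Qa : Subgroup (suGL 5 F 2)) := by
      rw [← hQx, ← hg]; rfl
    rw [e]
    symm
    refine Subgroup.eq_of_le_of_card_ge hQa ?_
    rw [← e, Subgroup.card_map_of_injective (MulAut.conj g).injective, Nat.card_zpowers, Nat.card_zpowers, hox, hoa]
  set H0 := H'.map (MulAut.conj g).toMonoidHom with hH0
  have hH0N : H0 = Subgroup.normalizer (Subgroup.zpowers a : Set (suGL 5 F 2)) := by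
    rw [hH0, hN, ← hmapx]
    exact Subgroup.map_equiv_normalizer_eq _ (MulAut.conj g)
  have haH0 : a ∈ H0 := hH0N ▸ Subgroup.le_normalizer (Subgroup.mem_zpowers a)
  have hbH0 : b ∈ H0 := by
    rw [hH0N]
    refine Subgroup.mem_normalizer_iff_map_conj_eq.2 ?_
    rw [MonoidHom.map_zpowers]
    refine Subgroup.eq_of_le_of_card_ge (Subgroup.zpowers_le.2 ?_) ?_
    · show b * a * b⁻¹ ∈ Subgroup.zpowers a
      rw [hbab]
      exact pow_mem (Subgroup.mem_zpowers a) 3
    · rw [Nat.card_zpowers, Nat.card_zpowers]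
      exact (orderOf_injective _ (MulAut.conj b).injective a).ge
  have hM : H0 = Subgroup.closure {a, b} := by
    symm
    refine Subgroup.eq_of_le_of_card_ge ((Subgroup.closure_le _).2 (Set.insert_subset haH0 (by simpa using hbH0))) ?_
    have h1 := Subgroup.orderOf_dvd_natCard (Subgroup.closure ({a, b} : Set (suGL 5 F 2))) (x := a)
      (Subgroup.subset_closure (Set.mem_insert _ _))
    have h2 := Subgroup.orderOf_dvd_natCard (Subgroup.closure ({a, b} : Set (suGL 5 F 2))) (x := b)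
      (Subgroup.subset_closure (Set.mem_insert_of_mem _ rfl))
    rw [hoa] at h1
    rw [hob] at h2
    have h3 := Nat.le_of_dvd Nat.card_pos (Nat.Coprime.mul_dvd_of_dvd_of_dvd (by norm_num) h1 h2)
    rw [hH0, hcard]
    omega
  have hcH0 : c ∈ H0 := key g (by
    rw [← hH0, hM]
    exact (Subgroup.closure_le _).2 (Set.insert_subset haL (by simpa using hbL))) hcL
  have h2d := Subgroup.orderOf_dvd_natCard _ hcH0
  have h11d := Subgroup.orderOf_dvd_natCard _ haH0
  have h5d := Subgroup.orderOf_dvd_natCard _ hbH0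
  rw [hoc] at h2d
  rw [hoa] at h11d
  rw [hob] at h5d
  have h110 := Nat.le_of_dvd Nat.card_pos (Nat.Coprime.mul_dvd_of_dvd_of_dvd (by norm_num) h2d
    (Nat.Coprime.mul_dvd_of_dvd_of_dvd (by norm_num) h11d h5d))
  rw [hH0, hcard] at h110
  omega


end CfsgLib.Perm.Asch.U52
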