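import Cfsg.Agent.Lib.Perm.Asch.Forms.UFieldTwo

/-!
# The field-type subgroup of SU(6, 2) is not maximal

`GU(2, 8).3` preserves a symplectic form over the field with two elements.
-/

set_option autoImplicit false
set_option linter.all false

namespace CfsgLib.Perm.Asch.U62

open scoped Classical Matrix
open Matrix Cfsg.Geo CfsgLib.SU

variable {F : Type*} [Field F] [Fintype F]

/-- matrices of size six -/
local notation "M6" => Matrix (Fin 6) (Fin 6) F

/-- a cubic field subalgebra with the adjoint -/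
structure FData (F : Type*) [Field F] [Fintype F] where
  h4 : Fintype.card F = 4
  h2 : (2 : F) = 0
  C : UCtx F 2
  K : Subalgebra F (Matrix (Fin 6) (Fin 6) F)
  hK : IsFieldSubalgebra 3 K
  A : Matrix (Fin 6) (Fin 6) F → Matrix (Fin 6) (Fin 6) F
  A_add : ∀ x y, A (x + y) = A x + A y
  A_smul : ∀ (c : F) x, A (c • x) = C.bar c • A x
  A_pow : ∀ k ∈ K, A k = k ^ 8
  A_invol : ∀ k ∈ K, A (A k) = k
  spec : ∀ k u v, C.form (k *ᵥ u) v = C.form u (A k *ᵥ v)

namespace FData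

variable (S : FData F)

theorem A_mem {k : M6} (hk : k ∈ S.K) : S.A k ∈ S.K := S.A_pow k hk ▸ S.K.pow_mem hk 8

theorem A_mul {j k : M6} (hj : j ∈ S.K) (hk : k ∈ S.K) : S.A (j * k) = S.A j * S.A k := by
  rw [S.A_pow _ (S.K.mul_mem hj hk), S.A_pow _ hj, S.A_pow _ hk, Commute.mul_pow (S.hK.comm j hj k hk)]

theorem A_one : S.A 1 = 1 := by rw [S.A_pow _ S.K.one_mem, one_pow]

theorem A_zero : S.A 0 = 0 := by rw [S.A_pow _ S.K.zero_mem, zero_pow (by norm_num)]

theorem A_sum {α : Type*} (s : Finset α) (f : α → M6) : S.A (∑ i ∈ s, f i) = ∑ i ∈ s, S.A (f i) :=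
  map_sum (⟨⟨S.A, S.A_zero⟩, S.A_add⟩ : M6 →+ M6) f s

include S in
theorem neg_eq (x : M6) : -x = x := by
  ext i j
  simp only [Matrix.neg_apply]
  linear_combination (-x i j) * S.h2

include S in
theorem add_self (x : M6) : x + x = 0 := by
  nth_rewrite 2 [← S.neg_eq x]
  exact add_neg_cancel x

theorem exists_basis : ∃ b : Fin 3 → M6, (∀ i, b i ∈ S.K) ∧ (∀ i, S.A (b i) = b i) ∧
    (∀ c : Fin 3 → F, ∑ i, c i • b i = 0 → c = 0) ∧ ∀ k ∈ S.K, ∃ c : Fin 3 → F, k = ∑ i, c i • b i := by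
  obtain ⟨w, hw, h2⟩ := exists_omega S.h4
  have hbar : S.C.bar w = w + 1 := by rw [S.C.bar_eq, sq, hw]
  let T : Set S.K := {k | S.A k = k}
  have hT : Submodule.span F T = ⊤ := by
    refine eq_top_iff.2 fun k _ => ?_
    have hk := k.2
    let v : S.K := ⟨k + S.A k, S.K.add_mem hk (S.A_mem hk)⟩
    have hv : v ∈ T := by
      show S.A (k + S.A k) = k + S.A k
      rw [S.A_add, S.A_invol _ hk, add_comm]
    let u : S.K := ⟨(k : M6) + w • (v : M6), S.K.add_mem hk (S.K.smul_mem v.2 w)⟩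
    have hu : u ∈ T := by
      show S.A ((k : M6) + w • ((k : M6) + S.A k)) = (k : M6) + w • ((k : M6) + S.A k)
      rw [S.A_add, S.A_smul, hbar, S.A_add, S.A_invol _ hk]
      have h := S.add_self (S.A k)
      calc S.A k + (w + 1) • (S.A k + (k : M6)) = (S.A k + S.A k) + ((k : M6) + w • ((k : M6) + S.A k)) := by module
        _ = _ := by rw [h, zero_add]
    have e : k = u + w • v := Subtype.ext (by
      show (k : M6) = (k : M6) + w • (v : M6) + w • (v : M6)
      rw [add_assoc, S.add_self, add_zero])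
    rw [e]
    exact add_mem (Submodule.subset_span hu) (Submodule.smul_mem _ _ (Submodule.subset_span hv))
  obtain ⟨b, hbT, hbsp, hbli⟩ := exists_linearIndependent F T
  rw [hT] at hbsp
  let B := Module.Basis.mk hbli (by simp only [Subtype.range_coe_subtype, Set.setOf_mem_eq]; exact hbsp.ge)
  haveI : Fintype b := Fintype.ofFinite _
  have hcard : Fintype.card b = 3 := by rw [← Module.finrank_eq_card_basis B]; exact S.hK.finrank_eq
  let e : Fin 3 ≃ b := (Fintype.equivFinOfCardEq hcard).symm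
  refine ⟨fun i => ((e i : S.K) : M6), fun i => (e i : S.K).2, fun i => hbT (e i).2, fun c hc => ?_, fun k hk => ?_⟩
  · have hli := hbli.comp e e.injective
    refine funext (Fintype.linearIndependent_iff.1 hli c (Subtype.ext ?_))
    simpa [Fin.sum_univ_three] using hc
  · refine ⟨fun i => (B.reindex e.symm).repr ⟨k, hk⟩ i, ?_⟩
    have h := congrArg (fun x : S.K => (x : M6)) ((B.reindex e.symm).sum_repr ⟨k, hk⟩)
    simpa [Fin.sum_univ_three, B, Module.Basis.mk_apply] using h.symm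

/-- a chosen basis fixed by the adjoint -/
noncomputable def bas : Fin 3 → M6 := S.exists_basis.choose

theorem bas_mem (i : Fin 3) : S.bas i ∈ S.K := S.exists_basis.choose_spec.1 i

theorem bas_fix (i : Fin 3) : S.A (S.bas i) = S.bas i := S.exists_basis.choose_spec.2.1 i

theorem bas_indep {c : Fin 3 → F} (h : ∑ i, c i • S.bas i = 0) : c = 0 := S.exists_basis.choose_spec.2.2.1 c h

theorem bas_span {k : M6} (hk : k ∈ S.K) : ∃ c : Fin 3 → F, k = ∑ i, c i • S.bas i :=
  S.exists_basis.choose_spec.2.2.2 k hk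

theorem comb_mem (c : Fin 3 → F) : ∑ i, c i • S.bas i ∈ S.K :=
  S.K.sum_mem fun i _ => S.K.smul_mem (S.bas_mem i) _

theorem comb_fix_iff (c : Fin 3 → F) : S.A (∑ i, c i • S.bas i) = ∑ i, c i • S.bas i ↔ ∀ i, S.C.bar (c i) = c i := by
  constructor
  · intro h i
    rw [S.A_sum] at h
    have h1 : ∑ j, (S.C.bar (c j) - c j) • S.bas j = 0 := by
      simp only [sub_smul, Finset.sum_sub_distrib]
      rw [sub_eq_zero]
      simpa [S.A_smul, S.bas_fix] using h
    exact sub_eq_zero.1 (congrFun (S.bas_indep h1) i)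
  · intro h
    rw [S.A_sum]
    exact Finset.sum_congr rfl fun i _ => by rw [S.A_smul, S.bas_fix, h]

theorem form_sum_left (c : Fin 3 → F) (x y : Fin 6 → F) :
    S.C.form ((∑ i, c i • S.bas i) *ᵥ x) y = ∑ i, c i * S.C.form (S.bas i *ᵥ x) y := by
  simp only [Fin.sum_univ_three, Matrix.add_mulVec, Matrix.smul_mulVec, S.C.form_add_left, S.C.form_smul_left]

theorem eq_zero_of_mulVec {k : M6} (hk : k ∈ S.K) {x : Fin 6 → F} (hx : x ≠ 0) (h : k *ᵥ x = 0) : k = 0 := by
  by_contra h0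
  obtain ⟨z, hz, hkz⟩ := S.hK.inv k hk h0
  refine hx ?_
  rw [← one_mulVec x, ← hkz, S.hK.comm k hk z hz, ← mulVec_mulVec, h, mulVec_zero]

/-- the functional `k ↦ h (k x, y)` on the fixed field determines multipliers -/
theorem solve {x y : Fin 6 → F} (hsym : ∀ k ∈ S.K, S.C.bar (S.C.form (k *ᵥ x) y) = S.C.form (S.A k *ᵥ x) y)
    (hne : ∃ k ∈ S.K, S.C.form (k *ᵥ x) y ≠ 0) :
    (∀ c ∈ S.K, (∀ i, S.C.form ((S.bas i * c) *ᵥ x) y = 0) → c = 0) ∧
      ∀ f : Fin 3 → F, (∀ i, S.C.bar (f i) = f i) →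
        ∃ c ∈ S.K, S.A c = c ∧ ∀ i, S.C.form ((S.bas i * c) *ᵥ x) y = f i := by
  have hinj : ∀ c ∈ S.K, (∀ i, S.C.form ((S.bas i * c) *ᵥ x) y = 0) → c = 0 := by
    intro c hc h
    by_contra h0
    obtain ⟨z, hz, hcz⟩ := S.hK.inv c hc h0
    obtain ⟨k, hk, hkne⟩ := hne
    obtain ⟨a, ha⟩ := S.bas_span (S.K.mul_mem hk hz)
    refine hkne ?_
    rw [show k = (∑ i, a i • S.bas i) * c by rw [← ha, mul_assoc, S.hK.comm z hz c hc, hcz, mul_one], ← mulVec_mulVec,
      form_sum_left]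
    refine Finset.sum_eq_zero fun i _ => ?_
    rw [mulVec_mulVec, h i, mul_zero]
  refine ⟨hinj, fun f hf => ?_⟩
  let L : S.K →ₗ[F] (Fin 3 → F) :=
    { toFun := fun c i => S.C.form ((S.bas i * (c : M6)) *ᵥ x) y
      map_add' := fun c d => funext fun i => by
        simp only [Subalgebra.coe_add, mul_add, Matrix.add_mulVec, S.C.form_add_left, Pi.add_apply]
      map_smul' := fun a c => funext fun i => by
        simp [mul_smul_comm, Matrix.smul_mulVec, S.C.form_smul_left] }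
  have hLinj : Function.Injective L := (injective_iff_map_eq_zero L).2 fun c hc =>
    Subtype.ext (hinj c c.2 fun i => congrFun hc i)
  obtain ⟨c, hc⟩ := (LinearMap.injective_iff_surjective_of_finrank_eq_finrank (by
    rw [S.hK.finrank_eq, Module.finrank_fin_fun])).1 hLinj f
  refine ⟨c, c.2, ?_, fun i => congrFun hc i⟩
  have h1 : L ⟨S.A c, S.A_mem c.2⟩ = L c := funext fun i => by
    show S.C.form ((S.bas i * S.A c) *ᵥ x) y = L c i
    nth_rewrite 1 [← S.bas_fix i]
    rw [← S.A_mul (S.bas_mem i) c.2, ← hsym _ (S.K.mul_mem (S.bas_mem i) c.2)]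
    rw [show S.C.form ((S.bas i * (c : M6)) *ᵥ x) y = f i from congrFun hc i, hf, congrFun hc i]
  exact congrArg Subtype.val (hLinj h1)

theorem bar_self (k : M6) (x : Fin 6 → F) :
    S.C.bar (S.C.form (k *ᵥ x) x) = S.C.form (S.A k *ᵥ x) x := by
  rw [S.spec, S.C.bar_form]

theorem exists_orth (u : Fin 3 → Fin 6 → F) : ∃ z : Fin 6 → F, z ≠ 0 ∧ ∀ i, S.C.form z (u i) = 0 := by
  let L : (Fin 6 → F) →ₗ[F] (Fin 3 → F) :=
    { toFun := fun z i => S.C.form z (u i)
      map_add' := fun z z' => funext fun i => S.C.form_add_left ..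
      map_smul' := fun c z => funext fun i => S.C.form_smul_left .. }
  by_contra hcon
  push Not at hcon
  have hinj : Function.Injective L := (injective_iff_map_eq_zero L).2 fun z hz => by
    by_contra h0
    obtain ⟨i, hi⟩ := hcon z h0
    exact hi (congrFun hz i)
  have := LinearMap.finrank_le_finrank_of_injective hinj
  rw [Module.finrank_fin_fun, Module.finrank_fin_fun] at this
  omega

theorem exists_isotropic : ∃ e : Fin 6 → F, e ≠ 0 ∧ ∀ k ∈ S.K, S.C.form (k *ᵥ e) e = 0 := by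
  by_contra hcon
  push Not at hcon
  obtain ⟨x, hx⟩ : ∃ x : Fin 6 → F, x ≠ 0 := ⟨Pi.single 0 1, by simp⟩
  obtain ⟨y, hy, hyx⟩ := S.exists_orth fun i => S.bas i *ᵥ x
  obtain ⟨-, hsurj⟩ := S.solve (x := y) (y := y) (fun k _ => S.bar_self k y) (hcon y hy)
  obtain ⟨c, hc, hcf, hcv⟩ := hsurj (fun i => S.C.form (S.bas i *ᵥ x) x) fun i => by rw [S.bar_self, S.bas_fix]
  have hxy : ∀ k ∈ S.K, S.C.form (k *ᵥ x) y = 0 := by
    intro k hk
    obtain ⟨a, rfl⟩ := S.bas_span hk
    rw [S.form_sum_left]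
    exact Finset.sum_eq_zero fun i _ => by rw [← S.C.bar_form, hyx i, map_zero, mul_zero]
  have hyx' : ∀ k ∈ S.K, S.C.form (k *ᵥ y) x = 0 := fun k hk => by
    rw [← S.C.bar_form, show S.C.form x (k *ᵥ y) = S.C.form (S.A k *ᵥ x) y by rw [S.spec, S.A_invol _ hk],
      hxy _ (S.A_mem hk), map_zero]
  -- a square root of `c`
  set d := c ^ 4 with hd
  have hdK : d ∈ S.K := S.K.pow_mem hc 4
  have hdd : S.A d * d = c := by
    have h8 : c ^ 8 = c := by rw [← S.A_pow c hc, hcf]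
    rw [S.A_pow _ hdK, hd, ← pow_mul, mul_comm 4 8, pow_mul, h8, ← pow_add]
    exact h8
  obtain ⟨k, hk, hkne⟩ := hcon (x + d *ᵥ y) fun h0 => by
    obtain ⟨j, hj, hjne⟩ := hcon x hx
    refine hjne ?_
    have e : x = (-d) *ᵥ y := by rw [Matrix.neg_mulVec]; exact eq_neg_of_add_eq_zero_left h0
    rw [show S.C.form (j *ᵥ x) x = S.C.form (j *ᵥ x) ((-d) *ᵥ y) by rw [← e]]
    have h1 := hxy (S.A (-d) * j) (S.K.mul_mem (S.A_mem (S.K.neg_mem hdK)) hj)
    rwa [← mulVec_mulVec, S.spec, S.A_invol _ (S.K.neg_mem hdK)] at h1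
  refine hkne ?_
  obtain ⟨a, rfl⟩ := S.bas_span hk
  rw [S.form_sum_left]
  refine Finset.sum_eq_zero fun i _ => mul_eq_zero_of_right _ ?_
  rw [mulVec_add, S.C.form_add_left, S.C.form_add_right, S.C.form_add_right, mulVec_mulVec]
  have e1 : S.C.form (S.bas i *ᵥ x) (d *ᵥ y) = 0 := by
    have h1 := hxy (S.A d * S.bas i) (S.K.mul_mem (S.A_mem hdK) (S.bas_mem i))
    rwa [← mulVec_mulVec, S.spec, S.A_invol _ hdK] at h1
  have e2 : S.C.form ((S.bas i * d) *ᵥ y) (d *ᵥ y) = S.C.form (S.bas i *ᵥ x) x := by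
    rw [← hcv i, ← hdd, ← mul_assoc, S.hK.comm _ (S.bas_mem i) _ (S.A_mem hdK), mul_assoc, ← mulVec_mulVec,
      ← mulVec_mulVec, S.spec (S.A d), S.A_invol _ hdK, mulVec_mulVec]
  rw [e1, hyx' _ (S.K.mul_mem (S.bas_mem i) hdK), e2]
  linear_combination (S.C.form (S.bas i *ᵥ x) x) * S.h2

/-- a hyperbolic pair over the cubic field -/
structure FPair (S : FData F) where
  e : Fin 6 → F
  f : Fin 6 → F
  e0 : e ≠ 0
  ee : ∀ k ∈ S.K, S.C.form (k *ᵥ e) e = 0
  ff : ∀ k ∈ S.K, S.C.form (k *ᵥ f) f = 0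
  sym : ∀ k ∈ S.K, S.C.bar (S.C.form (k *ᵥ e) f) = S.C.form (S.A k *ᵥ e) f
  ne : ∃ k ∈ S.K, S.C.form (k *ᵥ e) f ≠ 0

theorem exists_pair : Nonempty (FPair S) := by
  obtain ⟨w, hw, h2⟩ := exists_omega S.h4
  have hbar : S.C.bar w = w + 1 := by rw [S.C.bar_eq, sq, hw]
  obtain ⟨e, he0, hee⟩ := S.exists_isotropic
  let L : (Fin 6 → F) →ₗ[F] (Fin 3 → F) :=
    { toFun := fun z i => S.C.form z (S.bas i *ᵥ e)
      map_add' := fun z z' => funext fun i => S.C.form_add_left ..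
      map_smul' := fun c z => funext fun i => S.C.form_smul_left .. }
  have hsurj : LinearMap.range L = ⊤ := by
    by_contra hne
    obtain ⟨φ, hφ0, hφ⟩ := Submodule.exists_le_ker_of_lt_top _ (lt_top_iff_ne_top.2 hne)
    have hall : ∀ u, S.C.form u ((∑ i, S.C.bar (φ (Pi.single i 1)) • S.bas i) *ᵥ e) = 0 := by
      intro u
      have h1 : φ (L u) = 0 := hφ ⟨u, rfl⟩
      rw [← S.C.bar_form, S.form_sum_left, map_sum, ← h1]
      conv_rhs => rw [pi_eq_sum_univ' (L u), map_sum]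
      refine Finset.sum_congr rfl fun i _ => ?_
      rw [map_mul, S.C.bar_bar, S.C.bar_form, map_smul, smul_eq_mul, mul_comm]
      rfl
    have h0 : (∑ i, S.C.bar (φ (Pi.single i 1)) • S.bas i) = 0 :=
      S.eq_zero_of_mulVec (S.comb_mem _) he0 (S.C.eq_zero_of_form' hall)
    refine hφ0 (LinearMap.ext fun z => ?_)
    rw [pi_eq_sum_univ' z, map_sum, LinearMap.zero_apply]
    refine Finset.sum_eq_zero fun i _ => ?_
    have hi := congrFun (S.bas_indep h0) i
    rw [Pi.zero_apply, map_eq_zero] at hi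
    rw [map_smul, hi, smul_zero]
  obtain ⟨f0, hf0⟩ := LinearMap.range_eq_top.1 hsurj (fun _ => 1)
  have hf1 : ∀ i, S.C.form (S.bas i *ᵥ e) f0 = 1 := fun i => by
    rw [← S.C.bar_form, show S.C.form f0 (S.bas i *ᵥ e) = 1 from congrFun hf0 i, map_one]
  have hsym : ∀ k ∈ S.K, S.C.bar (S.C.form (k *ᵥ e) f0) = S.C.form (S.A k *ᵥ e) f0 := by
    intro k hk
    obtain ⟨c, rfl⟩ := S.bas_span hk
    rw [S.form_sum_left, S.A_sum, map_sum]
    simp only [S.A_smul, S.bas_fix, hf1, mul_one]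
    rw [S.form_sum_left]
    simp only [hf1, mul_one]
  have hne : ∃ k ∈ S.K, S.C.form (k *ᵥ e) f0 ≠ 0 := ⟨_, S.bas_mem 0, by rw [hf1]; exact one_ne_zero⟩
  obtain ⟨γ, hγ, hγf, hγv⟩ := (S.solve hsym hne).2 (fun i => S.C.form (S.bas i *ᵥ f0) f0)
    fun i => by rw [S.bar_self, S.bas_fix]
  set c := w • γ with hc
  have hcK : c ∈ S.K := S.K.smul_mem hγ w
  have hAc : S.A c = (w + 1) • γ := by rw [hc, S.A_smul, hbar, hγf]
  refine ⟨⟨e, f0 + c *ᵥ e, he0, hee, ?_, ?_, ?_⟩⟩
  · intro k hk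
    obtain ⟨a, rfl⟩ := S.bas_span hk
    rw [S.form_sum_left]
    refine Finset.sum_eq_zero fun i _ => mul_eq_zero_of_right _ ?_
    rw [mulVec_add, S.C.form_add_left, S.C.form_add_right, S.C.form_add_right, mulVec_mulVec]
    have e0 : S.C.form ((S.bas i * c) *ᵥ e) (c *ᵥ e) = 0 := by
      have h1 := hee (S.A c * (S.bas i * c)) (S.K.mul_mem (S.A_mem hcK) (S.K.mul_mem (S.bas_mem i) hcK))
      rwa [← mulVec_mulVec, S.spec, S.A_invol _ hcK] at h1
    have e1 : S.C.form ((S.bas i * c) *ᵥ e) f0 = w * S.C.form (S.bas i *ᵥ f0) f0 := by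
      rw [hc, mul_smul_comm, Matrix.smul_mulVec, S.C.form_smul_left, hγv i]
    have e2 : S.C.form (S.bas i *ᵥ f0) (c *ᵥ e) = (w + 1) * S.C.form (S.bas i *ᵥ f0) f0 := by
      rw [S.spec, S.bas_fix, mulVec_mulVec, ← S.C.bar_form, e1, map_mul, hbar, S.bar_self, S.bas_fix]
    rw [e0, e1, e2]
    linear_combination (w + 1) * S.C.form (S.bas i *ᵥ f0) f0 * S.h2
  · intro k hk
    have h : ∀ j ∈ S.K, S.C.form (j *ᵥ e) (c *ᵥ e) = 0 := fun j hj => by
      have h1 := hee (S.A c * j) (S.K.mul_mem (S.A_mem hcK) hj)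
      rwa [← mulVec_mulVec, S.spec, S.A_invol _ hcK] at h1
    rw [S.C.form_add_right, S.C.form_add_right, h k hk, h _ (S.A_mem hk), add_zero, add_zero, hsym k hk]
  · refine ⟨_, S.bas_mem 0, ?_⟩
    have h1 := hee (S.A c * S.bas 0) (S.K.mul_mem (S.A_mem hcK) (S.bas_mem 0))
    rw [← mulVec_mulVec, S.spec, S.A_invol _ hcK] at h1
    rw [S.C.form_add_right, h1, add_zero, hf1]
    exact one_ne_zero

namespace FPair

variable {S : FData F} (T : FPair S)

theorem form_pull {j l : M6} (hl : l ∈ S.K) (u v : Fin 6 → F) :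
    S.C.form (j *ᵥ u) (l *ᵥ v) = S.C.form ((S.A l * j) *ᵥ u) v := by
  rw [← mulVec_mulVec, S.spec (S.A l), S.A_invol _ hl]

theorem fe {k : M6} (hk : k ∈ S.K) : S.C.form (k *ᵥ T.f) T.e = S.C.form (k *ᵥ T.e) T.f := by
  rw [S.spec, ← S.C.bar_form, T.sym _ (S.A_mem hk), S.A_invol _ hk]

theorem f0 : T.f ≠ 0 := fun h => by
  obtain ⟨k, -, hne⟩ := T.ne
  exact hne (by rw [h, S.C.form_zero_right])

theorem inj {c : M6} (hc : c ∈ S.K) (h : ∀ i, S.C.form ((S.bas i * c) *ᵥ T.e) T.f = 0) : c = 0 :=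
  (S.solve T.sym T.ne).1 c hc h

theorem indep {a b : M6} (ha : a ∈ S.K) (hb : b ∈ S.K) (h : a *ᵥ T.e + b *ᵥ T.f = 0) : a = 0 ∧ b = 0 := by
  have hb0 : b = 0 := T.inj hb fun i => by
    have h1 := congrArg (fun z => S.C.form (S.bas i *ᵥ z) T.e) h
    simp only [mulVec_add, mulVec_zero, S.C.form_add_left, mulVec_mulVec, S.C.form_zero_left,
      T.ee _ (S.K.mul_mem (S.bas_mem i) ha), T.fe (S.K.mul_mem (S.bas_mem i) hb), zero_add] at h1
    exact h1
  refine ⟨?_, hb0⟩
  rw [hb0, Matrix.zero_mulVec, add_zero] at h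
  exact S.eq_zero_of_mulVec ha T.e0 h

theorem span (v : Fin 6 → F) : ∃ a ∈ S.K, ∃ b ∈ S.K, v = a *ᵥ T.e + b *ᵥ T.f := by
  let L : (S.K × S.K) →ₗ[F] (Fin 6 → F) :=
    { toFun := fun p => (p.1 : M6) *ᵥ T.e + (p.2 : M6) *ᵥ T.f
      map_add' := fun p q => by
        simp only [Prod.fst_add, Prod.snd_add, Subalgebra.coe_add, Matrix.add_mulVec]; abel
      map_smul' := fun c p => by simp [Matrix.smul_mulVec, smul_add] }
  have hinj : Function.Injective L := (injective_iff_map_eq_zero L).2 fun p hp => by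
    obtain ⟨h1, h2⟩ := T.indep p.1.2 p.2.2 hp
    exact Prod.ext (Subtype.ext h1) (Subtype.ext h2)
  obtain ⟨p, hp⟩ := (LinearMap.injective_iff_surjective_of_finrank_eq_finrank (by
    rw [Module.finrank_prod, S.hK.finrank_eq, Module.finrank_fin_fun])).1 hinj v
  exact ⟨p.1, p.1.2, p.2, p.2.2, hp.symm⟩

theorem pairing {α β γ δ a : M6} (hα : α ∈ S.K) (hβ : β ∈ S.K) (hγ : γ ∈ S.K) (hδ : δ ∈ S.K) (ha : a ∈ S.K) :
    S.C.form (a *ᵥ (α *ᵥ T.e + β *ᵥ T.f)) (γ *ᵥ T.e + δ *ᵥ T.f) =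
      S.C.form ((a * (α * S.A δ + β * S.A γ)) *ᵥ T.e) T.f := by
  rw [mulVec_add, S.C.form_add_left, S.C.form_add_right, S.C.form_add_right, mulVec_mulVec, mulVec_mulVec,
    form_pull hγ, form_pull hδ, form_pull hγ, form_pull hδ,
    T.ee _ (S.K.mul_mem (S.A_mem hγ) (S.K.mul_mem ha hα)), T.ff _ (S.K.mul_mem (S.A_mem hδ) (S.K.mul_mem ha hβ)),
    T.fe (S.K.mul_mem (S.A_mem hγ) (S.K.mul_mem ha hβ)), zero_add, add_zero, ← S.C.form_add_left, ← Matrix.add_mulVec]
  congr 2
  rw [mul_add, ← mul_assoc a α, ← mul_assoc a β, S.hK.comm _ (S.A_mem hδ) _ (S.K.mul_mem ha hα),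
    S.hK.comm _ (S.A_mem hγ) _ (S.K.mul_mem ha hβ)]

/-- the two vectors, indexed -/
def ef : Fin 2 → Fin 6 → F := ![T.e, T.f]

/-- the matrix with columns `x_i e, x_i f` -/
def cols (x : Fin 3 → M6) : Matrix (Fin 6) (Fin 2 × Fin 3) F := Matrix.of fun k p => (x p.2 *ᵥ T.ef p.1) k

/-- the indices -/
def ix : Fin 2 × Fin 3 ≃ Fin 6 := finProdFinEquiv

theorem cols_mulVec (x : Fin 3 → M6) (u : Fin 2 × Fin 3 → F) :
    T.cols x *ᵥ u = (∑ i, u (0, i) • x i) *ᵥ T.e + (∑ i, u (1, i) • x i) *ᵥ T.f := by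
  funext k
  conv_lhs => simp only [Matrix.mulVec, dotProduct, cols, Matrix.of_apply, Fintype.sum_prod_type, Fin.sum_univ_three, Fin.sum_univ_two]
  simp only [Fin.sum_univ_three, Matrix.add_mulVec, Matrix.smul_mulVec, Pi.add_apply, Pi.smul_apply, smul_eq_mul, ef,
    Matrix.cons_val_zero, Matrix.cons_val_one]
  simp only [Matrix.mulVec, dotProduct]
  ring

theorem exists_cols (x : Fin 3 → M6) (hx : ∀ i, x i ∈ S.K) (hli : ∀ c : Fin 3 → F, ∑ i, c i • x i = 0 → c = 0) :
    ∃ P : GL (Fin 6) F, ∀ p : Fin 2 × Fin 3,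
      (P : M6) *ᵥ Pi.single (ix p) 1 = x p.2 *ᵥ T.ef p.1 ∧ (P : M6) = (T.cols x).submatrix id ix.symm := by
  let Q : M6 := (T.cols x).submatrix id ix.symm
  have hinj : Function.Injective (fun u => Q *ᵥ u) := by
    intro u v huv
    have h0 : T.cols x *ᵥ (fun p => (u - v) (ix p)) = 0 := by
      have h1 : Q *ᵥ (u - v) = 0 := by rw [mulVec_sub, sub_eq_zero]; exact huv
      rw [Matrix.submatrix_mulVec_equiv] at h1
      exact h1
    rw [T.cols_mulVec] at h0
    obtain ⟨h1, h2⟩ := T.indep (S.K.sum_mem fun i _ => S.K.smul_mem (hx i) _)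
      (S.K.sum_mem fun i _ => S.K.smul_mem (hx i) _) h0
    funext k
    obtain ⟨⟨j, i⟩, rfl⟩ := ix.surjective k
    refine sub_eq_zero.1 ?_
    fin_cases j
    · exact congrFun (hli _ h1) i
    · exact congrFun (hli _ h2) i
  have hu : IsUnit Q := Matrix.mulVec_injective_iff_isUnit.1 hinj
  refine ⟨hu.unit, fun p => ⟨?_, rfl⟩⟩
  rw [IsUnit.unit_spec, Matrix.mulVec_single_one]
  funext k
  simp [Q, cols]

end FPair

theorem frac {a b : M6} (ha : a ∈ S.K) (hb : b ∈ S.K) (h : S.A (a * S.A b) = a * S.A b) (hne : a ≠ 0 ∨ b ≠ 0) :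
    ∃ μ ∈ S.K, μ ^ 9 = 1 ∧ ∃ a' ∈ S.K, ∃ b' ∈ S.K, S.A a' = a' ∧ S.A b' = b' ∧ a = μ * a' ∧ b = μ * b' := by
  letI : CommRing S.K := { (inferInstance : Ring S.K) with mul_comm := fun x y => Subtype.ext (S.hK.comm _ x.2 _ y.2) }
  have hf : IsField S.K := ⟨⟨0, 1, fun h => zero_ne_one (congrArg Subtype.val h)⟩, mul_comm, fun {x} hx => by
    obtain ⟨y, hy, hxy⟩ := S.hK.inv _ x.2 (fun h => hx (Subtype.ext h))
    exact ⟨⟨y, hy⟩, Subtype.ext hxy⟩⟩
  letI : Field S.K := hf.toField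
  have hA : ∀ z : S.K, S.A z = ((z ^ 8 : S.K) : M6) := fun z => by rw [SubmonoidClass.coe_pow]; exact S.A_pow z z.2
  have h64 : ∀ z : S.K, z ^ 64 = z := fun z => Subtype.ext (by
    rw [show (64 : ℕ) = 8 * 8 from rfl, pow_mul, ← hA, ← hA]
    exact S.A_invol z z.2)
  set x : S.K := ⟨a, ha⟩
  set y : S.K := ⟨b, hb⟩
  have hxy : (x * y ^ 8) ^ 8 = x * y ^ 8 := Subtype.ext (by
    rw [← hA]
    show S.A (a * ((y ^ 8 : S.K) : M6)) = a * ((y ^ 8 : S.K) : M6)
    rw [← hA]
    exact h)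
  have hxy' : x ^ 8 * y = x * y ^ 8 := by rw [← hxy, mul_pow, ← pow_mul, h64]
  suffices ∃ μ x' y' : S.K, μ ^ 9 = 1 ∧ x' ^ 8 = x' ∧ y' ^ 8 = y' ∧ x = μ * x' ∧ y = μ * y' by
    obtain ⟨μ, x', y', h9, hx', hy', e1, e2⟩ := this
    exact ⟨μ, μ.2, by rw [← SubmonoidClass.coe_pow, h9]; rfl, x', x'.2, y', y'.2, by rw [hA, hx'], by rw [hA, hy'],
      congrArg Subtype.val e1, congrArg Subtype.val e2⟩
  have main : ∀ x y : S.K, x ≠ 0 → x ^ 8 * y = x * y ^ 8 →
      ∃ μ x' y' : S.K, μ ^ 9 = 1 ∧ x' ^ 8 = x' ∧ y' ^ 8 = y' ∧ x = μ * x' ∧ y = μ * y' := by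
    intro x y hx hxy
    have hs8 : (x ^ 36) ^ 8 = x ^ 36 := by
      calc (x ^ 36) ^ 8 = (x ^ 64) ^ 4 * x ^ 32 := by ring
        _ = x ^ 36 := by rw [h64]; ring
    have hs2 : x ^ 36 * x ^ 36 = x ^ 9 := by
      calc x ^ 36 * x ^ 36 = x ^ 64 * x ^ 8 := by ring
        _ = x ^ 9 := by rw [h64]; ring
    have hs9 : (x ^ 36) ^ 9 = x ^ 9 := by rw [pow_succ, hs8, hs2]
    have hs0 : x ^ 36 ≠ 0 := pow_ne_zero _ hx
    refine ⟨x / x ^ 36, x ^ 36, y / x * x ^ 36, ?_, hs8, ?_, (div_mul_cancel₀ _ hs0).symm, ?_⟩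
    · rw [div_pow, hs9, div_self (pow_ne_zero _ hx)]
    · rw [mul_pow, hs8, div_pow, mul_left_inj' hs0, div_eq_div_iff (pow_ne_zero _ hx) hx]
      linear_combination -hxy
    · field_simp
  rcases hne with h0 | h0
  · exact main x y (fun e => h0 (congrArg Subtype.val e)) hxy'
  · obtain ⟨μ, y', x', h9, hy', hx', e2, e1⟩ :=
      main y x (fun e => h0 (congrArg Subtype.val e)) (by rw [mul_comm, ← hxy', mul_comm])
    exact ⟨μ, x', y', h9, hx', hy', e1, e2⟩

end FData

/-- the field normaliser is not maximal -/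
theorem field_not_maximal (hF : Fintype.card F = 4) {H : Subgroup (GL (Fin 6) F)}
    (hH : IsMaximalIn (suGL 6 F 2) H) {K : Subalgebra F M6} (hK : IsFieldSubalgebra 3 K)
    (ha : IsAdjointClosedFor (Cfsg.hermForm 6 F 2) K) (hHK : H = subalgebraNormalizer K ⊓ suGL 6 F 2) : False := by
  have hF' : Fintype.card F = 2 ^ 2 := hF
  obtain ⟨σ, hu⟩ := exists_uconj hF'
  obtain ⟨C, hC⟩ := exists_uctx hu
  obtain ⟨w, hw, h2⟩ := exists_omega hF
  obtain ⟨hfix, hadj, hnorm⟩ := field_adj hF hu hK (by decide) ha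
  let S : FData F :=
    { h4 := hF
      h2 := h2
      C := C
      K := K
      hK := hK
      A := adj σ 1
      A_add := hu.refl_one.adj_add
      A_smul := fun c x => by rw [hu.refl_one.adj_smul, hC]
      A_pow := fun k hk => hadj k hk
      A_invol := fun k _ => hu.refl_one.adj_adj k
      spec := fun k u v => by
        rw [← herm_form C, ← herm_form C, hu.hermForm_eq]
        exact hu.refl_one.adj_spec k u v }
  obtain ⟨T⟩ := S.exists_pair
  obtain ⟨P, hP⟩ := T.exists_cols S.bas S.bas_mem fun c => S.bas_indep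
  let F₀ : Subfield F :=
    { carrier := {x | C.bar x = x}
      mul_mem' := fun {a b} ha hb => by simp only [Set.mem_setOf_eq, map_mul] at *; rw [ha, hb]
      one_mem' := map_one _
      add_mem' := fun {a b} ha hb => by simp only [Set.mem_setOf_eq, map_add] at *; rw [ha, hb]
      zero_mem' := map_zero _
      neg_mem' := fun {a} ha => by simp only [Set.mem_setOf_eq, map_neg] at *; rw [ha]
      inv_mem' := fun a ha => by simp only [Set.mem_setOf_eq, map_inv₀] at *; rw [ha] }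
  have hmem₀ : ∀ {x : F}, x ∈ F₀ ↔ C.bar x = x := Iff.rfl
  have hF₀ : F₀ ≠ ⊤ := fun h => by
    obtain ⟨y, hy⟩ := C.exists_not_fixed
    exact hy (hmem₀.1 (h ▸ Subfield.mem_top y))
  -- every element is a scalar times a rational matrix
  have key : ∀ g : GL (Fin 6) F, ∀ (μ : Fˣ) (B : M6), (∀ i j, B i j ∈ F₀) →
      (g : M6) * (P : M6) = (μ : F) • ((P : M6) * B) → g ∈ subfieldSubgroup F₀ P := by
    intro g μ B hB hgB
    have hBu : IsUnit B := by
      have h1 : IsUnit ((μ : F) • ((P : M6) * B)) := hgB ▸ (g.isUnit.mul P.isUnit)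
      have h3 : IsUnit ((P : M6) * B) := by
        obtain ⟨u, hu'⟩ := h1
        refine ⟨⟨(P : M6) * B, ((u⁻¹ : (M6)ˣ) : M6) * ((μ : F) • 1), ?_, ?_⟩, rfl⟩
        · rw [mul_smul_comm, mul_one, mul_smul_comm, ← smul_mul_assoc, ← hu', Units.mul_inv]
        · rw [mul_assoc, smul_mul_assoc, one_mul, ← hu', Units.inv_mul]
      rw [show B = ((P⁻¹ : GL (Fin 6) F) : M6) * ((P : M6) * B) by rw [← mul_assoc, gl_inv_mul, one_mul]]
      exact (P⁻¹).isUnit.mul h3
    have hB0 : B.det ≠ 0 := ((Matrix.isUnit_iff_isUnit_det B).1 hBu).ne_zero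
    let B₀ : Matrix (Fin 6) (Fin 6) F₀ := Matrix.of fun i j => ⟨B i j, hB i j⟩
    have hB₀ : B₀.map F₀.subtype = B := by ext i j; rfl
    have hB₀u : IsUnit B₀ := (Matrix.isUnit_iff_isUnit_det B₀).2 (isUnit_iff_ne_zero.2 fun h => hB0 (by
      rw [← hB₀, ← RingHom.mapMatrix_apply, ← RingHom.map_det, h, map_zero]))
    refine Subgroup.mem_map.2 ⟨Matrix.GeneralLinearGroup.map F₀.subtype hB₀u.unit *
      Units.map (Matrix.scalar (Fin 6) : F →+* M6).toMonoidHom μ, ?_, Units.ext ?_⟩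
    · exact Subgroup.mul_mem _ (Subgroup.mem_sup_left ⟨_, rfl⟩) (Subgroup.mem_sup_right ⟨_, rfl⟩)
    · show (P : M6) * (B₀.map F₀.subtype * Matrix.scalar (Fin 6) (μ : F)) * ((P⁻¹ : GL (Fin 6) F) : M6) = g
      rw [hB₀, show Matrix.scalar (Fin 6) (μ : F) = (μ : F) • (1 : M6) by simp [Matrix.smul_one_eq_diagonal],
        mul_smul_comm, mul_one, mul_smul_comm, ← hgB, mul_assoc, gl_mul_inv, mul_one]
  have hHX : H ≤ subfieldSubgroup F₀ P := by
    intro g hg
    have hgS : g ∈ suGL 6 F 2 := hH.1.le hg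
    have hgN : g ∈ subalgebraNormalizer K := by rw [hHK, Subgroup.mem_inf] at hg; exact hg.1
    obtain ⟨i0, -, hi0⟩ := hnorm g hgN
    let th : M6 → M6 := fun k => cj g k
    have th_mem : ∀ k ∈ K, th k ∈ K := fun k hk => (hgN k).1 hk
    have th_A : ∀ k, S.A (th k) = th (S.A k) := fun k => hu.refl_one.adj_cj (hu.GU_eq ▸ hgS.1) k
    have hgk : ∀ k (v : Fin 6 → F), (g : M6) *ᵥ (k *ᵥ v) = th k *ᵥ ((g : M6) *ᵥ v) := fun k v => by
      rw [mulVec_mulVec, mulVec_mulVec]
      congr 1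
      show _ = cj g k * (g : M6)
      rw [cj, mul_assoc, gl_inv_mul, mul_one]
    obtain ⟨α, hα, β, hβ, he'⟩ := T.span ((g : M6) *ᵥ T.e)
    obtain ⟨γ, hγ, δ, hδ, hf'⟩ := T.span ((g : M6) *ᵥ T.f)
    have hαβ : α ≠ 0 ∨ β ≠ 0 := by
      by_contra hcon
      push Not at hcon
      rw [hcon.1, hcon.2, Matrix.zero_mulVec, Matrix.zero_mulVec, add_zero] at he'
      exact T.e0 (by rw [← one_mulVec T.e, ← gl_inv_mul g, ← mulVec_mulVec, he', mulVec_zero])
    have hγδ : γ ≠ 0 ∨ δ ≠ 0 := by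
      by_contra hcon
      push Not at hcon
      rw [hcon.1, hcon.2, Matrix.zero_mulVec, Matrix.zero_mulVec, add_zero] at hf'
      exact T.f0 (by rw [← one_mulVec T.f, ← gl_inv_mul g, ← mulVec_mulVec, hf', mulVec_zero])
    -- transporting the pairing
    have tr : ∀ u v : Fin 6 → F, ∀ k ∈ K,
        S.C.form (th k *ᵥ ((g : M6) *ᵥ u)) ((g : M6) *ᵥ v) = S.C.form (k *ᵥ u) v := fun u v k hk => by
      rw [← hgk, form_suGL S.C hgS]
    have hsurj : ∀ i, ∃ k ∈ K, th k = S.bas i ∧ S.A k = k := fun i => by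
      have hk : cj g⁻¹ (S.bas i) ∈ K := ((inv_mem hgN : g⁻¹ ∈ subalgebraNormalizer K) _).1 (S.bas_mem i)
      refine ⟨_, hk, cj_cj_inv g _, cj_injective g ?_⟩
      show th (S.A (cj g⁻¹ (S.bas i))) = cj g (cj g⁻¹ (S.bas i))
      rw [← th_A, show th (cj g⁻¹ (S.bas i)) = S.bas i from cj_cj_inv g _, cj_cj_inv]
      exact S.bas_fix i
    have iso_fix : ∀ a b : M6, a ∈ K → b ∈ K →
        (∀ i, S.C.form ((S.bas i * (a * S.A b + b * S.A a)) *ᵥ T.e) T.f = 0) → S.A (a * S.A b) = a * S.A b := by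
      intro a b ha hb h
      have h0 := T.inj (S.K.add_mem (S.K.mul_mem ha (S.A_mem hb)) (S.K.mul_mem hb (S.A_mem ha))) h
      rw [S.A_mul ha (S.A_mem hb), S.A_invol _ hb, S.hK.comm _ (S.A_mem ha) _ hb,
        ← S.neg_eq (a * S.A b)]
      exact eq_neg_of_add_eq_zero_right h0
    have hfe : S.A (α * S.A β) = α * S.A β := iso_fix α β hα hβ fun i => by
      obtain ⟨k, hk, hki, -⟩ := hsurj i
      rw [← T.pairing hα hβ hα hβ (S.bas_mem i), ← he', ← hki, tr _ _ k hk]
      exact T.ee k hk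
    have hff : S.A (γ * S.A δ) = γ * S.A δ := iso_fix γ δ hγ hδ fun i => by
      obtain ⟨k, hk, hki, -⟩ := hsurj i
      rw [← T.pairing hγ hδ hγ hδ (S.bas_mem i), ← hf', ← hki, tr _ _ k hk]
      exact T.ff k hk
    obtain ⟨μ, hμ, hμ9, α', hα', β', hβ', hαf, hβf, hαe, hβe⟩ := S.frac hα hβ hfe hαβ
    obtain ⟨ν, hν, hν9, γ', hγ', δ', hδ', hγf, hδf, hγe, hδe⟩ := S.frac hγ hδ hff hγδ
    set z := α * S.A δ + β * S.A γ with hz
    have hzK : z ∈ K := S.K.add_mem (S.K.mul_mem hα (S.A_mem hδ)) (S.K.mul_mem hβ (S.A_mem hγ))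
    have hzt : ∀ i, ∃ k ∈ K, S.A k = k ∧ S.C.form ((S.bas i * z) *ᵥ T.e) T.f = S.C.form (k *ᵥ T.e) T.f := fun i => by
      obtain ⟨k, hk, hki, hkf⟩ := hsurj i
      refine ⟨k, hk, hkf, ?_⟩
      rw [hz, ← T.pairing hα hβ hγ hδ (S.bas_mem i), ← he', ← hf', ← hki, tr _ _ k hk]
    have hzfix : S.A z = z := by
      refine sub_eq_zero.1 (T.inj (S.K.sub_mem (S.A_mem hzK) hzK) fun i => ?_)
      obtain ⟨k, hk, hkf, hkv⟩ := hzt i
      rw [mul_sub, Matrix.sub_mulVec, S.C.form_sub_left, sub_eq_zero]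
      nth_rewrite 1 [← S.bas_fix i]
      rw [← S.A_mul (S.bas_mem i) hzK, ← T.sym _ (S.K.mul_mem (S.bas_mem i) hzK), hkv, T.sym k hk, hkf]
    have hz0 : z ≠ 0 := fun h0 => by
      obtain ⟨k0, hk0, hne⟩ := T.ne
      have hth : th k0 ∈ K := th_mem k0 hk0
      have h1 := T.pairing hα hβ hγ hδ hth
      rw [← he', ← hf', tr _ _ k0 hk0, ← hz, h0, mul_zero, Matrix.zero_mulVec, S.C.form_zero_left] at h1
      exact hne h1
    -- the two multipliers agree
    have hμν : μ = ν := by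
      letI : CommRing S.K :=
        { (inferInstance : Ring S.K) with mul_comm := fun x y => Subtype.ext (S.hK.comm _ x.2 _ y.2) }
      haveI : Nontrivial S.K := ⟨⟨0, 1, fun h => zero_ne_one (congrArg Subtype.val h)⟩⟩
      haveI : NoZeroDivisors S.K := ⟨fun {u v} h => (field_mul_eq_zero S.hK u.2 (congrArg Subtype.val h)).imp
        (fun e => Subtype.ext e) (fun e => Subtype.ext e)⟩
      haveI : IsDomain S.K := NoZeroDivisors.to_isDomain S.K
      have hA : ∀ x : S.K, S.A x = ((x ^ 8 : S.K) : M6) := fun x => by rw [SubmonoidClass.coe_pow]; exact S.A_pow x x.2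
      let m : S.K := ⟨μ, hμ⟩
      let v : S.K := ⟨ν, hν⟩
      let t : S.K := ⟨α', hα'⟩ * ⟨δ', hδ'⟩ + ⟨β', hβ'⟩ * ⟨γ', hγ'⟩
      have hm9 : m ^ 9 = 1 := Subtype.ext (by rw [SubmonoidClass.coe_pow]; exact hμ9)
      have hv9 : v ^ 9 = 1 := Subtype.ext (by rw [SubmonoidClass.coe_pow]; exact hν9)
      have hzmt : z = ((m * v ^ 8 * t : S.K) : M6) := by
        have e1 : (⟨α, hα⟩ : S.K) * ⟨S.A δ, S.A_mem hδ⟩ + ⟨β, hβ⟩ * ⟨S.A γ, S.A_mem hγ⟩ = m * v ^ 8 * t := by
          have d1 : (⟨α, hα⟩ : S.K) = m * ⟨α', hα'⟩ := Subtype.ext hαe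
          have d2 : (⟨β, hβ⟩ : S.K) = m * ⟨β', hβ'⟩ := Subtype.ext hβe
          have d3 : (⟨S.A δ, S.A_mem hδ⟩ : S.K) = v ^ 8 * ⟨δ', hδ'⟩ := Subtype.ext (by
            show S.A δ = _
            rw [hδe, S.A_mul hν hδ', hδf, S.A_pow _ hν]; rfl)
          have d4 : (⟨S.A γ, S.A_mem hγ⟩ : S.K) = v ^ 8 * ⟨γ', hγ'⟩ := Subtype.ext (by
            show S.A γ = _
            rw [hγe, S.A_mul hν hγ', hγf, S.A_pow _ hν]; rfl)
          rw [d1, d2, d3, d4]
          simp only [t]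
          ring
        exact congrArg Subtype.val e1
      have ht8 : t ^ 8 = t := Subtype.ext (by
        rw [← hA]
        show S.A (α' * δ' + β' * γ') = α' * δ' + β' * γ'
        rw [S.A_add, S.A_mul hα' hδ', S.A_mul hβ' hγ', hαf, hβf, hγf, hδf])
      have ht0 : t ≠ 0 := fun h0 => hz0 (by rw [hzmt, h0, mul_zero]; rfl)
      have hr : (m * v ^ 8 * t) ^ 8 = m * v ^ 8 * t := Subtype.ext (by rw [← hA, ← hzmt]; exact hzfix)
      rw [mul_pow, ht8] at hr
      have hr8 := mul_right_cancel₀ ht0 hr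
      have hr9 : (m * v ^ 8) ^ 9 = 1 := by rw [mul_pow, hm9, ← pow_mul, mul_comm 8 9, pow_mul, hv9, one_pow, one_mul]
      rw [pow_succ, hr8, mul_self_eq_one_iff] at hr9
      have hneg : (-1 : S.K) = 1 := Subtype.ext (by push_cast; exact S.neg_eq 1)
      rw [hneg, or_self] at hr9
      have h := congrArg (· * v) hr9
      simp only [mul_assoc, ← pow_succ, hv9, mul_one, one_mul] at h
      exact congrArg Subtype.val h
    subst hμν
    have hcomb : ∀ x ∈ K, S.A x = x → ∃ c : Fin 3 → F, x = ∑ l, c l • S.bas l ∧ ∀ l, c l ∈ F₀ := by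
      intro x hx hxf
      obtain ⟨c, rfl⟩ := S.bas_span hx
      exact ⟨c, rfl, fun l => hmem₀.2 ((S.comb_fix_iff c).1 hxf l)⟩
    have thfix : ∀ j, S.A (th (S.bas j)) = th (S.bas j) := fun j => by rw [th_A, S.bas_fix]
    have thK : ∀ j, th (S.bas j) ∈ K := fun j => th_mem _ (S.bas_mem j)
    choose c1 hc1 hc1f using fun j => hcomb (th (S.bas j) * α') (K.mul_mem (thK j) hα') (by
      rw [S.A_mul (thK j) hα', hαf, thfix])
    choose c2 hc2 hc2f using fun j => hcomb (th (S.bas j) * β') (K.mul_mem (thK j) hβ') (by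
      rw [S.A_mul (thK j) hβ', hβf, thfix])
    choose c3 hc3 hc3f using fun j => hcomb (th (S.bas j) * γ') (K.mul_mem (thK j) hγ') (by
      rw [S.A_mul (thK j) hγ', hγf, thfix])
    choose c4 hc4 hc4f using fun j => hcomb (th (S.bas j) * δ') (K.mul_mem (thK j) hδ') (by
      rw [S.A_mul (thK j) hδ', hδf, thfix])
    let Bp : Matrix (Fin 2 × Fin 3) (Fin 2 × Fin 3) F := Matrix.of fun p r =>
      (![![c1 r.2, c2 r.2], ![c3 r.2, c4 r.2]] : Fin 2 → Fin 2 → Fin 3 → F) r.1 p.1 p.2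
    let B : M6 := Bp.submatrix FData.FPair.ix.symm FData.FPair.ix.symm
    have hB : ∀ i j, B i j ∈ F₀ := fun i j => by
      show Bp (FData.FPair.ix.symm i) (FData.FPair.ix.symm j) ∈ F₀
      generalize FData.FPair.ix.symm i = p
      generalize FData.FPair.ix.symm j = r
      obtain ⟨a, b⟩ := p
      obtain ⟨c, d⟩ := r
      fin_cases a <;> fin_cases c <;> simp [Bp, hc1f, hc2f, hc3f, hc4f]
    have hgP : (g : M6) * (P : M6) = μ * ((P : M6) * B) := by
      have hPm := (hP (0, 0)).2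
      refine Matrix.ext_iff_mulVec.2 fun u => ?_
      suffices ∀ r : Fin 2 × Fin 3, ((g : M6) * (P : M6)) *ᵥ Pi.single (FData.FPair.ix r) 1 =
          (μ * ((P : M6) * B)) *ᵥ Pi.single (FData.FPair.ix r) 1 by
        have e : (g : M6) * (P : M6) = μ * ((P : M6) * B) := by
          ext i j
          obtain ⟨r, rfl⟩ := FData.FPair.ix.surjective j
          have := congrFun (this r) i
          simpa using this
        rw [e]
      intro r
      rw [← mulVec_mulVec, (hP r).1, ← mulVec_mulVec, ← mulVec_mulVec]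
      have hBr : B *ᵥ Pi.single (FData.FPair.ix r) 1 = fun i => Bp (FData.FPair.ix.symm i) r := by
        funext i; simp [B]
      rw [hBr, hPm, Matrix.submatrix_mulVec_equiv]
      simp only [Function.comp_def, Equiv.symm_symm, Equiv.symm_apply_apply, id_eq]
      rw [T.cols_mulVec, hgk]
      obtain ⟨a, b⟩ := r
      show th (S.bas b) *ᵥ ((g : M6) *ᵥ T.ef a) = _
      fin_cases a
      · simp only [FData.FPair.ef, Bp]
        simp only [Fin.zero_eta, Matrix.cons_val_zero, Matrix.of_apply, Matrix.cons_val_one]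
        rw [← hc1, ← hc2, he', mulVec_add, mulVec_add, mulVec_mulVec, mulVec_mulVec, mulVec_mulVec, mulVec_mulVec,
          hαe, hβe, ← mul_assoc, ← mul_assoc, ← mul_assoc, ← mul_assoc, S.hK.comm _ (thK b) _ hμ]
      · simp only [FData.FPair.ef, Bp]
        simp only [Fin.mk_one, Matrix.cons_val_zero, Matrix.of_apply, Matrix.cons_val_one]
        rw [← hc3, ← hc4, hf', mulVec_add, mulVec_add, mulVec_mulVec, mulVec_mulVec, mulVec_mulVec, mulVec_mulVec,
          hγe, hδe, ← mul_assoc, ← mul_assoc, ← mul_assoc, ← mul_assoc, S.hK.comm _ (thK b) _ hμ]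
    -- the multiplier is a scalar
    obtain ⟨c, hμc⟩ : ∃ c : F, μ = c • (1 : M6) := by
      obtain ⟨c, hc⟩ := scalar_of_cube hF hK (K.pow_mem hμ 3) (by rw [← pow_mul]; exact hμ9)
      by_cases hc1 : c = 1
      · exact scalar_of_cube hF hK hμ (by rw [hc, hc1, one_smul])
      by_contra hns
      push Not at hns
      have hμne : μ ≠ 0 := fun h0 => hns 0 (by rw [h0, zero_smul])
      -- one, `μ`, `μ²` are independent
      have hli : ∀ a : Fin 3 → F, ∑ i, a i • (![1, μ, μ * μ] : Fin 3 → M6) i = 0 → a = 0 := by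
        intro a h
        simp only [Fin.sum_univ_three, Matrix.cons_val_zero, Matrix.cons_val_one, Matrix.cons_val_two,
          Matrix.tail_cons, Matrix.head_cons] at h
        have hlin : ∀ x y : F, x • (1 : M6) + y • μ = 0 → x = 0 ∧ y = 0 := by
          intro x y hxy
          by_cases hy : y = 0
          · rw [hy, zero_smul, add_zero] at hxy
            have := congrFun (congrFun hxy 0) 0
            exact ⟨by simpa using this, hy⟩
          · refine absurd ?_ (hns (-(y⁻¹ * x)))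
            have h1 := congrArg (fun X => y⁻¹ • X) hxy
            simp only [smul_add, smul_smul, inv_mul_cancel₀ hy, one_smul, smul_zero] at h1
            rw [neg_smul]
            exact eq_neg_of_add_eq_zero_right h1
        by_cases ha2 : a 2 = 0
        · rw [ha2, zero_smul, add_zero] at h
          obtain ⟨h0', h1'⟩ := hlin _ _ h
          funext i; fin_cases i <;> [exact h0'; exact h1'; exact ha2]
        · exfalso
          set p := a 0 / a 2
          set r := a 1 / a 2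
          have e : μ * μ = p • (1 : M6) + r • μ := by
            have h1 := congrArg (fun X => (a 2)⁻¹ • X) h
            simp only [smul_add, smul_smul, inv_mul_cancel₀ ha2, one_smul, smul_zero] at h1
            rw [← S.neg_eq (μ * μ)]
            refine (neg_eq_of_add_eq_zero_left ?_)
            rw [← h1]
            simp only [p, r, div_eq_inv_mul]
          have e3 : (r * p - c) • (1 : M6) + (p + r * r) • μ = 0 := by
            have e4 : μ ^ 3 = p • μ + r • (μ * μ) := by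
              rw [pow_succ, pow_two, e, add_mul, smul_mul_assoc, smul_mul_assoc, one_mul, e]
            rw [hc, e] at e4
            linear_combination (norm := module) -e4
          obtain ⟨u1, u2⟩ := hlin _ _ e3
          have hpr : p = r * r := by linear_combination u2 - r * r * S.h2
          have hc3 : c = r * (r * r) := by rw [← hpr]; linear_combination -u1
          rcases eq_or_ne r 0 with hr0 | hr0
          · rw [hr0, zero_mul] at hc3
            rw [hc3, zero_smul] at hc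
            have := hμ9
            rw [show (9 : ℕ) = 3 * 3 from rfl, pow_mul, hc, zero_pow (by norm_num)] at this
            exact zero_ne_one this
          · refine hc1 ?_
            rw [hc3]
            have := FiniteField.pow_card_sub_one_eq_one r hr0
            rw [hF] at this
            linear_combination this
      obtain ⟨Q, hQ⟩ := T.exists_cols ![1, μ, μ * μ] (fun i => by
        fin_cases i <;> [exact K.one_mem; exact hμ; exact K.mul_mem hμ hμ]) hli
      let Nc : Matrix (Fin 3) (Fin 3) F := !![0, 0, c; 1, 0, 0; 0, 1, 0]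
      let Bc : M6 := (Matrix.kronecker (1 : Matrix (Fin 2) (Fin 2) F) Nc).submatrix FData.FPair.ix.symm FData.FPair.ix.symm
      have hμQ : μ * (Q : M6) = (Q : M6) * Bc := by
        suffices ∀ r : Fin 2 × Fin 3, (μ * (Q : M6)) *ᵥ Pi.single (FData.FPair.ix r) 1 =
            ((Q : M6) * Bc) *ᵥ Pi.single (FData.FPair.ix r) 1 by
          ext i j
          obtain ⟨r, rfl⟩ := FData.FPair.ix.surjective j
          have := congrFun (this r) i
          simpa using this
        intro r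
        rw [← mulVec_mulVec, (hQ r).1, ← mulVec_mulVec]
        have hBr : Bc *ᵥ Pi.single (FData.FPair.ix r) 1 =
            fun i => Matrix.kronecker (1 : Matrix (Fin 2) (Fin 2) F) Nc (FData.FPair.ix.symm i) r := by
          funext i; simp [Bc]
        rw [hBr, (hQ r).2, Matrix.submatrix_mulVec_equiv]
        simp only [Function.comp_def, Equiv.symm_symm, Equiv.symm_apply_apply, id_eq]
        rw [T.cols_mulVec, mulVec_mulVec]
        obtain ⟨a, b⟩ := r
        have hμ3 : μ * (μ * μ) = c • (1 : M6) := by rw [← hc, pow_succ, pow_two, mul_assoc]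
        fin_cases a <;> fin_cases b <;>
          simp [FData.FPair.ef, Nc, Fin.sum_univ_three, Matrix.kroneckerMap_apply, hμ3]
      have hBdet : Bc.det = c ^ 2 := by
        have hN : Nc.det = c := by simp [Nc, Matrix.det_fin_three]
        rw [show Bc = (Matrix.kronecker (1 : Matrix (Fin 2) (Fin 2) F) Nc).submatrix FData.FPair.ix.symm
          FData.FPair.ix.symm from rfl, Matrix.det_submatrix_equiv_self]
        simp [Matrix.kronecker, Matrix.det_kronecker, hN]
      have hQ0 : (Q : M6).det ≠ 0 := ((Matrix.isUnit_iff_isUnit_det _).1 Q.isUnit).ne_zero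
      have hP0 : (P : M6).det ≠ 0 := ((Matrix.isUnit_iff_isUnit_det _).1 P.isUnit).ne_zero
      have h1 := congrArg Matrix.det hμQ
      rw [Matrix.det_mul, Matrix.det_mul, hBdet, mul_comm (Q : M6).det] at h1
      have hμdet : μ.det = c ^ 2 := mul_right_cancel₀ hQ0 h1
      have hgdet : (g : M6).det = 1 := by
        rw [← Matrix.GeneralLinearGroup.val_det_apply, show Matrix.GeneralLinearGroup.det g = 1 from hgS.2,
          Units.val_one]
      have h2' := congrArg Matrix.det hgP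
      rw [Matrix.det_mul, Matrix.det_mul, Matrix.det_mul, hgdet, one_mul, mul_left_comm, hμdet] at h2'
      have h3 : c ^ 2 * B.det = 1 := (mul_eq_left₀ hP0).1 h2'.symm
      have hb : C.bar B.det = B.det := hmem₀.1 (det_mem_subfield hB)
      have hb0 : B.det ≠ 0 := fun h0 => by rw [h0, mul_zero] at h3; exact zero_ne_one h3
      rw [fixed_eq_one C rfl hb hb0, mul_one] at h3
      refine hc1 ?_
      have h4 : (c - 1) * (c - 1) = 0 := by linear_combination h3 + (1 - c) * S.h2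
      exact sub_eq_zero.1 (mul_self_eq_zero.1 h4)
    have hc0 : c ≠ 0 := fun h0 => by
      rw [h0, zero_smul] at hμc
      rw [hμc, zero_pow (by norm_num)] at hμ9
      exact zero_ne_one hμ9
    exact key g (Units.mk0 c hc0) B hB (by rw [hgP, hμc, smul_mul_assoc, one_mul]; rfl)
  -- a transvection in the subfield group outside the normaliser
  have hm : ∀ v, C.form v v = 0 → ∀ (i : Fin 6), v = (P : M6) *ᵥ Pi.single i 1 →
      ∀ t ∈ suGL 6 F 2, (∀ x, (t : M6) *ᵥ x = x + (1 * C.form x v) • v) → t ∈ subfieldSubgroup F₀ P := by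
    intro v hv i hvi t ht htx
    have hent : ∀ j, C.bar (C.form ((P : M6) *ᵥ Pi.single j 1) v) = C.form ((P : M6) *ᵥ Pi.single j 1) v := by
      intro j
      obtain ⟨⟨a, b⟩, rfl⟩ := FData.FPair.ix.surjective i
      obtain ⟨⟨a', b'⟩, rfl⟩ := FData.FPair.ix.surjective j
      rw [hvi, (hP _).1, (hP _).1]
      show S.C.bar (S.C.form (S.bas b' *ᵥ T.ef a') (S.bas b *ᵥ T.ef a)) = _
      rw [FData.FPair.form_pull (S.bas_mem b)]
      have hkK : S.A (S.bas b) * S.bas b' ∈ K := K.mul_mem (S.A_mem (S.bas_mem b)) (S.bas_mem b')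
      have hkf : S.A (S.A (S.bas b) * S.bas b') = S.A (S.bas b) * S.bas b' := by
        rw [S.A_mul (S.A_mem (S.bas_mem b)) (S.bas_mem b'), S.bas_fix, S.bas_fix, S.bas_fix]
      fin_cases a' <;> fin_cases a <;> simp only [FData.FPair.ef, Fin.zero_eta, Fin.mk_one, Matrix.cons_val_zero,
        Matrix.cons_val_one]
      · rw [T.ee _ hkK, map_zero]
      · rw [T.sym _ hkK, hkf]
      · rw [T.fe hkK, T.sym _ hkK, hkf]
      · rw [T.ff _ hkK, map_zero]
    let B : M6 := Matrix.of fun k j => (if k = j then 1 else 0) + (if k = i then C.form ((P : M6) *ᵥ Pi.single j 1) v else 0)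
    refine key t 1 B (fun k j => ?_) ?_
    · refine F₀.add_mem ?_ ?_
      · split_ifs <;> [exact F₀.one_mem; exact F₀.zero_mem]
      · split_ifs <;> [exact hmem₀.2 (hent j); exact F₀.zero_mem]
    · rw [Units.val_one, one_smul]
      ext k j
      have h1 := congrFun (htx ((P : M6) *ᵥ Pi.single j 1)) k
      rw [mulVec_mulVec, one_mul] at h1
      simp only [Matrix.mulVec_single_one, Matrix.col_apply, Pi.add_apply, Pi.smul_apply, smul_eq_mul] at h1
      rw [h1, Matrix.mul_apply]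
      simp only [B, Matrix.of_apply, mul_add, Finset.sum_add_distrib, mul_ite, mul_one, mul_zero, Finset.sum_ite_eq',
        Finset.mem_univ, if_true, hvi, Matrix.mulVec_single_one, Matrix.col_apply]
      ring
  set v0 := (P : M6) *ᵥ Pi.single (FData.FPair.ix (0, 0)) 1 with hv0
  have hv0e : v0 = S.bas 0 *ᵥ T.e := (hP (0, 0)).1
  have hb0 : S.bas 0 ≠ 0 := fun h0 => by
    have := congrFun (S.bas_indep (c := Pi.single 0 1) (by simp [Fin.sum_univ_three, h0])) 0
    simp at this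
  have hv00 : v0 ≠ 0 := fun h0 => hb0 (S.eq_zero_of_mulVec (S.bas_mem 0) T.e0 (hv0e ▸ h0))
  have hvv : C.form v0 v0 = 0 := by
    rw [hv0e]
    show S.C.form _ _ = 0
    rw [FData.FPair.form_pull (S.bas_mem 0)]
    exact T.ee _ (K.mul_mem (S.A_mem (S.bas_mem 0)) (S.bas_mem 0))
  obtain ⟨t, ht, -, htx, hti⟩ := exists_utv C v0 hvv 1 (by rw [map_one]; linear_combination h2)
  have htX : t ∈ subfieldSubgroup F₀ P := hm v0 hvv _ hv0 t ht htx
  have hnot : t ∉ subalgebraNormalizer K := by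
    intro htN
    -- the transvection commutes with the field
    have hcomm : ∀ k ∈ K, ∃ a : F, k *ᵥ v0 = a • v0 := fun k hk => by
      refine eigen_of_commute C hv00 one_ne_zero htx ?_
      have hDK : cj t k - k ∈ K := K.sub_mem ((htN k).1 hk) hk
      have hD0 : cj t k - k = 0 := by
        by_contra hne
        obtain ⟨E, -, hE⟩ := hK.inv _ hDK hne
        refine small_range_false (s := {v0, k *ᵥ v0}) ?_ (cj_sub_range C htx hti k) one_ne_zero
          (N := E) (by rw [hE, one_smul])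
        have : ({v0, k *ᵥ v0} : Finset (Fin 6 → F)).card ≤ 2 := Finset.card_le_two
        omega
      conv_rhs => rw [← sub_eq_zero.1 hD0, cj, mul_assoc, gl_inv_mul, mul_one]
    -- so the field consists of scalars
    have hbot : K = ⊥ := eq_bot_iff.2 fun k hk => by
      obtain ⟨a, ha⟩ := hcomm k hk
      refine mem_bot_iff.2 ⟨a, sub_eq_zero.1 (S.eq_zero_of_mulVec (K.sub_mem hk (sc_mem K a)) hv00 ?_)⟩
      rw [Matrix.sub_mulVec, ha, Matrix.smul_mulVec, one_mulVec, sub_self]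
    haveI : Nonempty (Fin 6) := ⟨0⟩
    have := hK.finrank_eq
    rw [hbot, Subalgebra.finrank_bot] at this
    norm_num at this
  have hHeq : H = subfieldSubgroup F₀ P ⊓ suGL 6 F 2 :=
    su_eq_inf hH hHX (su_not_le_subfield C (by norm_num) hF₀ P)
  refine hnot ?_
  have h1 : t ∈ H := hHeq ▸ ⟨htX, ht⟩
  rw [hHK, Subgroup.mem_inf] at h1
  exact h1.1

end CfsgLib.Perm.Asch.U62
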