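import Cfsg.Agent.Lib.Perm.Asch.Forms.U52

/-!
# The monomial subgroup of SU(6, 2) is not maximal

It preserves a set of isotropic vectors (weight two, or weight six with product one) which is also preserved by the
transvection centred at the all-one vector.
-/

set_option autoImplicit false
set_option linter.all false

namespace CfsgLib.Perm.Asch.U62

open scoped Classical Matrix
open Matrix Cfsg.Geo CfsgLib.SU CfsgLib.Perm.Asch.U52

/-- one if non-zero -/
def qnz (a : Fin 4) : ℕ := if a = 0 then 0 else 1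

/-- weight two or weight six with product one -/
def qGood (v : Fin 6 → Fin 4) : Prop :=
  qnz (v 0) + qnz (v 1) + qnz (v 2) + qnz (v 3) + qnz (v 4) + qnz (v 5) = 2 ∨
    qm (qm (qm (qm (qm (v 0) (v 1)) (v 2)) (v 3)) (v 4)) (v 5) = 1

instance qGood_decidable (v : Fin 6 → Fin 4) : Decidable (qGood v) := by unfold qGood; infer_instance

/-- the transvection at the all-one vector -/
def qShift (v : Fin 6 → Fin 4) : Fin 6 → Fin 4 :=
  fun i => qa (v i) (qa (qa (qa (qa (qa (v 0) (v 1)) (v 2)) (v 3)) (v 4)) (v 5))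

set_option maxRecDepth 100000 in
theorem qGood_shift : ∀ a b c d e f : Fin 4, qGood ![a, b, c, d, e, f] → qGood (qShift ![a, b, c, d, e, f]) := by
  decide +kernel

variable {F : Type*} [Field F] [Fintype F]

/-- weight two or weight six with product one -/
def Good (c : Fin 6 → F) : Prop := (Finset.univ.filter fun i => c i ≠ 0).card = 2 ∨ ∏ i, c i = 1

variable {w : F}

theorem good_emb (hw : w * w = w + 1) (h2 : (2 : F) = 0) (v : Fin 6 → Fin 4) :
    Good (fun i => emb w (v i)) ↔ qGood v := by
  have h0 : ∀ a, emb w a ≠ 0 ↔ a ≠ 0 := fun a => ⟨fun h e => h (by rw [e]; rfl), fun h e => h (emb_inj hw e)⟩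
  have h1 : ∀ a, emb w a = 1 ↔ a = 1 := fun a => ⟨fun h => emb_inj hw h, fun h => by rw [h]; rfl⟩
  unfold Good qGood qnz
  rw [Fin.prod_univ_six, ← emb_mul hw h2, ← emb_mul hw h2, ← emb_mul hw h2, ← emb_mul hw h2, ← emb_mul hw h2, h1,
    Finset.card_filter, Fin.sum_univ_six]
  simp only [h0, ne_eq, ite_not]

theorem emb_surj (h4 : Fintype.card F = 4) (hw : w * w = w + 1) : Function.Surjective (emb w) :=
  ((Fintype.bijective_iff_injective_and_card _).2 ⟨emb_inj hw, by rw [Fintype.card_fin, h4]⟩).2

theorem good_shift (h4 : Fintype.card F = 4) (c : Fin 6 → F) (hc : Good c) :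
    Good (fun i => c i + ∑ j, c j) := by
  obtain ⟨w, hw, h2⟩ := exists_omega h4
  choose v hv using fun i => emb_surj h4 hw (c i)
  obtain rfl : c = fun i => emb w (v i) := funext fun i => (hv i).symm
  rw [good_emb hw h2] at hc
  have hv6 : v = ![v 0, v 1, v 2, v 3, v 4, v 5] := by funext i; fin_cases i <;> rfl
  rw [hv6] at hc
  have h := qGood_shift _ _ _ _ _ _ hc
  rw [← hv6, ← good_emb hw h2] at h
  convert h using 2 with i
  simp [qShift, Fin.sum_univ_six, emb_add h2]

theorem good_monomial (c d : Fin 6 → F) (π : Equiv.Perm (Fin 6)) (hd : ∀ i, d i ≠ 0) (hp : ∏ i, d i = 1)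
    (c' : Fin 6 → F) (h : ∀ i, c' (π i) = d i * c i) : Good c ↔ Good c' := by
  have hcard : (Finset.univ.filter fun i => c' i ≠ 0).card = (Finset.univ.filter fun i => c i ≠ 0).card := by
    rw [Finset.card_filter, Finset.card_filter, ← Equiv.sum_comp π]
    refine Finset.sum_congr rfl fun i _ => ?_
    rw [h]
    simp [hd i]
  have hprod : ∏ i, c' i = ∏ i, c i := by
    rw [← Equiv.prod_comp π]
    simp only [h, Finset.prod_mul_distrib, hp, one_mul]
  unfold Good
  rw [hcard, hprod]

/-- monomial subgroups are not maximal -/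
theorem frame_not_maximal (hF : Fintype.card F = 4) {H : Subgroup (GL (Fin 6) F)}
    (hH : IsMaximalIn (suGL 6 F 2) H) {D : Fin 6 → Submodule F (Fin 6 → F)}
    (hD : IsNondegenerateMDecomposition (Cfsg.hermForm 6 F 2) 1 D)
    (hHD : H = decompositionStabilizer D ⊓ suGL 6 F 2) : False := by
  have hF' : Fintype.card F = 2 ^ 2 := hF
  obtain ⟨σ, hu⟩ := exists_uconj hF'
  obtain ⟨C, -⟩ := exists_uctx hu
  obtain ⟨w, hw, h2⟩ := exists_omega hF
  -- orthonormal basis
  have hv : ∀ i, ∃ v ∈ D i, C.form v v = 1 ∧ ∀ x ∈ D i, ∃ a : F, x = a • v := by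
    intro i
    obtain ⟨⟨v, hv⟩, hv0, hsp⟩ := finrank_eq_one_iff'.1 (hD.decomp.finrank_eq i)
    have hline : ∀ x ∈ D i, ∃ a : F, x = a • v := fun x hx => by
      obtain ⟨a, ha⟩ := hsp ⟨x, hx⟩
      exact ⟨a, (congrArg Subtype.val ha).symm⟩
    refine ⟨v, hv, fixed_eq_one C rfl (C.form_self_fixed v) ?_, hline⟩
    intro h0
    obtain ⟨⟨x, hx, hne⟩, -⟩ := hD.nondegenerate i v hv fun h => hv0 (Subtype.ext h)
    obtain ⟨a, rfl⟩ := hline x hx
    rw [herm_form C, C.form_smul_left, h0, mul_zero] at hne
    exact hne rfl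
  choose v hvD hv1 hline using hv
  have horth : ∀ i j, i ≠ j → C.form (v i) (v j) = 0 := fun i j hij => by
    rw [← herm_form C]
    exact hD.orthogonal i j hij _ (hvD i) _ (hvD j)
  let co : (Fin 6 → F) → Fin 6 → F := fun x i => C.form x (v i)
  have hco : ∀ i j, co (v i) j = if i = j then 1 else 0 := fun i j => by
    by_cases h : i = j
    · subst h; simp [co, hv1]
    · simp [co, horth i j h, h]
  have hli : LinearIndependent F v := Fintype.linearIndependent_iff.2 fun a ha i => by
    have h := congrArg (fun x => C.form x (v i)) ha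
    have e : ∀ (s : Finset (Fin 6)), C.form (∑ j ∈ s, a j • v j) (v i) = ∑ j ∈ s, a j * C.form (v j) (v i) := by
      intro s
      induction s using Finset.induction_on with
      | empty => simp [C.form_zero_left]
      | insert j s hjs ih => rw [Finset.sum_insert hjs, Finset.sum_insert hjs, C.form_add_left, C.form_smul_left, ih]
    simp only [e, C.form_zero_left] at h
    rwa [Finset.sum_eq_single i (fun j _ hji => by rw [horth j i hji, mul_zero]) (by simp), hv1, mul_one] at h
  have hexp : ∀ x, x = ∑ i, co x i • v i := by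
    intro x
    have hspan : Submodule.span F (Set.range v) = ⊤ := hli.span_eq_top_of_card_eq_finrank (by simp)
    obtain ⟨a, ha⟩ := (Submodule.mem_span_range_iff_exists_fun F).1 (hspan ▸ Submodule.mem_top : x ∈ _)
    conv_lhs => rw [← ha]
    refine Finset.sum_congr rfl fun i _ => ?_
    congr 1
    rw [← ha]
    simp [co, Fin.sum_univ_six, C.form_add_left, C.form_smul_left]
    fin_cases i <;> simp [hv1, horth]
  have hform : ∀ x y, C.form x y = ∑ i, co x i * C.bar (co y i) := by
    intro x y
    conv_lhs => rw [hexp x]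
    simp only [Fin.sum_univ_six, C.form_add_left, C.form_smul_left]
    simp [co, C.bar_form]
  let L : Subgroup (GL (Fin 6) F) :=
    { carrier := {g | g ∈ suGL 6 F 2 ∧ ∀ x, Good (co x) ↔ Good (co ((g : Matrix (Fin 6) (Fin 6) F) *ᵥ x))}
      mul_mem' := fun {g h} hg hh => ⟨mul_mem hg.1 hh.1, fun x => by rw [hh.2 x, hg.2, mulVec_mulVec]; rfl⟩
      one_mem' := ⟨one_mem _, fun x => by simp⟩
      inv_mem' := fun {g} hg => ⟨inv_mem hg.1, fun x => by
        rw [hg.2 (((g⁻¹ : GL (Fin 6) F) : Matrix (Fin 6) (Fin 6) F) *ᵥ x), mulVec_mulVec, gl_mul_inv, one_mulVec]⟩ }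
  have hHL : H ≤ L := by
    intro g hg
    have hgS : g ∈ suGL 6 F 2 := hH.1.le hg
    rw [hHD, Subgroup.mem_inf] at hg
    obtain ⟨π, hπ⟩ := hg.1
    have hmap : ∀ i, ∃ a : F, (g : Matrix (Fin 6) (Fin 6) F) *ᵥ v i = a • v (π i) := fun i =>
      hline _ _ (hπ i ▸ Submodule.mem_map_of_mem (hvD i))
    choose d hd using hmap
    have hd0 : ∀ i, d i ≠ 0 := fun i h => by
      have h1 := form_suGL C hgS (v i) (v i)
      rw [hd, h, zero_smul, C.form_zero_left, hv1] at h1
      exact zero_ne_one h1
    let V : Matrix (Fin 6) (Fin 6) F := Matrix.of fun k i => v i k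
    have hV : V.det ≠ 0 := ((Matrix.linearIndependent_cols_iff_isUnit (A := V)).1 hli |> (Matrix.isUnit_iff_isUnit_det V).1).ne_zero
    have hgV : (g : Matrix (Fin 6) (Fin 6) F) * V = V * ((Matrix.diagonal d).submatrix π.symm id) := by
      ext k i
      rw [show ((g : Matrix (Fin 6) (Fin 6) F) * V) k i = ((g : Matrix (Fin 6) (Fin 6) F) *ᵥ v i) k from rfl, hd,
        Matrix.mul_apply, Finset.sum_eq_single (π i)]
      · simp [V, mul_comm]
      · intro j _ hj
        have : π.symm j ≠ i := fun e => hj (by rw [← e, Equiv.apply_symm_apply])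
        simp [this]
      · simp
    have hsign : ((Equiv.Perm.sign π.symm : ℤ) : F) = 1 := by
      rcases Int.units_eq_one_or (Equiv.Perm.sign π.symm) with h | h <;> rw [h]
      · simp
      · simp only [Units.val_neg, Units.val_one, Int.cast_neg, Int.cast_one]
        linear_combination -h2
    have hdet := congrArg Matrix.det hgV
    rw [Matrix.det_mul, Matrix.det_mul, Matrix.det_permute, hsign, one_mul, Matrix.det_diagonal,
      mul_comm V.det, ← Matrix.GeneralLinearGroup.val_det_apply,
      show Matrix.GeneralLinearGroup.det g = 1 from hgS.2, Units.val_one] at hdet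
    have hp : ∏ i, d i = 1 := (mul_right_cancel₀ hV hdet).symm
    refine ⟨hgS, fun x => good_monomial _ d π hd0 hp _ fun i => ?_⟩
    have h1 := form_suGL C hgS x (v i)
    rw [hd, C.form_smul_right] at h1
    have hn : d i * C.bar (d i) = 1 := by
      have h3 := form_suGL C hgS (v i) (v i)
      rw [hd, C.form_smul_left, C.form_smul_right, hv1, hv1, mul_one] at h3
      exact h3
    show C.form ((g : Matrix (Fin 6) (Fin 6) F) *ᵥ x) (v (π i)) = d i * C.form x (v i)
    rw [← h1, ← mul_assoc, hn, one_mul]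
  have hone : (1 : F) + C.bar 1 = 0 := by rw [map_one]; linear_combination h2
  -- the transvection at the all-one vector
  let u := ∑ i, v i
  have hu1 : ∀ i, co u i = 1 := fun i => by
    simp [co, u, Fin.sum_univ_six, C.form_add_left]
    fin_cases i <;> simp [hv1, horth]
  have huu : C.form u u = 0 := by
    rw [hform]; simp [hu1]; linear_combination 3 * h2
  obtain ⟨g, hg, -, hgx, hgi⟩ := exists_utv C u huu 1 hone
  have hcog : ∀ x, co ((g : Matrix (Fin 6) (Fin 6) F) *ᵥ x) = fun i => co x i + ∑ j, co x j := fun x => funext fun i => by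
    have e := hu1 i
    simp only [co] at e ⊢
    rw [hgx, C.form_add_left, C.form_smul_left, one_mul, e, mul_one, hform x u]
    simp [hu1, co]
  have hgg : ∀ x, (g : Matrix (Fin 6) (Fin 6) F) *ᵥ ((g : Matrix (Fin 6) (Fin 6) F) *ᵥ x) = x := fun x => by
    rw [hgx (_ *ᵥ x), hgx, C.form_add_left, C.form_smul_left, huu, mul_zero, add_zero, add_assoc, ← add_smul,
      show 1 * C.form x u + 1 * C.form x u = 0 by linear_combination C.form x u * h2, zero_smul, add_zero]
  have hgL : g ∈ L := ⟨hg, fun x => ⟨fun h => hcog x ▸ good_shift hF _ h, fun h => by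
    have := good_shift hF _ h
    rwa [← hcog, hgg] at this⟩⟩
  rcases hH.2 L hHL (fun x hx => hx.1) with h | h
  · -- it is not monomial
    rw [h, hHD, Subgroup.mem_inf] at hgL
    obtain ⟨π, hπ⟩ := hgL.1
    obtain ⟨a, ha⟩ := hline _ _ (hπ 0 ▸ Submodule.mem_map_of_mem (hvD 0))
    have e : ∀ i, co ((g : Matrix (Fin 6) (Fin 6) F) *ᵥ v 0) i = a * co (v (π 0)) i := fun i => by
      rw [show (g : Matrix (Fin 6) (Fin 6) F) *ᵥ v 0 = a • v (π 0) from ha]
      exact C.form_smul_left ..
    have hs : ∑ j, co (v 0) j = 1 := by simp [hco]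
    have e1 := e 1
    have e2 := e 2
    simp only [hcog, hs, hco] at e1 e2
    by_cases h1 : π 0 = 1
    · simp [h1] at e2
    · simp [h1] at e1
  · -- the subgroup is proper
    let u' := v 0 + v 1 + v 2 + v 3
    have hu' : ∀ i, co u' i = if i.val < 4 then 1 else 0 := fun i => by
      simp only [co, u', C.form_add_left]
      fin_cases i <;> simp [hv1, horth]
    have huu' : C.form u' u' = 0 := by
      rw [hform]; simp [hu', Fin.sum_univ_six]; linear_combination 2 * h2
    obtain ⟨t, ht, -, htx, -⟩ := exists_utv C u' huu' 1 hone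
    have htL : t ∈ L := h ▸ ht
    let cq : Fin 6 → Fin 4 := ![2, 3, 1, 1, 1, 1]
    let x := ∑ i, emb w (cq i) • v i
    have hx : ∀ i, co x i = emb w (cq i) := fun i => by
      simp only [co, x, Fin.sum_univ_six, C.form_add_left, C.form_smul_left]
      fin_cases i <;> simp [hv1, horth]
    have hgood : Good (co x) := by
      rw [show co x = fun i => emb w (cq i) from funext hx, good_emb hw h2]
      decide
    have h1 := (htL.2 x).1 hgood
    have hs : C.form x u' = 1 := by
      rw [hform]
      simp [hx, hu', Fin.sum_univ_six, cq, emb]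
      linear_combination (w + 1) * h2
    have hb : ∀ i, co ((t : Matrix (Fin 6) (Fin 6) F) *ᵥ x) i = emb w (![3, 2, 0, 0, 1, 1] i) := fun i => by
      have e1 := hx i
      have e2 := hu' i
      simp only [co] at e1 e2 ⊢
      rw [htx, C.form_add_left, C.form_smul_left, hs, one_mul, one_mul, e1, e2]
      fin_cases i <;> simp [cq, emb] <;> first
        | ring1
        | linear_combination h2
        | linear_combination (-1 : F) * h2
        | linear_combination w * h2
    rw [show co ((t : Matrix (Fin 6) (Fin 6) F) *ᵥ x) = fun i => emb w (![3, 2, 0, 0, 1, 1] i) from funext hb,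
      good_emb hw h2] at h1
    revert h1
    decide

end CfsgLib.Perm.Asch.U62
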