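import Cfsg.Agent.Lib.Perm.Asch.Forms.UQ2

/-!
# The candidates for maximal subgroups of `SU_n(q)`
-/

set_option autoImplicit false
set_option linter.all false

namespace CfsgLib.Perm.Asch

open scoped Classical Matrix
open Matrix Cfsg.Geo CfsgLib.SU

variable {F : Type*} [Field F] [Fintype F] {n q : ℕ}

/-- the possible maximal subgroups -/
inductive UMax (n : ℕ) (F : Type*) [Field F] [Fintype F] (q : ℕ) (H : Subgroup (GL (Fin n) F)) : Prop where
  | singular {W : Submodule F (Fin n → F)} (h0 : W ≠ ⊥) (hs : IsTotallySingularFor (Cfsg.hermForm n F q) W)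
      (h : H = subspaceStabilizer W ⊓ suGL n F q) : UMax n F q H
  | nondeg {W : Submodule F (Fin n → F)} (h0 : W ≠ ⊥) (hn : IsNondegenerateOn (Cfsg.hermForm n F q) W)
      (hd : 2 * Module.finrank F W < n) (h : H = subspaceStabilizer W ⊓ suGL n F q) : UMax n F q H
  | dec {t k : ℕ} {D : Fin t → Submodule F (Fin n → F)} (ht : 2 ≤ t) (htk : t * k = n) (h2 : k = 2 → 3 ≤ q)
      (hD : IsNondegenerateMDecomposition (Cfsg.hermForm n F q) k D)
      (h : H = decompositionStabilizer D ⊓ suGL n F q) : UMax n F q H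
  | pair {k : ℕ} {D : Fin 2 → Submodule F (Fin n → F)} (hk : 2 * k = n) (hD : IsMDecomposition k D)
      (hs : ∀ i, IsTotallySingularFor (Cfsg.hermForm n F q) (D i))
      (h : H = decompositionStabilizer D ⊓ suGL n F q) : UMax n F q H
  | subOdd (h : ∃ (F₀ : Subfield F) (r : ℕ) (P : GL (Fin n) F), r.Prime ∧ Odd r ∧
      Fintype.card F = Nat.card F₀ ^ r ∧ IsFormRationalStructure (Cfsg.hermForm n F q) F₀ 1 P ∧
      H = subfieldSubgroup F₀ P ⊓ suGL n F q) : UMax n F q H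
  | subOrth (hq : Odd q) (h : ∃ (F₀ : Subfield F) (P : GL (Fin n) F), Fintype.card F = Nat.card F₀ ^ 2 ∧
      IsFormRationalStructure (Cfsg.hermForm n F q) F₀ 1 P ∧ H = subfieldSubgroup F₀ P ⊓ suGL n F q) : UMax n F q H
  | subSymp (hn : Even n) (h : ∃ (F₀ : Subfield F) (P : GL (Fin n) F) (ζ : F), Fintype.card F = Nat.card F₀ ^ 2 ∧
      ζ ≠ 0 ∧ ζ + ζ ^ q = 0 ∧ IsFormRationalStructure (Cfsg.hermForm n F q) F₀ ζ P ∧
      (∀ u : Fin n → F, (∀ i, u i ∈ F₀) →
        Cfsg.hermForm n F q ((P : Matrix (Fin n) (Fin n) F) *ᵥ u) ((P : Matrix (Fin n) (Fin n) F) *ᵥ u) = 0) ∧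
      H = subfieldSubgroup F₀ P ⊓ suGL n F q) : UMax n F q H
  | sym {r : ℕ} {R : Subgroup (GL (Fin n) F)} {p e k : ℕ} (hR : IsSymplecticTypeGroup r R)
      (ha : ActsAbsolutelyIrreducibly (matrixSet R)) (hs : R ≤ similarityGroup (Cfsg.hermForm n F q)) (hrp : r ≠ p)
      (hm : IsMinimalFieldFor (Nat.card (Subgroup.center R)) p e F) (hI : R ≤ Cfsg.GU n F q) (hk : n = r ^ k)
      (hcases : (Odd r ∧ Nat.card (Subgroup.center R) = r ∧ 1 ≤ k ∧ Nat.card R = r ^ (1 + 2 * k)) ∨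
        (r = 2 ∧ e = 2 ∧ Nat.card (Subgroup.center R) = 4 ∧ Nat.card R = 2 ^ (2 + 2 * k)))
      (h : H = subgroupNormalizer R ⊓ suGL n F q) : UMax n F q H
  | field {r : ℕ} {K : Subalgebra F (Matrix (Fin n) (Fin n) F)} (hr : r.Prime) (hro : Odd r) (hdvd : r ∣ n)
      (hK : IsFieldSubalgebra r K) (ha : IsAdjointClosedFor (Cfsg.hermForm n F q) K)
      (h : H = subalgebraNormalizer K ⊓ suGL n F q) : UMax n F q H
  | tensor {n₁ n₂ : ℕ} (e : Fin n ≃ Fin n₁ × Fin n₂) (P : GL (Fin n) F) {f₁ : (Fin n₁ → F) → (Fin n₁ → F) → F}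
      {f₂ : (Fin n₂ → F) → (Fin n₂ → F) → F} (h2 : 2 ≤ n₁) (h12 : n₁ < n₂) (hn : n₁ * n₂ = n)
      (hq : n₁ = 2 → 3 ≤ q) (h₁ : IsUnitaryFormPow q f₁) (h₂ : IsUnitaryFormPow q f₂)
      (hs : IsTensorFormStructure (fun x : F => x ^ q) (Cfsg.hermForm n F q) f₁ f₂ e P)
      (h : H = tensorProductSubgroup n₁ n₂ e P ⊓ suGL n F q) : UMax n F q H
  | power {k t : ℕ} (e : Fin n ≃ (Fin t → Fin k)) (P : GL (Fin n) F) {f₁ : (Fin k → F) → (Fin k → F) → F}
      (hk : 3 ≤ k) (ht : 2 ≤ t) (hn : k ^ t = n) (hex : ¬ (q = 2 ∧ k = 3)) (h₁ : IsUnitaryFormPow q f₁)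
      (hs : IsTensorPowerFormStructure (fun x : F => x ^ q) (Cfsg.hermForm n F q) f₁ e P)
      (h : H = tensorWreathSubgroup k t e P ⊓ suGL n F q) : UMax n F q H
  | residual (h : InUnitaryResidualClass H) : UMax n F q H

theorem su_eq_inf {H X : Subgroup (GL (Fin n) F)} (hH : IsMaximalIn (suGL n F q) H) (hle : H ≤ X)
    (hne : ¬ suGL n F q ≤ X) : H = X ⊓ suGL n F q := by
  rcases hH.2 (X ⊓ suGL n F q) (le_inf hle hH.1.le) inf_le_right with h | h
  · exact h.symm
  · exact absurd (inf_eq_right.1 h) hne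

theorem ne_top_of_card {F₀ : Subfield F} {r : ℕ} (hr : 1 < r) (hc : Fintype.card F = Nat.card F₀ ^ r) : F₀ ≠ ⊤ := by
  rintro rfl
  have htop : Nat.card (⊤ : Subfield F) = Fintype.card F := by
    rw [Nat.card_congr Subfield.topEquiv.toEquiv, Nat.card_eq_fintype_card]
  rw [htop] at hc
  exact absurd hc (lt_self_pow₀ Fintype.one_lt_card hr).ne

/-- the maximal subgroups of the special unitary groups -/
theorem su_max (hF : Fintype.card F = q ^ 2) (hn : 5 ≤ n) {H : Subgroup (GL (Fin n) F)}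
    (hH : IsMaximalIn (suGL n F q) H) : UMax n F q H := by
  haveI : Nonempty (Fin n) := ⟨⟨0, by omega⟩⟩
  obtain ⟨σ, hu⟩ := exists_uconj hF
  obtain ⟨C, -⟩ := exists_uctx hu
  have hI : H ≤ Cfsg.GU n F q := fun g hg => (hH.1.le hg).1
  have hq2 : q ≠ 2 → 3 ≤ q := fun hne => by
    have h1 := hu.two_le
    omega
  have decOne : ∀ {t : ℕ} {D : Fin t → Submodule F (Fin n → F)},
      IsNondegenerateMDecomposition (Cfsg.hermForm n F q) 1 D → H ≤ decompositionStabilizer D → UMax n F q H := by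
    intro t D hD hle
    refine .dec hD.decomp.two_le ?_ (by simp) hD
      (su_eq_inf hH hle (su_not_le_frame C hF (by omega) (Or.inr (by omega)) hD))
    rw [decomposition_card hD.decomp, Fintype.card_fin]
  have dec : ∀ {t k : ℕ} {D : Fin t → Submodule F (Fin n → F)},
      IsNondegenerateMDecomposition (Cfsg.hermForm n F q) k D → H ≤ decompositionStabilizer D → UMax n F q H := by
    intro t k D hD hle
    have hk := hD.decomp.pos
    rcases Nat.lt_or_ge k 2 with hk1 | hk2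
    · obtain rfl : k = 1 := by omega
      exact decOne hD hle
    by_cases h22 : k = 2 ∧ q = 2
    · obtain ⟨rfl, hq⟩ := h22
      obtain ⟨t', D', hD', hle'⟩ := frame_of_planes C hF hq hD hI hle
      exact decOne hD' hle'
    · refine .dec hD.decomp.two_le ?_ (fun h => hq2 fun hq => h22 ⟨h, hq⟩) hD
        (su_eq_inf hH hle (su_not_le_decomposition C (by omega) hk2 hD.decomp))
      rw [decomposition_card hD.decomp, Fintype.card_fin]
  rcases unitary_structure hu (by omega) hI with hc | hres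
  swap
  · exact .residual hres
  cases hc with
  | @singular W h0 hs h =>
    refine .singular h0 hs (su_eq_inf hH h (su_not_le_subspace C (by omega) h0 fun htop => ?_))
    subst htop
    obtain ⟨e, he0, -⟩ := C.exists_isotropic (n := n) (by omega)
    obtain ⟨y, hy⟩ := C.exists_form_eq_one he0
    have h1 := hs y trivial e trivial
    rw [herm_form C, hy] at h1
    exact one_ne_zero h1
  | @nondeg W h0 hn' hd h =>
    refine .nondeg h0 hn' hd (su_eq_inf hH h (su_not_le_subspace C (by omega) h0 fun htop => ?_))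
    subst htop
    rw [finrank_top, Module.finrank_fin_fun] at hd
    omega
  | dec hD h => exact dec hD h
  | @pair k D hk hD hs h =>
    exact .pair hk hD hs (su_eq_inf hH h (su_not_le_decomposition C (by omega) (by omega) hD))
  | @subOdd F₀ r P hr hro hc hs h =>
    exact .subOdd ⟨F₀, r, P, hr, hro, hc, hs,
      su_eq_inf hH h (su_not_le_subfield C (by omega) (ne_top_of_card hr.one_lt hc) P)⟩
  | @subOrth F₀ P hq hc hs h =>
    exact .subOrth hq ⟨F₀, P, hc, hs,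
      su_eq_inf hH h (su_not_le_subfield C (by omega) (ne_top_of_card one_lt_two hc) P)⟩
  | @subSymp F₀ P ζ hev hc hζ hζq hs halt h =>
    exact .subSymp hev ⟨F₀, P, ζ, hc, hζ, hζq, hs, halt,
      su_eq_inf hH h (su_not_le_subfield C (by omega) (ne_top_of_card one_lt_two hc) P)⟩
  | @sym r R p e k hR ha hs hrp hm hIR hk hcases h =>
    exact .sym hR ha hs hrp hm hIR hk hcases (su_eq_inf hH h (su_not_le_normalizer C hn hR.prime hR.pGroup ha))
  | @field r K hr hro hK ha h =>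
    refine .field hr hro ?_ hK ha (su_eq_inf hH h (su_not_le_field C (by omega) hr hK))
    have := finrank_dvd_card hK
    rwa [Fintype.card_fin] at this
  | @tensor n₁ n₂ e P f₁ f₂ h2 h12 h₁ h₂ hs h =>
    have hn' : n₁ * n₂ = n := by simpa using (Fintype.card_congr e).symm
    by_cases h22 : n₁ = 2 ∧ q = 2
    · obtain ⟨rfl, hq⟩ := h22
      obtain ⟨D, hD, hle⟩ := dec_of_tensor C hF hq (by omega) e P h₁ hs hI h
      exact dec hD hle
    · exact .tensor e P h2 h12 hn' (fun h1 => hq2 fun hq => h22 ⟨h1, hq⟩) h₁ h₂ hs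
        (su_eq_inf hH h (su_not_le_tensor C P e h2 (by omega)))
  | @power k t e P f₁ hk ht hex h₁ hs h =>
    exact .power e P hk ht (by simpa using (Fintype.card_congr e).symm) hex h₁ hs
      (su_eq_inf hH h (su_not_le_wreath C e P (by omega) ht))

/-- the condition on `p` and `q` of a field generated by `r`-th roots of unity -/
theorem minField_order {r p e : ℕ} (hr : r.Prime) (hrp : r ≠ p) (hm : IsMinimalFieldFor r p e F) :
    orderOf (p : ZMod r) = e ∧ e ∣ r - 1 ∧ p.Prime ∧ CharP F p ∧ Fintype.card F = p ^ e := by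
  obtain ⟨hp, hcp, hcard, hdvd, hmin⟩ := hm
  haveI : Fact r.Prime := ⟨hr⟩
  have hx0 : (p : ZMod r) ≠ 0 := by
    rw [ne_eq, ZMod.natCast_eq_zero_iff]
    exact fun h => hrp ((Nat.prime_dvd_prime_iff_eq hr hp).1 h)
  have hpow : ∀ d, (p : ZMod r) ^ d = 1 ↔ r ∣ p ^ d - 1 := fun d => by
    rw [← ZMod.natCast_eq_zero_iff, Nat.cast_sub (Nat.one_le_pow _ _ hp.pos), Nat.cast_pow, Nat.cast_one, sub_eq_zero]
  have he0 : 0 < e := by
    rcases Nat.eq_zero_or_pos e with rfl | h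
    · rw [pow_zero] at hcard
      exact absurd hcard (Fintype.one_lt_card).ne'
    · exact h
  have he : orderOf (p : ZMod r) = e := by
    rw [orderOf_eq_iff he0]
    exact ⟨(hpow e).2 hdvd, fun d hde hd0 h => hmin d hd0 hde ((hpow d).1 h)⟩
  exact ⟨he, he ▸ orderOf_dvd_of_pow_eq_one (ZMod.pow_card_sub_one_eq_one hx0), hp, hcp, hcard⟩

theorem eq_pow_half {p e : ℕ} (hp : p.Prime) (hc : q ^ 2 = p ^ e) : ∃ f, q = p ^ f ∧ e = 2 * f := by
  obtain ⟨f, -, hf⟩ := (Nat.dvd_prime_pow hp).1 (hc ▸ dvd_pow_self q two_ne_zero : q ∣ p ^ e)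
  refine ⟨f, hf, ?_⟩
  rw [hf, ← pow_mul] at hc
  have := Nat.pow_right_injective hp.two_le hc
  omega

theorem residue_prime_cases {r p f : ℕ} (hr : r.Prime) (hf : 0 < f) (h : orderOf (p : ZMod r) = 2 * f) :
    2 * f ∣ r - 1 ∧ ∀ d, ((p % r : ℕ) : ZMod r) ^ d = 1 → 2 * f ∣ d := by
  haveI : Fact r.Prime := ⟨hr⟩
  refine ⟨?_, fun d hd => ?_⟩
  · rcases eq_or_ne (p : ZMod r) 0 with h0 | h0
    · rw [h0, orderOf_zero] at h
      omega
    · exact h ▸ orderOf_dvd_of_pow_eq_one (ZMod.pow_card_sub_one_eq_one h0)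
  · rw [ZMod.natCast_mod] at hd
    exact h ▸ orderOf_dvd_of_pow_eq_one hd

/-- the data of a sym case for odd `r` -/
theorem sym_cond_odd {r p e : ℕ} (hF : Fintype.card F = q ^ 2) (hr : r.Prime) (hrp : r ≠ p)
    (hm : IsMinimalFieldFor r p e F) :
    ∃ f, 0 < f ∧ p.Prime ∧ CharP F p ∧ q = p ^ f ∧ 2 * f ∣ r - 1 ∧
      ((p % r : ℕ) : ZMod r) ^ (2 * f) = 1 ∧ ∀ d, ((p % r : ℕ) : ZMod r) ^ d = 1 → 2 * f ∣ d := by
  obtain ⟨ho, -, hp, hcp, hcard⟩ := minField_order hr hrp hm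
  obtain ⟨f, hq, rfl⟩ := eq_pow_half (q := q) hp (hF.symm.trans hcard)
  have hf : 0 < f := by
    rcases Nat.eq_zero_or_pos f with rfl | h
    · rw [hq, pow_zero, one_pow] at hF
      exact absurd hF (Fintype.one_lt_card).ne'
    · exact h
  obtain ⟨h1, h2⟩ := residue_prime_cases hr hf ho
  refine ⟨f, hf, hp, hcp, hq, h1, ?_, h2⟩
  rw [ZMod.natCast_mod, ← ho, pow_orderOf_eq_one]

/-- the data of a sym case for `r = 2` -/
theorem sym_cond_two {p : ℕ} (hF : Fintype.card F = q ^ 2) (hrp : 2 ≠ p) (hm : IsMinimalFieldFor 4 p 2 F) :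
    p.Prime ∧ q = p ∧ p % 4 = 3 := by
  obtain ⟨hp, -, hcard, -, hmin⟩ := hm
  obtain ⟨f, hq, hf⟩ := eq_pow_half (q := q) hp (hF.symm.trans hcard)
  obtain rfl : f = 1 := by omega
  refine ⟨hp, by simpa using hq, ?_⟩
  have h1 := hmin 1 one_pos one_lt_two
  rw [pow_one] at h1
  have h2 := hp.eq_two_or_odd.resolve_left (Ne.symm hrp)
  have h3 : p % 4 ≠ 1 := fun h => h1 ⟨p / 4, by omega⟩
  omega

end CfsgLib.Perm.Asch
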