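import Cfsg.Agent.Lib.Perm.Asch.Forms.U

/-!
# The extraspecial group of order 27 inside the three dimensional unitary group over four elements
-/

set_option autoImplicit false
set_option linter.all false

namespace CfsgLib.Perm.Asch

open scoped Classical Matrix
open Matrix Cfsg.Geo

variable {F : Type*} [Field F] [Fintype F]

theorem four_char (hq : Fintype.card F = 4) : CharP F 2 := by
  obtain ⟨p, a, hp, hcp, hc, ha⟩ := exists_char_card (F := F)
  have : p ∣ 2 ^ 2 := by rw [show (2 : ℕ) ^ 2 = 4 by norm_num, ← hq, hc]; exact dvd_pow_self _ ha.ne'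
  have := (Nat.prime_dvd_prime_iff_eq hp Nat.prime_two).1 (hp.dvd_of_dvd_pow this)
  exact this ▸ hcp

theorem four_cube (hq : Fintype.card F = 4) {x : F} (hx : x ≠ 0) : x ^ 3 = 1 := by
  have := FiniteField.pow_card_sub_one_eq_one x hx
  rwa [hq] at this

theorem four_pow (hq : Fintype.card F = 4) (x : F) : x ^ 4 = x := by
  have := FiniteField.pow_card x
  rwa [hq] at this

theorem four_omega (hq : Fintype.card F = 4) :
    ∃ w : F, w ≠ 0 ∧ w ≠ 1 ∧ w * w = w + 1 ∧ ∀ x : F, x ≠ 0 → x = 1 ∨ x = w ∨ x = w * w := by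
  haveI := four_char hq
  have h2 := CharTwo.two_eq_zero (R := F)
  obtain ⟨w, hw⟩ : ∃ w : F, w ∉ ({0, 1} : Finset F) := by
    by_contra hcon
    push Not at hcon
    have := Finset.card_le_card (fun x _ => hcon x : (Finset.univ : Finset F) ⊆ {0, 1})
    rw [Finset.card_univ, hq] at this
    exact absurd (this.trans Finset.card_le_two) (by norm_num)
  simp only [Finset.mem_insert, Finset.mem_singleton, not_or] at hw
  obtain ⟨hw0, hw1⟩ := hw
  have h3 := four_cube hq hw0
  have hsq : w * w = w + 1 := by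
    have : (w - 1) * (w * w + w + 1) = 0 := by linear_combination h3
    have h4 := (mul_eq_zero.1 this).resolve_left (sub_ne_zero.2 hw1)
    linear_combination h4 - (w + 1) * h2
  refine ⟨w, hw0, hw1, hsq, fun x hx => ?_⟩
  have h := four_cube hq hx
  have : (x - 1) * ((x - w) * (x - w * w)) = 0 := by
    linear_combination h + (x - x ^ 2) * hsq - h3 + (x * h3) + (-(x ^ 2) * (w + 1) + x * (w + 1)) * h2
  rcases mul_eq_zero.1 this with h' | h'
  · exact Or.inl (sub_eq_zero.1 h')
  rcases mul_eq_zero.1 h' with h' | h'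
  · exact Or.inr (Or.inl (sub_eq_zero.1 h'))
  · exact Or.inr (Or.inr (sub_eq_zero.1 h'))

/-- the monomial pattern with shift `b` -/
def IsShift (X : Matrix (Fin 3) (Fin 3) F) (b : Fin 3) : Prop := ∀ i j, j ≠ i + b → X i j = 0

omit [Fintype F] in
theorem IsShift.mul {X Y : Matrix (Fin 3) (Fin 3) F} {b c : Fin 3} (hX : IsShift X b) (hY : IsShift Y c) :
    IsShift (X * Y) (b + c) ∧ ∀ i, (X * Y) i (i + (b + c)) = X i (i + b) * Y (i + b) (i + b + c) := by
  have h : ∀ i j, (X * Y) i j = X i (i + b) * Y (i + b) j := fun i j => by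
    rw [Matrix.mul_apply, Finset.sum_eq_single (i + b)]
    · intro l _ hl; rw [hX i l hl, zero_mul]
    · simp
  refine ⟨fun i j hj => ?_, fun i => by rw [h, add_assoc]⟩
  rw [h, hY (i + b) j (by rwa [add_assoc]), mul_zero]

omit [Fintype F] in
theorem IsShift.det {X : Matrix (Fin 3) (Fin 3) F} {b : Fin 3} (hX : IsShift X b) :
    X.det = X 0 (0 + b) * X 1 (1 + b) * X 2 (2 + b) := by
  have e : ∀ i j : Fin 3, j ≠ i + b → X i j = 0 := hX
  rw [Matrix.det_fin_three]
  fin_cases b
  · simp [e 0 1 (by decide), e 0 2 (by decide), e 1 0 (by decide), e 1 2 (by decide), e 2 0 (by decide),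
      e 2 1 (by decide)]
  · simp [e 0 0 (by decide), e 0 2 (by decide), e 1 0 (by decide), e 1 1 (by decide), e 2 1 (by decide),
      e 2 2 (by decide)]
  · simp [e 0 0 (by decide), e 0 1 (by decide), e 1 1 (by decide), e 1 2 (by decide), e 2 0 (by decide),
      e 2 2 (by decide)]

/-- the monomial matrices with cyclic pattern and determinant one -/
def hex3 (F : Type*) [Field F] [Fintype F] : Subgroup (GL (Fin 3) F) where
  carrier := {X | (∃ b, IsShift (X : Matrix (Fin 3) (Fin 3) F) b) ∧ (X : Matrix (Fin 3) (Fin 3) F).det = 1}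
  mul_mem' {X Y} hX hY := by
    obtain ⟨⟨b, hb⟩, hdX⟩ := hX
    obtain ⟨⟨c, hc⟩, hdY⟩ := hY
    exact ⟨⟨b + c, (hb.mul hc).1⟩, by rw [Units.val_mul, Matrix.det_mul, hdX, hdY, one_mul]⟩
  one_mem' := ⟨⟨0, fun i j hj => by rw [Units.val_one, Matrix.one_apply_ne (fun h => hj (by rw [← h, add_zero]))]⟩,
    by simp⟩
  inv_mem' {X} hX := by
    let M : Submonoid (GL (Fin 3) F) :=
      { carrier := {X | (∃ b, IsShift (X : Matrix (Fin 3) (Fin 3) F) b) ∧ (X : Matrix (Fin 3) (Fin 3) F).det = 1}
        mul_mem' := fun {X Y} hX hY => by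
          obtain ⟨⟨b, hb⟩, hdX⟩ := hX
          obtain ⟨⟨c, hc⟩, hdY⟩ := hY
          exact ⟨⟨b + c, (hb.mul hc).1⟩, by rw [Units.val_mul, Matrix.det_mul, hdX, hdY, one_mul]⟩
        one_mem' := ⟨⟨0, fun i j hj => by
          rw [Units.val_one, Matrix.one_apply_ne (fun h => hj (by rw [← h, add_zero]))]⟩, by simp⟩ }
    have h1 : X ^ (orderOf X - 1) ∈ M := M.pow_mem hX _
    have h2 : X⁻¹ = X ^ (orderOf X - 1) := by
      refine inv_eq_of_mul_eq_one_right ?_
      rw [← pow_succ', Nat.sub_add_cancel (orderOf_pos X), pow_orderOf_eq_one]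
    rw [h2]
    exact h1

theorem mem_hex3 {X : GL (Fin 3) F} : X ∈ hex3 F ↔
    (∃ b, IsShift (X : Matrix (Fin 3) (Fin 3) F) b) ∧ (X : Matrix (Fin 3) (Fin 3) F).det = 1 := Iff.rfl

theorem hex3_entries {X : GL (Fin 3) F} (hX : X ∈ hex3 F) :
    ∃ b, IsShift (X : Matrix (Fin 3) (Fin 3) F) b ∧
      (∀ i, (X : Matrix (Fin 3) (Fin 3) F) i (i + b) ≠ 0) ∧
      (X : Matrix (Fin 3) (Fin 3) F) 0 (0 + b) * (X : Matrix (Fin 3) (Fin 3) F) 1 (1 + b) *
        (X : Matrix (Fin 3) (Fin 3) F) 2 (2 + b) = 1 := by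
  obtain ⟨⟨b, hb⟩, hd⟩ := hX
  rw [hb.det] at hd
  refine ⟨b, hb, fun i h0 => ?_, hd⟩
  fin_cases i <;> simp at h0 <;> simp [h0] at hd

/-- the entries form a geometric progression -/
theorem hex3_prog (hq : Fintype.card F = 4) {x y z : F} (hy : y ≠ 0) (h : x * y * z = 1) :
    y * y = x * z := by
  have hxz : x * z ≠ 0 := fun h0 => one_ne_zero (by rw [← h]; linear_combination y * h0)
  refine mul_right_cancel₀ hy ?_
  linear_combination four_cube hq hy - h

theorem hex3_cube (hq : Fintype.card F = 4) {X : GL (Fin 3) F} (hX : X ∈ hex3 F) : X ^ 3 = 1 := by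
  obtain ⟨b, hb, hne, hd⟩ := hex3_entries hX
  refine Units.ext ?_
  obtain ⟨h2, e2⟩ := hb.mul hb
  obtain ⟨h3, e3⟩ := h2.mul hb
  rw [Units.val_pow_eq_pow_val, Units.val_one, pow_succ, pow_two]
  set M := (X : Matrix (Fin 3) (Fin 3) F) with hM
  have hb3 : b + b + b = 0 := (by decide : ∀ b : Fin 3, b + b + b = 0) b
  rw [hb3] at h3 e3
  ext i j
  by_cases hij : j = i
  · subst hij
    rw [Matrix.one_apply_eq]
    have e := e3 j
    rw [add_zero] at e
    rw [e, e2]
    have hc := fun k => four_cube hq (hne k)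
    fin_cases b
    · simp only [Fin.zero_eta, Fin.isValue, add_zero] at hc ⊢
      linear_combination hc j
    · fin_cases j <;> simp at hd ⊢ <;> linear_combination hd
    · fin_cases j <;> simp at hd ⊢ <;> linear_combination hd
  · rw [h3 i j (by rwa [add_zero]), Matrix.one_apply_ne (Ne.symm hij)]

theorem hex3_comm (hq : Fintype.card F = 4) {X Y : GL (Fin 3) F} (hX : X ∈ hex3 F) (hY : Y ∈ hex3 F) :
    X * Y * X⁻¹ * Y⁻¹ ∈ scalars (Fin 3) F := by
  obtain ⟨b, hb, hbne, hdX⟩ := hex3_entries hX
  obtain ⟨c, hc, hcne, hdY⟩ := hex3_entries hY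
  obtain ⟨h1, e1⟩ := hb.mul hc
  obtain ⟨h2, e2⟩ := hc.mul hb
  set M := (X : Matrix (Fin 3) (Fin 3) F)
  set N := (Y : Matrix (Fin 3) (Fin 3) F)
  set x : Fin 3 → F := fun i => M i (i + b) with hx
  set y : Fin 3 → F := fun i => N i (i + c) with hy
  have px : ∀ i, x (i + 1) * x (i + 1) = x i * x (i + 2) := by
    intro i
    refine hex3_prog hq (hbne _) ?_
    fin_cases i <;> simp [x] at hdX ⊢ <;> linear_combination hdX
  have py : ∀ i, y (i + 1) * y (i + 1) = y i * y (i + 2) := by
    intro i
    refine hex3_prog hq (hcne _) ?_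
    fin_cases i <;> simp [y] at hdY ⊢ <;> linear_combination hdY
  -- the ratio is constant
  obtain ⟨s, hs⟩ : ∃ s : F, ∀ i, x i * y (i + b) = s * (y i * x (i + c)) := by
    refine ⟨x 0 * y b / (y 0 * x c), fun i => ?_⟩
    have hne0 : y 0 * x c ≠ 0 := mul_ne_zero (hcne 0) (hbne c)
    rw [div_mul_eq_mul_div, eq_div_iff hne0]
    have a0 := px 0
    have a1 := px 1
    have a2 := px 2
    have b0 := py 0
    have b1 := py 1
    have b2 := py 2
    simp at a0 a1 a2 b0 b1 b2
    fin_cases b <;> fin_cases c <;> fin_cases i <;> simp <;> grind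
  refine mem_scalars_of_eq (c := s) ?_
  have key : M * N = s • (N * M) := by
    ext i j
    rw [Matrix.smul_apply, smul_eq_mul]
    by_cases hj : j = i + (b + c)
    · subst hj
      rw [e1, add_comm b c, e2]
      exact hs i
    · rw [h1 i j hj, h2 i j (by rwa [add_comm c b]), mul_zero]
  show (((X * Y * X⁻¹ * Y⁻¹ : GL (Fin 3) F)) : Matrix (Fin 3) (Fin 3) F) = _
  rw [Units.val_mul, Units.val_mul, Units.val_mul]
  show M * N * _ * _ = _
  rw [key, smul_mul_assoc, smul_mul_assoc]
  congr 1
  calc N * M * ((X⁻¹ : GL (Fin 3) F) : Matrix (Fin 3) (Fin 3) F) * ((Y⁻¹ : GL (Fin 3) F) : Matrix (Fin 3) (Fin 3) F)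
      = N * (M * ((X⁻¹ : GL (Fin 3) F) : Matrix (Fin 3) (Fin 3) F)) * ((Y⁻¹ : GL (Fin 3) F) : Matrix (Fin 3) (Fin 3) F) := by
        simp only [mul_assoc]
    _ = 1 := by rw [gl_mul_inv, mul_one, gl_mul_inv]

variable {σ : F →+* F}

theorem hex3_le_iso (hu : UConj σ 2) {X : GL (Fin 3) F} (hX : X ∈ hex3 F) :
    X ∈ iso σ (1 : Matrix (Fin 3) (Fin 3) F) := by
  obtain ⟨b, hb, hne, -⟩ := hex3_entries hX
  set M := (X : Matrix (Fin 3) (Fin 3) F)
  rw [mem_iso, mul_one]
  show Mᵀ * M.map σ = 1
  ext i j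
  rw [Matrix.mul_apply, Finset.sum_eq_single (i - b)]
  · rw [Matrix.transpose_apply, Matrix.map_apply]
    by_cases hij : i = j
    · subst hij
      rw [Matrix.one_apply_eq, hu.eq, ← pow_succ']
      exact four_cube hu.card (by have := hne (i - b); rwa [sub_add_cancel] at this)
    · rw [Matrix.one_apply_ne hij, hb _ j (by rw [sub_add_cancel]; exact Ne.symm hij), map_zero, mul_zero]
  · intro l _ hl
    rw [Matrix.transpose_apply, hb l i (fun h => hl (by rw [h, add_sub_cancel_right])), zero_mul]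
  · simp

theorem perm3_shift : ∀ π : Equiv.Perm (Fin 3), (∀ i, π (π i) = i → π i = i) → ∃ b, ∀ i, π i = i + b := by
  decide

/-- every element of order dividing three of the unitary group of determinant one is in `hex3` -/
theorem mem_hex3_of_cube (hu : UConj σ 2) {X : GL (Fin 3) F} (hI : X ∈ iso σ (1 : Matrix (Fin 3) (Fin 3) F))
    (hd : (X : Matrix (Fin 3) (Fin 3) F).det = 1) (h3 : X ^ 3 = 1) : X ∈ hex3 F := by
  have hq : Fintype.card F = 4 := hu.card
  haveI := four_char hq
  have h2 := CharTwo.two_eq_zero (R := F)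
  set M := (X : Matrix (Fin 3) (Fin 3) F) with hM
  have hI' : Mᵀ * M.map σ = 1 := by
    have := mem_iso.1 hI
    rwa [mul_one] at this
  have hinv : M * M = Mᵀ.map σ := by
    have h1 := congrArg (fun Y : Matrix (Fin 3) (Fin 3) F => Y.map σ) hI'
    simp only [Matrix.map_mul, Matrix.map_one σ σ.map_zero σ.map_one] at h1
    rw [show (M.map σ).map σ = M by ext i j; simp [hu.inv]] at h1
    have h4 : M * (M * M) = 1 := by
      rw [← pow_two, ← pow_succ', ← Units.val_pow_eq_pow_val, h3, Units.val_one]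
    calc M * M = Mᵀ.map σ * M * (M * M) := by rw [h1, one_mul]
      _ = _ := by rw [mul_assoc, h4, mul_one]
  have hrows : M * Mᵀ.map σ = 1 := by
    rw [← hinv, ← pow_two, ← pow_succ', ← Units.val_pow_eq_pow_val, h3, Units.val_one]
  -- products of rows
  have hrow : ∀ i k, M i 0 * M k 0 ^ 2 + M i 1 * M k 1 ^ 2 + M i 2 * M k 2 ^ 2 = if i = k then 1 else 0 := by
    intro i k
    have := congrFun (congrFun hrows i) k
    rw [Matrix.mul_apply, Fin.sum_univ_three, Matrix.one_apply] at this
    simpa [hu.eq] using this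
  have hsq : ∀ i, M i 0 * M 0 i + M i 1 * M 1 i + M i 2 * M 2 i = M i i ^ 2 := by
    intro i
    have := congrFun (congrFun hinv i) i
    rw [Matrix.mul_apply, Fin.sum_univ_three] at this
    simpa [hu.eq] using this
  have hcube : ∀ x : F, x = 0 ∨ x ^ 3 = 1 := fun x => (eq_or_ne x 0).imp_right (four_cube hq)
  by_cases hall : ∀ i j, M i j ≠ 0
  · exfalso
    have hc : ∀ i j, M i j ^ 3 = 1 := fun i j => four_cube hq (hall i j)
    have hadj : M.adjugate = M * M := by
      have h1 := Matrix.adjugate_mul M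
      rw [hd, one_smul] at h1
      calc M.adjugate = M.adjugate * (M * (M * M)) := by
            rw [← pow_two, ← pow_succ', ← Units.val_pow_eq_pow_val, h3, Units.val_one, mul_one]
        _ = M * M := by rw [← mul_assoc, h1, one_mul]
    rw [Matrix.adjugate_fin_three, hinv] at hadj
    have k0 := congrFun (congrFun hadj 0) 0
    have k1 := congrFun (congrFun hadj 1) 1
    have k2 := congrFun (congrFun hadj 2) 2
    simp [hu.eq] at k0 k1 k2
    have s0 := hsq 0
    have s1 := hsq 1
    have s2 := hsq 2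
    set u := M 0 1 * M 1 0
    have hu12 : M 1 2 * M 2 1 = u := by linear_combination s1 - (M 0 1 * M 1 0) * h2
    have hu02 : M 0 2 * M 2 0 = u := by linear_combination s0 - (M 0 1 * M 1 0) * h2
    have hu0 : u ≠ 0 := mul_ne_zero (hall _ _) (hall _ _)
    set P := M 0 0 * M 1 1 * M 2 2
    have f0 : u * M 0 0 = P - 1 := by linear_combination (-(M 0 0)) * k0 - hc 0 0 - (M 0 0) * hu12
    have f1 : u * M 1 1 = P - 1 := by linear_combination (-(M 1 1)) * k1 - hc 1 1 - (M 1 1) * hu02
    have f2 : u * M 2 2 = P - 1 := by linear_combination (-(M 2 2)) * k2 - hc 2 2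
    have e1 : M 1 1 = M 0 0 := mul_left_cancel₀ hu0 (f1.trans f0.symm)
    have e2 : M 2 2 = M 0 0 := mul_left_cancel₀ hu0 (f2.trans f0.symm)
    have hP : P = 1 := by simp only [P, e1, e2]; linear_combination hc 0 0
    rw [hP, sub_self] at f0
    exact mul_ne_zero hu0 (hall 0 0) f0
  push Not at hall
  obtain ⟨i0, j0, hz⟩ := hall
  -- a row with a zero has a single entry
  have hsingle : ∀ i, (∃ j, M i j = 0) → ∃ a, M i a ≠ 0 ∧ ∀ j, j ≠ a → M i j = 0 := by
    intro i hi
    obtain ⟨j, hj⟩ := hi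
    have h := hrow i i
    rw [if_pos rfl] at h
    fin_cases j <;> simp at hj <;> simp [hj] at h
    · by_cases a : M i 1 = 0
      · exact ⟨2, fun e => by simp [a, e] at h, fun k hk => by fin_cases k <;> simp_all⟩
      · refine ⟨1, a, fun k hk => ?_⟩
        have : M i 2 = 0 := by
          rcases hcube (M i 2) with e | e
          · exact e
          · exfalso
            have := four_cube hq a
            exact one_ne_zero (show (1 : F) = 0 by linear_combination h - this - e)
        fin_cases k <;> simp_all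
    · by_cases a : M i 0 = 0
      · exact ⟨2, fun e => by simp [a, e] at h, fun k hk => by fin_cases k <;> simp_all⟩
      · refine ⟨0, a, fun k hk => ?_⟩
        have : M i 2 = 0 := by
          rcases hcube (M i 2) with e | e
          · exact e
          · exfalso
            have := four_cube hq a
            exact one_ne_zero (show (1 : F) = 0 by linear_combination h - this - e)
        fin_cases k <;> simp_all
    · by_cases a : M i 0 = 0
      · exact ⟨1, fun e => by simp [a, e] at h, fun k hk => by fin_cases k <;> simp_all⟩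
      · refine ⟨0, a, fun k hk => ?_⟩
        have : M i 1 = 0 := by
          rcases hcube (M i 1) with e | e
          · exact e
          · exfalso
            have := four_cube hq a
            exact one_ne_zero (show (1 : F) = 0 by linear_combination h - this - e)
        fin_cases k <;> simp_all
  -- every row has a zero
  obtain ⟨a0, ha0, ha0z⟩ := hsingle i0 ⟨j0, hz⟩
  have hall' : ∀ i, ∃ a, M i a ≠ 0 ∧ ∀ j, j ≠ a → M i j = 0 := fun i => by
    rcases eq_or_ne i i0 with rfl | hne
    · exact ⟨a0, ha0, ha0z⟩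
    refine hsingle i ⟨a0, ?_⟩
    have h := hrow i i0
    rw [if_neg hne] at h
    fin_cases a0
    · simp [ha0z 1 (by decide), ha0z 2 (by decide)] at h ha0 ⊢; tauto
    · simp [ha0z 0 (by decide), ha0z 2 (by decide)] at h ha0 ⊢; tauto
    · simp [ha0z 0 (by decide), ha0z 1 (by decide)] at h ha0 ⊢; tauto
  choose f hf hfz using hall'
  have hfi : Function.Injective f := by
    intro i k hik
    by_contra hne
    have h := hrow i k
    rw [if_neg hne] at h
    have : ∑ j, M i j * M k j ^ 2 = 0 := by rw [Fin.sum_univ_three]; exact h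
    rw [Finset.sum_eq_single (f i) (fun j _ hj => by rw [hfz i j hj, zero_mul]) (by simp)] at this
    refine mul_ne_zero (hf i) (pow_ne_zero _ ?_) this
    rw [hik]; exact hf k
  let π := Equiv.ofBijective f (Finite.injective_iff_bijective.1 hfi)
  have hπ : ∀ i, π (π i) = i → π i = i := by
    intro i hi
    change f (f i) = i at hi
    show f i = i
    by_contra hne
    have h := hsq i
    have hii : M i i = 0 := hfz i i (Ne.symm hne)
    rw [hii, zero_pow two_ne_zero] at h
    have : ∑ j, M i j * M j i = 0 := by rw [Fin.sum_univ_three]; exact h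
    rw [Finset.sum_eq_single (f i) (fun j _ hj => by rw [hfz i j hj, zero_mul]) (by simp)] at this
    refine mul_ne_zero (hf i) ?_ this
    have := hf (f i)
    rwa [hi] at this
  obtain ⟨b, hb⟩ := perm3_shift π hπ
  exact ⟨⟨b, fun i j hj => hfz i j (by rw [show f i = i + b from hb i]; exact hj)⟩, hd⟩

theorem hex3_conj (hu : UConj σ 2) {g X : GL (Fin 3) F} (hg : g ∈ iso σ (1 : Matrix (Fin 3) (Fin 3) F))
    (hX : X ∈ hex3 F) : g * X * g⁻¹ ∈ hex3 F := by
  refine mem_hex3_of_cube hu (mul_mem (mul_mem hg (hex3_le_iso hu hX)) (inv_mem hg)) ?_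
    (by rw [conj_pow, hex3_cube hu.card hX, mul_one, mul_inv_cancel])
  rw [Units.val_mul, Units.val_mul, Matrix.det_mul, Matrix.det_mul, (mem_hex3.1 hX).2, mul_one, ← Matrix.det_mul,
    gl_mul_inv, Matrix.det_one]

/-- the span of `hex3` is everything -/
theorem hex3_span (hq : Fintype.card F = 4) (S : Subalgebra F (Matrix (Fin 3) (Fin 3) F))
    (hS : ∀ X ∈ hex3 F, (X : Matrix (Fin 3) (Fin 3) F) ∈ S) : S = ⊤ := by
  haveI := four_char hq
  have h2 := CharTwo.two_eq_zero (R := F)
  obtain ⟨w, hw0, hw1, hsq, -⟩ := four_omega hq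
  have hmem : ∀ (x : Fin 3 → F) (b : Fin 3), x 0 * x 1 * x 2 = 1 →
      (Matrix.of fun i j : Fin 3 => if j = i + b then x i else 0) ∈ S := by
    intro x b hx
    set M : Matrix (Fin 3) (Fin 3) F := Matrix.of fun i j : Fin 3 => if j = i + b then x i else 0
    have hb : IsShift M b := fun i j hj => by simp [M, hj]
    have hd : M.det = 1 := by rw [hb.det]; simpa [M] using hx
    have := hS (Matrix.GeneralLinearGroup.mkOfDetNeZero M (by rw [hd]; exact one_ne_zero)) ⟨⟨b, hb⟩, hd⟩
    exact this
  have hE : ∀ i b : Fin 3, Matrix.single i (i + b) (1 : F) ∈ S := by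
    intro i b
    let D : Fin 3 → Fin 3 → F := ![![1, 1, 1], ![1, w, w * w], ![1, w * w, w]]
    have hD : ∀ k, D k 0 * D k 1 * D k 2 = 1 := by
      intro k
      fin_cases k <;> simp [D] <;> linear_combination four_cube hq hw0
    have key : Matrix.single i (i + b) (1 : F) =
        ∑ k, (D k i) ^ 2 • (Matrix.of fun r c : Fin 3 => if c = r + b then D k r else 0) := by
      ext r c
      rw [Matrix.sum_apply, Fin.sum_univ_three]
      simp only [Matrix.smul_apply, smul_eq_mul, Matrix.of_apply, Matrix.single_apply]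
      by_cases hc : c = r + b
      · subst hc
        simp only [if_true, add_left_inj]
        have hcond : (i = r ∧ True) ↔ i = r := by tauto
        fin_cases i <;> fin_cases r <;> simp [D] <;> grind
      · rw [if_neg hc, if_neg hc, if_neg hc, if_neg (fun h => hc (by rw [← h.2, h.1]))]
        ring
    rw [key]
    exact S.sum_mem fun k _ => S.smul_mem (hmem _ b (hD k)) _
  refine eq_top_iff.2 fun X _ => ?_
  rw [Matrix.matrix_eq_sum_single X]
  refine S.sum_mem fun i _ => S.sum_mem fun j _ => ?_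
  rw [show Matrix.single i j (X i j) = X i j • Matrix.single i j (1 : F) by simp]
  refine S.smul_mem ?_ _
  have := hE i (j - i)
  rwa [add_sub_cancel] at this

/-- a non-scalar element can be moved off its centraliser -/
theorem hex3_move (hu : UConj σ 2) {X : GL (Fin 3) F} (hX : X ∈ hex3 F) (hs : X ∉ scalars (Fin 3) F) :
    ∃ g ∈ iso σ (1 : Matrix (Fin 3) (Fin 3) F), X * (g * X * g⁻¹) ≠ g * X * g⁻¹ * X := by
  have hq : Fintype.card F = 4 := hu.card
  haveI := four_char hq
  have h2 := CharTwo.two_eq_zero (R := F)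
  obtain ⟨w, hw0, hw1, hsq, hall⟩ := four_omega hq
  have hw3 := four_cube hq hw0
  obtain ⟨b, hb, hne, hd⟩ := hex3_entries hX
  set M := (X : Matrix (Fin 3) (Fin 3) F)
  have mk : ∀ U : Matrix (Fin 3) (Fin 3) F, Uᵀ * U.map σ = 1 → U * M * Uᵀ.map σ * M ≠ M * (U * M * Uᵀ.map σ) →
      ∃ g ∈ iso σ (1 : Matrix (Fin 3) (Fin 3) F), X * (g * X * g⁻¹) ≠ g * X * g⁻¹ * X := by
    intro U hU hne'
    have h1 : U.det ≠ 0 := fun h0 => by
      have := congrArg Matrix.det hU
      rw [Matrix.det_mul, Matrix.det_transpose, h0, zero_mul, Matrix.det_one] at this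
      exact zero_ne_one this
    let g := Matrix.GeneralLinearGroup.mkOfDetNeZero U h1
    have hginv : ((g⁻¹ : GL (Fin 3) F) : Matrix (Fin 3) (Fin 3) F) = Uᵀ.map σ := by
      rw [Matrix.coe_units_inv]
      refine Matrix.inv_eq_left_inv ?_
      have h2' := congrArg (fun Y : Matrix (Fin 3) (Fin 3) F => Y.map σ) hU
      simp only [Matrix.map_mul, Matrix.map_one σ σ.map_zero σ.map_one] at h2'
      rw [show (U.map σ).map σ = U by ext i j; simp [hu.inv]] at h2'
      exact h2'
    refine ⟨g, by rw [mem_iso, mul_one]; exact hU, fun h => hne' ?_⟩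
    have := congrArg Units.val h
    simp only [Units.val_mul, hginv] at this
    exact this.symm
  by_cases hb0 : b = 0
  · subst hb0
    simp only [add_zero] at hne hd
    have hM : M = Matrix.diagonal fun i => M i i := by
      ext i j
      by_cases hij : i = j
      · subst hij; simp
      · rw [Matrix.diagonal_apply_ne _ hij, hb i j (by rw [add_zero]; exact Ne.symm hij)]
    have hne01 : M 0 0 ≠ M 1 1 := by
      intro h01
      have h22 := hex3_prog hq (hne 1) hd
      rw [← h01] at h22
      have h02 : M 2 2 = M 0 0 := (mul_left_cancel₀ (hne 0) h22).symm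
      refine hs (mem_scalars_of_eq (c := M 0 0) ?_)
      show M = _
      rw [hM, Matrix.smul_one_eq_diagonal]
      congr 1
      funext i
      fin_cases i <;> simp [← h01, h02]
    have hp := hex3_prog hq (hne 1) hd
    refine mk !![1, 1, 1; 1, w, w * w; 1, w * w, w] ?_ ?_
    · ext i j
      fin_cases i <;> fin_cases j <;>
        simp [Matrix.mul_apply, Fin.sum_univ_three, hu.eq, Matrix.one_apply] <;> grind
    · intro h
      have h01 := congrFun (congrFun h 0) 1
      have h02 := congrFun (congrFun h 0) 2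
      rw [hM] at h01 h02
      simp [Matrix.mul_apply, Matrix.vecMul, dotProduct, Fin.sum_univ_three, hu.eq, Matrix.diagonal_apply] at h01 h02
      clear mk h
      rcases hall _ (hne 0) with a | a | a <;> rcases hall _ (hne 1) with c | c | c <;> grind
  · refine mk (Matrix.diagonal ![1, 1, w]) ?_ ?_
    · ext i j
      fin_cases i <;> fin_cases j <;>
        simp [Matrix.mul_apply, Fin.sum_univ_three, hu.eq, Matrix.one_apply, Matrix.diagonal_apply] <;> grind
    · intro h
      have h0 := congrFun (congrFun h 0) (0 + b + b)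
      have h1 := congrFun (congrFun h 1) (1 + b + b)
      have e0 := hne 0
      have e1 := hne 1
      have e2 := hne 2
      fin_cases b
      · exact hb0 rfl
      · simp [Matrix.mul_apply, Fin.sum_univ_three, hu.eq, Matrix.diagonal_apply, hb 0 0 (by decide),
          hb 0 2 (by decide), hb 1 0 (by decide), hb 1 1 (by decide), hb 2 1 (by decide), hb 2 2 (by decide)] at h0 h1 e0 e1 e2
        grind
      · simp [Matrix.mul_apply, Fin.sum_univ_three, hu.eq, Matrix.diagonal_apply, hb 0 0 (by decide),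
          hb 0 1 (by decide), hb 1 1 (by decide), hb 1 2 (by decide), hb 2 0 (by decide), hb 2 2 (by decide)] at h0 h1 e0 e1 e2
        grind

end CfsgLib.Perm.Asch
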