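import Cfsg.Agent.Lib.Perm.Asch.Forms.UPower
import Cfsg.Agent.Lib.Perm.Asch.Forms.SpClifford
import Cfsg.Agent.Lib.Perm.Asch.Perfect

/-!
# The structure of subgroups of the unitary groups
-/

set_option autoImplicit false
set_option linter.all false

namespace CfsgLib.Perm.Asch

open scoped Classical Matrix Kronecker commutatorElement
open Matrix Cfsg.Geo

variable {F : Type*} [Field F] [Fintype F] {σ : F →+* F} {n q : ℕ} {H M : Subgroup (GL (Fin n) F)}

theorem refl_eps_one {ι : Type} [Fintype ι] [DecidableEq ι] [Nonempty ι] {σ : F →+* F} {ε : F}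
    (h : (1 : Matrix ι ι F)ᵀ.map σ = ε • (1 : Matrix ι ι F)) : ε = 1 := by
  have := congrFun (congrFun h (Classical.arbitrary ι)) (Classical.arbitrary ι)
  simpa using this.symm

theorem smul_hermitian {κ : Type} [Fintype κ] [DecidableEq κ] {σ : F →+* F} {l c : F} {G : Matrix κ κ F}
    (hl : σ l * c = l) (hG : Gᵀ.map σ = c • G) : (l • G)ᵀ.map σ = l • G := by
  rw [Matrix.transpose_smul, show (l • Gᵀ).map σ = σ l • Gᵀ.map σ by ext i j; simp, hG, smul_smul, hl]

/-- a tensor decomposition of the unitary form puts the group into a class -/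
theorem u_of_tensor_ordered (hu : UConj σ q) {d k : ℕ} (hd : 2 ≤ d) (hdk : d < k) {e : Fin n ≃ Fin d × Fin k}
    {P : GL (Fin n) F} {G₁ : Matrix (Fin d) (Fin d) F} {G₂ : Matrix (Fin k) (Fin k) F} (hd1 : G₁.det ≠ 0)
    (hd2 : G₂.det ≠ 0) (h1 : G₁ᵀ.map σ = G₁) (h2 : G₂ᵀ.map σ = G₂) (hle : H ≤ tensorProductSubgroup d k e P)
    (hG : gramAt σ (1 : Matrix (Fin n) (Fin n) F) e P = G₁ ⊗ₖ G₂) : UClass n F q H := by
  refine .tensor e P (f₁ := gform σ G₁) (f₂ := gform σ G₂) hd hdk (hu.unitaryFormPow hd1 h1)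
    (hu.unitaryFormPow hd2 h2) ?_ hle
  rw [hu.hermForm_eq, ← funext hu.eq]
  exact tensorFormStructure_of_gramAt (σ := σ) one_ne_zero (by rw [one_smul]; exact hG)

theorem u_absIrr_of_normal (hu : UConj σ q) (hn : 2 ≤ n) (hI : H ≤ Cfsg.GU n F q) (hH : ¬ UClass n F q H)
    {N : Subgroup (GL (Fin n) F)} (hN : NormG H N) (hNI : N ≤ Cfsg.GU n F q) (hNs : ¬ N ≤ scalars (Fin n) F) :
    AbsIrr N := by
  haveI : Nonempty (Fin n) := ⟨⟨0, by omega⟩⟩
  have hirr := u_irred hu hI hH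
  have hr : Refl σ (1 : Matrix (Fin n) (Fin n) F) := hu.refl_one
  refine (absIrr_or_tensor hr hirr (fun Z hc hn' hd => u_scalar_of_comm hu (by omega) hI hH hc hn' hd) hN
    (hu.GU_eq (n := n) ▸ hNI) hNs).resolve_right ?_
  rintro ⟨d, k, e, P, G₁, G₂, hd, hk, hle, hG⟩
  obtain ⟨hd1, hd2, ε, c₁, c₂, hε, hc, e1, e2⟩ := factor_refl hr hG
  obtain rfl := refl_eps_one hε
  haveI : Nonempty (Fin d) := ⟨⟨0, by omega⟩⟩
  have hc1 : σ c₁ * c₁ = 1 := by
    obtain ⟨i, j, hij⟩ : ∃ i j, G₁ i j ≠ 0 := by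
      by_contra hcon
      push Not at hcon
      exact hd1 (by rw [show G₁ = 0 from Matrix.ext hcon, Matrix.det_zero])
    have h1 := congrFun (congrFun e1 i) j
    have h2 := congrArg σ (congrFun (congrFun e1 j) i)
    simp only [Matrix.map_apply, Matrix.transpose_apply, Matrix.smul_apply, smul_eq_mul, map_mul, hu.inv] at h1 h2
    rw [h1, ← mul_assoc] at h2
    exact mul_right_cancel₀ hij (by rw [one_mul]; exact h2.symm)
  obtain ⟨l, hl0, hl⟩ := hu.exists_scale hc1
  have hσl : σ l ≠ 0 := by rwa [ne_eq, map_eq_zero]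
  have hl2 : σ l⁻¹ * c₂ = l⁻¹ := by
    rw [map_inv₀]
    field_simp
    linear_combination c₂ * (-hl) + σ l * hc
  have h1 := smul_hermitian hl e1
  have h2 := smul_hermitian hl2 e2
  have hd1' : (l • G₁).det ≠ 0 := by rw [Matrix.det_smul]; exact mul_ne_zero (pow_ne_zero _ hl0) hd1
  have hd2' : (l⁻¹ • G₂).det ≠ 0 := by
    rw [Matrix.det_smul]; exact mul_ne_zero (pow_ne_zero _ (inv_ne_zero hl0)) hd2
  have hG' : gramAt σ (1 : Matrix (Fin n) (Fin n) F) e P = (l • G₁) ⊗ₖ (l⁻¹ • G₂) := by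
    rw [hG, Matrix.smul_kronecker, Matrix.kronecker_smul, smul_smul, mul_inv_cancel₀ hl0, one_smul]
  rcases lt_trichotomy d k with hlt | heq | hgt
  · exact hH (u_of_tensor_ordered hu hd hlt hd1' hd2' h1 h2 hle hG')
  · subst heq
    obtain ⟨A₁, hA₁⟩ := hu.exists_congr_one hd1' h1
    obtain ⟨A₂, hA₂⟩ := hu.exists_congr_one hd2' h2
    let K : GL (Fin d × Fin d) F := Matrix.GeneralLinearGroup.mkOfDetNeZero
      ((A₁ : Matrix (Fin d) (Fin d) F) ⊗ₖ (A₂ : Matrix (Fin d) (Fin d) F)) (by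
        rw [Matrix.det_kronecker]
        exact mul_ne_zero (pow_ne_zero _ ((Matrix.isUnit_iff_isUnit_det _).1 A₁.isUnit).ne_zero)
          (pow_ne_zero _ ((Matrix.isUnit_iff_isUnit_det _).1 A₂.isUnit).ne_zero))
    have hle' := le_tensorProduct_mul (k := K) ⟨A₁, A₂, rfl⟩ hle
    set P' := P * glReindex e.symm K
    have hG1 : gramAt σ (1 : Matrix (Fin n) (Fin n) F) e P' = 1 := by
      rw [gramAt_mul, hG']
      show ((A₁ : Matrix (Fin d) (Fin d) F) ⊗ₖ (A₂ : Matrix (Fin d) (Fin d) F))ᵀ * _ *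
        ((A₁ : Matrix (Fin d) (Fin d) F) ⊗ₖ (A₂ : Matrix (Fin d) (Fin d) F)).map σ = 1
      rw [show ((A₁ : Matrix (Fin d) (Fin d) F) ⊗ₖ (A₂ : Matrix (Fin d) (Fin d) F)).map σ =
          (A₁ : Matrix (Fin d) (Fin d) F).map σ ⊗ₖ (A₂ : Matrix (Fin d) (Fin d) F).map σ by
            ext ⟨a, b⟩ ⟨a', b'⟩; simp [Matrix.kronecker_apply],
        ← Matrix.kroneckerMap_transpose, ← Matrix.mul_kronecker_mul, ← Matrix.mul_kronecker_mul, hA₁, hA₂,
        Matrix.one_kronecker_one]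
    let e' : Fin n ≃ (Fin 2 → Fin d) := e.trans (finTwoArrowEquiv (Fin d)).symm
    refine hH (u_of_power hu hn hI hirr hd le_rfl (e := e') (P := P') ?_ ?_)
    · intro g hg
      obtain ⟨kk, a, b, rfl, hkk⟩ := tensorProduct_elem (hle' hg)
      refine Subgroup.mem_map.2 ⟨_, Subgroup.mem_map.2 ⟨pureGL ![a, b], pureGL_mem _, rfl⟩, ?_⟩
      show P' * glReindex e'.symm (pureGL ![a, b]) * P'⁻¹ = P' * glReindex e.symm kk * P'⁻¹
      congr 2
      apply Units.ext
      show rx e' ((pureGL ![a, b] : GL (Fin 2 → Fin d) F) : Matrix (Fin 2 → Fin d) (Fin 2 → Fin d) F) =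
        rx e (kk : Matrix (Fin d × Fin d) (Fin d × Fin d) F)
      ext i j
      rw [rx_apply, rx_apply, pureGL_coe, pure_apply, hkk, Fin.prod_univ_two, Matrix.kronecker_apply]
      rfl
    · apply (rx e').injective
      rw [rx_gramAt, ← rx_gramAt σ (1 : Matrix (Fin n) (Fin n) F) e P', hG1, map_one, map_one]
  · exact hH (u_of_tensor_ordered hu hk hgt hd2' hd1' h2 h1 (le_trans hle (tensorProduct_swap e P))
      (gramAt_swap _ e P hG'))

theorem u_of_not_simple (hu : UConj σ q) (hn : 2 ≤ n) (hI : H ≤ Cfsg.GU n F q) (hMH : M ≤ H) (hM : NormG H M)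
    (hMs : ¬ M ≤ scalars (Fin n) F) (hperf : ⁅M, M⁆ = M)
    (hmin : ∀ N ≤ M, NormG H N → ¬ N ≤ scalars (Fin n) F → N = M)
    (hns : ∃ U ≤ M, NormG M U ∧ ¬ U ≤ scalars (Fin n) F ∧ U ≠ M) : UClass n F q H := by
  by_contra hH
  haveI : Nonempty (Fin n) := ⟨⟨0, by omega⟩⟩
  have hMA := u_absIrr_of_normal hu hn hI hH hM (hMH.trans hI) hMs
  have hirr := u_irred hu hI hH
  have hr : Refl σ (1 : Matrix (Fin n) (Fin n) F) := hu.refl_one
  obtain ⟨d, t, e, P, c, G₁, hd, ht, hle, hc, hd1, hG⟩ :=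
    exists_power_form hr (hu.GU_eq (n := n) ▸ hI) hMH hM hMA hperf hmin hns
  obtain ⟨ε, δ, hε, hδε, hδ⟩ := power_refl hr (by omega) hc hd1 hG
  obtain rfl := refl_eps_one hε
  haveI : Nonempty (Fin d) := ⟨⟨0, by omega⟩⟩
  have hδ1 : σ δ * δ = 1 := by
    obtain ⟨i, j, hij⟩ : ∃ i j, G₁ i j ≠ 0 := by
      by_contra hcon
      push Not at hcon
      exact hd1 (by rw [show G₁ = 0 from Matrix.ext hcon, Matrix.det_zero])
    have h1 := congrFun (congrFun hδ i) j
    have h2 := congrArg σ (congrFun (congrFun hδ j) i)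
    simp only [Matrix.map_apply, Matrix.transpose_apply, Matrix.smul_apply, smul_eq_mul, map_mul, hu.inv] at h1 h2
    rw [h1, ← mul_assoc] at h2
    exact mul_right_cancel₀ hij (by rw [one_mul]; exact h2.symm)
  obtain ⟨l, hl0, hl⟩ := hu.exists_scale hδ1
  have hσl : σ l ≠ 0 := by rwa [ne_eq, map_eq_zero]
  rw [one_mul] at hδε
  have hc' : σ (c / l ^ t) = c / l ^ t := by
    rw [map_div₀, map_pow, div_eq_div_iff (pow_ne_zero _ hσl) (pow_ne_zero _ hl0)]
    conv_lhs => rw [← hl, mul_pow]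
    linear_combination σ l ^ t * hδε
  have hG₁ := smul_hermitian hl hδ
  have hd1' : (l • G₁).det ≠ 0 := by rw [Matrix.det_smul]; exact mul_ne_zero (pow_ne_zero _ hl0) hd1
  obtain ⟨A, hA⟩ := hu.exists_congr_one hd1' hG₁
  obtain ⟨s, hs0, hs⟩ := hu.exists_norm (c := (c / l ^ t)⁻¹) (inv_ne_zero (div_ne_zero hc (pow_ne_zero _ hl0)))
    (by rw [map_inv₀, hc'])
  let i0 : Fin t := ⟨0, by omega⟩
  let As : Fin t → GL (Fin d) F := fun i => if i = i0 then sch (Fin d) F (Units.mk0 s hs0) * A else A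
  set P' := P * glReindex e.symm (pureGL As)
  have hG1 : gramAt σ (1 : Matrix (Fin n) (Fin n) F) e P' = 1 := by
    rw [gramAt_mul, hG, pureGL_coe, pure_transpose,
      show (pure fun i => (As i : Matrix (Fin d) (Fin d) F)).map σ =
        pure fun i => (As i : Matrix (Fin d) (Fin d) F).map σ by ext a b; simp [map_prod],
      mul_smul_comm, smul_mul_assoc, pure_mul, pure_mul]
    have hi : ((fun i => (As i : Matrix (Fin d) (Fin d) F)ᵀ) * (fun _ => G₁) *
        fun i => (As i : Matrix (Fin d) (Fin d) F).map σ) =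
        fun i => (l⁻¹ * if i = i0 then s * σ s else 1) • (1 : Fin t → Matrix (Fin d) (Fin d) F) i := by
      funext i
      have hA' : (A : Matrix (Fin d) (Fin d) F)ᵀ * G₁ * (A : Matrix (Fin d) (Fin d) F).map σ =
          l⁻¹ • (1 : Matrix (Fin d) (Fin d) F) := by
        rw [← hA, mul_smul_comm, smul_mul_assoc, smul_smul, inv_mul_cancel₀ hl0, one_smul]
      simp only [Pi.mul_apply, Pi.one_apply, As]
      by_cases h : i = i0
      · rw [if_pos h, if_pos h, Units.val_mul, sch_coe, smul_mul_assoc, one_mul, Matrix.transpose_smul,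
          show (((Units.mk0 s hs0 : Fˣ) : F) • (A : Matrix (Fin d) (Fin d) F)).map σ =
            σ s • (A : Matrix (Fin d) (Fin d) F).map σ by ext a b; simp,
          smul_mul_assoc, smul_mul_assoc, mul_smul_comm, hA', smul_smul, smul_smul, Units.val_mk0]
        congr 1; ring
      · rw [if_neg h, if_neg h, mul_one]; exact hA'
    rw [hi, pure_smul, smul_smul, pure_one]
    rw [Finset.prod_mul_distrib, Finset.prod_const, Finset.card_univ, Fintype.card_fin,
      Finset.prod_ite_eq' Finset.univ i0, if_pos (Finset.mem_univ i0), hs, inv_div, inv_pow]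
    field_simp
    rw [one_smul]
  exact hH (u_of_power hu hn hI hirr hd ht (le_tensorWreath_mul (pureGL_mem As) hle) hG1)

theorem u_residual (hu : UConj σ q) (hn : 2 ≤ n) (hI : H ≤ Cfsg.GU n F q) (hH : ¬ UClass n F q H) (hMH : M ≤ H)
    (hM : NormG H M) (hMs : ¬ M ≤ scalars (Fin n) F) (hperf : ⁅M, M⁆ = M)
    (hsimple : ∀ U ≤ M, NormG M U → ¬ U ≤ scalars (Fin n) F → U = M) : InUnitaryResidualClass H := by
  haveI : Nonempty (Fin n) := ⟨⟨0, by omega⟩⟩
  have hMA := u_absIrr_of_normal hu hn hI hH hM (hMH.trans hI) hMs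
  have hMI : M ≤ iso σ (1 : Matrix (Fin n) (Fin n) F) := hu.GU_eq (n := n) ▸ hMH.trans hI
  obtain ⟨τ, hτ, hτσ⟩ := hu.exists_ringAut
  have hbil : ∀ {G : Matrix (Fin n) (Fin n) F}, InvForm M (RingHom.id F) G → G ≠ 0 → False := by
    intro G hG hG0
    obtain ⟨F₀, hne, hreal⟩ := realisable_of_twisted_form hu.refl_one hMA hMI hG
      (hG.det_ne_zero hMA.irred hG0) τ (fun x => hτσ x) (fun h => by
        obtain ⟨x, hx⟩ := hu.exists_ne
        exact hx (by rw [← hτσ, h]; rfl))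
    exact hH (UClass.of_realisable hu hn hM hMA (hMH.trans hI) hne hreal)
  refine ⟨M, residualCore_of_simple hMA hMH hM hMs hperf hsimple fun F₀ hF₀ hreal =>
    hH (UClass.of_realisable hu hn hM hMA (hMH.trans hI) hF₀ hreal), ?_, ?_⟩
  · rintro ⟨Q, hQ, hfix⟩
    obtain ⟨G, hG⟩ := exists_gform (RingHom.id F) (QuadraticMap.polar Q) hQ.polar_bilinear.add_left
      hQ.polar_bilinear.smul_left hQ.polar_bilinear.add_right hQ.polar_bilinear.smul_right
    exact hbil (invForm_iff.2 (hG ▸ FixesQuadForm.polar hfix))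
      (ne_zero_of_nondegenerate (σ := RingHom.id F) (hG ▸ hQ.nondegenerate))
  · rintro ⟨f, hf, hfix⟩
    obtain ⟨G, hG⟩ := exists_gform (RingHom.id F) f hf.bilinear.add_left hf.bilinear.smul_left
      hf.bilinear.add_right hf.bilinear.smul_right
    exact hbil (invForm_iff.2 (hG ▸ hfix)) (ne_zero_of_nondegenerate (σ := RingHom.id F) (hG ▸ hf.nondegenerate))

/-- Aschbacher's theorem for the unitary groups. -/
theorem unitary_structure (hu : UConj σ q) (hn : 2 ≤ n) (hI : H ≤ Cfsg.GU n F q) :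
    UClass n F q H ∨ InUnitaryResidualClass H := by
  by_cases hH : UClass n F q H
  · exact Or.inl hH
  haveI : Nonempty (Fin n) := ⟨⟨0, by omega⟩⟩
  have hirr := u_irred hu hI hH
  have hHs : ¬ H ≤ scalars (Fin n) F := by
    intro hle
    let v : Fin n → F := Pi.single ⟨0, by omega⟩ 1
    rcases hirr.eq_bot_or_top (Submodule.span F {v}) (fun g hg w hw => by
      obtain ⟨c, hc⟩ := mem_scalars.1 (hle hg)
      rw [hc, smul_mulVec, one_mulVec]
      exact Submodule.smul_mem _ _ hw) with h | h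
    · rw [Submodule.span_singleton_eq_bot] at h
      exact one_ne_zero (Pi.single_eq_zero_iff.1 h)
    · have h1 := finrank_span_singleton (K := F) (v := v) (fun h => one_ne_zero (Pi.single_eq_zero_iff.1 h))
      rw [h, finrank_top, Module.finrank_fin_fun] at h1
      omega
  obtain ⟨M, ⟨hMH, hMn, hMs⟩, hMmin⟩ := Set.Finite.exists_minimal
    (s := {N : Subgroup (GL (Fin n) F) | N ≤ H ∧ NormG H N ∧ ¬ N ≤ scalars (Fin n) F}) (Set.toFinite _)
    ⟨H, le_rfl, fun g hg x hx => H.mul_mem (H.mul_mem hg hx) (H.inv_mem hg), hHs⟩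
  have hmin : ∀ N ≤ M, NormG H N → ¬ N ≤ scalars (Fin n) F → N = M := fun N hN hNn hNs =>
    le_antisymm hN (hMmin ⟨hN.trans hMH, hNn, hNs⟩ hN)
  by_cases hder : ⁅M, M⁆ ≤ scalars (Fin n) F
  · left
    exact u_of_symType hu hn hI hMH hMn hMs hmin (fun a ha b hb => hder (Subgroup.commutator_mem_commutator ha hb))
      (fun N hNI hN hNs => u_absIrr_of_normal hu hn hI hH hN hNI hNs)
  have hperf : ⁅M, M⁆ = M := hmin _ (Subgroup.commutator_le.2 fun a ha b hb => by
      rw [commutatorElement_def]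
      exact M.mul_mem (M.mul_mem (M.mul_mem ha hb) (M.inv_mem ha)) (M.inv_mem hb)) hMn.commutator hder
  by_cases hsimple : ∀ U ≤ M, NormG M U → ¬ U ≤ scalars (Fin n) F → U = M
  · exact Or.inr (u_residual hu hn hI hH hMH hMn hMs hperf hsimple)
  · push Not at hsimple
    exact Or.inl (u_of_not_simple hu hn hI hMH hMn hMs hperf hmin hsimple)

end CfsgLib.Perm.Asch
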