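import Cfsg.Agent.Lib.Perm.Asch.Forms.UPerfect
import Cfsg.Agent.Lib.Perm.Asch.Forms.SpProper
import Cfsg.Agent.Lib.SU.Basic

/-!
# No member of a geometric class contains the special unitary group
-/

set_option autoImplicit false
set_option linter.all false

namespace CfsgLib.Perm.Asch

open scoped Classical Matrix
open Matrix Cfsg.Geo CfsgLib.SU

variable {F : Type*} [Field F] [Fintype F] {n q : ℕ} (C : UCtx F q)

/-- the special unitary group inside `GL` -/
def suGL (n : ℕ) (F : Type*) [Field F] [Fintype F] (q : ℕ) : Subgroup (GL (Fin n) F) :=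
  Cfsg.GU n F q ⊓ specialLinear (Fin n) F

theorem exists_uctx {σ : F →+* F} (hu : UConj σ q) : ∃ C : UCtx F q, ∀ x, C.bar x = σ x := by
  obtain ⟨τ, hτ, hτσ⟩ := hu.exists_ringAut
  exact ⟨⟨τ, hτ, fun x => by rw [hτσ, hu.eq]⟩, hτσ⟩

theorem herm_form (u v : Fin n → F) : Cfsg.hermForm n F q u v = C.form u v := by
  rw [← C.hermForm_eq]
  rfl

theorem su_mem_suGL (A : ↥(Cfsg.SU n F q)) :
    ∃ g ∈ suGL n F q, (g : Matrix (Fin n) (Fin n) F) = A.1.1 := by
  refine ⟨Matrix.SpecialLinearGroup.toGL A.1, ⟨A.2, ?_⟩, rfl⟩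
  show Matrix.GeneralLinearGroup.det (Matrix.SpecialLinearGroup.toGL A.1) = 1
  exact Units.ext A.1.2

theorem form_suGL {g : GL (Fin n) F} (hg : g ∈ suGL n F q) (u v : Fin n → F) :
    C.form ((g : Matrix (Fin n) (Fin n) F) *ᵥ u) ((g : Matrix (Fin n) (Fin n) F) *ᵥ v) = C.form u v := by
  rw [← herm_form C, ← herm_form C]
  exact hg.1 u v

/-- transvections -/
theorem exists_utv (u : Fin n → F) (hu : C.form u u = 0) (t : F) (ht : t + C.bar t = 0) :
    ∃ g ∈ suGL n F q, (g : Matrix (Fin n) (Fin n) F) = C.rmap u u t ∧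
      (∀ x, (g : Matrix (Fin n) (Fin n) F) *ᵥ x = x + (t * C.form x u) • u) ∧
      ∀ x, ((g⁻¹ : GL (Fin n) F) : Matrix (Fin n) (Fin n) F) *ᵥ x = x + (-t * C.form x u) • u := by
  obtain ⟨g, hg, hgA⟩ := su_mem_suGL (C.tv u hu t ht)
  have hgx : ∀ x, (g : Matrix (Fin n) (Fin n) F) *ᵥ x = x + (t * C.form x u) • u := fun x => by
    rw [hgA, C.tv_mulVec]
  refine ⟨g, hg, hgA, hgx, fun x => ?_⟩
  have h1 : (g : Matrix (Fin n) (Fin n) F) *ᵥ (x + (-t * C.form x u) • u) = x := by
    rw [hgx, C.form_add_left, C.form_smul_left, hu, mul_zero, add_zero]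
    module
  conv_lhs => rw [← h1, mulVec_mulVec, gl_inv_mul, one_mulVec]

/-- the isotropic vectors not orthogonal to a given one span everything -/
theorem span_of_nonorth {W : Submodule F (Fin n → F)} {e : Fin n → F} (he0 : e ≠ 0) (he : C.form e e = 0)
    (heW : e ∈ W) (h : ∀ v, C.form v v = 0 → C.form v e ≠ 0 → v ∈ W) : W = ⊤ := by
  obtain ⟨y, hy⟩ := C.exists_form_eq_one he0
  obtain ⟨κ, hf1, hf2⟩ := C.exists_partner he (y := y) (by rw [← C.bar_form, hy, map_one])
  let P : UPair C n := ⟨e, y + κ • e, he, hf1, hf2⟩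
  have hfW : P.f ∈ W := h _ P.ff (by
    show C.form P.f P.e ≠ 0
    rw [P.fe]; exact one_ne_zero)
  refine eq_top_iff.2 fun x _ => ?_
  rw [P.decomp x]
  refine W.add_mem (W.add_mem (W.smul_mem _ heW) (W.smul_mem _ hfW)) ?_
  have hw := P.proj_mem x
  set w := P.proj x
  obtain ⟨t, ht⟩ := C.exists_trace (c := -C.form w w) (by rw [map_neg, C.form_self_fixed])
  have hv : P.f + w + t • P.e ∈ W := by
    refine h _ ?_ ?_
    · simp only [C.form_add_left, C.form_add_right, C.form_smul_left, C.form_smul_right, P.ee, P.ff, P.ef, P.fe,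
        hw.1, hw.2, C.form_swap_zero hw.1, C.form_swap_zero hw.2]
      linear_combination ht
    · show C.form (P.f + w + t • P.e) P.e ≠ 0
      rw [C.form_add_left, C.form_add_left, C.form_smul_left, P.ee, P.fe, hw.1, mul_zero, add_zero, add_zero]
      exact one_ne_zero
  have := W.sub_mem (W.sub_mem hv hfW) (W.smul_mem t heW)
  convert this using 1
  show w = P.f + w + t • P.e - P.f - t • P.e
  abel

theorem exists_iso_nonorth (hn : 2 ≤ n) {w : Fin n → F} (hw : w ≠ 0) :
    ∃ u, C.form u u = 0 ∧ C.form w u ≠ 0 := by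
  by_contra hcon
  push Not at hcon
  obtain ⟨e, he0, he⟩ := C.exists_isotropic (n := n) hn
  let W : Submodule F (Fin n → F) :=
    { carrier := {x | C.form x w = 0}
      add_mem' := fun {a b} ha hb => by
        show C.form (a + b) w = 0
        rw [C.form_add_left, ha, hb, add_zero]
      zero_mem' := C.form_zero_left w
      smul_mem' := fun c a ha => by
        show C.form (c • a) w = 0
        rw [C.form_smul_left, ha, mul_zero] }
  have htop : W = ⊤ := span_of_nonorth C he0 he (C.form_swap_zero (hcon e he))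
    fun v hv _ => C.form_swap_zero (hcon v hv)
  exact hw (C.eq_zero_of_form' fun v => (htop ▸ Submodule.mem_top : v ∈ W))

include C in
theorem su_not_le_subspace (hn : 2 ≤ n) {W : Submodule F (Fin n → F)} (h0 : W ≠ ⊥) (h1 : W ≠ ⊤) :
    ¬ suGL n F q ≤ subspaceStabilizer W := by
  intro hle
  obtain ⟨δ, hδ0, hδ⟩ := C.exists_trace_zero
  have key : ∀ u, C.form u u = 0 → ∀ w ∈ W, C.form w u ≠ 0 → u ∈ W := by
    intro u hu w hw hne
    obtain ⟨g, hg, -, hgx, -⟩ := exists_utv C u hu δ hδ
    have h2 : w + (δ * C.form w u) • u ∈ W := hgx w ▸ (hle hg w).1 hw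
    have h3 := W.sub_mem h2 hw
    rw [add_sub_cancel_left] at h3
    exact (W.smul_mem_iff (mul_ne_zero hδ0 hne)).1 h3
  obtain ⟨w, hw, hw0⟩ := Submodule.exists_mem_ne_zero_of_ne_bot h0
  obtain ⟨u, hu, hwu⟩ := exists_iso_nonorth C hn hw0
  have huW := key u hu w hw hwu
  refine h1 (span_of_nonorth C (fun h => hwu (by rw [h, C.form_zero_right])) hu huW fun v hv hve => ?_)
  exact key v hv u huW fun h => hve (C.form_swap_zero h)

theorem exists_kernel_form (W : Submodule F (Fin n → F)) (hW : 2 ≤ Module.finrank F W) (u : Fin n → F) :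
    ∃ v ∈ W, v ≠ 0 ∧ C.form v u = 0 := by
  let L : W →ₗ[F] (Fin 1 → F) :=
    { toFun := fun x _ => C.form x u
      map_add' := fun x y => by
        funext i
        show C.form ((x : Fin n → F) + (y : Fin n → F)) u = _
        rw [C.form_add_left]; rfl
      map_smul' := fun a x => by
        funext i
        show C.form (a • (x : Fin n → F)) u = _
        rw [C.form_smul_left]; rfl }
  obtain ⟨x, hx, hx0⟩ := Submodule.exists_mem_ne_zero_of_ne_bot
    (LinearMap.ker_ne_bot_of_finrank_lt (f := L) (by simp; omega))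
  exact ⟨x, x.2, fun h => hx0 (Subtype.ext h), congrFun (LinearMap.mem_ker.1 hx) 0⟩

include C in
/-- decompositions into subspaces of dimension at least two -/
theorem su_not_le_decomposition (hn : 2 ≤ n) {t k : ℕ} (hk : 2 ≤ k) {D : Fin t → Submodule F (Fin n → F)}
    (hD : IsMDecomposition k D) : ¬ suGL n F q ≤ decompositionStabilizer D := by
  intro hle
  obtain ⟨δ, hδ0, hδ⟩ := C.exists_trace_zero
  have hdis : ∀ i j, ∀ x, x ∈ D i → x ∈ D j → x ≠ 0 → i = j := fun i j x hi hj hx => by
    by_contra hij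
    exact hx ((Submodule.mem_bot F).1 ((hD.indep.pairwiseDisjoint hij).le_bot ⟨hi, hj⟩))
  have key : ∀ u, C.form u u = 0 → ∀ i, ∀ w ∈ D i, C.form w u ≠ 0 → u ∈ D i := by
    intro u hu i w hw hne
    obtain ⟨g, hg, -, hgx, -⟩ := exists_utv C u hu δ hδ
    obtain ⟨π, hπ⟩ := hle hg
    obtain ⟨v, hv, hv0, hvu⟩ := exists_kernel_form C (D i) (by rw [hD.finrank_eq]; exact hk) u
    have himg : ∀ x ∈ D i, x + (δ * C.form x u) • u ∈ D (π i) := fun x hx =>
      hπ i ▸ ⟨x, hx, by rw [Matrix.toLin'_apply, hgx]⟩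
    have hπi : π i = i := by
      have h1 := himg v hv
      rw [hvu, mul_zero, zero_smul, add_zero] at h1
      exact hdis _ _ v h1 hv hv0
    have h3 := (D i).sub_mem (hπi ▸ himg w hw) hw
    rw [add_sub_cancel_left] at h3
    exact ((D i).smul_mem_iff (mul_ne_zero hδ0 hne)).1 h3
  have hsome : ∀ u, C.form u u = 0 → u ≠ 0 → ∃ i, u ∈ D i := by
    intro u hu hu0
    by_contra hcon
    push Not at hcon
    refine hu0 (C.eq_zero_of_form' fun v => ?_)
    have hv : v ∈ iSup D := hD.iSup_eq_top ▸ Submodule.mem_top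
    induction hv using Submodule.iSup_induction' with
    | mem i x hx =>
      by_contra hne
      exact hcon i (key u hu i x hx hne)
    | zero => exact C.form_zero_left u
    | add x y _ _ hx hy => rw [C.form_add_left, hx, hy, add_zero]
  obtain ⟨e, he0, he⟩ := C.exists_isotropic (n := n) hn
  obtain ⟨a, ha⟩ := hsome e he he0
  have htop : D a = ⊤ := span_of_nonorth C he0 he ha fun v hv hve => by
    obtain ⟨b, hb⟩ := hsome v hv fun h => hve (by rw [h, C.form_zero_left])
    have hab : a = b := hdis _ _ e ha (key e he b v hb hve) he0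
    exact hab ▸ hb
  haveI : Nontrivial (Fin t) := Fin.nontrivial_iff_two_le.2 hD.two_le
  obtain ⟨b, hb⟩ := exists_ne a
  obtain ⟨x, hx, hx0⟩ := Submodule.exists_mem_ne_zero_of_ne_bot (p := D b) fun h => by
    have := hD.finrank_eq b
    rw [h, finrank_bot] at this
    omega
  exact hb (hdis b a x hx (htop ▸ Submodule.mem_top) hx0)

theorem exists_norm_ne (C : UCtx F q) (hF : Fintype.card F = q ^ 2) (hq : q ≠ 2) {c : F} :
    ∃ a : F, a ≠ 0 ∧ a * C.bar a ≠ c := by
  by_contra hcon
  push Not at hcon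
  obtain ⟨g, hg⟩ := IsCyclic.exists_ofOrder_eq_natCard (α := Fˣ)
  rw [Nat.card_units, Nat.card_eq_fintype_card, hF] at hg
  have h1 := hcon 1 one_ne_zero
  rw [map_one, mul_one] at h1
  have h2 : g ^ (q + 1) = 1 := Units.ext (by
    rw [Units.val_pow_eq_pow_val, Units.val_one, pow_succ', ← C.bar_eq, hcon _ g.ne_zero, h1])
  have h3 := orderOf_dvd_of_pow_eq_one h2
  rw [hg] at h3
  have h4 := Nat.le_of_dvd (by omega) h3
  have h5 : 1 < q ^ 2 := hF ▸ Fintype.one_lt_card
  have h6 : 3 ≤ q := by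
    rcases q with _ | _ | q
    · simp at h5
    · simp at h5
    · omega
  have h7 : q * 3 ≤ q ^ 2 := by rw [sq]; exact Nat.mul_le_mul_left q h6
  omega

theorem fixed_eq_one (C : UCtx F q) (hq : q = 2) {c : F} (hc : C.bar c = c) (hc0 : c ≠ 0) : c = 1 := by
  rw [C.bar_eq, hq, sq] at hc
  exact mul_right_cancel₀ hc0 (hc.trans (one_mul c).symm)

theorem two_eq_zero (hF : Fintype.card F = q ^ 2) (hq : q = 2) : (2 : F) = 0 := by
  have h := FiniteField.cast_card_eq_zero (K := F)
  rw [hF, hq, show ((2 ^ 2 : ℕ) : F) = (2 : F) * 2 by norm_num] at h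
  exact mul_self_eq_zero.1 h

include C in
/-- decompositions into orthogonal anisotropic lines -/
theorem su_not_le_frame (hF : Fintype.card F = q ^ 2) (hn : 3 ≤ n) (h32 : q ≠ 2 ∨ 4 ≤ n) {t : ℕ}
    {D : Fin t → Submodule F (Fin n → F)} (hD : IsNondegenerateMDecomposition (Cfsg.hermForm n F q) 1 D) :
    ¬ suGL n F q ≤ decompositionStabilizer D := by
  intro hle
  obtain rfl : t = n := by
    have := decomposition_card hD.decomp
    rwa [mul_one, Fintype.card_fin] at this
  have hne : ∀ i, D i ≠ ⊥ := fun i h => by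
    have := hD.decomp.finrank_eq i
    rw [h, finrank_bot] at this
    omega
  choose w hw hw0 using fun i => Submodule.exists_mem_ne_zero_of_ne_bot (hne i)
  have hline : ∀ i, ∀ x ∈ D i, ∃ a : F, x = a • w i := fun i x hx => by
    obtain ⟨⟨v, hv⟩, -, hspan⟩ := finrank_eq_one_iff'.1 (hD.decomp.finrank_eq i)
    obtain ⟨b, hb⟩ := hspan ⟨w i, hw i⟩
    obtain ⟨a, ha⟩ := hspan ⟨x, hx⟩
    have hb' : b • v = w i := congrArg Subtype.val hb
    have ha' : a • v = x := congrArg Subtype.val ha
    refine ⟨a * b⁻¹, ?_⟩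
    have hb0 : b ≠ 0 := fun h => hw0 i (by rw [← hb', h, zero_smul])
    rw [← hb', smul_smul, mul_assoc, inv_mul_cancel₀ hb0, mul_one, ha']
  have horth : ∀ i j, i ≠ j → C.form (w i) (w j) = 0 := fun i j hij => by
    rw [← herm_form C]
    exact hD.orthogonal i j hij _ (hw i) _ (hw j)
  have hd : ∀ i, C.form (w i) (w i) ≠ 0 := fun i h => by
    obtain ⟨⟨x, hx, hx'⟩, -⟩ := hD.nondegenerate i (w i) (hw i) (hw0 i)
    obtain ⟨a, rfl⟩ := hline i x hx
    rw [herm_form C, C.form_smul_left, h, mul_zero] at hx'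
    exact hx' rfl
  have key : ∀ u, C.form u u = 0 → ∀ i j k, j ≠ k → j ≠ i → k ≠ i → C.form (w i) u ≠ 0 → C.form u (w j) ≠ 0 →
      C.form u (w k) ≠ 0 → False := by
    intro u hu i j k hjk hji hki hi hj hk
    obtain ⟨δ, hδ0, hδ⟩ := C.exists_trace_zero
    obtain ⟨g, hg, -, hgx, -⟩ := exists_utv C u hu δ hδ
    obtain ⟨π, hπ⟩ := hle hg
    obtain ⟨a, ha⟩ : ∃ a : F, w i + (δ * C.form (w i) u) • u = a • w (π i) :=
      hline _ _ (hπ i ▸ ⟨w i, hw i, by rw [Matrix.toLin'_apply, hgx]⟩)
    obtain ⟨l, hl, hli, hlk⟩ : ∃ l, π i ≠ l ∧ l ≠ i ∧ C.form u (w l) ≠ 0 := by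
      rcases eq_or_ne (π i) j with h | h
      · exact ⟨k, h ▸ hjk, hki, hk⟩
      · exact ⟨j, h, hji, hj⟩
    have h1 := congrArg (fun z => C.form z (w l)) ha
    simp only [C.form_add_left, C.form_smul_left, horth _ _ hli.symm, horth _ _ hl, zero_add, mul_zero] at h1
    exact mul_ne_zero (mul_ne_zero hδ0 hi) hlk h1
  let i0 : Fin t := ⟨0, by omega⟩
  let i1 : Fin t := ⟨1, by omega⟩
  let i2 : Fin t := ⟨2, by omega⟩
  have h01 : i0 ≠ i1 := by simp [i0, i1]
  have h02 : i0 ≠ i2 := by simp [i0, i2]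
  have h12 : i1 ≠ i2 := by simp [i1, i2]
  by_cases hq : q = 2
  · have h4 : 4 ≤ t := h32.resolve_left (by simp [hq])
    let i3 : Fin t := ⟨3, by omega⟩
    have h03 : i0 ≠ i3 := by simp [i0, i3]
    have h13 : i1 ≠ i3 := by simp [i1, i3]
    have h23 : i2 ≠ i3 := by simp [i2, i3]
    have hone : ∀ i, C.form (w i) (w i) = 1 := fun i => fixed_eq_one C hq (C.form_self_fixed _) (hd i)
    have htwo := two_eq_zero hF hq
    refine key (w i0 + w i1 + w i2 + w i3) ?_ i0 i1 i2 h12 h01.symm h02.symm ?_ ?_ ?_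
    · simp only [C.form_add_left, C.form_add_right, hone, horth _ _ h01, horth _ _ h02, horth _ _ h03,
        horth _ _ h12, horth _ _ h13, horth _ _ h23, horth _ _ h01.symm, horth _ _ h02.symm, horth _ _ h03.symm,
        horth _ _ h12.symm, horth _ _ h13.symm, horth _ _ h23.symm]
      linear_combination (2 : F) * htwo
    all_goals simp [C.form_add_left, C.form_add_right, hone, horth _ _ h01, horth _ _ h02, horth _ _ h03,
        horth _ _ h12, horth _ _ h13, horth _ _ h23, horth _ _ h01.symm, horth _ _ h02.symm, horth _ _ h03.symm,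
        horth _ _ h12.symm, horth _ _ h13.symm, horth _ _ h23.symm]
  · set d := fun i => C.form (w i) (w i) with hddef
    obtain ⟨a, ha0, ha⟩ := exists_norm_ne C hF hq (c := -(d i0) / d i1)
    have hfix : C.bar (-(d i0 + a * C.bar a * d i1) / d i2) = -(d i0 + a * C.bar a * d i1) / d i2 := by
      simp only [hddef, map_div₀, map_neg, map_add, map_mul, C.bar_bar, C.form_self_fixed]
      ring
    obtain ⟨b, hb⟩ := C.exists_norm hfix
    have hsum : d i0 + a * C.bar a * d i1 ≠ 0 := fun h => ha (by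
      rw [eq_div_iff (hd i1)]
      linear_combination h)
    have hb0 : b ≠ 0 := by
      rintro rfl
      rw [zero_mul, eq_comm, div_eq_zero_iff, neg_eq_zero] at hb
      exact hb.elim hsum (hd i2)
    rw [eq_div_iff (hd i2)] at hb
    refine key (w i0 + a • w i1 + b • w i2) ?_ i0 i1 i2 h12 h01.symm h02.symm ?_ ?_ ?_
    · simp only [C.form_add_left, C.form_add_right, C.form_smul_left, C.form_smul_right, horth _ _ h01,
        horth _ _ h02, horth _ _ h12, horth _ _ h01.symm, horth _ _ h02.symm, horth _ _ h12.symm]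
      linear_combination hb
    all_goals simp [C.form_add_left, C.form_add_right, C.form_smul_left, C.form_smul_right, horth _ _ h01,
        horth _ _ h02, horth _ _ h12, horth _ _ h01.symm, horth _ _ h02.symm, horth _ _ h12.symm, hd, ha0, hb0]

/-- vectors moved by a transvection which commutes with `k` -/
theorem eigen_of_commute {u : Fin n → F} (hu0 : u ≠ 0) {t : F} (ht : t ≠ 0) {g : GL (Fin n) F}
    (hg : ∀ x, (g : Matrix (Fin n) (Fin n) F) *ᵥ x = x + (t * C.form x u) • u) {k : Matrix (Fin n) (Fin n) F}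
    (hk : (g : Matrix (Fin n) (Fin n) F) * k = k * (g : Matrix (Fin n) (Fin n) F)) :
    ∃ c : F, k *ᵥ u = c • u := by
  obtain ⟨y, hy⟩ := C.exists_form_eq_one hu0
  have h := congrArg (· *ᵥ y) hk
  simp only [← mulVec_mulVec, hg, hy, mul_one, mulVec_add, mulVec_smul, add_right_inj] at h
  refine ⟨C.form (k *ᵥ y) u, ?_⟩
  rw [mul_smul] at h
  exact (smul_right_injective _ ht h).symm

/-- a matrix with all isotropic vectors as eigenvectors is scalar -/
theorem scalar_of_iso_eigen (hn : 2 ≤ n) {k : Matrix (Fin n) (Fin n) F}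
    (h : ∀ u, u ≠ 0 → C.form u u = 0 → ∃ c : F, k *ᵥ u = c • u) :
    ∃ c : F, k = c • (1 : Matrix (Fin n) (Fin n) F) := by
  obtain ⟨e, he0, he⟩ := C.exists_isotropic (n := n) hn
  obtain ⟨a, ha⟩ := h e he0 he
  refine ⟨a, ?_⟩
  let W : Submodule F (Fin n → F) :=
    { carrier := {x | k *ᵥ x = a • x}
      add_mem' := fun {x y} hx hy => by
        show k *ᵥ (x + y) = a • (x + y)
        rw [mulVec_add, hx, hy, smul_add]
      zero_mem' := by
        show k *ᵥ 0 = a • 0
        simp
      smul_mem' := fun c x hx => by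
        show k *ᵥ (c • x) = a • (c • x)
        rw [mulVec_smul, hx, smul_comm] }
  have htop : W = ⊤ := span_of_nonorth C he0 he ha fun v hv hve => by
    have hv0 : v ≠ 0 := fun h0 => hve (by rw [h0, C.form_zero_left])
    obtain ⟨b, hb⟩ := h v hv0 hv
    obtain ⟨δ, hδ0, hδ⟩ := C.exists_trace_zero
    set s := C.bar (δ / C.form e v) with hs
    have hev : C.form e v ≠ 0 := fun h0 => hve (C.form_swap_zero h0)
    have hs0 : s ≠ 0 := by simp [hs, hδ0, hev]
    have h1 : C.bar s * C.form e v = δ := by rw [hs, C.bar_bar, div_mul_cancel₀ _ hev]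
    have h2 : s * C.form v e = C.bar δ := by rw [← h1, map_mul, C.bar_bar, C.bar_form]
    obtain ⟨c, hc⟩ := h (e + s • v) (fun h0 => hev (by
      have := congrArg (fun z => C.form z v) h0
      simpa [C.form_add_left, C.form_smul_left, hv, C.form_zero_left] using this)) (by
      simp only [C.form_add_left, C.form_add_right, C.form_smul_left, C.form_smul_right, he, hv]
      linear_combination h1 + h2 + hδ)
    rw [mulVec_add, mulVec_smul, ha, hb] at hc
    have hac : a = c := by
      have := congrArg (fun z => C.form z v) hc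
      simp only [C.form_add_left, C.form_smul_left, hv, mul_zero, add_zero] at this
      exact mul_right_cancel₀ hev this
    subst hac
    rw [smul_add, add_right_inj, smul_comm a s] at hc
    show k *ᵥ v = a • v
    rw [hb]
    exact smul_right_injective _ hs0 hc
  refine Matrix.ext_iff_mulVec.2 fun x => ?_
  rw [Matrix.smul_mulVec, one_mulVec]
  exact (htop ▸ Submodule.mem_top : x ∈ W)

/-- a matrix of small range cannot be invertible -/
theorem small_range_false {M N : Matrix (Fin n) (Fin n) F} {s : Finset (Fin n → F)} (hs : s.card < n)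
    (h : ∀ v, M *ᵥ v ∈ Submodule.span F (s : Set (Fin n → F))) {c : F} (hc : c ≠ 0) (hMN : M * N = c • 1) :
    False := by
  have htop : (⊤ : Submodule F (Fin n → F)) ≤ Submodule.span F (s : Set (Fin n → F)) := fun v _ => by
    have h1 := h (N *ᵥ (c⁻¹ • v))
    rwa [mulVec_mulVec, hMN, Matrix.smul_mulVec, one_mulVec, smul_smul, mul_inv_cancel₀ hc, one_smul] at h1
  have h1 := Submodule.finrank_mono htop
  rw [finrank_top, Module.finrank_fin_fun] at h1
  have h2 := finrank_span_finset_le_card (R := F) s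
  unfold Set.finrank at h2
  omega

theorem cj_sub_range {u : Fin n → F} {t : F} {g : GL (Fin n) F}
    (hg : ∀ x, (g : Matrix (Fin n) (Fin n) F) *ᵥ x = x + (t * C.form x u) • u)
    (hgi : ∀ x, ((g⁻¹ : GL (Fin n) F) : Matrix (Fin n) (Fin n) F) *ᵥ x = x + (-t * C.form x u) • u)
    (k : Matrix (Fin n) (Fin n) F) (v : Fin n → F) :
    (cj g k - k) *ᵥ v ∈ Submodule.span F ((({u, k *ᵥ u} : Finset (Fin n → F))) : Set (Fin n → F)) := by
  rw [Finset.coe_pair, sub_mulVec, cj, ← mulVec_mulVec, ← mulVec_mulVec, hgi, hg]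
  refine Submodule.mem_span_pair.2 ⟨t * C.form (k *ᵥ (v + (-t * C.form v u) • u)) u, -t * C.form v u, ?_⟩
  rw [mulVec_add, mulVec_smul]
  module

include C in
theorem su_not_le_field (hn : 3 ≤ n) {r : ℕ} (hr : r.Prime) {K : Subalgebra F (Matrix (Fin n) (Fin n) F)}
    (hK : IsFieldSubalgebra r K) : ¬ suGL n F q ≤ subalgebraNormalizer K := by
  intro hle
  obtain ⟨δ, hδ0, hδ⟩ := C.exists_trace_zero
  have hbot : K = ⊥ := eq_bot_iff.2 fun k hk => by
    obtain ⟨c, hc⟩ := scalar_of_iso_eigen C (by omega) (k := k) fun u hu0 hu => by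
      obtain ⟨g, hg, -, hgx, hgi⟩ := exists_utv C u hu δ hδ
      have hDK : cj g k - k ∈ K := K.sub_mem ((hle hg k).1 hk) hk
      have hD0 : cj g k - k = 0 := by
        by_contra hne
        obtain ⟨E, -, hE⟩ := hK.inv _ hDK hne
        refine small_range_false (s := {u, k *ᵥ u}) ?_ (cj_sub_range C hgx hgi k) one_ne_zero
          (N := E) (by rw [hE, one_smul])
        have : ({u, k *ᵥ u} : Finset (Fin n → F)).card ≤ 2 := Finset.card_le_two
        omega
      refine eigen_of_commute C hu0 hδ0 hgx ?_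
      conv_rhs => rw [← sub_eq_zero.1 hD0, cj, mul_assoc, gl_inv_mul, mul_one]
    exact mem_bot_iff.2 ⟨c, hc⟩
  haveI : Nonempty (Fin n) := ⟨⟨0, by omega⟩⟩
  have := hK.finrank_eq
  rw [hbot, Subalgebra.finrank_bot] at this
  exact hr.ne_one this.symm

include C in
/-- no group of prime power order with scalar centraliser is normalised -/
theorem su_not_le_normalizer (hn : 5 ≤ n) {r : ℕ} {R : Subgroup (GL (Fin n) F)} (hr : r.Prime)
    (hR : IsPGroup r R) (ha : ActsAbsolutelyIrreducibly (matrixSet R)) : ¬ suGL n F q ≤ subgroupNormalizer R := by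
  intro hle
  haveI : Fact r.Prime := ⟨hr⟩
  haveI : Nonempty (Fin n) := ⟨⟨0, by omega⟩⟩
  obtain ⟨δ, hδ0, hδ⟩ := C.exists_trace_zero
  set Z := scalars (Fin n) F
  haveI : (Z.subgroupOf R).Normal := Subgroup.Normal.subgroupOf scalars_normal R
  have hne : Nontrivial (R ⧸ Z.subgroupOf R) := by
    by_contra hn'
    rw [not_nontrivial_iff_subsingleton] at hn'
    let i : Fin n := ⟨0, by omega⟩
    let j : Fin n := ⟨1, by omega⟩
    obtain ⟨c, hc⟩ := ha.2 (Matrix.single i j (1 : F)) (by
      rintro _ ⟨y, hy, rfl⟩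
      obtain ⟨d, hd⟩ := mem_scalars.1 (Subgroup.mem_subgroupOf.1
        ((QuotientGroup.eq_one_iff _).1 (Subsingleton.elim ((⟨y, hy⟩ : R) : R ⧸ Z.subgroupOf R) 1)))
      have hd' : (y : Matrix (Fin n) (Fin n) F) = (d : F) • 1 := hd
      show _ * (y : Matrix (Fin n) (Fin n) F) = (y : Matrix (Fin n) (Fin n) F) * _
      rw [hd', mul_smul_comm, smul_mul_assoc, mul_one, one_mul])
    have := congrFun (congrFun hc i) j
    simp [i, j] at this
  obtain ⟨x, hxR, hxT, hxZ⟩ : ∃ x ∈ R, (∀ y ∈ R, x * y * x⁻¹ * y⁻¹ ∈ Z) ∧ x ∉ Z := by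
    haveI : Nontrivial (Subgroup.center (R ⧸ Z.subgroupOf R)) := (hR.to_quotient _).center_nontrivial
    obtain ⟨⟨c, hc⟩, hc1⟩ := exists_ne (1 : Subgroup.center (R ⧸ Z.subgroupOf R))
    induction c using QuotientGroup.induction_on with
    | _ x =>
      refine ⟨x, x.2, fun y hy => ?_, fun h => hc1 (Subtype.ext ?_)⟩
      · have h1 := Subgroup.mem_center_iff.1 hc ((⟨y, hy⟩ : R) : R ⧸ Z.subgroupOf R)
        rw [← QuotientGroup.mk_mul, ← QuotientGroup.mk_mul, QuotientGroup.eq, Subgroup.mem_subgroupOf] at h1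
        have h2 := scalars_normal.conj_mem _ h1 (y * (x : GL (Fin n) F))
        convert h2 using 1
        simp only [Subgroup.coe_mul, InvMemClass.coe_inv]
        group
      · show ((x : R) : R ⧸ Z.subgroupOf R) = 1
        rw [QuotientGroup.eq_one_iff, Subgroup.mem_subgroupOf]
        exact h
  refine hxZ ?_
  obtain ⟨c, hc⟩ := scalar_of_iso_eigen C (by omega) (k := (x : Matrix (Fin n) (Fin n) F)) fun u hu0 hu => by
    obtain ⟨g, hg, -, hgx, hgi⟩ := exists_utv C u hu δ hδ
    set v := (x : Matrix (Fin n) (Fin n) F) *ᵥ u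
    set z := g * x * g⁻¹ * x⁻¹ with hz
    have hgR : g * x * g⁻¹ ∈ R := (hle hg x).1 hxR
    have hzR : z ∈ R := R.mul_mem hgR (R.inv_mem hxR)
    have hrange : ∀ w, ((z : Matrix (Fin n) (Fin n) F) - 1) *ᵥ w ∈
        Submodule.span F ((({u, v} : Finset (Fin n → F))) : Set (Fin n → F)) := fun w => by
      have e : (z : Matrix (Fin n) (Fin n) F) - 1 =
          (cj g (x : Matrix (Fin n) (Fin n) F) - x) * ((x⁻¹ : GL (Fin n) F) : Matrix (Fin n) (Fin n) F) := by
        rw [sub_mul, gl_mul_inv, cj, hz, Units.val_mul, Units.val_mul, Units.val_mul]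
      rw [e, ← mulVec_mulVec]
      exact cj_sub_range C hgx hgi _ _
    have hzT : ∀ y ∈ R, z * y * z⁻¹ * y⁻¹ ∈ Z := by
      intro y hy
      have hy' : g⁻¹ * y * g ∈ R := by simpa using (hle ((suGL n F q).inv_mem hg) y).1 hy
      have h1 : g * x * g⁻¹ * y * (g * x * g⁻¹)⁻¹ * y⁻¹ ∈ Z := by
        have := scalars_normal.conj_mem _ (hxT _ hy') g
        convert this using 1
        group
      have h2 : x⁻¹ * y * x * y⁻¹ ∈ Z := by
        have := scalars_normal.conj_mem _ (Z.inv_mem (hxT y hy)) x⁻¹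
        convert this using 1
        group
      have h3 := Z.mul_mem (scalars_normal.conj_mem _ h2 (g * x * g⁻¹)) h1
      convert h3 using 1
      rw [hz]; group
    have hzc : ∀ y ∈ R, z * y = y * z := by
      intro y hy
      obtain ⟨d, hd⟩ := mem_scalars.1 (hzT y hy)
      have hzy : (z : Matrix (Fin n) (Fin n) F) * y =
          (d : F) • ((y : Matrix (Fin n) (Fin n) F) * z) := by
        have : z * y = z * y * z⁻¹ * y⁻¹ * (y * z) := by group
        rw [← Units.val_mul, this, Units.val_mul, hd, smul_mul_assoc, one_mul, Units.val_mul]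
      by_cases hd1 : (d : F) = 1
      · rw [hd1, one_smul] at hzy
        exact Units.ext (by rw [Units.val_mul z y, Units.val_mul y z, hzy])
      exfalso
      -- `y` maps the small range of `z - 1` onto that of `d • z - 1`
      set s : Finset (Fin n → F) := {u, v, (y : Matrix (Fin n) (Fin n) F) *ᵥ u, (y : Matrix (Fin n) (Fin n) F) *ᵥ v}
      have hsub : Submodule.span F ((({u, v} : Finset (Fin n → F))) : Set (Fin n → F)) ≤
          Submodule.span F (s : Set (Fin n → F)) := Submodule.span_mono (by simp [s, Set.insert_subset_iff])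
      refine small_range_false (M := ((d : F) - 1) • (y : Matrix (Fin n) (Fin n) F))
        (N := ((y⁻¹ : GL (Fin n) F) : Matrix (Fin n) (Fin n) F)) (s := s) ?_ (fun w => ?_) (sub_ne_zero.2 hd1)
        (by rw [smul_mul_assoc, gl_mul_inv])
      · have : s.card ≤ 4 := Finset.card_le_four
        omega
      have e : ((d : F) - 1) • (y : Matrix (Fin n) (Fin n) F) =
          ((z : Matrix (Fin n) (Fin n) F) - 1) * y - (d : F) • ((y : Matrix (Fin n) (Fin n) F) * ((z : Matrix (Fin n) (Fin n) F) - 1)) := by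
        rw [sub_mul, one_mul, hzy, mul_sub, mul_one, smul_sub, sub_smul, one_smul]
        abel
      rw [e, sub_mulVec, ← mulVec_mulVec, Matrix.smul_mulVec, ← mulVec_mulVec]
      refine Submodule.sub_mem _ (hsub (hrange _)) (Submodule.smul_mem _ _ ?_)
      have h1 : (y : Matrix (Fin n) (Fin n) F) *ᵥ (((z : Matrix (Fin n) (Fin n) F) - 1) *ᵥ w) ∈
          (Submodule.span F ((({u, v} : Finset (Fin n → F))) : Set (Fin n → F))).map
            (Matrix.toLin' (y : Matrix (Fin n) (Fin n) F)) :=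
        ⟨_, hrange w, by rw [Matrix.toLin'_apply]⟩
      rw [Submodule.map_span] at h1
      refine Submodule.span_mono ?_ h1
      rintro _ ⟨a, ha, rfl⟩
      simp only [Finset.coe_pair, Set.mem_insert_iff, Set.mem_singleton_iff] at ha
      rcases ha with rfl | rfl <;> simp [s, Matrix.toLin'_apply]
    obtain ⟨c, hc⟩ := ha.2 (z : Matrix (Fin n) (Fin n) F) (by
      rintro _ ⟨y, hy, rfl⟩
      show (z : Matrix (Fin n) (Fin n) F) * (y : Matrix (Fin n) (Fin n) F) = y * z
      exact ((Units.val_mul z y).symm.trans (congrArg Units.val (hzc y hy))).trans (Units.val_mul y z))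
    have hc1 : c = 1 := by
      by_contra hne
      refine small_range_false (M := (z : Matrix (Fin n) (Fin n) F) - 1) (N := 1) (s := {u, v}) ?_ hrange
        (sub_ne_zero.2 hne) (by rw [mul_one, hc, sub_smul, one_smul])
      have : ({u, v} : Finset (Fin n → F)).card ≤ 2 := Finset.card_le_two
      omega
    have hz1 : z = 1 := Units.ext (by rw [hc, hc1, one_smul, Units.val_one])
    refine eigen_of_commute C hu0 hδ0 hgx ?_
    have : g * x = x * g := by
      have h1 : g * x = z * (x * g) := by rw [hz]; group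
      rw [h1, hz1, one_mul]
    rw [← Units.val_mul, this, Units.val_mul]
  exact mem_scalars_of_eq hc

end CfsgLib.Perm.Asch
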