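import Cfsg.Agent.Lib.Perm.Asch.Forms.UProper

/-!
# The special unitary group lies in no subfield or tensor group
-/

set_option autoImplicit false
set_option linter.all false

namespace CfsgLib.Perm.Asch

open scoped Classical Matrix
open Matrix Cfsg.Geo CfsgLib.SU

variable {F : Type*} [Field F] [Fintype F] {n q : ℕ} (C : UCtx F q)

/-- a scalar multiple of a matrix over `F₀` which is a transvection is a matrix over `F₀` -/
theorem rank_one_entries (hn : 3 ≤ n) {F₀ : Subfield F} {a b : Fin n → F} {c : F} (hc : c ≠ 0)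
    {M : Matrix (Fin n) (Fin n) F} (hM : ∀ i j, M i j ∈ F₀)
    (h : c • M = 1 + vecMulVec a b) : ∀ i j, a i * b j ∈ F₀ := by
  have he : ∀ i j, M i j = c⁻¹ * ((if i = j then 1 else 0) + a i * b j) := fun i j => by
    have := congrFun (congrFun h i) j
    rw [Matrix.smul_apply, Matrix.add_apply, Matrix.one_apply, vecMulVec_apply, smul_eq_mul] at this
    rw [← this, ← mul_assoc, inv_mul_cancel₀ hc, one_mul]
  have hd : c⁻¹ ∈ F₀ := by
    by_cases hz : ∃ i, a i * b i = 0
    · obtain ⟨i, hi⟩ := hz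
      have := hM i i
      rwa [he, if_pos rfl, hi, add_zero, mul_one] at this
    · push Not at hz
      let i : Fin n := ⟨0, by omega⟩
      let j : Fin n := ⟨1, by omega⟩
      let k : Fin n := ⟨2, by omega⟩
      have h1 := F₀.sub_mem (hM i i) (F₀.div_mem (F₀.mul_mem (hM i j) (hM k i)) (hM k j))
      rw [he, he, he, he, if_pos rfl, if_neg (by simp [i, j]), if_neg (by simp [i, k]), if_neg (by simp [j, k]),
        zero_add, zero_add, zero_add] at h1
      have := left_ne_zero_of_mul (hz k)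
      have := right_ne_zero_of_mul (hz j)
      convert h1 using 1
      field_simp
      ring
  intro i j
  have hij : (if i = j then (1 : F) else 0) ∈ F₀ := by split_ifs <;> [exact F₀.one_mem; exact F₀.zero_mem]
  have := F₀.sub_mem (F₀.div_mem (hM i j) hd) hij
  rwa [he, mul_div_cancel_left₀ _ (inv_ne_zero hc), add_sub_cancel_left] at this

include C in
theorem su_not_le_subfield (hn : 3 ≤ n) {F₀ : Subfield F} (hF₀ : F₀ ≠ ⊤) (P : GL (Fin n) F) :
    ¬ suGL n F q ≤ subfieldSubgroup F₀ P := by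
  intro hle
  obtain ⟨δ, hδ0, hδ⟩ := C.exists_trace_zero
  set A : (Fin n → F) → Matrix (Fin n) (Fin n) F := fun u =>
    vecMulVec (((P⁻¹ : GL (Fin n) F) : Matrix (Fin n) (Fin n) F) *ᵥ (δ • u))
      ((fun j => C.bar (u j)) ᵥ* (P : Matrix (Fin n) (Fin n) F)) with hA
  have hent : ∀ u, C.form u u = 0 → ∀ i j, A u i j ∈ F₀ := by
    intro u hu i j
    obtain ⟨g, hg, hgv, -, -⟩ := exists_utv C u hu δ hδ
    obtain ⟨y, hy, hyg⟩ := Subgroup.mem_map.1 (hle hg)
    obtain ⟨x, hx, z, hz, rfl⟩ := Subgroup.mem_sup_of_normal_right.1 hy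
    obtain ⟨M, rfl⟩ := hx
    obtain ⟨c, hc⟩ := mem_scalars.1 hz
    simp only [hA, vecMulVec_apply]
    refine rank_one_entries hn (Units.ne_zero c)
      (M := ((Matrix.GeneralLinearGroup.map (F₀.subtype : F₀ →+* F) M : GL (Fin n) F) : Matrix (Fin n) (Fin n) F))
      (fun i j => ((M : Matrix (Fin n) (Fin n) F₀) i j).2) ?_ i j
    have h2 : (c : F) • ((Matrix.GeneralLinearGroup.map (F₀.subtype : F₀ →+* F) M : GL (Fin n) F) :
        Matrix (Fin n) (Fin n) F) =
        ((P⁻¹ : GL (Fin n) F) : Matrix (Fin n) (Fin n) F) * (g : Matrix (Fin n) (Fin n) F) *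
          (P : Matrix (Fin n) (Fin n) F) := by
      rw [← Units.val_mul, ← Units.val_mul, ← hyg]
      show _ = ((P⁻¹ * (P * (Matrix.GeneralLinearGroup.map (F₀.subtype : F₀ →+* F) M * z) * P⁻¹) * P : GL (Fin n) F) :
        Matrix (Fin n) (Fin n) F)
      rw [show P⁻¹ * (P * (Matrix.GeneralLinearGroup.map (F₀.subtype : F₀ →+* F) M * z) * P⁻¹) * P =
        Matrix.GeneralLinearGroup.map (F₀.subtype : F₀ →+* F) M * z by group, Units.val_mul, hc, mul_smul_comm, mul_one]
    rw [h2, hgv, UCtx.rmap, mul_add, add_mul, mul_one, gl_inv_mul, mul_vecMulVec, vecMulVec_mul]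
  obtain ⟨P'⟩ := C.exists_pair (n := n) (by omega)
  obtain ⟨u, hu, huu, -⟩ := P'.exists_basis
  refine hF₀ (eq_top_iff.2 fun z _ => ?_)
  set t := C.bar (z / (δ * δ * δ)) with ht
  obtain ⟨s, hs⟩ := C.exists_norm (c := -(t + C.bar t)) (by
    rw [map_neg, map_add, C.bar_bar]; ring)
  let i0 : Fin (n - 2) := ⟨0, by omega⟩
  set x := s • u i0 with hx
  have hxx : C.form x x = -(t + C.bar t) := by
    rw [hx, C.form_smul_left, C.form_smul_right, huu, if_pos rfl, mul_one, hs]
  have hxP : x ∈ P'.perp := P'.perp.smul_mem _ (hu i0)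
  set w := P'.f + x + t • P'.e with hw
  have hww : C.form w w = 0 := by
    simp only [hw, C.form_add_left, C.form_add_right, C.form_smul_left, C.form_smul_right, P'.ee, P'.ff, P'.ef,
      P'.fe, hxP.1, hxP.2, C.form_swap_zero hxP.1, C.form_swap_zero hxP.2]
    linear_combination hxx
  have hmul : ∀ X Y : Matrix (Fin n) (Fin n) F, (∀ i j, X i j ∈ F₀) → (∀ i j, Y i j ∈ F₀) →
      ∀ i j, (X * Y) i j ∈ F₀ := fun X Y hX hY i j => by
    rw [Matrix.mul_apply]
    exact sum_mem fun k _ => F₀.mul_mem (hX i k) (hY k j)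
  have htr : (A P'.e * A w * A P'.f).trace ∈ F₀ :=
    sum_mem fun i _ => hmul _ _ (hmul _ _ (hent _ P'.ee) (hent _ hww)) (hent _ P'.ff) i i
  have hdot : ∀ a b : Fin n → F, (((fun j => C.bar (a j)) ᵥ* (P : Matrix (Fin n) (Fin n) F)) ⬝ᵥ
      (((P⁻¹ : GL (Fin n) F) : Matrix (Fin n) (Fin n) F) *ᵥ (δ • b))) = δ * C.form b a := fun a b => by
    rw [← dotProduct_mulVec, mulVec_mulVec, gl_mul_inv, one_mulVec, dotProduct_smul, smul_eq_mul]
    congr 1
    simp [dotProduct, UCtx.form, mul_comm]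
  have hval : (A P'.e * A w * A P'.f).trace = δ * δ * δ * C.bar t := by
    simp only [hA, vecMulVec_mul_vecMulVec, Matrix.smul_mul, vecMulVec_smul, smul_smul, Matrix.trace_smul,
      Matrix.trace_vecMulVec, dotProduct_smul, smul_dotProduct, smul_eq_mul]
    rw [dotProduct_comm (((P⁻¹ : GL (Fin n) F) : Matrix (Fin n) (Fin n) F) *ᵥ (δ • P'.e)), hdot, hdot, hdot]
    have e1 : C.form w P'.e = 1 := by
      rw [hw, C.form_add_left, C.form_add_left, C.form_smul_left t, P'.fe, hxP.1, P'.ee, mul_zero, add_zero, add_zero]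
    have e2 : C.form P'.f w = C.bar t := by
      rw [hw, C.form_add_right, C.form_add_right, C.form_smul_right t, P'.ff, C.form_swap_zero hxP.2, P'.fe, mul_one,
        zero_add, zero_add]
    rw [e1, e2, P'.ef]
    ring
  rw [hval, ht, C.bar_bar, mul_div_cancel₀ _ (mul_ne_zero (mul_ne_zero hδ0 hδ0) hδ0)] at htr
  exact htr

/-! ### product vectors -/

theorem plane_isotropic {a b : Fin n → F} (hab : ∀ c d : F, c • a + d • b = 0 → c = 0 ∧ d = 0) :
    ∃ c d : F, (c ≠ 0 ∨ d ≠ 0) ∧ C.form (c • a + d • b) (c • a + d • b) = 0 := by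
  by_cases ha : C.form a a = 0
  · exact ⟨1, 0, Or.inl one_ne_zero, by simpa using ha⟩
  set b' := b - (C.form b a / C.form a a) • a with hb'
  have hba : C.form b' a = 0 := by
    rw [hb', C.form_sub_left, C.form_smul_left, div_mul_cancel₀ _ ha, sub_self]
  obtain ⟨s, hs⟩ := C.exists_norm (c := -C.form b' b' / C.form a a) (by
    rw [map_div₀, map_neg, C.form_self_fixed, C.form_self_fixed])
  rw [eq_div_iff ha] at hs
  refine ⟨s - C.form b a / C.form a a, 1, Or.inr one_ne_zero, ?_⟩
  rw [show (s - C.form b a / C.form a a) • a + (1 : F) • b = s • a + b' by rw [hb']; module]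
  simp only [C.form_add_left, C.form_add_right, C.form_smul_left, C.form_smul_right, hba, C.form_swap_zero hba]
  linear_combination hs

theorem exists_dual_pair {k : ℕ} {x y : Fin k → F} (hx : x ∉ Submodule.span F {y}) :
    ∃ φ : Fin k → F, φ ⬝ᵥ x = 1 ∧ φ ⬝ᵥ y = 0 := by
  obtain ⟨φ, h1, h2⟩ := exists_dual _ hx
  exact ⟨φ, h1, h2 y (Submodule.mem_span_singleton_self y)⟩

theorem not_mem_span_symm {k : ℕ} {x y : Fin k → F} (hy : y ≠ 0) (hx : x ∉ Submodule.span F {y}) :
    y ∉ Submodule.span F {x} := by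
  intro h
  obtain ⟨c, rfl⟩ := Submodule.mem_span_singleton.1 h
  have hc : c ≠ 0 := fun h0 => hy (by rw [h0, zero_smul])
  exact hx (Submodule.mem_span_singleton.2 ⟨c⁻¹, inv_smul_smul₀ hc x⟩)

theorem exists_not_mem_span {k : ℕ} (hk : 2 ≤ k) (y : Fin k → F) : ∃ x : Fin k → F, x ∉ Submodule.span F {y} := by
  by_contra hcon
  push Not at hcon
  have h1 := Submodule.finrank_mono (show (⊤ : Submodule F (Fin k → F)) ≤ Submodule.span F {y} from fun x _ => hcon x)
  rw [finrank_top, Module.finrank_fin_fun] at h1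
  have h2 := finrank_span_finset_le_card (R := F) ({y} : Finset (Fin k → F))
  rw [Finset.coe_singleton] at h2
  unfold Set.finrank at h2
  simp at h2
  omega

variable {k t : ℕ} (e : Fin n ≃ (Fin t → Fin k)) (P : GL (Fin n) F)

/-- the vectors `P (x₁ ⊗ ⋯ ⊗ x_t)` -/
def ptk (x : Fin t → Fin k → F) : Fin n → F := (P : Matrix (Fin n) (Fin n) F) *ᵥ (pv x ∘ e)

theorem ptk_injective {a b : (Fin t → Fin k) → F}
    (h : (P : Matrix (Fin n) (Fin n) F) *ᵥ (a ∘ e) = (P : Matrix (Fin n) (Fin n) F) *ᵥ (b ∘ e)) : a = b := by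
  have := congrArg (((P⁻¹ : GL (Fin n) F) : Matrix (Fin n) (Fin n) F) *ᵥ ·) h
  simp only [mulVec_mulVec, gl_inv_mul, one_mulVec] at this
  funext i
  simpa using congrFun this (e.symm i)

theorem pv_update_add (x : Fin t → Fin k → F) (l : Fin t) (a b : Fin k → F) :
    pv (Function.update x l (a + b)) = pv (Function.update x l a) + pv (Function.update x l b) := by
  funext i
  simp only [pv, Pi.add_apply]
  rw [← Finset.mul_prod_erase _ _ (Finset.mem_univ l), ← Finset.mul_prod_erase _ _ (Finset.mem_univ l),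
    ← Finset.mul_prod_erase _ _ (Finset.mem_univ l)]
  have : ∀ c : Fin k → F, ∏ m ∈ Finset.univ.erase l, Function.update x l c m (i m) =
      ∏ m ∈ Finset.univ.erase l, x m (i m) := fun c =>
    Finset.prod_congr rfl fun m hm => by rw [Function.update_of_ne (Finset.ne_of_mem_erase hm)]
  simp only [this, Function.update_self, Pi.add_apply]
  ring

theorem pv_update_smul (x : Fin t → Fin k → F) (l : Fin t) (c : F) (a : Fin k → F) :
    pv (Function.update x l (c • a)) = c • pv (Function.update x l a) := by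
  funext i
  simp only [pv, Pi.smul_apply, smul_eq_mul]
  rw [← Finset.mul_prod_erase _ _ (Finset.mem_univ l), ← Finset.mul_prod_erase _ _ (Finset.mem_univ l)]
  have : ∀ c : Fin k → F, ∏ m ∈ Finset.univ.erase l, Function.update x l c m (i m) =
      ∏ m ∈ Finset.univ.erase l, x m (i m) := fun c =>
    Finset.prod_congr rfl fun m hm => by rw [Function.update_of_ne (Finset.ne_of_mem_erase hm)]
  simp only [this, Function.update_self, Pi.smul_apply, smul_eq_mul]
  ring

theorem sum_pv (φ x : Fin t → Fin k → F) :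
    ∑ a : Fin t → Fin k, (∏ l, φ l (a l)) * pv x a = ∏ l, φ l ⬝ᵥ x l := by
  simp only [pv, ← Finset.prod_mul_distrib, dotProduct]
  exact (Fintype.prod_sum (fun l b => φ l b * x l b)).symm

theorem pv_single (a : Fin t → Fin k) : pv (fun l => (Pi.single (a l) 1 : Fin k → F)) = Pi.single a 1 := by
  funext b
  simp only [pv]
  by_cases h : b = a
  · subst h; simp
  · rw [Pi.single_eq_of_ne h]
    obtain ⟨l, hl⟩ := Function.ne_iff.1 h
    exact Finset.prod_eq_zero (Finset.mem_univ l) (Pi.single_eq_of_ne hl _)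

/-- there is an isotropic product vector and a product vector in general position not orthogonal to it -/
theorem exists_pv_pair (hk : 2 ≤ k) (ht : 1 ≤ t) :
    ∃ x0 x1 : Fin t → Fin k → F, (∀ l, x0 l ≠ 0) ∧ (∀ l, x1 l ∉ Submodule.span F {x0 l}) ∧
      C.form (ptk e P x0) (ptk e P x0) = 0 ∧ C.form (ptk e P x1) (ptk e P x0) ≠ 0 := by
  let b0 : Fin k := ⟨0, by omega⟩
  let b1 : Fin k := ⟨1, by omega⟩
  let c0 : Fin t := ⟨0, by omega⟩
  let base : Fin t → Fin k → F := fun _ => Pi.single b0 1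
  let alt : Fin t → Fin k → F := Function.update base c0 (Pi.single b1 1)
  have hbb : b0 ≠ b1 := by simp [b0, b1]
  have e0 : pv base = Pi.single (fun _ => b0) 1 := pv_single _
  have e1 : pv alt = Pi.single (Function.update (fun _ => b0) c0 b1) 1 := by
    rw [← pv_single]
    congr 1
    funext l
    rcases eq_or_ne l c0 with rfl | hl
    · simp [alt]
    · simp [alt, base, Function.update_of_ne hl]
  have hne : (Function.update (fun _ => b0) c0 b1 : Fin t → Fin k) ≠ fun _ => b0 := fun h => by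
    have := congrFun h c0
    simp at this
    exact hbb this.symm
  obtain ⟨c, d, hcd, hiso⟩ := plane_isotropic C (a := ptk e P base) (b := ptk e P alt) (fun c d h => by
    have h1 : c • pv base + d • pv alt = 0 := by
      apply ptk_injective e P
      rw [Pi.zero_comp, mulVec_zero, ← h]
      simp only [ptk, ← mulVec_smul, ← mulVec_add]
      congr 1
    rw [e0, e1] at h1
    have h2 := congrFun h1 (fun _ => b0)
    have h3 := congrFun h1 (Function.update (fun _ => b0) c0 b1)
    simp [hne, hne.symm] at h2 h3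
    exact ⟨h2, h3⟩)
  let x0 : Fin t → Fin k → F := Function.update base c0 (c • Pi.single b0 1 + d • Pi.single b1 1)
  have hx0 : ∀ l, x0 l ≠ 0 := fun l => by
    rcases eq_or_ne l c0 with rfl | hl
    · intro h
      have h2 := congrFun h b0
      have h3 := congrFun h b1
      simp [x0, hbb, hbb.symm] at h2 h3
      rcases hcd with h4 | h4
      · exact h4 h2
      · exact h4 h3
    · simp [x0, base, Function.update_of_ne hl]
  have hpt : ptk e P x0 = c • ptk e P base + d • ptk e P alt := by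
    have : pv x0 = c • pv base + d • pv alt := by
      rw [show x0 = Function.update base c0 (c • Pi.single b0 1 + d • Pi.single b1 1) from rfl, pv_update_add,
        pv_update_smul, pv_update_smul]
      congr 3
      exact Function.update_eq_self_iff.2 rfl
    simp only [ptk, this, ← mulVec_smul, ← mulVec_add]
    congr 1
  refine ⟨x0, ?_⟩
  rw [← hpt] at hiso
  by_contra hcon
  push Not at hcon
  have hall : ∀ (s : Finset (Fin t)) (x : Fin t → Fin k → F), (∀ l ∉ s, x l ∉ Submodule.span F {x0 l}) →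
      C.form (ptk e P x) (ptk e P x0) = 0 := by
    intro s
    induction s using Finset.induction_on with
    | empty => exact fun x hx => hcon x hx0 (fun l => hx l (Finset.notMem_empty l)) hiso
    | insert j s hj ih =>
      intro x hx
      by_cases hm : x j ∈ Submodule.span F {x0 j}
      swap
      · refine ih x fun l hl => ?_
        rcases eq_or_ne l j with rfl | hlj
        · exact hm
        · exact hx l (by simp [hl, hlj])
      obtain ⟨z, hz⟩ := exists_not_mem_span hk (x0 j)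
      have h1 : ∀ y, y ∉ Submodule.span F {x0 j} →
          C.form (ptk e P (Function.update x j y)) (ptk e P x0) = 0 := fun y hy => by
        refine ih _ fun l hl => ?_
        rcases eq_or_ne l j with rfl | hlj
        · rwa [Function.update_self]
        · rw [Function.update_of_ne hlj]; exact hx l (by simp [hl, hlj])
      have h2 : pv x = pv (Function.update x j (x j + z)) + (-1 : F) • pv (Function.update x j z) := by
        rw [pv_update_add, Function.update_eq_self]
        module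
      have h3 : ptk e P x = ptk e P (Function.update x j (x j + z)) + (-1 : F) • ptk e P (Function.update x j z) := by
        simp only [ptk, ← mulVec_smul, ← mulVec_add]
        congr 1
        rw [h2]
        rfl
      rw [h3, C.form_add_left, C.form_smul_left, h1 z hz, h1 _ fun h => hz (by
        simpa using Submodule.sub_mem _ h hm)]
      simp
  have hzero : ptk e P x0 = 0 := C.eq_zero_of_form' fun v => by
    set a := fun i => (((P⁻¹ : GL (Fin n) F) : Matrix (Fin n) (Fin n) F) *ᵥ v) (e.symm i) with ha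
    have hv : v = ∑ i, a i • ptk e P (fun l => Pi.single (i l) 1) := by
      simp only [ptk, pv_single, ← mulVec_smul, ← mulVec_sum]
      have : (∑ i : Fin t → Fin k, a i • ((Pi.single i (1 : F) : (Fin t → Fin k) → F) ∘ e)) =
          ((P⁻¹ : GL (Fin n) F) : Matrix (Fin n) (Fin n) F) *ᵥ v := by
        funext j
        simp [Finset.sum_apply, ha, Pi.single_apply]
      rw [this, mulVec_mulVec, gl_mul_inv, one_mulVec]
    rw [hv, C.form_sum_left]
    exact Finset.sum_eq_zero fun i _ => by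
      rw [C.form_smul_left, hall Finset.univ _ (fun l hl => absurd (Finset.mem_univ l) hl), mul_zero]
  have h0 : pv x0 = 0 := ptk_injective e P (by
    show ptk e P x0 = _
    rw [hzero, Pi.zero_comp, mulVec_zero])
  choose φ hφ using fun l => (not_forall_not.1 fun h : ∀ φ : Fin k → F, ¬ φ ⬝ᵥ x0 l = 1 => by
    obtain ⟨j, hj⟩ := Function.ne_iff.1 (hx0 l)
    exact h (Pi.single j (x0 l j)⁻¹) (by rw [single_dotProduct, inv_mul_cancel₀ hj]))
  have h1 := sum_pv φ x0
  simp [h0, hφ] at h1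

include C in
/-- the special unitary group preserves no set of product vectors -/
theorem su_not_preserve_pv (hk : 2 ≤ k) (ht : 2 ≤ t)
    (h : ∀ g ∈ suGL n F q, ∀ x, ∃ y, (g : Matrix (Fin n) (Fin n) F) *ᵥ ptk e P x = ptk e P y) : False := by
  obtain ⟨x0, x1, hx0, hx1, hiso, hne⟩ := exists_pv_pair C e P hk (by omega)
  obtain ⟨δ, hδ0, hδ⟩ := C.exists_trace_zero
  obtain ⟨g, hg, -, hgx, -⟩ := exists_utv C _ hiso δ hδ
  obtain ⟨y, hy⟩ := h g hg x1
  set d := δ * C.form (ptk e P x1) (ptk e P x0) with hd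
  have hd0 : d ≠ 0 := mul_ne_zero hδ0 hne
  have heq : pv y = pv x1 + d • pv x0 := ptk_injective e P (by
    show ptk e P y = _
    rw [← hy, hgx]
    simp only [ptk, ← mulVec_smul, ← mulVec_add]
    congr 1)
  choose φ1 hφ1 hφ1' using fun l => exists_dual_pair (hx1 l)
  choose φ0 hφ0 hφ0' using fun l => exists_dual_pair (not_mem_span_symm (hx0 l) (hx1 l))
  have key : ∀ φ : Fin t → Fin k → F,
      ∏ l, φ l ⬝ᵥ y l = (∏ l, φ l ⬝ᵥ x1 l) + d * ∏ l, φ l ⬝ᵥ x0 l := by
    intro φ
    rw [← sum_pv φ y, ← sum_pv φ x1, ← sum_pv φ x0, heq, Finset.mul_sum, ← Finset.sum_add_distrib]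
    exact Finset.sum_congr rfl fun a _ => by simp only [Pi.add_apply, Pi.smul_apply, smul_eq_mul]; ring
  have hne1 : ∀ l, φ1 l ⬝ᵥ y l ≠ 0 := fun l hl => by
    have h1 := key φ1
    rw [Finset.prod_eq_zero (Finset.mem_univ l) hl] at h1
    simp [hφ1, hφ1', zero_pow (show t ≠ 0 by omega)] at h1
  have hne0 : ∀ l, φ0 l ⬝ᵥ y l ≠ 0 := fun l hl => by
    have h1 := key φ0
    rw [Finset.prod_eq_zero (Finset.mem_univ l) hl] at h1
    simp [hφ0, hφ0', zero_pow (show t ≠ 0 by omega)] at h1
    exact hd0 h1.symm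
  let c0 : Fin t := ⟨0, by omega⟩
  let c1 : Fin t := ⟨1, by omega⟩
  have hc : c1 ≠ c0 := by simp [c0, c1]
  let φ : Fin t → Fin k → F := Function.update φ0 c0 (φ1 c0)
  have h1 := key φ
  rw [Finset.prod_eq_zero (f := fun l => φ l ⬝ᵥ x1 l) (Finset.mem_univ c1)
      (by simp [φ, Function.update_of_ne hc, hφ0']),
    Finset.prod_eq_zero (f := fun l => φ l ⬝ᵥ x0 l) (Finset.mem_univ c0) (by simp [φ, hφ1']), mul_zero, add_zero,
    Finset.prod_eq_zero_iff] at h1
  obtain ⟨l, -, hl⟩ := h1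
  rcases eq_or_ne l c0 with rfl | hl0
  · exact hne1 c0 (by simpa [φ] using hl)
  · exact hne0 l (by simpa [φ, Function.update_of_ne hl0] using hl)

include C in
theorem su_not_le_wreath (hk : 2 ≤ k) (ht : 2 ≤ t) : ¬ suGL n F q ≤ tensorWreathSubgroup k t e P := by
  intro hle
  refine su_not_preserve_pv C e P hk ht fun g hg x => ?_
  obtain ⟨y, hy, rfl⟩ := Subgroup.mem_map.1 (hle hg)
  obtain ⟨z, hz, rfl⟩ := Subgroup.mem_map.1 hy
  obtain ⟨gs, π, rfl⟩ := tensorWreathStandard_elem hz
  refine ⟨fun l => (gs l : Matrix (Fin k) (Fin k) F) *ᵥ x (π.symm l), ?_⟩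
  show ((P * glReindex e.symm (pureGL gs * permGL π) * P⁻¹ : GL (Fin n) F) : Matrix (Fin n) (Fin n) F) *ᵥ _ = _
  rw [ptk, ptk, Units.val_mul, Units.val_mul, mulVec_mulVec, mul_assoc, gl_inv_mul, mul_one, ← mulVec_mulVec,
    show ((glReindex e.symm (pureGL gs * permGL π) : GL (Fin n) F) : Matrix (Fin n) (Fin n) F) =
      rx e ((pureGL gs * permGL π : GL (Fin t → Fin k) F) : Matrix (Fin t → Fin k) (Fin t → Fin k) F) from rfl,
    rx_mulVec, Units.val_mul, pureGL_coe, permGL_coe, ← mulVec_mulVec, permMat_mulVec_pv, pure_mulVec_pv]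

section Tensor

variable {n₁ n₂ : ℕ} (e₂ : Fin n ≃ Fin n₁ × Fin n₂)

theorem pt2_add_right (x : Fin n₁ → F) (y y' : Fin n₂ → F) :
    pt2 e₂ P x (y + y') = pt2 e₂ P x y + pt2 e₂ P x y' := by
  simp only [pt2, ← mulVec_add]
  congr 1
  funext i
  simp [mul_add]

theorem pt2_coord (x : Fin n₁ → F) (y : Fin n₂ → F) (i : Fin n₁ × Fin n₂) :
    (((P⁻¹ : GL (Fin n) F) : Matrix (Fin n) (Fin n) F) *ᵥ pt2 e₂ P x y) (e₂.symm i) = x i.1 * y i.2 := by
  simp [pt2, mulVec_mulVec, gl_inv_mul]

include C in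
theorem su_not_le_tensor (h₁ : 2 ≤ n₁) (h₂ : 2 ≤ n₂) :
    ¬ suGL n F q ≤ tensorProductSubgroup n₁ n₂ e₂ P := by
  intro hle
  set Q := ((P⁻¹ : GL (Fin n) F) : Matrix (Fin n) (Fin n) F) with hQ
  let a0 : Fin n₁ := ⟨0, by omega⟩
  let a1 : Fin n₁ := ⟨1, by omega⟩
  let y0 : Fin n₂ → F := Pi.single ⟨0, by omega⟩ 1
  have haa : a0 ≠ a1 := by simp [a0, a1]
  obtain ⟨c, d, hcd, hiso⟩ := plane_isotropic C (a := pt2 e₂ P (Pi.single a0 1) y0) (b := pt2 e₂ P (Pi.single a1 1) y0)
    (fun c d h => by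
      rw [← pt2_smul_left, ← pt2_smul_left, ← pt2_add_left] at h
      have h0 := pt2_coord P e₂ (c • Pi.single a0 1 + d • Pi.single a1 1) y0 (a0, ⟨0, by omega⟩)
      have h1 := pt2_coord P e₂ (c • Pi.single a0 1 + d • Pi.single a1 1) y0 (a1, ⟨0, by omega⟩)
      rw [h, mulVec_zero] at h0 h1
      simp [y0, haa, haa.symm] at h0 h1
      exact ⟨h0.symm, h1.symm⟩)
  set x0 : Fin n₁ → F := c • Pi.single a0 1 + d • Pi.single a1 1 with hx0d
  have hx0 : x0 ≠ 0 := fun h => by
    have h2 := congrFun h a0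
    have h3 := congrFun h a1
    simp [hx0d, haa, haa.symm] at h2 h3
    rcases hcd with h4 | h4
    · exact h4 h2
    · exact h4 h3
  have hy0 : y0 ≠ 0 := fun h => one_ne_zero (Pi.single_eq_zero_iff.1 h)
  rw [← pt2_smul_left, ← pt2_smul_left, ← pt2_add_left, ← hx0d] at hiso
  set u := pt2 e₂ P x0 y0
  obtain ⟨x1, y1, hx1, hy1, hne⟩ : ∃ x1 y1, x1 ∉ Submodule.span F {x0} ∧ y1 ∉ Submodule.span F {y0} ∧
      C.form (pt2 e₂ P x1 y1) u ≠ 0 := by
    by_contra hcon
    push Not at hcon
    have hL : ∀ x y, y ∉ Submodule.span F {y0} → C.form (pt2 e₂ P x y) u = 0 := by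
      intro x y hy
      by_cases hx : x ∈ Submodule.span F {x0}
      swap
      · exact hcon x y hx hy
      obtain ⟨z, hz⟩ := exists_not_mem_span h₁ x0
      have h1 : x + z ∉ Submodule.span F {x0} := fun h => hz (by simpa using Submodule.sub_mem _ h hx)
      have := hcon _ _ h1 hy
      rwa [pt2_add_left, C.form_add_left, hcon z y hz hy, add_zero] at this
    have hall : ∀ x y, C.form (pt2 e₂ P x y) u = 0 := by
      intro x y
      by_cases hy : y ∈ Submodule.span F {y0}
      swap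
      · exact hL x y hy
      obtain ⟨z, hz⟩ := exists_not_mem_span h₂ y0
      have h1 : y + z ∉ Submodule.span F {y0} := fun h => hz (by simpa using Submodule.sub_mem _ h hy)
      have := hL x _ h1
      rwa [pt2_add_right, C.form_add_left, hL x z hz, add_zero] at this
    have hu : u = 0 := C.eq_zero_of_form' fun v => by
      have hv : v = ∑ i : Fin n₁ × Fin n₂, (Q *ᵥ v) (e₂.symm i) • pt2 e₂ P (Pi.single i.1 1) (Pi.single i.2 1) := by
        simp only [pt2, ← mulVec_smul, ← mulVec_sum]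
        have : (∑ i : Fin n₁ × Fin n₂, (Q *ᵥ v) (e₂.symm i) •
            fun j => (Pi.single i.1 (1 : F) : Fin n₁ → F) (e₂ j).1 * (Pi.single i.2 (1 : F) : Fin n₂ → F) (e₂ j).2) =
            Q *ᵥ v := by
          funext j
          simp [Finset.sum_apply, Pi.single_apply, Fintype.sum_prod_type]
        rw [this, hQ, mulVec_mulVec, gl_mul_inv, one_mulVec]
      rw [hv, C.form_sum_left]
      exact Finset.sum_eq_zero fun i _ => by rw [C.form_smul_left, hall, mul_zero]
    obtain ⟨i, hi⟩ := Function.ne_iff.1 hx0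
    obtain ⟨j, hj⟩ := Function.ne_iff.1 hy0
    have := pt2_coord P e₂ x0 y0 (i, j)
    rw [show pt2 e₂ P x0 y0 = 0 from hu, mulVec_zero] at this
    exact mul_ne_zero hi hj this.symm
  obtain ⟨δ, hδ0, hδ⟩ := C.exists_trace_zero
  obtain ⟨g, hg, -, hgx, -⟩ := exists_utv C u hiso δ hδ
  obtain ⟨x, y, hxy⟩ := exists_pt2_move (hle hg) x1 y1
  rw [hgx] at hxy
  set l := δ * C.form (pt2 e₂ P x1 y1) u
  have hl : l ≠ 0 := mul_ne_zero hδ0 hne
  have key : ∀ (φ : Fin n₁ → F) (ψ : Fin n₂ → F),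
      (φ ⬝ᵥ x) * (ψ ⬝ᵥ y) = (φ ⬝ᵥ x1) * (ψ ⬝ᵥ y1) + l * ((φ ⬝ᵥ x0) * (ψ ⬝ᵥ y0)) := by
    intro φ ψ
    simp only [dotProduct]
    rw [Finset.sum_mul_sum, Finset.sum_mul_sum, Finset.sum_mul_sum, Finset.mul_sum, ← Finset.sum_add_distrib]
    refine Finset.sum_congr rfl fun i _ => ?_
    rw [Finset.mul_sum, ← Finset.sum_add_distrib]
    refine Finset.sum_congr rfl fun j _ => ?_
    have h1 := congrArg (fun z => (Q *ᵥ z) (e₂.symm (i, j))) hxy
    simp only [mulVec_add, mulVec_smul, Pi.add_apply, Pi.smul_apply, smul_eq_mul, hQ, u, pt2_coord] at h1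
    linear_combination -(φ i * ψ j) * h1
  obtain ⟨φ1, a1', a1''⟩ := exists_dual_pair hx1
  obtain ⟨φ0, a0', a0''⟩ := exists_dual_pair (not_mem_span_symm hx0 hx1)
  obtain ⟨ψ1, b1', b1''⟩ := exists_dual_pair hy1
  obtain ⟨ψ0, b0', b0''⟩ := exists_dual_pair (not_mem_span_symm hy0 hy1)
  have k1 := key φ1 ψ1
  have k0 := key φ0 ψ0
  have k2 := key φ1 ψ0
  rw [a1', a1'', b1', b1''] at k1
  rw [a0', a0'', b0', b0''] at k0
  rw [a1', a1'', b0', b0''] at k2
  rcases mul_eq_zero.1 (show (φ1 ⬝ᵥ x) * (ψ0 ⬝ᵥ y) = 0 by rw [k2]; ring) with h | h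
  · rw [h] at k1; exact one_ne_zero (by linear_combination -k1)
  · rw [h] at k0; exact hl (by linear_combination -k0)

end Tensor

end CfsgLib.Perm.Asch
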