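import Cfsg.Agent.Lib.Perm.Asch.Forms.UProper2

/-!
# Monomial subgroups over the field with four elements
-/

set_option autoImplicit false
set_option linter.all false

namespace CfsgLib.Perm.Asch

open scoped Classical Matrix Kronecker
open Matrix Cfsg.Geo CfsgLib.SU

variable {F : Type*} [Field F] [Fintype F] {n q : ℕ} (C : UCtx F q)

/-- a non-degenerate hermitian plane over the field with four elements has exactly one orthonormal frame -/
theorem frame_two (hF : Fintype.card F = q ^ 2) (hq : q = 2) {ι : Type} [Fintype ι] {h : (ι → F) → (ι → F) → F}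
    (hadd : ∀ x y v, h (x + y) v = h x v + h y v) (hsmul : ∀ (c : F) x v, h (c • x) v = c * h x v)
    (hherm : ∀ v w, h v w = C.bar (h w v)) {W : Submodule F (ι → F)} (hW : Module.finrank F W = 2)
    (hn : ∀ w ∈ W, w ≠ 0 → ∃ x ∈ W, h x w ≠ 0) :
    ∃ a ∈ W, ∃ b ∈ W, h a a = 1 ∧ h b b = 1 ∧ h a b = 0 ∧ h b a = 0 ∧
      (∀ v ∈ W, ∃ s r : F, v = s • a + r • b) ∧ ∀ v ∈ W, h v v ≠ 0 → ∃ s : F, v = s • a ∨ v = s • b := by
  have haddr : ∀ x y v, h v (x + y) = h v x + h v y := fun x y v => by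
    rw [hherm v, hadd, map_add, ← hherm, ← hherm]
  have hsmulr : ∀ (c : F) x v, h v (c • x) = C.bar c * h v x := fun c x v => by
    rw [hherm v, hsmul, map_mul, ← hherm]
  have hsubl : ∀ x y v, h (x - y) v = h x v - h y v := fun x y v => by
    rw [sub_eq_add_neg, hadd, ← neg_one_smul F y, hsmul]; ring
  have hone : ∀ c : F, C.bar c = c → c ≠ 0 → c = 1 := fun c h1 h2 => fixed_eq_one C hq h1 h2
  obtain ⟨a, ha, haa⟩ : ∃ a ∈ W, h a a ≠ 0 := by
    by_contra hcon
    push Not at hcon
    obtain ⟨w, hw, hw0⟩ := Submodule.exists_mem_ne_zero_of_ne_bot (p := W) fun h0 => by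
      rw [h0, finrank_bot] at hW; omega
    obtain ⟨x, hx, hxw⟩ := hn w hw hw0
    obtain ⟨d, -, hd⟩ := C.exists_trace_ne_zero
    have h1 := hcon ((d / h x w) • x + w) (W.add_mem (W.smul_mem _ hx) hw)
    simp only [hadd, haddr, hsmul, hsmulr, hcon x hx, hcon w hw] at h1
    rw [hherm w x, ← map_mul, div_mul_cancel₀ _ hxw] at h1
    exact hd (by linear_combination h1)
  have ha1 := hone _ (hherm a a).symm haa
  obtain ⟨x, hx, hxa⟩ : ∃ x ∈ W, x ∉ Submodule.span F {a} := by
    by_contra hcon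
    push Not at hcon
    have h1 := Submodule.finrank_mono (show W ≤ Submodule.span F {a} from hcon)
    rw [hW, finrank_span_singleton (fun h0 => haa (by rw [h0, ← zero_smul F (0 : ι → F), hsmul, zero_mul]))] at h1
    omega
  set b := x - h x a • a with hb
  have hbW : b ∈ W := W.sub_mem hx (W.smul_mem _ ha)
  have hba : h b a = 0 := by rw [hb, hsubl, hsmul, ha1, mul_one, sub_self]
  have hab : h a b = 0 := by rw [hherm, hba, map_zero]
  have hb0 : b ≠ 0 := fun h0 => hxa (Submodule.mem_span_singleton.2 ⟨h x a, (sub_eq_zero.1 h0).symm⟩)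
  have hspan : ∀ v ∈ W, ∃ s r : F, v = s • a + r • b := by
    have hle : Submodule.span F {a, b} = W := by
      refine Submodule.eq_of_le_of_finrank_le (Submodule.span_le.2 (by
        rintro z (rfl | rfl)
        · exact ha
        · exact hbW)) ?_
      rw [hW]
      have hli : LinearIndependent F ![a, b] := LinearIndependent.pair_iff.2 fun s r e => by
        have h1 : h (s • a + r • b) a = 0 := by rw [e, ← zero_smul F (0 : ι → F), hsmul, zero_mul]
        rw [hadd, hsmul, hsmul, ha1, hba, mul_one, mul_zero, add_zero] at h1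
        subst h1
        rw [zero_smul, zero_add, smul_eq_zero] at e
        exact ⟨rfl, e.resolve_right hb0⟩
      have h2 := finrank_span_eq_card hli
      have hr : Set.range ![a, b] = {a, b} := by
        exact Matrix.range_cons_cons_empty a b ![]
      rw [hr] at h2
      rw [h2, Fintype.card_fin]
    intro v hv
    rw [← hle] at hv
    obtain ⟨s, r, e⟩ := Submodule.mem_span_pair.1 hv
    exact ⟨s, r, e.symm⟩
  have hbb : h b b ≠ 0 := fun h0 => by
    obtain ⟨z, hz, hzb⟩ := hn b hbW hb0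
    obtain ⟨s, r, rfl⟩ := hspan z hz
    rw [hadd, hsmul, hsmul, hab, h0, mul_zero, mul_zero, add_zero] at hzb
    exact hzb rfl
  have hb1 := hone _ (hherm b b).symm hbb
  refine ⟨a, ha, b, hbW, ha1, hb1, hab, hba, hspan, fun v hv hvv => ?_⟩
  obtain ⟨s, r, rfl⟩ := hspan v hv
  by_cases hs : s = 0
  · exact ⟨r, Or.inr (by rw [hs, zero_smul, zero_add])⟩
  by_cases hr : r = 0
  · exact ⟨s, Or.inl (by rw [hr, zero_smul, add_zero])⟩
  exfalso
  refine hvv ?_
  have hN : ∀ c : F, c ≠ 0 → c * C.bar c = 1 := fun c hc => hone _ (C.norm_fixed c) (mul_ne_zero hc (by simpa using hc))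
  simp only [hadd, haddr, hsmul, hsmulr, ha1, hb1, hab, hba]
  linear_combination (hN s hs) + (hN r hr) + two_eq_zero hF hq

include C in
/-- from planes to lines -/
theorem frame_of_planes (hF : Fintype.card F = q ^ 2) (hq : q = 2) {t : ℕ} {D : Fin t → Submodule F (Fin n → F)}
    (hD : IsNondegenerateMDecomposition (Cfsg.hermForm n F q) 2 D) {H : Subgroup (GL (Fin n) F)}
    (hI : H ≤ Cfsg.GU n F q) (hle : H ≤ decompositionStabilizer D) :
    ∃ (t' : ℕ) (D' : Fin t' → Submodule F (Fin n → F)),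
      IsNondegenerateMDecomposition (Cfsg.hermForm n F q) 1 D' ∧ H ≤ decompositionStabilizer D' := by
  have hfr : ∀ i, ∃ w : Fin 2 → Fin n → F, (∀ x, w x ∈ D i) ∧
      (∀ x y, C.form (w x) (w y) = if x = y then 1 else 0) ∧
      ∀ v ∈ D i, C.form v v ≠ 0 → ∃ x, ∃ s : F, v = s • w x := by
    intro i
    obtain ⟨a, ha, b, hb, haa, hbb, hab, hba, -, huniq⟩ := frame_two C hF hq (h := C.form) C.form_add_left
      C.form_smul_left (fun v w => (C.bar_form w v).symm) (hD.decomp.finrank_eq i) (fun w hw hw0 => by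
        obtain ⟨⟨x, hx, hne⟩, -⟩ := hD.nondegenerate i w hw hw0
        exact ⟨x, hx, by rwa [← herm_form C]⟩)
    refine ⟨![a, b], fun x => ?_, fun x y => ?_, fun v hv hvv => ?_⟩
    · fin_cases x <;> assumption
    · fin_cases x <;> fin_cases y <;> simp [haa, hbb, hab, hba]
    · obtain ⟨s, h | h⟩ := huniq v hv hvv
      · exact ⟨0, s, h⟩
      · exact ⟨1, s, h⟩
  choose w hw horth huniq using hfr
  let W : Fin (t * 2) → Fin n → F := fun l => w (finProdFinEquiv.symm l).1 (finProdFinEquiv.symm l).2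
  have hWW : ∀ l l', C.form (W l) (W l') = if l = l' then 1 else 0 := by
    intro l l'
    obtain ⟨⟨i, x⟩, rfl⟩ := finProdFinEquiv.surjective l
    obtain ⟨⟨j, y⟩, rfl⟩ := finProdFinEquiv.surjective l'
    simp only [W, Equiv.symm_apply_apply, Equiv.apply_eq_iff_eq, Prod.mk.injEq]
    rcases eq_or_ne i j with rfl | hij
    · simp [horth]
    · rw [← herm_form C, hD.orthogonal i j hij _ (hw i x) _ (hw j y)]
      simp [hij]
  have hli : LinearIndependent F W := Fintype.linearIndependent_iff.2 fun g hg l => by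
    have h1 := congrArg (fun z => C.form z (W l)) hg
    simpa [C.form_sum_left, C.form_smul_left, hWW, C.form_zero_left] using h1
  have hcard : t * 2 = n := by
    have := decomposition_card hD.decomp
    rwa [Fintype.card_fin] at this
  have hspan : Submodule.span F (Set.range W) = ⊤ := Submodule.eq_top_of_finrank_eq (by
    rw [finrank_span_eq_card hli, Fintype.card_fin, Module.finrank_fin_fun, hcard])
  have hW0 : ∀ l, W l ≠ 0 := fun l h0 => by
    have := hWW l l
    rw [h0, C.form_zero_left, if_pos rfl] at this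
    exact zero_ne_one this
  refine ⟨t * 2, fun l => Submodule.span F {W l}, ⟨⟨?_, one_pos, fun l => finrank_span_singleton (hW0 l),
    hli.iSupIndep_span_singleton, ?_⟩, fun l u hu hu0 => ?_, fun l l' hll u hu v hv => ?_⟩, fun g hg => ?_⟩
  · have := hD.decomp.two_le
    omega
  · rw [eq_top_iff, ← hspan, Submodule.span_range_eq_iSup]
  · obtain ⟨s, rfl⟩ := Submodule.mem_span_singleton.1 hu
    have hs : s ≠ 0 := fun h0 => hu0 (by rw [h0, zero_smul])
    refine ⟨⟨W l, Submodule.mem_span_singleton_self _, ?_⟩, W l, Submodule.mem_span_singleton_self _, ?_⟩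
    · rw [herm_form C, C.form_smul_right, hWW, if_pos rfl, mul_one]
      simpa using hs
    · rw [herm_form C, C.form_smul_left, hWW, if_pos rfl, mul_one]
      exact hs
  · obtain ⟨s, rfl⟩ := Submodule.mem_span_singleton.1 hu
    obtain ⟨r, rfl⟩ := Submodule.mem_span_singleton.1 hv
    rw [herm_form C, C.form_smul_left, C.form_smul_right, hWW, if_neg hll]
    ring
  obtain ⟨π, hπ⟩ := hle hg
  have hform : ∀ u v, C.form ((g : Matrix (Fin n) (Fin n) F) *ᵥ u) ((g : Matrix (Fin n) (Fin n) F) *ᵥ v) =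
      C.form u v := fun u v => by rw [← herm_form C, ← herm_form C]; exact hI hg u v
  have himg : ∀ l, ∃ l', ∃ s : F, (g : Matrix (Fin n) (Fin n) F) *ᵥ W l = s • W l' := by
    intro l
    obtain ⟨⟨i, x⟩, rfl⟩ := finProdFinEquiv.surjective l
    have hmem : (g : Matrix (Fin n) (Fin n) F) *ᵥ w i x ∈ D (π i) :=
      hπ i ▸ ⟨w i x, hw i x, by rw [Matrix.toLin'_apply]⟩
    obtain ⟨y, s, hs⟩ := huniq (π i) _ hmem (by rw [hform, horth, if_pos rfl]; exact one_ne_zero)
    refine ⟨finProdFinEquiv (π i, y), s, ?_⟩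
    simp only [W, Equiv.symm_apply_apply]
    exact hs
  choose τ s hτ using himg
  have hs0 : ∀ l, s l ≠ 0 := fun l h0 => by
    have := hform (W l) (W l)
    rw [hτ, h0, zero_smul, C.form_zero_left, hWW, if_pos rfl] at this
    exact zero_ne_one this
  have hinj : Function.Injective τ := fun l l' e => by
    by_contra hne
    have := hform (W l) (W l')
    rw [hτ, hτ, C.form_smul_left, C.form_smul_right, e, hWW, hWW, if_pos rfl, if_neg hne] at this
    simp [hs0] at this
  refine ⟨Equiv.ofBijective τ (Finite.injective_iff_bijective.1 hinj), fun l => ?_⟩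
  rw [Submodule.map_span, Set.image_singleton, Matrix.toLin'_apply, hτ]
  exact Submodule.span_singleton_smul_eq (IsUnit.mk0 _ (hs0 l)) _

include C in
/-- a tensor decomposition with a plane over the field with four elements gives two components -/
theorem dec_of_tensor (hF : Fintype.card F = q ^ 2) (hq : q = 2) {k : ℕ} (hk : 0 < k)
    (e : Fin n ≃ Fin 2 × Fin k) (P : GL (Fin n) F) {f₁ : (Fin 2 → F) → (Fin 2 → F) → F}
    {f₂ : (Fin k → F) → (Fin k → F) → F} (h₁ : IsUnitaryFormPow q f₁)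
    (hs : IsTensorFormStructure (fun x : F => x ^ q) (Cfsg.hermForm n F q) f₁ f₂ e P)
    {H : Subgroup (GL (Fin n) F)} (hI : H ≤ Cfsg.GU n F q) (hle : H ≤ tensorProductSubgroup 2 k e P) :
    ∃ D : Fin 2 → Submodule F (Fin n → F),
      IsNondegenerateMDecomposition (Cfsg.hermForm n F q) k D ∧ H ≤ decompositionStabilizer D := by
  obtain ⟨c, hc, hs⟩ := hs
  set σ : F →+* F := C.bar.toRingHom
  have hσ : (fun x : F => x ^ q) = σ := funext fun x => (C.bar_eq x).symm
  set G₁ := gramMatrix f₁ with hG₁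
  set G₂ := gramMatrix f₂
  have hval : ∀ x y x' y', C.form (pt2 e P x y) (pt2 e P x' y') = c * (gform σ G₁ x x' * gform σ G₂ y y') := by
    intro x y x' y'
    have := hs (fun i => x i.1 * y i.2) (fun i => x' i.1 * y' i.2)
    rw [herm_form C] at this
    refine this.trans ?_
    congr 1
    rw [hσ, formOfGram_eq]
    simp only [gform, dotProduct, Matrix.mulVec, Function.comp_apply, Fintype.sum_prod_type, Matrix.kronecker_apply,
      map_mul, Finset.mul_sum]
    simp only [Finset.sum_mul]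
    rw [Finset.sum_comm]
    refine Finset.sum_congr rfl fun j _ => ?_
    conv_rhs => rw [Finset.sum_comm]
    refine Finset.sum_congr rfl fun i _ => ?_
    rw [Finset.sum_comm]
    exact Finset.sum_congr rfl fun j' _ => Finset.sum_congr rfl fun i' _ => by ring
  have hne0 : ∀ x y, x ≠ 0 → y ≠ 0 → pt2 e P x y ≠ 0 := by
    intro x y hx hy h0
    obtain ⟨i, hi⟩ := Function.ne_iff.1 hx
    obtain ⟨j, hj⟩ := Function.ne_iff.1 hy
    have := pt2_coord P e x y (i, j)
    rw [h0, mulVec_zero] at this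
    exact mul_ne_zero hi hj this.symm
  have hsum : ∀ (W : Submodule F (Fin n → F)), (∀ x y, pt2 e P x y ∈ W) → W = ⊤ := by
    intro W hW
    refine eq_top_iff.2 fun v _ => ?_
    have hv : v = ∑ i : Fin 2 × Fin k, (((P⁻¹ : GL (Fin n) F) : Matrix (Fin n) (Fin n) F) *ᵥ v) (e.symm i) •
        pt2 e P (Pi.single i.1 1) (Pi.single i.2 1) := by
      simp only [pt2, ← mulVec_smul, ← mulVec_sum]
      have : (∑ i : Fin 2 × Fin k, (((P⁻¹ : GL (Fin n) F) : Matrix (Fin n) (Fin n) F) *ᵥ v) (e.symm i) •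
          fun j => (Pi.single i.1 (1 : F) : Fin 2 → F) (e j).1 * (Pi.single i.2 (1 : F) : Fin k → F) (e j).2) =
          ((P⁻¹ : GL (Fin n) F) : Matrix (Fin n) (Fin n) F) *ᵥ v := by
        funext j
        simp [Finset.sum_apply, Pi.single_apply, Fintype.sum_prod_type]
      rw [this, mulVec_mulVec, gl_mul_inv, one_mulVec]
    rw [hv]
    exact W.sum_mem fun i _ => W.smul_mem _ (hW _ _)
  have hker : ∀ u, (∀ x y, C.form (pt2 e P x y) u = 0) → u = 0 := by
    intro u hu
    refine C.eq_zero_of_form' fun v => ?_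
    let W : Submodule F (Fin n → F) :=
      { carrier := {x | C.form x u = 0}
        add_mem' := fun {a b} ha hb => by
          show C.form (a + b) u = 0
          rw [C.form_add_left, ha, hb, add_zero]
        zero_mem' := C.form_zero_left u
        smul_mem' := fun r a ha => by
          show C.form (r • a) u = 0
          rw [C.form_smul_left, ha, mul_zero] }
    exact (hsum W hu ▸ Submodule.mem_top : v ∈ W)
  obtain ⟨y0, hy0⟩ : ∃ y0 : Fin k → F, y0 ≠ 0 := ⟨Pi.single ⟨0, hk⟩ 1, fun h => one_ne_zero (Pi.single_eq_zero_iff.1 h)⟩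
  have hn1 : ∀ x' : Fin 2 → F, x' ≠ 0 → ∃ x, gform σ G₁ x x' ≠ 0 := by
    intro x' hx'
    by_contra hcon
    push Not at hcon
    exact hne0 x' y0 hx' hy0 (hker _ fun x y => by rw [hval, hcon x, zero_mul, mul_zero])
  have hn2 : ∀ y' : Fin k → F, y' ≠ 0 → ∃ y, gform σ G₂ y y' ≠ 0 := by
    intro y' hy'
    by_contra hcon
    push Not at hcon
    exact hne0 (Pi.single (0 : Fin 2) (1 : F)) y' (fun h => one_ne_zero (Pi.single_eq_zero_iff.1 h)) hy'
      (hker _ fun x y => by rw [hval, hcon y, mul_zero, mul_zero])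
  have hG1 : ∀ i j, σ (G₁ j i) = G₁ i j := fun i j => by
    rw [← congrFun hσ]
    exact (h₁.herm _ _).symm
  obtain ⟨a, -, b, -, haa, hbb, hab, hba, hspan, huniq⟩ := frame_two C hF hq (h := gform σ G₁)
    (fun x y v => gform_add_left σ G₁ x y v) (fun r x v => gform_smul_left σ G₁ r x v) (fun v w => by
      have e1 : ∀ z, C.bar z = σ z := fun z => rfl
      simp only [gform, dotProduct, Matrix.mulVec, Function.comp_apply, Finset.mul_sum, map_sum, map_mul, e1, hG1,
        show ∀ z : F, σ (σ z) = z from C.bar_bar]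
      rw [Finset.sum_comm]
      exact Finset.sum_congr rfl fun i _ => Finset.sum_congr rfl fun j _ => by ring)
    (W := ⊤) (by rw [finrank_top, Module.finrank_fin_fun])
    (fun w _ hw => by obtain ⟨x, hx⟩ := hn1 w hw; exact ⟨x, trivial, hx⟩)
  let v : Fin 2 → Fin 2 → F := ![a, b]
  have hvv : ∀ i j, gform σ G₁ (v i) (v j) = if i = j then 1 else 0 := by
    intro i j
    fin_cases i <;> fin_cases j <;> simp [v, haa, hbb, hab, hba]
  have hv0 : ∀ i, v i ≠ 0 := fun i h0 => by
    have := hvv i i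
    rw [h0, if_pos rfl, ← zero_smul F (0 : Fin 2 → F), gform_smul_left, zero_mul] at this
    exact zero_ne_one this
  let L : Fin 2 → ((Fin k → F) →ₗ[F] (Fin n → F)) := fun i =>
    { toFun := fun y => pt2 e P (v i) y
      map_add' := fun y y' => pt2_add_right P e (v i) y y'
      map_smul' := fun r y => by
        simp only [pt2, ← mulVec_smul, RingHom.id_apply]
        congr 1
        funext z
        simp [mul_left_comm] }
  let D : Fin 2 → Submodule F (Fin n → F) := fun i => LinearMap.range (L i)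
  have horth : ∀ i j, i ≠ j → ∀ x ∈ D i, ∀ y ∈ D j, C.form x y = 0 := by
    rintro i j hij _ ⟨y, rfl⟩ _ ⟨y', rfl⟩
    show C.form (pt2 e P (v i) y) (pt2 e P (v j) y') = 0
    rw [hval, hvv, if_neg hij, zero_mul, mul_zero]
  have hnd : ∀ i, ∀ z ∈ D i, z ≠ 0 → ∃ x ∈ D i, C.form x z ≠ 0 := by
    rintro i _ ⟨y', rfl⟩ hz
    obtain ⟨y, hy⟩ := hn2 y' (fun h0 => hz (by rw [h0, map_zero]))
    refine ⟨L i y, ⟨y, rfl⟩, ?_⟩
    show C.form (pt2 e P (v i) y) (pt2 e P (v i) y') ≠ 0
    rw [hval, hvv, if_pos rfl, one_mul]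
    exact mul_ne_zero hc hy
  refine ⟨D, ⟨⟨le_rfl, hk, fun i => ?_, ?_, ?_⟩, fun i z hz hz0 => ?_, fun i j hij x hx y hy => ?_⟩, fun g hg => ?_⟩
  · rw [LinearMap.finrank_range_of_inj, Module.finrank_fin_fun]
    intro y y' he
    by_contra hne
    exact hne0 (v i) (y - y') (hv0 i) (sub_ne_zero.2 hne) (show L i (y - y') = 0 by rw [map_sub, he, sub_self])
  · rw [iSupIndep_pair (i := (0 : Fin 2)) (j := 1) (by decide) (fun l => by fin_cases l <;> simp), disjoint_iff]
    refine (Submodule.eq_bot_iff _).2 fun z hz => ?_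
    by_contra hz0
    obtain ⟨x, hx, hne⟩ := hnd 0 z hz.1 hz0
    exact hne (horth 0 1 (by decide) x hx z hz.2)
  · refine hsum _ fun x y => ?_
    obtain ⟨s, r, rfl⟩ := hspan x trivial
    rw [pt2_add_left, pt2_smul_left, pt2_smul_left]
    exact Submodule.add_mem _ (Submodule.smul_mem _ _ (Submodule.mem_iSup_of_mem 0 ⟨y, rfl⟩))
      (Submodule.smul_mem _ _ (Submodule.mem_iSup_of_mem 1 ⟨y, rfl⟩))
  · obtain ⟨x, hx, hne⟩ := hnd i z hz hz0
    exact ⟨⟨x, hx, by rwa [herm_form C]⟩, x, hx, by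
      rw [herm_form C]
      exact fun h0 => hne (C.form_swap_zero h0)⟩
  · rw [herm_form C]
    exact horth i j hij x hx y hy
  obtain ⟨l, A, B, rfl, hl⟩ := tensorProduct_elem (hle hg)
  set g := P * glReindex e.symm l * P⁻¹
  have hmv : ∀ x y, (g : Matrix (Fin n) (Fin n) F) *ᵥ pt2 e P x y =
      pt2 e P ((A : Matrix (Fin 2) (Fin 2) F) *ᵥ x) ((B : Matrix (Fin k) (Fin k) F) *ᵥ y) := by
    intro x y
    simp only [g, pt2]
    rw [Units.val_mul, Units.val_mul, mulVec_mulVec, mul_assoc, gl_inv_mul, mul_one, ← mulVec_mulVec]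
    congr 1
    funext i
    show ∑ j, (l : Matrix _ _ F) (e i) (e j) * (x (e j).1 * y (e j).2) = _
    rw [e.sum_comp (fun q => (l : Matrix _ _ F) (e i) q * (x q.1 * y q.2)), Fintype.sum_prod_type]
    simp only [hl, Matrix.mulVec, dotProduct, Finset.sum_mul_sum]
    exact Finset.sum_congr rfl fun _ _ => Finset.sum_congr rfl fun _ _ => by
      rw [Matrix.kronecker_apply]; ring
  have hmap : ∀ i, ∃ j, (D i).map (Matrix.toLin' (g : Matrix (Fin n) (Fin n) F)) = D j := by
    intro i
    obtain ⟨y, hy⟩ := hn2 y0 hy0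
    have hne : gform σ G₁ ((A : Matrix (Fin 2) (Fin 2) F) *ᵥ v i) ((A : Matrix (Fin 2) (Fin 2) F) *ᵥ v i) ≠ 0 := by
      intro h0
      have := hI hg (pt2 e P (v i) y) (pt2 e P (v i) y0)
      change Cfsg.hermForm n F q ((g : Matrix (Fin n) (Fin n) F) *ᵥ _) ((g : Matrix (Fin n) (Fin n) F) *ᵥ _) = _ at this
      rw [herm_form C, herm_form C, hmv, hmv, hval, hval, h0, hvv, if_pos rfl, zero_mul, one_mul, mul_zero, eq_comm,
        mul_eq_zero] at this
      exact this.elim hc hy
    obtain ⟨j, s, hs'⟩ : ∃ j, ∃ s : F, (A : Matrix (Fin 2) (Fin 2) F) *ᵥ v i = s • v j := by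
      obtain ⟨s, h | h⟩ := huniq _ trivial hne
      · exact ⟨0, s, h⟩
      · exact ⟨1, s, h⟩
    refine ⟨j, Submodule.eq_of_le_of_finrank_eq ?_ ?_⟩
    · rintro _ ⟨_, ⟨y, rfl⟩, rfl⟩
      refine ⟨s • ((B : Matrix (Fin k) (Fin k) F) *ᵥ y), ?_⟩
      rw [Matrix.toLin'_apply]
      show L j _ = (g : Matrix (Fin n) (Fin n) F) *ᵥ pt2 e P (v i) y
      rw [map_smul, hmv, hs', pt2_smul_left]
      rfl
    · have hfr : ∀ i, Module.finrank F (D i) = k := fun i => by
        rw [LinearMap.finrank_range_of_inj, Module.finrank_fin_fun]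
        intro y y' he
        by_contra hne
        exact hne0 (v i) (y - y') (hv0 i) (sub_ne_zero.2 hne) (show L i (y - y') = 0 by rw [map_sub, he, sub_self])
      exact (LinearEquiv.finrank_map_eq (Matrix.GeneralLinearGroup.toLin g).toLinearEquiv (D i)).trans
        ((hfr i).trans (hfr j).symm)
  choose τ hτ using hmap
  have hinjg : Function.Injective (Matrix.toLin' (g : Matrix (Fin n) (Fin n) F)) :=
    (Matrix.GeneralLinearGroup.toLin g).toLinearEquiv.injective
  have hinj : Function.Injective τ := fun i j hij => by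
    have h1 : D i = D j := Submodule.map_injective_of_injective hinjg (by rw [hτ, hτ, hij])
    by_contra hne
    have hz : L i y0 ≠ 0 := hne0 (v i) y0 (hv0 i) hy0
    obtain ⟨x, hx, hx'⟩ := hnd i _ ⟨y0, rfl⟩ hz
    exact hx' (horth i j hne x hx _ (h1 ▸ ⟨y0, rfl⟩))
  exact ⟨Equiv.ofBijective τ (Finite.injective_iff_bijective.1 hinj), hτ⟩

end CfsgLib.Perm.Asch
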