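import Cfsg.Agent.Lib.Perm.Asch.Forms.U
import Cfsg.Agent.Lib.Perm.Asch.Forms.Subfield
import Cfsg.Agent.Lib.Perm.Asch.Forms.SpTensor
import Cfsg.Agent.Lib.Perm.Asch.Forms.SpLemmas

/-!
# Subfield groups in the unitary groups
-/

set_option autoImplicit false
set_option linter.all false

namespace CfsgLib.Perm.Asch

open scoped Classical Matrix
open Matrix Cfsg.Geo

variable {F : Type*} [Field F] [Fintype F] {n q : ℕ} {σ : F →+* F}

theorem cj_sch_gram {ι : Type} [Fintype ι] [DecidableEq ι] (σ : F →+* F) (B : GL ι F) (s : Fˣ) :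
    ((B * sch ι F s : GL ι F) : Matrix ι ι F)ᵀ * (1 : Matrix ι ι F) * ((B * sch ι F s : GL ι F) : Matrix ι ι F).map σ =
      ((s : F) * σ s) • ((B : Matrix ι ι F)ᵀ * (1 : Matrix ι ι F) * (B : Matrix ι ι F).map σ) := by
  rw [Units.val_mul, sch_coe, mul_smul_comm, mul_one, mul_one, mul_one, Matrix.transpose_smul,
    show ((s : F) • (B : Matrix ι ι F)).map σ = σ s • (B : Matrix ι ι F).map σ by ext i j; simp]
  simp only [smul_mul_assoc, mul_smul_comm, mul_one, smul_smul]
  rw [mul_comm (σ _)]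

theorem cj_inv_isometry {ι : Type} [Fintype ι] [DecidableEq ι] {σ : F →+* F} {B p : GL ι F} {G G₀ : Matrix ι ι F} {c : F}
    (hc : c ≠ 0) (hG : (B : Matrix ι ι F)ᵀ * G * (B : Matrix ι ι F).map σ = c • G₀) (hp : p ∈ iso σ G) :
    (cj B⁻¹ (p : Matrix ι ι F))ᵀ * G₀ * (cj B⁻¹ (p : Matrix ι ι F)).map σ = G₀ := by
  refine smul_right_injective _ hc ?_
  show c • _ = c • _
  rw [← smul_mul_assoc, ← mul_smul_comm, ← hG, cj, inv_inv, Matrix.transpose_mul, Matrix.transpose_mul,
    Matrix.map_mul, Matrix.map_mul]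
  have e1 : ((B⁻¹ : GL ι F) : Matrix ι ι F)ᵀ * (B : Matrix ι ι F)ᵀ = 1 := by
    rw [← Matrix.transpose_mul, gl_mul_inv, Matrix.transpose_one]
  have e2 : (B : Matrix ι ι F).map σ * ((B⁻¹ : GL ι F) : Matrix ι ι F).map σ = 1 := by
    rw [← Matrix.map_mul, gl_mul_inv, Matrix.map_one σ σ.map_zero σ.map_one]
  calc _ = (B : Matrix ι ι F)ᵀ * ((p : Matrix ι ι F)ᵀ * (((B⁻¹ : GL ι F) : Matrix ι ι F)ᵀ * (B : Matrix ι ι F)ᵀ) * G *
        ((B : Matrix ι ι F).map σ * ((B⁻¹ : GL ι F) : Matrix ι ι F).map σ) * (p : Matrix ι ι F).map σ) *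
        (B : Matrix ι ι F).map σ := by simp only [mul_assoc]
    _ = _ := by rw [e1, e2, mul_one, mul_one, mem_iso.1 hp]

/-- an isometry group of a unitary form realised over a subfield lies in a subfield class -/
theorem UClass.of_realisable (hu : UConj σ q) (hn : 2 ≤ n) {H P : Subgroup (GL (Fin n) F)} (hn' : NormG H P)
    (hP : AbsIrr P) (hPI : P ≤ Cfsg.GU n F q) {F₀ : Subfield F} (hne : F₀ ≠ ⊤)
    (hreal : RealisableOver F₀ (matrixSet P)) : UClass n F q H := by
  haveI : Nonempty (Fin n) := ⟨⟨0, by omega⟩⟩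
  rw [hu.GU_eq] at hPI
  have hr : Refl σ (1 : Matrix (Fin n) (Fin n) F) := hu.refl_one
  have hform : Cfsg.hermForm n F q = gform σ (1 : Matrix (Fin n) (Fin n) F) := hu.hermForm_eq
  obtain ⟨F₁, r, B, c, G₀, hrp, hc, hle, hc0, h0, hG, hd0, hPF⟩ := exists_rational_structure hr hn' hP hPI hne hreal
  have hherm : σ c • G₀ᵀ.map σ = c • G₀ := by
    have h1 := congrArg (fun X : Matrix (Fin n) (Fin n) F => Xᵀ.map σ) hG
    simp only [mul_one, Matrix.transpose_mul, Matrix.transpose_map, Matrix.transpose_transpose, Matrix.map_mul,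
      hr.map_map, Matrix.transpose_smul, hr.map_smul'] at h1
    rw [Matrix.transpose_map, ← h1, ← hG, mul_one]
  obtain ⟨i, j, hij⟩ : ∃ i j, G₀ i j ≠ 0 := by
    by_contra hcon
    push Not at hcon
    exact hd0 (by rw [Matrix.ext (N := 0) hcon, Matrix.det_zero])
  have hij' := congrFun (congrFun hherm i) j
  rw [Matrix.smul_apply, Matrix.smul_apply, Matrix.map_apply, Matrix.transpose_apply, smul_eq_mul, smul_eq_mul] at hij'
  have hsc : σ c ≠ 0 := by rwa [ne_eq, map_eq_zero]
  rcases hrp.eq_two_or_odd' with rfl | hro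
  swap
  · -- odd degree: the scale can be taken in `F₁`
    set lam := σ (G₀ j i) / G₀ i j with hlam
    have hlc : c = lam * σ c := by
      rw [hlam, div_mul_eq_mul_div, eq_div_iff hij]; linear_combination -hij'
    have hlam1 : lam = c / σ c := by rw [eq_div_iff hsc]; exact hlc.symm
    have hlam2 : σ lam * lam = 1 := by
      rw [hlam1, map_div₀, hu.inv]; field_simp
    have hlamF : lam ∈ F₁ := F₁.div_mem (subfield_stable σ F₁ _ (h0 j i)) (h0 i j)
    have hne1 : ∃ x ∈ F₁, σ x ≠ x := by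
      by_contra hcon
      push Not at hcon
      obtain ⟨p, e, hp, hcp, hqe, he, hcard⟩ := hu.exists_prime_pow
      haveI := hcp
      haveI : Fact p.Prime := ⟨hp⟩
      obtain ⟨b, -, hb⟩ := (Nat.dvd_prime_pow hp).1 (show Nat.card F₁ ∣ p ^ (2 * e) from
        hcard ▸ hc ▸ dvd_pow_self _ hrp.ne_zero)
      have hbr : b * r = 2 * e := by
        refine Nat.pow_right_injective hp.two_le ?_
        show p ^ (b * r) = p ^ (2 * e)
        rw [pow_mul, ← hb, ← hc, hcard]
      obtain ⟨j', hj'⟩ := (frob_pow_eq_id_iff (L := F₁) hb e).1 fun x => Subtype.ext (by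
        rw [SubmonoidClass.coe_pow, ← hqe, ← hu.eq]; exact hcon _ x.2)
      have hb0 : 0 < b := Nat.pos_of_ne_zero fun h => by rw [h, zero_mul] at hbr; omega
      have : r = 2 * j' := Nat.eq_of_mul_eq_mul_left hb0 (by rw [hbr, hj']; ring)
      rw [this] at hro
      exact (Nat.not_even_iff_odd.2 hro) (even_two_mul j')
    obtain ⟨l, hlF, hl0, hl⟩ := hu.exists_scale_in F₁ hne1 hlamF hlam2
    obtain ⟨s, hs0, hs⟩ := hu.exists_norm (c := l / c) (div_ne_zero hl0 hc0) (by
      have hsl : σ l = l / lam := by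
        rw [eq_div_iff]; exact hl
        exact fun h => by rw [h, mul_zero] at hlam2; exact zero_ne_one hlam2
      rw [map_div₀, hsl, hlam1]; field_simp)
    refine .subOdd (F₀ := F₁) (P := B * sch (Fin n) F (Units.mk0 s hs0)) hrp hro hc (fun u v hu' hv => ?_)
      (by rw [subfieldSubgroup_smul]; exact hle)
    rw [hform]
    refine rational_gform (c := l) (G₀ := G₀) ?_ h0 (by rw [one_mul]; exact hlF) hu' hv
    rw [cj_sch_gram, hG, smul_smul, Units.val_mk0, hs, div_mul_cancel₀ l hc0]
  · -- index two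
    have hF1 : ∀ x, x ∈ F₁ ↔ σ x = x := by
      intro x
      rw [mem_subfield_iff, hu.eq]
      have : Nat.card F₁ = q := Nat.pow_left_injective two_ne_zero (hc.symm.trans hu.card)
      rw [this]
    have hG0σ : ∀ a b, σ (G₀ a b) = G₀ a b := fun a b => (hF1 _).1 (h0 a b)
    have hsymm : ∀ a b, σ c * G₀ b a = c * G₀ a b := by
      intro a b
      have h1 := congrFun (congrFun hherm a) b
      rwa [Matrix.smul_apply, Matrix.smul_apply, Matrix.map_apply, Matrix.transpose_apply, smul_eq_mul, smul_eq_mul,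
        hG0σ] at h1
    have hsq : σ c = c ∨ σ c = -c := by
      refine mul_self_eq_mul_self_iff.1 (mul_right_cancel₀ hij ?_)
      linear_combination (σ c) * hsymm j i + c * hsymm i j
    have hiso : ∀ p ∈ P, (cj B⁻¹ (p : Matrix (Fin n) (Fin n) F))ᵀ * G₀ * cj B⁻¹ (p : Matrix (Fin n) (Fin n) F) = G₀ := by
      intro p hp
      have h1 := cj_inv_isometry hc0 hG (hPI hp)
      rwa [show (cj B⁻¹ (p : Matrix (Fin n) (Fin n) F)).map σ = cj B⁻¹ (p : Matrix (Fin n) (Fin n) F) by
        ext a b; exact (hF1 _).1 (hPF p hp a b)] at h1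
    have hrat : ∀ {ζ : F}, ζ * c ∈ F₁ → IsFormRationalStructure (Cfsg.hermForm n F q) F₁ ζ B := fun hζ u v hu' hv => by
      rw [hform]; exact rational_gform hG h0 hζ hu' hv
    have halt : G₀ᵀ = -G₀ → (∀ a, G₀ a a = 0) → ∀ u : Fin n → F, (∀ a, u a ∈ F₁) →
        Cfsg.hermForm n F q ((B : Matrix (Fin n) (Fin n) F) *ᵥ u) ((B : Matrix (Fin n) (Fin n) F) *ᵥ u) = 0 := by
      intro hs hd u hu'
      rw [hform, gform_mulVec, hG]
      have hσu : (σ : F → F) ∘ u = u := funext fun a => (hF1 _).1 (hu' a)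
      have h1 := gform_self_eq_zero hs hd u
      simp only [gform, RingHom.coe_id, Function.id_comp] at h1
      simp only [gform, hσu, Matrix.smul_mulVec, dotProduct_smul, h1, smul_zero]
    have heven : G₀ᵀ = -G₀ → (∀ a, G₀ a a = 0) → Even n := by
      intro hs hd
      refine isSymplecticForm_even (f := gform (RingHom.id F) G₀) ⟨gform_bilinear _, fun v w => ?_,
        fun v => gform_self_eq_zero hs hd v, gform_nondegenerate hd0⟩
      rw [gform_swap, hs]; simp [gform, Matrix.neg_mulVec]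
    by_cases hq : Odd q
    swap
    · have hfix : σ c = c := by
        rcases hsq with h | h
        · exact h
        · haveI := charTwo_of_even (F := F) (fun h => hq (hu.odd_iff.2 h))
          rwa [CharTwo.neg_eq] at h
      have hs : G₀ᵀ = G₀ := by
        ext a b
        exact mul_left_cancel₀ hc0 (by rw [← hsymm a b, hfix]; rfl)
      have hcF : c ∈ F₁ := (hF1 c).2 hfix
      haveI := charTwo_of_even (F := F) (fun h => hq (hu.odd_iff.2 h))
      have hd : ∀ a, G₀ a a = 0 := by
        intro a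
        by_contra ha
        obtain ⟨E, hE0, hEd, hEs⟩ := exists_row hs ha
        refine not_irred_of_killed (S := {cj B E}) ⟨_, rfl, fun h1 => hE0 ?_⟩ ?_ ?_ hP.irred
        · apply cj_injective B
          rw [h1]; simp [cj]
        · obtain ⟨w, hw0, hw⟩ := Matrix.exists_mulVec_eq_zero_iff.2 (hEd hn)
          intro hb
          have hmem : (B : Matrix (Fin n) (Fin n) F) *ᵥ w ∈ killed ({cj B E} : Set (Matrix (Fin n) (Fin n) F)) := by
            intro s hs'
            rw [Set.mem_singleton_iff.1 hs', mulVec_mulVec, cj, mul_assoc, gl_inv_mul, mul_one, ← mulVec_mulVec, hw,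
              mulVec_zero]
          rw [hb, Submodule.mem_bot] at hmem
          have := congrArg (((B⁻¹ : GL (Fin n) F) : Matrix (Fin n) (Fin n) F) *ᵥ ·) hmem
          exact hw0 (by simpa [mulVec_mulVec, gl_inv_mul] using this)
        · rintro p hp s rfl
          obtain ⟨t, ht⟩ := hEs _ 1 (by rw [one_smul]; exact hiso p hp)
          refine ⟨t • 1, _, rfl, ?_⟩
          rw [← cj_cj_inv B (p : Matrix (Fin n) (Fin n) F), ← cj_mul, ht, cj_smul, smul_mul_assoc, one_mul]
      have hs' : G₀ᵀ = -G₀ := by rw [hs]; ext a b; simp [CharTwo.neg_eq]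
      refine .subSymp (ζ := 1) (heven hs' hd) hc one_ne_zero (by rw [one_pow]; exact CharTwo.add_self_eq_zero 1)
        (hrat (by rw [one_mul]; exact hcF)) (halt hs' hd) hle
    rcases hsq with hfix | hneg
    · exact .subOrth hq hc (hrat (by rw [one_mul]; exact (hF1 c).2 hfix)) hle
    ·
      have htwo := two_ne_zero_of_odd (hu.odd_iff.1 hq)
      have hs : G₀ᵀ = -G₀ := by
        ext a b
        refine mul_left_cancel₀ hc0 ?_
        have := hsymm a b
        rw [hneg] at this
        rw [Matrix.transpose_apply, Matrix.neg_apply]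
        linear_combination -this
      have hd : ∀ a, G₀ a a = 0 := fun a => by
        have := congrFun (congrFun hs a) a
        rw [Matrix.transpose_apply, Matrix.neg_apply] at this
        have h2 : (2 : F) * G₀ a a = 0 := by linear_combination this
        exact (mul_eq_zero.1 h2).resolve_left htwo
      refine .subSymp (ζ := c⁻¹) (heven hs hd) hc (inv_ne_zero hc0) ?_ (hrat ?_) (halt hs hd) hle
      · rw [← hu.eq, map_inv₀, hneg, inv_neg, add_neg_cancel]
      · rw [inv_mul_cancel₀ hc0]; exact F₁.one_mem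

end CfsgLib.Perm.Asch
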